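import Cfsg.Agent.TT95.LayLocal
import Cfsg.Prelude.Def_CaseTheorems

/-!
Primitivity and simplicity read off from the graph properties, and the width one step up the tower.
-/

set_option autoImplicit false
set_option linter.unusedSectionVars false

namespace Cfsg.Agent.TT95

variable {G : Type*} [Group G] [Finite G] {D : Set G} {n k l s t : ℕ}

/-- An edge has a member away from both ends. -/
theorem Lay.exists_far_both (hL : Lay D n k l s t) (h2 : 2 * (k + 1) < n) {a c : G} (ha : a ∈ D) (hc : c ∈ D) :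
    ∃ f, f ∈ far D a ∧ f ∈ far D c := by
  by_contra hno
  push Not at hno
  have hsub : D ⊆ insert a (nb D a) ∪ insert c (nb D c) := fun x hx => by
    rcases mem_nb_or_far (a := a) hx with h | h | h
    · exact Or.inl (Or.inl h)
    · exact Or.inl (Or.inr h)
    · rcases mem_nb_or_far (a := c) hx with h' | h' | h'
      · exact Or.inr (Or.inl h')
      · exact Or.inr (Or.inr h')
      · exact absurd h' (hno x h)
  have h := (Set.ncard_le_ncard hsub (Set.toFinite _)).trans (Set.ncard_union_le _ _)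
  have h3 := Set.ncard_insert_le a (nb D a)
  have h4 := Set.ncard_insert_le c (nb D c)
  rw [hL.card_D] at h
  rw [hL.card_nb a ha] at h3
  rw [hL.card_nb c hc] at h4
  omega

/-- The action on the class is primitive. -/
theorem Lay.primitive (hL : Lay D n k l s t) (h2 : 2 * (k + 1) < n) {a₀ : G} (ha₀ : a₀ ∈ D) :
    Cfsg.IsPrimitiveUnderConj D := by
  have hD := hL.tt
  obtain ⟨b₀, hb₀, -⟩ := hL.exists_far_both h2 ha₀ ha₀
  refine ⟨hL.one, ⟨a₀, ha₀, b₀, hb₀.1, fun e => hb₀.2 (e ▸ Commute.refl a₀)⟩, fun B hB hblock => ?_⟩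
  by_cases hsub : B.Subsingleton
  · exact Or.inl hsub
  right
  obtain ⟨a, haB, b, hbB, hab⟩ := Set.not_subsingleton_iff.1 hsub
  have hmove : ∀ {u v u' v' g : G}, u ∈ B → v ∈ B → g * u * g⁻¹ = u' → g * v * g⁻¹ = v' → u' ∈ B → v' ∈ B := by
    intro u v u' v' g hu hv eu ev hu'
    rcases hblock g with e | e
    · rw [← e]; exact ⟨v, hv, ev⟩
    · exact absurd hu' (Set.disjoint_left.1 e ⟨u, hu, eu⟩)
  have hfar : ∀ u ∈ B, ∀ v ∈ B, v ∈ far D u → ∀ x ∈ B, ∀ y ∈ far D x, y ∈ B := by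
    intro u hu v hv huv x hx y hy
    obtain ⟨g, g1, g2⟩ := hL.farPairs u v x y (hB hu) huv (hB hx) hy
    exact hmove hu hv g1 g2 hx
  have hnear : ∀ u ∈ B, ∀ v ∈ B, v ∈ nb D u → ∀ x ∈ B, ∀ y ∈ nb D x, y ∈ B := by
    intro u hu v hv huv x hx y hy
    obtain ⟨g, g1, g2⟩ := hL.pairs u v x y (hB hu) huv.1 (hB hx) hy.1 huv.2.1.symm hy.2.1.symm huv.2.2 hy.2.2
    exact hmove hu hv g1 g2 hx
  refine Set.Subset.antisymm hB ?_
  have hclosed : ∀ x ∈ B, ∀ y ∈ nb D x, y ∈ B := by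
    rcases mem_nb_or_far (a := a) (hB hbB) with e | e | e
    · exact absurd e.symm hab
    · exact hnear a haB b hbB e
    · intro x hx y hy
      obtain ⟨f, hfx, hfy⟩ := hL.exists_far_both h2 (hB hx) hy.1
      exact hfar a haB b hbB e f (hfar a haB b hbB e x hx f hfx) y (mem_far_comm hy.1 hfy)
  intro y hy
  have hp := hL.conn a (hB haB) y hy
  clear hy
  induction hp with
  | refl => exact haB
  | @tail u v _ e ih =>
    by_cases hvu : v = u
    · exact hvu ▸ ih
    · exact hclosed u ih v ⟨e.2.1, hvu, e.2.2⟩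

/-- A perfect group with this graph is simple. -/
theorem Lay.isSimple (hL : Lay D n k l s t) [Gen D] (h2 : 2 * (k + 1) < n) (hl : l + 1 < k) {a : G} (ha : a ∈ D)
    (hperf : commutator G = ⊤) : IsSimpleGroup G := by
  have hD := hL.tt
  have hprim := hL.primitive h2 ha
  haveI : Nontrivial G := ⟨a, 1, ne_one hD ha⟩
  refine ⟨fun N hN => ?_⟩
  by_contra hcon
  push Not at hcon
  obtain ⟨hbot, htop⟩ := hcon
  obtain ⟨n', hn, hn1⟩ := (Subgroup.ne_bot_iff_exists_ne_one.1 hbot |> fun ⟨m, h⟩ =>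
    (⟨m.1, m.2, fun e => h (Subtype.ext e)⟩ : ∃ m, m ∈ N ∧ m ≠ (1 : G)))
  obtain ⟨d, hd, hnd⟩ : ∃ d ∈ D, n' * d * n'⁻¹ ≠ d := by
    by_contra h
    push Not at h
    apply hn1
    have : n' ∈ Subgroup.center G := by
      rw [← centralizer_D_eq_center hD]
      exact Subgroup.mem_centralizer_iff.2 fun x hx => (mul_inv_eq_iff_eq_mul.1 (h x hx)).symm
    rwa [hL.center, Subgroup.mem_bot] at this
  set d' := n' * d * n'⁻¹ with hd'
  have hd'D : d' ∈ D := conj_mem hD n' hd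
  have hdd : d' * d ∈ N := by
    rw [hd', show n' * d * n'⁻¹ * d = n' * (d * n'⁻¹ * d) by group]
    refine N.mul_mem hn ?_
    have := hN.conj_mem _ (N.inv_mem hn) d
    rwa [inv_eq hD hd] at this
  obtain ⟨u, v, hu, hv, huv, huvN⟩ : ∃ u v, u ∈ D ∧ v ∈ D ∧ ¬ Commute u v ∧ u * v ∈ N := by
    by_cases hc : Commute d d'
    · obtain ⟨x, hx, hxd'⟩ : ∃ x ∈ nb D d, ¬ Commute d' x := by
        by_contra hno
        push Not at hno
        have hsub : nb D d ⊆ insert d' (common D d d') := fun x hx => by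
          by_cases e : x = d'
          · exact Or.inl e
          · exact Or.inr ⟨hx, hx.1, e, hno x hx⟩
        have := (Set.ncard_le_ncard hsub (Set.toFinite _)).trans (Set.ncard_insert_le _ _)
        rw [hL.card_nb d hd, hL.card_edge d hd d' ⟨hd'D, hnd, hc⟩] at this
        omega
      refine ⟨x * d' * x, d', conj_mem' hD hd'D hx.1, hd'D, fun h => hxd' ?_, ?_⟩
      · rw [← braid hD hd'D hx.1 hxd'] at h
        have := ((Commute.refl d').mul_left h).mul_left (Commute.refl d')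
        rw [show d' * (d' * x * d') * d' = (d' * d') * x * (d' * d') by group, sq hD hd'D, one_mul, mul_one] at this
        exact this.symm
      · have h1 := hN.conj_mem _ hdd x
        rw [inv_eq hD hx.1, show x * (d' * d) * x = x * d' * (d * x) by group, hx.2.2.eq, ← mul_assoc] at h1
        have := N.mul_mem h1 hdd
        rwa [show x * d' * x * d * (d' * d) = x * d' * x * (d * d' * d) by group, hc.eq, mul_assoc d' d d,
          sq hD hd, mul_one] at this
    · exact ⟨d', d, hd'D, hd, fun h => hc h.symm, hdd⟩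
  set B : Set G := {w | w ∈ D ∧ u * w ∈ N} with hB
  have hblock : ∀ g : G, (fun x => g * x * g⁻¹) '' B = B ∨ Disjoint ((fun x => g * x * g⁻¹) '' B) B := by
    intro g
    by_cases hdis : Disjoint ((fun x => g * x * g⁻¹) '' B) B
    · exact Or.inr hdis
    left
    obtain ⟨_, ⟨w, hw, rfl⟩, hw'⟩ := Set.not_disjoint_iff.1 hdis
    have hq : ∀ s, g * (w⁻¹ * s) * g⁻¹ ∈ N ↔ w⁻¹ * s ∈ N := fun s =>
      ⟨fun h => by simpa [mul_assoc] using hN.conj_mem _ h g⁻¹, fun h => hN.conj_mem _ h g⟩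
    have hrel : ∀ s, u * (g * s * g⁻¹) ∈ N ↔ u * s ∈ N := fun s => by
      rw [show u * (g * s * g⁻¹) = u * (g * w * g⁻¹) * (g * (w⁻¹ * s) * g⁻¹) by group, N.mul_mem_cancel_left hw'.2,
        hq, show u * s = u * w * (w⁻¹ * s) by group, N.mul_mem_cancel_left hw.2]
    ext y
    constructor
    · rintro ⟨s, hs, rfl⟩
      exact ⟨conj_mem hD g hs.1, (hrel s).2 hs.2⟩
    · intro hy
      exact ⟨g⁻¹ * y * g, ⟨by simpa using conj_mem hD g⁻¹ hy.1,
        (hrel _).1 (by rw [show g * (g⁻¹ * y * g) * g⁻¹ = y by group]; exact hy.2)⟩, by group⟩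
  rcases hprim.2.2 B (fun w hw => hw.1) hblock with h | h
  · refine huv ?_
    rw [h ⟨hu, by rw [sq hD hu]; exact N.one_mem⟩ ⟨hv, huvN⟩]
  apply htop
  rw [eq_top_iff, ← hperf, ← Subgroup.Normal.quotient_commutative_iff_commutator_le]
  have hall : ∀ w ∈ D, (QuotientGroup.mk w : G ⧸ N) = QuotientGroup.mk u := by
    intro w hw
    have : w ∈ B := h.symm ▸ hw
    symm
    rw [QuotientGroup.eq, inv_eq hD hu]
    exact this.2
  have hmem : ∀ p : G ⧸ N, p ∈ Subgroup.zpowers (QuotientGroup.mk u : G ⧸ N) := by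
    intro p
    obtain ⟨g, rfl⟩ := QuotientGroup.mk_surjective p
    have hg : g ∈ Subgroup.closure D := by rw [Gen.gen (D := D)]; trivial
    induction hg using Subgroup.closure_induction with
    | mem w hw => rw [hall w hw]; exact Subgroup.mem_zpowers _
    | one => exact one_mem _
    | mul p q _ _ hp hq => exact mul_mem hp hq
    | inv p _ hp => exact inv_mem hp
  exact ⟨⟨fun p q => by
    obtain ⟨i, rfl⟩ := Subgroup.mem_zpowers_iff.1 (hmem p)
    obtain ⟨j, rfl⟩ := Subgroup.mem_zpowers_iff.1 (hmem q)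
    rw [← zpow_add, ← zpow_add, add_comm]⟩⟩

/-- The width grows by one along the tower. -/
theorem width_succ {K : Type*} [Group K] [Finite K] {E : Set K} (hD : TTSet D) {a₀ : G} (ha₀ : a₀ ∈ D)
    (hiso : ∀ a ∈ D, ∃ f, Iso D a E f) : Cfsg.commutingWidth D = Cfsg.commutingWidth E + 1 := by
  classical
  set w := Cfsg.commutingWidth E
  set T := {n : ℕ | ∃ S : Set G, S ⊆ D ∧ S.Finite ∧ (∀ a ∈ S, ∀ b ∈ S, Commute a b) ∧ S.ncard = n}
  set T' := {n : ℕ | ∃ S : Set K, S ⊆ E ∧ S.Finite ∧ (∀ a ∈ S, ∀ b ∈ S, Commute a b) ∧ S.ncard = n}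
  have hbdd : BddAbove T' := ⟨E.ncard, fun n ⟨S, h1, _, _, h4⟩ => h4 ▸ Set.ncard_le_ncard h1 (Set.toFinite _)⟩
  have hne : T'.Nonempty := ⟨0, ∅, by simp, Set.finite_empty, by simp, Set.ncard_empty K⟩
  have hw : w ∈ T' := Nat.sSup_mem hne hbdd
  have hle : ∀ n ∈ T, n ≤ w + 1 := by
    rintro n ⟨S, hS, -, hSc, rfl⟩
    rcases S.eq_empty_or_nonempty with rfl | ⟨x, hx⟩
    · simp
    obtain ⟨f, hf⟩ := hiso x (hS hx)
    have hnb : S \ {x} ⊆ nb D x := fun y hy => ⟨hS hy.1, hy.2, hSc x hx y hy.1⟩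
    have : (f '' (S \ {x})).ncard ≤ w := le_csSup hbdd ⟨_, by
      rintro _ ⟨y, hy, rfl⟩; exact hf.mem (hnb hy), Set.toFinite _, by
      rintro _ ⟨y, hy, rfl⟩ _ ⟨z, hz, rfl⟩
      exact (hf.comm y (hnb hy) z (hnb hz)).2 (hSc y hy.1 z hz.1), rfl⟩
    rw [hf.ncard_image hnb, Set.ncard_sdiff_singleton_of_mem hx] at this
    omega
  refine le_antisymm (csSup_le ⟨0, ∅, by simp, Set.finite_empty, by simp, Set.ncard_empty G⟩ hle)
    (le_csSup ⟨w + 1, hle⟩ ?_)
  obtain ⟨S', hS', -, hSc', hcard⟩ := hw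
  obtain ⟨f, hf⟩ := hiso a₀ ha₀
  set S := {y | y ∈ nb D a₀ ∧ f y ∈ S'} with hSdef
  have himg : f '' S = S' := by
    ext q
    refine ⟨fun ⟨y, hy, e⟩ => e ▸ hy.2, fun hq => ?_⟩
    obtain ⟨y, hy, rfl⟩ := hf.surj (hS' hq)
    exact ⟨y, ⟨hy, hq⟩, rfl⟩
  refine ⟨insert a₀ S, Set.insert_subset ha₀ fun y hy => hy.1.1, Set.toFinite _, ?_, ?_⟩
  · rintro y (rfl | hy) z (rfl | hz)
    · exact Commute.refl _
    · exact hz.1.2.2
    · exact hy.1.2.2.symm
    · exact (hf.comm y hy.1 z hz.1).1 (hSc' _ hy.2 _ hz.2)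
  · rw [Set.ncard_insert_of_notMem (fun h => h.1.2.1 rfl) (Set.toFinite _), ← hf.ncard_image (fun y hy => hy.1),
      himg, hcard]

end Cfsg.Agent.TT95
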