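import Cfsg.Agent.TT95.Relations

/-!
Transitivity on commuting pairs and triples of transpositions, and the action of the centraliser of a
product of three commuting transpositions on its factors.
-/

set_option autoImplicit false
set_option linter.unusedSectionVars false

namespace Cfsg.Agent.TT95

/-- All ordered pairs of different commuting members are conjugate. -/
def TransPairs {G : Type*} [Group G] (D : Set G) : Prop :=
  ∀ a b a' b', a ∈ D → b ∈ D → a' ∈ D → b' ∈ D → a ≠ b → a' ≠ b' → Commute a b → Commute a' b' →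
    ∃ g : G, g * a * g⁻¹ = a' ∧ g * b * g⁻¹ = b'

/-- All ordered triples of different pairwise commuting members are conjugate. -/
def TransTriples {G : Type*} [Group G] (D : Set G) : Prop :=
  ∀ a b c a' b' c', a ∈ D → b ∈ D → c ∈ D → a' ∈ D → b' ∈ D → c' ∈ D →
    a ≠ b ∧ a ≠ c ∧ b ≠ c → a' ≠ b' ∧ a' ≠ c' ∧ b' ≠ c' →
    Commute a b → Commute a c → Commute b c → Commute a' b' → Commute a' c' → Commute b' c' →
    ∃ g : G, g * a * g⁻¹ = a' ∧ g * b * g⁻¹ = b' ∧ g * c * g⁻¹ = c'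

variable {G : Type*} [Group G] {D : Set G} (hD : TTSet D)

include hD

theorem lift_conj [Finite G] (hone : OneClass D) (htf : TwinFree D) {d x y : G} (hd : d ∈ D)
    (hx : x ∈ nb D d) (hy : y ∈ nb D d) {h : Subgroup.closure (nb D d)}
    (e : (QuotientGroup.mk h : ModCenter _) * mkNb hx * (QuotientGroup.mk h)⁻¹ = mkNb hy) :
    (h : G) * x * (h : G)⁻¹ = y := by
  have hx' := conj_mem_nb hD h.2 hx
  exact eq_of_mkNb_eq hD hx' hy (mkNb_ne_one hD hone htf hd hx') (by rw [← e]; rfl)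

theorem to_first (hone : OneClass D) {a b d : G} (ha : a ∈ D) (hb : b ∈ D) (hd : d ∈ D) (hne : a ≠ b)
    (hc : Commute a b) : ∃ g : G, g * a * g⁻¹ = d ∧ g * b * g⁻¹ ∈ nb D d := by
  obtain ⟨g, hg⟩ := hone a ha d hd
  refine ⟨g, hg, conj_mem hD g hb, fun e => hne ?_, hg ▸ (Commute.conj_iff g).2 hc⟩
  exact (mul_left_cancel (mul_right_cancel (e.trans hg.symm))).symm

theorem transPairs_of_local [Finite G] (hone : OneClass D) (htf : TwinFree D) {d : G} (hd : d ∈ D)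
    (hone' : OneClass (locSet D d)) : TransPairs D := by
  intro a b a' b' ha hb ha' hb' hne hne' hc hc'
  obtain ⟨g, hga, hgb⟩ := to_first hD hone ha hb hd hne hc
  obtain ⟨g', hga', hgb'⟩ := to_first hD hone ha' hb' hd hne' hc'
  obtain ⟨k, hk⟩ := hone' _ (mkNb_mem hD hgb (mkNb_ne_one hD hone htf hd hgb)) _
    (mkNb_mem hD hgb' (mkNb_ne_one hD hone htf hd hgb'))
  obtain ⟨h, rfl⟩ := QuotientGroup.mk_surjective k
  have e := lift_conj hD hone htf hd hgb hgb' hk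
  refine ⟨g'⁻¹ * h * g, ?_, ?_⟩
  · calc g'⁻¹ * h * g * a * (g'⁻¹ * h * g)⁻¹ = g'⁻¹ * ((h : G) * (g * a * g⁻¹) * (h : G)⁻¹) * g' := by group
      _ = g'⁻¹ * d * g' := by rw [hga, conj_fix_of_mem hD h.2]
      _ = a' := by rw [← hga']; group
  · calc g'⁻¹ * h * g * b * (g'⁻¹ * h * g)⁻¹ = g'⁻¹ * ((h : G) * (g * b * g⁻¹) * (h : G)⁻¹) * g' := by group
      _ = g'⁻¹ * (g' * b' * g'⁻¹) * g' := by rw [e]
      _ = b' := by group

theorem transTriples_of_local [Finite G] (hone : OneClass D) (htf : TwinFree D) {d : G} (hd : d ∈ D)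
    (hpairs : TransPairs (locSet D d)) : TransTriples D := by
  intro a b c a' b' c' ha hb hc ha' hb' hc' hne hne' hab hac hbc hab' hac' hbc'
  obtain ⟨g, hga, hgb⟩ := to_first hD hone ha hb hd hne.1 hab
  obtain ⟨g', hga', hgb'⟩ := to_first hD hone ha' hb' hd hne'.1 hab'
  have hgc : g * c * g⁻¹ ∈ nb D d := ⟨conj_mem hD g hc,
    fun e => hne.2.1 (mul_left_cancel (mul_right_cancel (e.trans hga.symm))).symm,
    hga ▸ (Commute.conj_iff g).2 hac⟩
  have hgc' : g' * c' * g'⁻¹ ∈ nb D d := ⟨conj_mem hD g' hc',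
    fun e => hne'.2.1 (mul_left_cancel (mul_right_cancel (e.trans hga'.symm))).symm,
    hga' ▸ (Commute.conj_iff g').2 hac'⟩
  have hn := fun (x : G) (hx : x ∈ nb D d) => mkNb_ne_one hD hone htf hd hx
  obtain ⟨k, hk1, hk2⟩ := hpairs _ _ _ _ (mkNb_mem hD hgb (hn _ hgb)) (mkNb_mem hD hgc (hn _ hgc))
    (mkNb_mem hD hgb' (hn _ hgb')) (mkNb_mem hD hgc' (hn _ hgc'))
    (fun e => hne.2.2 (mul_left_cancel (mul_right_cancel (eq_of_mkNb_eq hD hgb hgc (hn _ hgb) e))))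
    (fun e => hne'.2.2 (mul_left_cancel (mul_right_cancel (eq_of_mkNb_eq hD hgb' hgc' (hn _ hgb') e))))
    (mkNb_commute hD _ _ ((Commute.conj_iff g).2 hbc)) (mkNb_commute hD _ _ ((Commute.conj_iff g').2 hbc'))
  obtain ⟨h, rfl⟩ := QuotientGroup.mk_surjective k
  have e1 := lift_conj hD hone htf hd hgb hgb' hk1
  have e2 := lift_conj hD hone htf hd hgc hgc' hk2
  refine ⟨g'⁻¹ * h * g, ?_, ?_, ?_⟩
  · calc g'⁻¹ * h * g * a * (g'⁻¹ * h * g)⁻¹ = g'⁻¹ * ((h : G) * (g * a * g⁻¹) * (h : G)⁻¹) * g' := by group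
      _ = g'⁻¹ * d * g' := by rw [hga, conj_fix_of_mem hD h.2]
      _ = a' := by rw [← hga']; group
  · calc g'⁻¹ * h * g * b * (g'⁻¹ * h * g)⁻¹ = g'⁻¹ * ((h : G) * (g * b * g⁻¹) * (h : G)⁻¹) * g' := by group
      _ = g'⁻¹ * (g' * b' * g'⁻¹) * g' := by rw [e1]
      _ = b' := by group
  · calc g'⁻¹ * h * g * c * (g'⁻¹ * h * g)⁻¹ = g'⁻¹ * ((h : G) * (g * c * g⁻¹) * (h : G)⁻¹) * g' := by group
      _ = g'⁻¹ * (g' * c' * g'⁻¹) * g' := by rw [e2]
      _ = c' := by group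

theorem transTriples_of_core23 [Finite G] (h : Core23 G D) : TransTriples D := by
  obtain ⟨h1, h2⟩ := oneClass_twinFree_of_core23 hD h
  obtain ⟨hZ, d, hd, c, hc, hdc, h22, hL⟩ := h
  have hE := loc_isGroup hD d
  haveI := loc_finite hD d
  obtain ⟨g1, g2⟩ := oneClass_twinFree_of_core22 hE h22
  obtain ⟨-, e, he, c', hc', -, hU, -⟩ := h22
  obtain ⟨β, hβ⟩ := exists_label_loc hE hU
  exact transTriples_of_local hD h1 h2 hd
    (transPairs_of_local hE g1 g2 he (hβ.oneClass (loc_isGroup hE e)))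

theorem transTriples_of_core22 [Finite G] (h : Core22 G D) :
    TransPairs D := by
  obtain ⟨h1, h2⟩ := oneClass_twinFree_of_core22 hD h
  obtain ⟨hZ, d, hd, c, hc, hdc, hU, hL⟩ := h
  obtain ⟨β, hβ⟩ := exists_label_loc hD hU
  exact transPairs_of_local hD h1 h2 hd (hβ.oneClass (loc_isGroup hD d))

end Cfsg.Agent.TT95
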