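import Cfsg.Agent.TT95.Centralizer
import Cfsg.Agent.TT95.Triples
import Cfsg.Agent.Lib.Unitary.Simple

/-!
Type M(22): orders, perfectness of the transposition centraliser, simplicity, the width.
-/

set_option autoImplicit false
set_option linter.unusedSectionVars false

namespace Cfsg.Agent.TT95

open Cfsg.Agent.TT95.U6

theorem U6.IsU6.card {K : Type*} [Group K] (h : IsU6 K) : Nat.card K = 9196830720 := by
  obtain ⟨F, _, _, hF, ⟨f⟩⟩ := h
  rw [Nat.card_congr f.toEquiv]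
  have e := Cfsg.Agent.Unitary.card_PSU (F := F) (n := 6) (q := 2) hF (by norm_num)
  have h2 : Nat.gcd 6 (2 + 1) * ((2 + 1) * Nat.card (Cfsg.PSU 6 F 2)) = 9 * 9196830720 :=
    e.trans (by norm_num [Finset.prod_range_succ, Nat.even_iff])
  have h3 : Nat.gcd 6 (2 + 1) = 3 := by norm_num
  rw [h3] at h2
  omega

theorem U6.IsU6.isSimple {K : Type*} [Group K] (h : IsU6 K) : IsSimpleGroup K := by
  obtain ⟨F, _, _, hF, ⟨f⟩⟩ := h
  haveI : IsSimpleGroup (Cfsg.PSU 6 F 2) :=
    Cfsg.Agent.Unitary.isSimpleGroup_PSU (n := 6) (q := 2) hF (by norm_num) (by norm_num)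
  haveI : Nontrivial K := f.toEquiv.nontrivial
  exact IsSimpleGroup.isSimpleGroup_of_surjective f.symm.toMonoidHom f.symm.surjective

theorem hyper_central :
    allP (fun i => allP (fun x =>
      Nat.beq (([1, 4, 16] ++ hyperovals.getD i []).foldr tv x) x) pts) [0, 1, 2] = true ∧
    allP (fun i => allP (fun j => Nat.beq i j ||
      allP (fun t => !(hyperovals.getD j []).elem t) (hyperovals.getD i [])) [0, 1, 2]) [0, 1, 2] = true ∧
    allP (fun i => allP (fun t => allP (fun u => orth t u) (hyperovals.getD i []) && isPt t &&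
      !([1, 4, 16] : List ℕ).elem t) (hyperovals.getD i [])) [0, 1, 2] = true := by
  decide +kernel

/-- The orbit–stabiliser count. -/
theorem card_eq_mul_of_fibres {G : Type*} [Group G] {α : Type*} (f : G → α) (S : Subgroup G)
    (h : ∀ g g', f g = f g' ↔ g⁻¹ * g' ∈ S) : Nat.card G = (Set.range f).ncard * Nat.card S := by
  rw [Subgroup.card_eq_card_quotient_mul_card_subgroup S]
  congr 1
  set φ : G ⧸ S → α := Quotient.lift f (fun g g' hg => (h g g').2 (QuotientGroup.leftRel_apply.1 hg)) with hφ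
  have hinj : Function.Injective φ := by
    intro p q e
    obtain ⟨g, rfl⟩ := QuotientGroup.mk_surjective p
    obtain ⟨g', rfl⟩ := QuotientGroup.mk_surjective q
    exact QuotientGroup.eq.2 ((h g g').1 e)
  have hr : Set.range φ = Set.range f := by
    ext x
    constructor
    · rintro ⟨p, rfl⟩
      obtain ⟨g, rfl⟩ := QuotientGroup.mk_surjective p
      exact ⟨g, rfl⟩
    · rintro ⟨g, rfl⟩
      exact ⟨QuotientGroup.mk g, rfl⟩
  rw [← hr, ← Nat.card_coe_set_eq]
  exact Nat.card_congr (Equiv.ofInjective φ hinj)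

theorem conj_eq_conj_iff {G : Type*} [Group G] {g g' x : G} :
    g * x * g⁻¹ = g' * x * g'⁻¹ ↔ g⁻¹ * g' ∈ Subgroup.centralizer ({x} : Set G) := by
  rw [Subgroup.mem_centralizer_singleton_iff]
  constructor
  · intro h
    calc g⁻¹ * g' * x = g⁻¹ * (g' * x * g'⁻¹) * g' := by group
      _ = g⁻¹ * (g * x * g⁻¹) * g' := by rw [h]
      _ = x * (g⁻¹ * g') := by group
  · intro h
    calc g * x * g⁻¹ = g * (x * (g⁻¹ * g')) * g'⁻¹ := by group
      _ = g * (g⁻¹ * g' * x) * g'⁻¹ := by rw [h]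
      _ = g' * x * g'⁻¹ := by group

variable {G : Type*} [Group G] [Finite G] {D : Set G}

theorem isU6_loc (hC : Cfg22 D) (hcore : Core22 G D) {a : G} (ha : a ∈ D) :
    IsU6 (ModCenter (Subgroup.closure (nb D a))) := by
  obtain ⟨-, d, hd, -, -, -, hU, -⟩ := hcore
  obtain ⟨g, rfl⟩ := hC.one d hd a ha
  have hmap : (Subgroup.closure (nb D d)).map (MulAut.conj g).toMonoidHom =
      Subgroup.closure (nb D (g * d * g⁻¹)) := by
    rw [MonoidHom.map_closure, nb_conj_image hC.tt g d]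
    rfl
  obtain ⟨F, i1, i2, hF, ⟨e⟩⟩ := hU
  set φ := ((MulAut.conj g).subgroupMap (Subgroup.closure (nb D d))).trans (MulEquiv.subgroupCongr hmap) with hφ
  refine ⟨F, i1, i2, hF, ⟨(QuotientGroup.congr _ _ φ ?_).symm.trans e⟩⟩
  ext x
  rw [Subgroup.mem_map, Subgroup.mem_center_iff]
  constructor
  · rintro ⟨y, hy, rfl⟩ z
    obtain ⟨w, rfl⟩ := φ.surjective z
    show φ w * φ y = φ y * φ w
    rw [← map_mul, ← map_mul, Subgroup.mem_center_iff.1 hy w]
  · intro h
    obtain ⟨y, rfl⟩ := φ.surjective x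
    refine ⟨y, Subgroup.mem_center_iff.2 fun w => φ.injective ?_, rfl⟩
    rw [map_mul, map_mul]
    exact h (φ w)

variable (hC : Cfg22 D) {a : G} (ha : a ∈ D) [Gen D]

include hC ha

theorem center_loc :
    Subgroup.center (Subgroup.closure (nb D a)) =
      (Subgroup.zpowers a).subgroupOf (Subgroup.closure (nb D a)) := by
  obtain ⟨γ, hγ⟩ := hC.loc a ha
  ext z
  rw [Subgroup.mem_subgroupOf, Subgroup.mem_center_iff]
  constructor
  · intro h
    have hc : Commute (z : G) a := (commute_closure_nb hC.tt z.2).symm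
    rcases kernel_lemma hC ha hc fun b hb =>
      (congrArg Subtype.val (h ⟨b, Subgroup.subset_closure hb⟩)).symm with e | e
    · rw [e]; exact one_mem _
    · rw [e]; exact Subgroup.mem_zpowers a
  · intro h w
    obtain ⟨n, hn⟩ := Subgroup.mem_zpowers_iff.1 h
    refine Subtype.ext ?_
    show (w : G) * z = z * w
    rw [← hn]
    exact ((commute_closure_nb hC.tt w.2).zpow_left n).eq.symm

theorem card_center_loc : Nat.card (Subgroup.center (Subgroup.closure (nb D a))) = 2 := by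
  obtain ⟨γ, hγ⟩ := hC.loc a ha
  rw [center_loc hC ha, Nat.card_congr (Subgroup.subgroupOfEquivOfLe
    ((Subgroup.zpowers_le).2 (self_mem hC ha hγ))).toEquiv, Nat.card_zpowers, hC.tt.1.1 a ha]

theorem card_centralizer (hcore : Core22 G D) :
    Nat.card (Subgroup.centralizer ({a} : Set G)) = 18393661440 := by
  rw [centralizer_eq hC ha, Subgroup.card_eq_card_quotient_mul_card_subgroup
    (Subgroup.center (Subgroup.closure (nb D a))), card_center_loc hC ha, (isU6_loc hC hcore ha).card]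

theorem card_group (hcore : Core22 G D) : Nat.card G = 3510 * 18393661440 := by
  have hr : Set.range (fun g : G => g * a * g⁻¹) = D := by
    ext x
    exact ⟨fun ⟨g, hg⟩ => hg ▸ conj_mem hC.tt g ha, fun hx => hC.one a ha x hx⟩
  rw [card_eq_mul_of_fibres (fun g : G => g * a * g⁻¹) (Subgroup.centralizer ({a} : Set G))
    (fun g g' => conj_eq_conj_iff), hr, ncard_D hC ha, card_centralizer hC ha hcore]

theorem trans_one {γ : ℕ → G} (hγ : IsLocal D a γ) {b : G} (hb : b ∈ nb D a) :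
    ∃ h ∈ Subgroup.closure (nb D a), h * γ e1 * h⁻¹ = b := by
  obtain ⟨p, hp, rfl⟩ := hγ.surj b hb
  obtain ⟨-, g, hg, e⟩ := IsLocal.exists_conj hC hγ base_isPt.1 (orbit_points (mem_pts.2 hp))
  refine ⟨g, Subgroup.closure_mono ?_ hg, e⟩
  rintro _ ⟨u, ⟨hu, -⟩, rfl⟩
  exact hγ.mem u hu

theorem trans_two {γ : ℕ → G} (hγ : IsLocal D a γ) {b c : G} (hb : b ∈ nb D a) (hc : c ∈ nb D a)
    (hne : c ≠ b) (hbc : Commute b c) :
    ∃ h ∈ Subgroup.closure (nb D a), h * γ e1 * h⁻¹ = b ∧ h * γ e2 * h⁻¹ = c := by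
  obtain ⟨h, hh, rfl⟩ := trans_one hC ha hγ hb
  have hc' : h⁻¹ * c * h ∈ nb D a := by
    simpa using conj_mem_nb hC.tt (inv_mem hh) hc
  obtain ⟨p, hp, ep⟩ := hγ.surj _ hc'
  have ec : h * γ p * h⁻¹ = c := by rw [ep]; group
  have h1 : orth p e1 = true := by
    rw [← hγ.comm p e1 hp base_isPt.1, ← Commute.conj_iff h, ec]
    exact hbc.symm
  obtain ⟨-, g, hg, e⟩ := IsLocal.exists_conj hC hγ base_isPt.2.1
    (orbit_perp (mem_pts.2 hp) h1 fun e => hne (by rw [← ec, e]))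
  have hf := (IsLocal.fix hC hγ hg).2 e1 base_isPt.1 (fun _ _ h => h)
  refine ⟨h * g, mul_mem hh (Subgroup.closure_mono ?_ hg), ?_, ?_⟩
  · rintro _ ⟨u, ⟨hu, -⟩, rfl⟩
    exact hγ.mem u hu
  · calc h * g * γ e1 * (h * g)⁻¹ = h * (g * γ e1 * g⁻¹) * h⁻¹ := by group
      _ = _ := by rw [hf]
  · calc h * g * γ e2 * (h * g)⁻¹ = h * (g * γ e2 * g⁻¹) * h⁻¹ := by group
      _ = _ := by rw [e, ec]

/-- The subgroup generated by the neighbours is perfect. -/
theorem loc_perfect : Group.IsPerfect (Subgroup.closure (nb D a)) := by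
  rw [Group.isPerfect_def]
  obtain ⟨γ, hγ⟩ := hC.loc a ha
  set H := Subgroup.closure (nb D a) with hH
  set π := (Abelianization.of : H →* Abelianization H) with hπ
  have hm : ∀ p, isPt p = true → γ p ∈ H := fun p hp => Subgroup.subset_closure (hγ.mem p hp)
  set t := π ⟨γ e1, hm e1 base_isPt.1⟩ with ht
  have hall : ∀ (b : G) (hb : b ∈ nb D a), π ⟨b, Subgroup.subset_closure hb⟩ = t := by
    intro b hb
    obtain ⟨h, hh, e⟩ := trans_one hC ha hγ hb
    have : (⟨b, Subgroup.subset_closure hb⟩ : H) =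
        ⟨h, hh⟩ * ⟨γ e1, hm e1 base_isPt.1⟩ * (⟨h, hh⟩ : H)⁻¹ := Subtype.ext e.symm
    rw [this, map_mul, map_mul, map_inv, mul_comm (π ⟨h, hh⟩), mul_assoc, mul_inv_cancel, mul_one]
  have hpt : ∀ (p : ℕ) (hp : isPt p = true), π ⟨γ p, hm p hp⟩ = t := fun p hp => hall _ (hγ.mem p hp)
  have t2 : t * t = 1 := by
    rw [ht, ← map_mul, show (⟨γ e1, hm e1 base_isPt.1⟩ : H) * ⟨γ e1, hm e1 base_isPt.1⟩ = 1 from
      Subtype.ext (sq hC.tt (hγ.mem e1 base_isPt.1).1), map_one]
  obtain ⟨q1, q4, q5, q9, q13⟩ := five_isPt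
  have hta : π ⟨a, self_mem hC ha hγ⟩ = t := by
    have e : (⟨a, self_mem hC ha hγ⟩ : H) =
        ⟨γ 1, hm 1 q1⟩ * ⟨γ 4, hm 4 q4⟩ * ⟨γ 5, hm 5 q5⟩ * ⟨γ 9, hm 9 q9⟩ * ⟨γ 13, hm 13 q13⟩ :=
      Subtype.ext (line_prod hC ha hγ).symm
    rw [e, map_mul, map_mul, map_mul, map_mul, hpt 1 q1, hpt 4 q4, hpt 5 q5, hpt 9 q9, hpt 13 q13, t2, one_mul, t2, one_mul]
  -- a second odd expression
  obtain ⟨m1, m2, m3, -, -, -⟩ := base_isPt
  have o : orth e1 e2 = true ∧ orth e1 e3 = true ∧ orth e2 e3 = true ∧ e1 ≠ e2 ∧ e1 ≠ e3 ∧ e2 ≠ e3 := by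
    decide +kernel
  have hcom : ∀ {p q : ℕ}, isPt p = true → isPt q = true → orth p q = true → Commute (γ p) (γ q) :=
    fun hp hq h => (hγ.comm _ _ hp hq).2 h
  have hneγ : ∀ {p q : ℕ}, isPt p = true → isPt q = true → p ≠ q → γ p ≠ γ q :=
    fun hp hq h e => h (hγ.inj _ _ hp hq e)
  obtain ⟨x, y, z, hxD, hyD, hzD, -, -, -, -, -, -, -, -, -, hp, huniq⟩ :=
    partner hC (hγ.mem e1 m1).1 (hγ.mem e2 m2).1 (hγ.mem e3 m3).1
      ⟨hneγ m1 m2 o.2.2.2.1, hneγ m1 m3 o.2.2.2.2.1, hneγ m2 m3 o.2.2.2.2.2⟩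
      (hcom m1 m2 o.1) (hcom m1 m3 o.2.1) (hcom m2 m3 o.2.2.1)
  have hP : ∀ i ∈ ([0, 1, 2] : List ℕ), ∀ u v w, hyperovals.getD i [] = [u, v, w] →
      isPt u = true ∧ isPt v = true ∧ isPt w = true ∧
      (γ u * γ v * γ w = γ e1 * γ e2 * γ e3 →
        ∀ s, (s = γ u ∨ s = γ v ∨ s = γ w) ↔ (s = x ∨ s = y ∨ s = z)) ∧
      (γ u * γ v * γ w ≠ γ e1 * γ e2 * γ e3 → t = 1) := by
    intro i hi u v w e
    have h3 := allP_iff.1 hyper_central.2.2 i hi
    rw [e, allP_iff] at h3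
    have hu := h3 u (by simp); have hv := h3 v (by simp); have hw := h3 w (by simp)
    simp only [Bool.and_eq_true, allP_iff, List.elem_eq_mem, Bool.not_eq_true', decide_eq_false_iff_not] at hu hv hw
    refine ⟨hu.1.2, hv.1.2, hw.1.2, fun hprod => ?_, fun hne => ?_⟩
    · have hnd : [u, v, w].Nodup := by
        simp only [List.mem_cons, List.not_mem_nil, or_false] at hi
        rcases hi with rfl | rfl | rfl <;>
          (simp only [hyperovals, List.getD_cons_zero, List.getD_cons_succ] at e; rw [← e]; decide)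
      simp only [List.nodup_cons, List.mem_cons, List.not_mem_nil, or_false, not_or] at hnd
      refine (huniq _ _ _ (hγ.mem u hu.1.2).1 (hγ.mem v hv.1.2).1 (hγ.mem w hw.1.2).1
        ⟨hneγ hu.1.2 hv.1.2 hnd.1.1, hneγ hu.1.2 hw.1.2 hnd.1.2, hneγ hv.1.2 hw.1.2 hnd.2.1⟩
        (hcom hu.1.2 hv.1.2 (hu.1.1 v (by simp))) (hcom hu.1.2 hw.1.2 (hu.1.1 w (by simp)))
        (hcom hv.1.2 hw.1.2 (hv.1.1 w (by simp))) hprod).resolve_left fun hh => ?_
      have := (hh (γ u)).1 (Or.inl rfl)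
      apply hu.2
      rcases this with r | r | r
      · rw [hγ.inj _ _ hu.1.2 m1 r]; simp [e1]
      · rw [hγ.inj _ _ hu.1.2 m2 r]; simp [e2]
      · rw [hγ.inj _ _ hu.1.2 m3 r]; simp [e3]
    · set w6 := γ e1 * γ e2 * γ e3 * (γ u * γ v * γ w) with hw6
      have hcen : ∀ b ∈ nb D a, Commute w6 b := by
        intro b hb
        obtain ⟨p, hpp, rfl⟩ := hγ.surj b hb
        have hc := allP_iff.1 (allP_iff.1 hyper_central.1 i hi) p (mem_pts.2 hpp)
        rw [e] at hc
        have hval := Nat.eq_of_beq_eq_true hc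
        simp only [List.cons_append, List.nil_append, List.foldr_cons, List.foldr_nil] at hval
        have s1 := hγ.isPt_tv w p hw.1.2 hpp
        have s2 := hγ.isPt_tv v _ hv.1.2 s1
        have s3 := hγ.isPt_tv u _ hu.1.2 s2
        have s4 := hγ.isPt_tv e3 _ m3 s3
        have s5 := hγ.isPt_tv e2 _ m2 s4
        have : w6 * γ p * w6⁻¹ = γ p := by
          rw [hw6]
          calc _ = γ e1 * (γ e2 * (γ e3 * (γ u * (γ v * (γ w * γ p * (γ w)⁻¹) * (γ v)⁻¹) * (γ u)⁻¹) * (γ e3)⁻¹) *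
                (γ e2)⁻¹) * (γ e1)⁻¹ := by group
            _ = γ p := by
              rw [hγ.conj w p hw.1.2 hpp, hγ.conj v _ hv.1.2 s1, hγ.conj u _ hu.1.2 s2, hγ.conj e3 _ m3 s3,
                hγ.conj e2 _ m2 s4, hγ.conj e1 _ m1 s5]
              exact congrArg γ hval
        exact mul_inv_eq_iff_eq_mul.1 this
      have hwa : Commute w6 a := by
        have k := fun p (hp : isPt p = true) => (hγ.mem p hp).2.2.symm
        exact (((k e1 m1).mul_left (k e2 m2)).mul_left (k e3 m3)).mul_left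
          (((k u hu.1.2).mul_left (k v hv.1.2)).mul_left (k w hw.1.2))
      rcases kernel_lemma hC ha hwa hcen with h1 | h1
      · exfalso
        apply hne
        rw [hw6] at h1
        have : γ u * γ v * γ w = (γ e1 * γ e2 * γ e3)⁻¹ := eq_inv_of_mul_eq_one_right h1
        rw [this]
        rw [mul_inv_rev, mul_inv_rev, inv_eq hC.tt (hγ.mem e1 m1).1, inv_eq hC.tt (hγ.mem e2 m2).1,
          inv_eq hC.tt (hγ.mem e3 m3).1]
        rw [(hcom m1 m2 o.1).eq, ((hcom m2 m3 o.2.2.1).mul_left (hcom m1 m3 o.2.1)).eq]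
      · have e' : (⟨a, self_mem hC ha hγ⟩ : H) =
            ⟨γ e1, hm e1 m1⟩ * ⟨γ e2, hm e2 m2⟩ * ⟨γ e3, hm e3 m3⟩ *
              (⟨γ u, hm u hu.1.2⟩ * ⟨γ v, hm v hv.1.2⟩ * ⟨γ w, hm w hw.1.2⟩) := Subtype.ext h1.symm
        have := congrArg π e'
        rw [hta, map_mul, map_mul, map_mul, map_mul, map_mul, hpt e1 m1, hpt e2 m2, hpt e3 m3, hpt u hu.1.2, hpt v hv.1.2,
          hpt w hw.1.2, t2, one_mul, t2] at this
        exact this
  have t1 : t = 1 := by
    by_contra hne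
    obtain ⟨a1, a2, a3, ha4, ha5⟩ := hP 0 (by simp) 21 45 57 rfl
    obtain ⟨b1, b2, b3, hb4, hb5⟩ := hP 1 (by simp) 25 37 61 rfl
    have h0 := ha4 (by_contra fun h => hne (ha5 h))
    have h1 := hb4 (by_contra fun h => hne (hb5 h))
    have h21 : γ 21 = γ 25 ∨ γ 21 = γ 37 ∨ γ 21 = γ 61 := (h1 _).2 ((h0 _).1 (Or.inl rfl))
    rcases h21 with r | r | r
    · exact absurd (hγ.inj _ _ a1 b1 r) (by norm_num)
    · exact absurd (hγ.inj _ _ a1 b2 r) (by norm_num)
    · exact absurd (hγ.inj _ _ a1 b3 r) (by norm_num)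
  have key : ∀ h : H, π h = 1 := by
    rintro ⟨h, hh⟩
    induction hh using Subgroup.closure_induction with
    | mem b hb => rw [hall b hb, t1]
    | one => exact map_one π
    | mul u v hu hv e1' e2' =>
      rw [show (⟨u * v, mul_mem hu hv⟩ : H) = ⟨u, hu⟩ * ⟨v, hv⟩ from rfl, map_mul, e1', e2', one_mul]
    | inv u hu e1' => rw [show (⟨u⁻¹, inv_mem hu⟩ : H) = (⟨u, hu⟩ : H)⁻¹ from rfl, map_inv, e1', inv_one]
  exact eq_top_iff.2 fun h _ => by
    have := key h
    rwa [hπ, ← MonoidHom.mem_ker, Abelianization.ker_of] at this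

theorem mem_commutator_of_loc {b : G} (hb : b ∈ Subgroup.closure (nb D a)) : b ∈ commutator G := by
  have hp := loc_perfect hC ha
  rw [Group.isPerfect_def] at hp
  have : (⟨b, hb⟩ : Subgroup.closure (nb D a)) ∈ commutator (Subgroup.closure (nb D a)) := by
    rw [hp]; trivial
  have h2 := Subgroup.mem_map_of_mem (Subgroup.closure (nb D a)).subtype this
  rw [commutator_def, Subgroup.map_commutator] at h2
  exact Subgroup.commutator_mono le_top le_top h2

theorem group_perfect : commutator G = ⊤ := by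
  rw [eq_top_iff, ← Gen.gen (D := D), Subgroup.closure_le]
  intro x hx
  obtain ⟨γ, hγ⟩ := hC.loc x hx
  exact mem_commutator_of_loc hC hx (self_mem hC hx hγ)

theorem group_simple (hprim : Cfsg.IsPrimitiveUnderConj D) : IsSimpleGroup G := by
  haveI : Nontrivial G := ⟨a, 1, ne_one hC.tt ha⟩
  refine ⟨fun N hN => ?_⟩
  by_contra hcon
  push Not at hcon
  obtain ⟨hbot, htop⟩ := hcon
  obtain ⟨n, hn, hn1⟩ := (Subgroup.ne_bot_iff_exists_ne_one.1 hbot |> fun ⟨n, h⟩ =>
    (⟨n.1, n.2, fun e => h (Subtype.ext e)⟩ : ∃ n, n ∈ N ∧ n ≠ (1 : G)))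
  obtain ⟨d, hd, hnd⟩ : ∃ d ∈ D, n * d * n⁻¹ ≠ d := by
    by_contra h
    push Not at h
    apply hn1
    have : n ∈ Subgroup.center G := by
      rw [← centralizer_D_eq_center hC.tt]
      exact Subgroup.mem_centralizer_iff.2 fun x hx => (mul_inv_eq_iff_eq_mul.1 (h x hx)).symm
    rwa [hC.center, Subgroup.mem_bot] at this
  set d' := n * d * n⁻¹ with hd'
  have hd'D : d' ∈ D := conj_mem hC.tt n hd
  have hdd : d' * d ∈ N := by
    rw [hd', show n * d * n⁻¹ * d = n * (d * n⁻¹ * d) by group]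
    refine N.mul_mem hn ?_
    have := hN.conj_mem _ (N.inv_mem hn) d
    rwa [inv_eq hC.tt hd] at this
  obtain ⟨u, v, hu, hv, huv, huvN⟩ : ∃ u v, u ∈ D ∧ v ∈ D ∧ ¬ Commute u v ∧ u * v ∈ N := by
    by_cases hc : Commute d d'
    · obtain ⟨γ, hγ, g1⟩ := local_one hC hd (b := d') ⟨hd'D, hnd, hc⟩
      set x := γ f1 with hx
      obtain ⟨hxD, -, hxd⟩ := hγ.mem f1 base_isPt.2.2.2.1
      have hxd' : ¬ Commute d' x := fun h => by
        have := (hγ.comm e1 f1 base_isPt.1 base_isPt.2.2.2.1).1 (g1.symm ▸ h)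
        exact absurd this (by decide +kernel)
      refine ⟨x * d' * x, d', conj_mem' hC.tt hd'D hxD, hd'D, fun h => hxd' ?_, ?_⟩
      · rw [← braid hC.tt hd'D hxD hxd'] at h
        have := ((Commute.refl d').mul_left h).mul_left (Commute.refl d')
        rw [show d' * (d' * x * d') * d' = (d' * d') * x * (d' * d') by group, sq hC.tt hd'D, one_mul, mul_one] at this
        exact this.symm
      · have h1 := hN.conj_mem _ hdd x
        rw [inv_eq hC.tt hxD, show x * (d' * d) * x = x * d' * (d * x) by group, hxd.eq, ← mul_assoc] at h1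
        have := N.mul_mem h1 hdd
        rwa [show x * d' * x * d * (d' * d) = x * d' * x * (d * d' * d) by group, hc.eq, mul_assoc d' d d,
          sq hC.tt hd, mul_one] at this
    · exact ⟨d', d, hd'D, hd, fun h => hc h.symm, hdd⟩
  set B : Set G := {w | w ∈ D ∧ u * w ∈ N} with hB
  have hblock : ∀ g : G, (fun x => g * x * g⁻¹) '' B = B ∨ Disjoint ((fun x => g * x * g⁻¹) '' B) B := by
    intro g
    by_cases hdis : Disjoint ((fun x => g * x * g⁻¹) '' B) B
    · exact Or.inr hdis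
    left
    obtain ⟨_, ⟨w, hw, rfl⟩, hw'⟩ := Set.not_disjoint_iff.1 hdis
    have hq : ∀ s, g * (w⁻¹ * s) * g⁻¹ ∈ N ↔ w⁻¹ * s ∈ N := fun s =>
      ⟨fun h => by simpa [mul_assoc] using hN.conj_mem _ h g⁻¹, fun h => hN.conj_mem _ h g⟩
    have hrel : ∀ s, u * (g * s * g⁻¹) ∈ N ↔ u * s ∈ N := fun s => by
      rw [show u * (g * s * g⁻¹) = u * (g * w * g⁻¹) * (g * (w⁻¹ * s) * g⁻¹) by group, N.mul_mem_cancel_left hw'.2,
        hq, show u * s = u * w * (w⁻¹ * s) by group, N.mul_mem_cancel_left hw.2]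
    ext y
    constructor
    · rintro ⟨s, hs, rfl⟩
      exact ⟨conj_mem hC.tt g hs.1, (hrel s).2 hs.2⟩
    · intro hy
      exact ⟨g⁻¹ * y * g, ⟨by simpa using conj_mem hC.tt g⁻¹ hy.1,
        (hrel _).1 (by rw [show g * (g⁻¹ * y * g) * g⁻¹ = y by group]; exact hy.2)⟩, by group⟩
  rcases hprim.2.2 B (fun w hw => hw.1) hblock with h | h
  · refine huv ?_
    rw [h ⟨hu, by rw [sq hC.tt hu]; exact N.one_mem⟩ ⟨hv, huvN⟩]
  apply htop
  rw [eq_top_iff, ← group_perfect hC ha, ← Subgroup.Normal.quotient_commutative_iff_commutator_le]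
  have hall : ∀ w ∈ D, (QuotientGroup.mk w : G ⧸ N) = QuotientGroup.mk u := by
    intro w hw
    have : w ∈ B := h.symm ▸ hw
    symm
    rw [QuotientGroup.eq, inv_eq hC.tt hu]
    exact this.2
  have hmem : ∀ p : G ⧸ N, p ∈ Subgroup.zpowers (QuotientGroup.mk u : G ⧸ N) := by
    intro p
    obtain ⟨g, rfl⟩ := QuotientGroup.mk_surjective p
    have hg : g ∈ Subgroup.closure D := by rw [Gen.gen (D := D)]; trivial
    induction hg using Subgroup.closure_induction with
    | mem w hw => rw [hall w hw]; exact Subgroup.mem_zpowers _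
    | one => exact one_mem _
    | mul p q _ _ hp hq => exact mul_mem hp hq
    | inv p _ hp => exact inv_mem hp
  exact ⟨⟨fun p q => by
    obtain ⟨i, rfl⟩ := Subgroup.mem_zpowers_iff.1 (hmem p)
    obtain ⟨j, rfl⟩ := Subgroup.mem_zpowers_iff.1 (hmem q)
    rw [← zpow_add, ← zpow_add, add_comm]⟩⟩

theorem width_eq : Cfsg.commutingWidth D = 22 := by
  classical
  set S := {n : ℕ | ∃ E : Set G, E ⊆ D ∧ E.Finite ∧ (∀ x ∈ E, ∀ y ∈ E, Commute x y) ∧ E.ncard = n} with hS
  have hle : ∀ n ∈ S, n ≤ 22 := by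
    rintro n ⟨E, hED, hEf, hEc, rfl⟩
    rcases E.eq_empty_or_nonempty with rfl | ⟨x, hx⟩
    · simp
    obtain hsub : E ⊆ insert x {y | y ∈ E ∧ y ≠ x} := fun y hy => by
      by_cases e : y = x
      · exact Or.inl e
      · exact Or.inr ⟨hy, e⟩
    suffices h21 : {y | y ∈ E ∧ y ≠ x}.ncard ≤ 21 by
      have := (Set.ncard_le_ncard hsub).trans (Set.ncard_insert_le _ _)
      omega
    have hnb : ∀ y, y ∈ E ∧ y ≠ x → y ∈ nb D x := fun y hy => ⟨hED hy.1, hy.2, hEc x hx y hy.1⟩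
    rcases {y | y ∈ E ∧ y ≠ x}.eq_empty_or_nonempty with h0 | ⟨b, hb⟩
    · rw [h0]; simp
    by_cases h1 : ∃ c, (c ∈ E ∧ c ≠ x) ∧ c ≠ b
    · obtain ⟨c, hc, hcb⟩ := h1
      obtain ⟨γ, hγ, g1, g2⟩ := local_two hC (hED hx) (hnb b hb) (hnb c hc) hcb (hEc b hb.1 c hc.1)
      set P : Finset ℕ := (pts.filter fun p => decide (γ p ∈ E)).toFinset with hP
      have himg : {y | y ∈ E ∧ y ≠ x} = γ '' (P : Set ℕ) := by
        ext y
        simp only [hP, Set.mem_setOf_eq, Set.mem_image, Finset.mem_coe, List.mem_toFinset, List.mem_filter,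
          decide_eq_true_eq]
        constructor
        · intro hy
          obtain ⟨p, hp, rfl⟩ := hγ.surj y (hnb y hy)
          exact ⟨p, ⟨mem_pts.2 hp, hy.1⟩, rfl⟩
        · rintro ⟨p, ⟨hp, hE⟩, rfl⟩
          exact ⟨hE, (hγ.mem p (mem_pts.1 hp)).2.1⟩
      have hPp : ∀ p ∈ P, isPt p = true ∧ γ p ∈ E := fun p hp => by
        simp only [hP, List.mem_toFinset, List.mem_filter, decide_eq_true_eq] at hp
        exact ⟨mem_pts.1 hp.1, hp.2⟩
      rw [himg]
      refine (Set.ncard_image_le P.finite_toSet).trans ?_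
      rw [Set.ncard_coe_finset]
      have hor : ∀ p ∈ P, ∀ q ∈ P, orth p q = true := fun p hp q hq =>
        (hγ.comm p q (hPp p hp).1 (hPp q hq).1).1 (hEc _ (hPp p hp).2 _ (hPp q hq).2)
      have he1 : e1 ∈ P := by
        simp only [hP, List.mem_toFinset, List.mem_filter, decide_eq_true_eq]
        exact ⟨mem_pts.2 base_isPt.1, g1.symm ▸ hb.1⟩
      have he2 : e2 ∈ P := by
        simp only [hP, List.mem_toFinset, List.mem_filter, decide_eq_true_eq]
        exact ⟨mem_pts.2 base_isPt.2.1, g2.symm ▸ hc.1⟩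
      by_cases hl : ∀ p ∈ P, p ∈ line12
      · calc P.card ≤ line12.toFinset.card := Finset.card_le_card fun p hp => List.mem_toFinset.2 (hl p hp)
          _ ≤ line12.length := List.toFinset_card_le _
          _ ≤ 21 := by simp [line12]
      push Not at hl
      obtain ⟨r, hr, hrl⟩ := hl
      obtain ⟨-, g, hg, er⟩ := IsLocal.exists_conj hC hγ base_isPt.2.2.1
        (orbit_third (mem_pts.2 (hPp r hr).1) (hor r hr e1 he1) (hor r hr e2 he2) hrl)
      obtain ⟨hgx, hfix⟩ := IsLocal.fix hC hγ hg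
      have f1' := hfix e1 base_isPt.1 (fun _ _ h => ((Bool.and_eq_true _ _).mp h).1)
      have f2' := hfix e2 base_isPt.2.1 (fun _ _ h => ((Bool.and_eq_true _ _).mp h).2)
      have hmove : ∀ p, isPt p = true → ∃ q, isPt q = true ∧ g * γ q * g⁻¹ = γ p := by
        intro p hp
        have := (nb_conj hC.tt g x (g⁻¹ * γ p * g)).1 (by
          rw [show g * (g⁻¹ * γ p * g) * g⁻¹ = γ p by group, hgx]; exact hγ.mem p hp)
        obtain ⟨q, hq, e⟩ := hγ.surj _ this
        exact ⟨q, hq, by rw [e]; group⟩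
      choose f hf1 hf2 using hmove
      refine le_trans (Finset.card_le_card_of_injOn (t := plane123.toFinset)
        (fun p => if h : isPt p = true then f p h else p) (fun p hp => ?_) (fun p hp q hq e => ?_))
        ((List.toFinset_card_of_nodup plane123_len.2).trans plane123_len.1).le
      · simp only [Finset.mem_coe, List.mem_toFinset, dif_pos (hPp p hp).1]
        have hq := hf1 p (hPp p hp).1
        have hs := allP_iff.1 plane123_spec.1 _ (mem_pts.2 hq)
        have k : ∀ {t s}, isPt t = true → s ∈ P → g * γ t * g⁻¹ = γ s → orth (f p (hPp p hp).1) t = true := by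
          intro t s ht hs' e
          rw [← hγ.comm _ t hq ht, ← Commute.conj_iff g, hf2, e, hγ.comm p s (hPp p hp).1 (hPp s hs').1]
          exact hor p hp s hs'
        rw [k base_isPt.1 he1 f1', k base_isPt.2.1 he2 f2', k base_isPt.2.2.1 hr er, beq_iff_eq, eq_comm,
          Bool.and_self, Bool.and_self, inMask_maskOf] at hs
        exact hs
      · simp only [dif_pos (hPp p hp).1, dif_pos (hPp q hq).1] at e
        refine hγ.inj _ _ (hPp p hp).1 (hPp q hq).1 ?_
        rw [← hf2 p (hPp p hp).1, ← hf2 q (hPp q hq).1, e]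
    · push Not at h1
      have : {y | y ∈ E ∧ y ≠ x} ⊆ {b} := fun y hy => h1 y hy
      exact (Set.ncard_le_ncard this).trans (by simp)
  have hin : 22 ∈ S := by
    obtain ⟨γ, hγ⟩ := hC.loc a ha
    have hpt : ∀ p ∈ plane123, isPt p = true := allP_iff.1 plane123_isPt
    refine ⟨insert a (γ '' (plane123.toFinset : Set ℕ)), ?_, Set.toFinite _, ?_, ?_⟩
    · rintro z (rfl | ⟨p, hp, rfl⟩)
      · exact ha
      · exact (hγ.mem p (hpt p (List.mem_toFinset.1 hp))).1
    · rintro z (rfl | ⟨p, hp, rfl⟩) w (rfl | ⟨q, hq, rfl⟩)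
      · exact Commute.refl _
      · exact (hγ.mem q (hpt q (List.mem_toFinset.1 hq))).2.2
      · exact (hγ.mem p (hpt p (List.mem_toFinset.1 hp))).2.2.symm
      · rw [hγ.comm p q (hpt p (List.mem_toFinset.1 hp)) (hpt q (List.mem_toFinset.1 hq))]
        exact allP_iff.1 (allP_iff.1 plane123_spec.2 p (List.mem_toFinset.1 hp)) q (List.mem_toFinset.1 hq)
    · rw [Set.ncard_insert_of_notMem ?_ (Set.toFinite _), Set.InjOn.ncard_image
        (fun p hp q hq e => hγ.inj p q (hpt p (List.mem_toFinset.1 hp)) (hpt q (List.mem_toFinset.1 hq)) e),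
        Set.ncard_coe_finset, List.toFinset_card_of_nodup plane123_len.2, plane123_len.1]
      rintro ⟨p, hp, e⟩
      exact (hγ.mem p (hpt p (List.mem_toFinset.1 hp))).2.1 e
  exact le_antisymm (csSup_le ⟨22, hin⟩ hle) (le_csSup ⟨22, hle⟩ hin)

end Cfsg.Agent.TT95
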