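import Cfsg.Agent.TT95.Cent23
import Cfsg.Agent.TT95.LayPrim
import Cfsg.Agent.TT95.Orders

/-!
Type M(23): orders, simplicity, the width, and the local group.
-/

set_option autoImplicit false
set_option linter.unusedSectionVars false

namespace Cfsg.Agent.TT95

variable {G : Type*} [Group G] [Finite G] {D : Set G} {d : G} (hG : Cfg23 D d)

include hG

theorem loc_nonempty : (locSet D d).Nonempty := by
  obtain ⟨x, hx⟩ : (nb D d).Nonempty := Set.nonempty_of_ncard_ne_zero (by rw [hG.lay.card_nb d hG.mem]; norm_num)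
  exact ⟨_, mkNb_mem hG.lay.tt hx (mkNb_ne_one hG.lay.tt hG.lay.one hG.lay.tf hG.mem hx)⟩

theorem center_loc23 {a : G} (ha : a ∈ D) :
    Subgroup.center (Subgroup.closure (nb D a)) =
      (Subgroup.zpowers a).subgroupOf (Subgroup.closure (nb D a)) := by
  have hD := hG.lay.tt
  ext z
  rw [Subgroup.mem_subgroupOf, Subgroup.mem_center_iff]
  constructor
  · intro h
    rcases hG.lay.kernel ha (commute_closure_nb hD z.2).symm fun b hb =>
      (congrArg Subtype.val (h ⟨b, Subgroup.subset_closure hb⟩)).symm with e | e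
    · rw [e]; exact one_mem _
    · rw [e]; exact Subgroup.mem_zpowers a
  · intro h w
    obtain ⟨n, hn⟩ := Subgroup.mem_zpowers_iff.1 h
    refine Subtype.ext ?_
    show (w : G) * z = z * w
    rw [← hn]
    exact ((commute_closure_nb hD w.2).zpow_left n).eq.symm

theorem self_mem23' {a : G} (ha : a ∈ D) : a ∈ Subgroup.closure (nb D a) := by
  have hD := hG.lay.tt
  obtain ⟨g, rfl⟩ := hG.lay.one d hG.mem a ha
  have hle : Subgroup.closure (nb D d) ≤
      (Subgroup.closure (nb D (g * d * g⁻¹))).comap (MulAut.conj g).toMonoidHom := by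
    rw [Subgroup.closure_le]
    exact fun y hy => Subgroup.subset_closure ((nb_conj hD g d y).2 hy)
  exact hle (self_mem23 hG)

theorem card_centralizer23 [Gen D] :
    Nat.card (Subgroup.centralizer ({d} : Set G)) = 129123503308800 := by
  haveI := gen_loc hG
  haveI := loc_finite hG.lay.tt d
  obtain ⟨q, hq⟩ := loc_nonempty hG
  rw [centralizer23 hG hG.mem, Subgroup.card_eq_card_quotient_mul_card_subgroup
      (Subgroup.center (Subgroup.closure (nb D d))), card_group hG.loc hq hG.core, center_loc23 hG hG.mem,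
    Nat.card_congr (Subgroup.subgroupOfEquivOfLe ((Subgroup.zpowers_le).2 (self_mem23 hG))).toEquiv,
    Nat.card_zpowers, hG.lay.tt.1.1 d hG.mem]

theorem card_group23 [Gen D] : Nat.card G = 31671 * 129123503308800 := by
  have hr : Set.range (fun g : G => g * d * g⁻¹) = D := by
    ext x
    exact ⟨fun ⟨g, hg⟩ => hg ▸ conj_mem hG.lay.tt g hG.mem, fun hx => hG.lay.one d hG.mem x hx⟩
  rw [card_eq_mul_of_fibres (fun g : G => g * d * g⁻¹) (Subgroup.centralizer ({d} : Set G))
    (fun g g' => conj_eq_conj_iff), hr, hG.lay.card_D, card_centralizer23 hG]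

theorem width23 : Cfsg.commutingWidth D = 23 := by
  haveI := gen_loc hG
  haveI := loc_finite hG.lay.tt d
  obtain ⟨q, hq⟩ := loc_nonempty hG
  rw [width_succ hG.lay.tt hG.mem hG.step.iso, width_eq hG.loc hq]

theorem trans_nb23 {a x y : G} (ha : a ∈ D) (hx : x ∈ nb D a) (hy : y ∈ nb D a) :
    ∃ g ∈ Subgroup.closure (nb D a), g * x * g⁻¹ = y := by
  obtain ⟨f, hf⟩ := hG.step.iso a ha
  obtain ⟨q, hq⟩ := hG.loc.one _ (hf.mem hx) _ (hf.mem hy)
  obtain ⟨g, hg, hgx⟩ := hf.lift q
  exact ⟨g, hg, hf.inj (conj_mem_nb hG.lay.tt hg hx) hy ((hgx x hx).trans hq)⟩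

/-- The subgroup generated by the neighbours is perfect. -/
theorem loc_perfect23 {a : G} (ha : a ∈ D) : Group.IsPerfect (Subgroup.closure (nb D a)) := by
  have hD := hG.lay.tt
  rw [Group.isPerfect_def]
  set H := Subgroup.closure (nb D a) with hH
  set π := (Abelianization.of : H →* Abelianization H) with hπ
  obtain ⟨b, hb⟩ : (nb D a).Nonempty := Set.nonempty_of_ncard_ne_zero (by rw [hG.lay.card_nb a ha]; norm_num)
  set t := π ⟨b, Subgroup.subset_closure hb⟩ with ht
  have hall : ∀ (x : G) (hx : x ∈ nb D a), π ⟨x, Subgroup.subset_closure hx⟩ = t := by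
    intro x hx
    obtain ⟨g, hg, e⟩ := trans_nb23 hG ha hb hx
    have : (⟨x, Subgroup.subset_closure hx⟩ : H) =
        ⟨g, hg⟩ * ⟨b, Subgroup.subset_closure hb⟩ * (⟨g, hg⟩ : H)⁻¹ := Subtype.ext e.symm
    rw [this, map_mul, map_mul, map_inv, mul_comm (π ⟨g, hg⟩), mul_assoc, mul_inv_cancel, mul_one]
  have t2 : t * t = 1 := by
    rw [ht, ← map_mul, show (⟨b, Subgroup.subset_closure hb⟩ : H) * ⟨b, Subgroup.subset_closure hb⟩ = 1 from
      Subtype.ext (sq hD hb.1), map_one]
  -- in the local group of the section the image of a neighbour is a commutator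
  have hker : ∀ z : H, z ∈ Subgroup.center H → π z = 1 := by
    intro z hz
    rw [center_loc23 hG ha, Subgroup.mem_subgroupOf] at hz
    obtain ⟨i, hi⟩ := Subgroup.mem_zpowers_iff.1 hz
    have hprod : ∀ (l : List G), (∀ x ∈ l, x ∈ nb D a) → ∀ hm : l.prod ∈ H, π ⟨l.prod, hm⟩ = t ^ l.length := by
      intro l
      induction l with
      | nil =>
        intro _ hm
        rw [show (⟨([] : List G).prod, hm⟩ : H) = 1 from Subtype.ext rfl, map_one, List.length_nil, pow_zero]
      | cons x l ih =>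
        intro hl hm
        have hm' : l.prod ∈ H := by
          rw [hH]
          exact list_prod_mem fun y hy => Subgroup.subset_closure (hl y (List.mem_cons_of_mem _ hy))
        have hxm : x ∈ H := Subgroup.subset_closure (hl x List.mem_cons_self)
        have e : (⟨(x :: l).prod, hm⟩ : H) = ⟨x, hxm⟩ * ⟨l.prod, hm'⟩ := Subtype.ext List.prod_cons
        rw [e, map_mul, hall x (hl x List.mem_cons_self), ih (fun y hy => hl y (List.mem_cons_of_mem _ hy)) hm',
          List.length_cons, pow_succ']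
    obtain ⟨g, hg⟩ := hG.lay.one d hG.mem a ha
    obtain ⟨l, -, hlen, hl, -, hlp⟩ := exists_six hG
    have hl' : ∀ x ∈ l.map (MulAut.conj g).toMonoidHom, x ∈ nb D a := fun x hx => by
      obtain ⟨y, hy, rfl⟩ := List.mem_map.1 hx
      exact hg ▸ (nb_conj hD g d y).2 (hl y hy)
    have hpa : π ⟨a, self_mem23' hG ha⟩ = 1 := by
      have ea : a = (l.map (MulAut.conj g).toMonoidHom).prod := by rw [← map_list_prod, hlp]; exact hg.symm
      have hm : (l.map (MulAut.conj g).toMonoidHom).prod ∈ H := ea ▸ self_mem23' hG ha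
      rw [show (⟨a, self_mem23' hG ha⟩ : H) = ⟨_, hm⟩ from Subtype.ext ea, hprod _ hl' hm, List.length_map, hlen,
        show 6 = 2 * 3 from rfl, pow_mul, pow_two, t2, one_pow]
    rw [show z = (⟨a, self_mem23' hG ha⟩ : H) ^ i from Subtype.ext hi.symm, map_zpow, hpa, one_zpow]
  have t1 : t = 1 := by
    haveI := gen_loc hG
    haveI := loc_finite hD d
    obtain ⟨q, hq⟩ := loc_nonempty hG
    obtain ⟨g, hg⟩ := hG.lay.one a ha d hG.mem
    have hb' : g * b * g⁻¹ ∈ nb D d := hg ▸ (nb_conj hD g a b).2 hb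
    set H₀ := Subgroup.closure (nb D d)
    have hle : H₀ ≤ H.comap (MulAut.conj g⁻¹).toMonoidHom := by
      rw [Subgroup.closure_le]
      intro y hy
      refine Subgroup.subset_closure ?_
      have := (nb_conj hD g⁻¹ d y).2 hy
      rwa [show g⁻¹ * d * g⁻¹⁻¹ = a by rw [← hg]; group] at this
    set φ : H₀ →* H := ((MulAut.conj g⁻¹).toMonoidHom.comp H₀.subtype).codRestrict H fun y => hle y.2
    have hφ : ∀ z, z ∈ Subgroup.center H₀ → (π.comp φ) z = 1 := by
      intro z hz
      apply hker
      rw [center_loc23 hG hG.mem, Subgroup.mem_subgroupOf] at hz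
      rw [center_loc23 hG ha, Subgroup.mem_subgroupOf]
      obtain ⟨i, hi⟩ := Subgroup.mem_zpowers_iff.1 hz
      refine Subgroup.mem_zpowers_iff.2 ⟨i, ?_⟩
      show a ^ i = (MulAut.conj g⁻¹) (z : G)
      rw [← hi, map_zpow, MulAut.conj_apply, inv_inv, show g⁻¹ * d * g = a by rw [← hg]; group]
    set ψ := QuotientGroup.lift (Subgroup.center H₀) (π.comp φ) fun z hz => MonoidHom.mem_ker.2 (hφ z hz)
    have hperf := group_perfect hG.loc hq
    have h1 : ∀ p : ModCenter H₀, ψ p = 1 := by
      intro p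
      have : p ∈ commutator (ModCenter H₀) := by rw [hperf]; trivial
      exact MonoidHom.mem_ker.1 (Abelianization.commutator_subset_ker ψ this)
    have h2 := h1 (mkNb hb')
    have e : φ ⟨g * b * g⁻¹, Subgroup.subset_closure hb'⟩ = ⟨b, Subgroup.subset_closure hb⟩ :=
      Subtype.ext (show g⁻¹ * (g * b * g⁻¹) * g⁻¹⁻¹ = b by group)
    rw [ht, ← e]
    exact h2
  have key : ∀ h : H, π h = 1 := by
    rintro ⟨h, hh⟩
    induction hh using Subgroup.closure_induction with
    | mem x hx => rw [hall x hx, t1]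
    | one => exact map_one π
    | mul u v hu hv e1' e2' =>
      rw [show (⟨u * v, mul_mem hu hv⟩ : H) = ⟨u, hu⟩ * ⟨v, hv⟩ from rfl, map_mul, e1', e2', one_mul]
    | inv u hu e1' => rw [show (⟨u⁻¹, inv_mem hu⟩ : H) = (⟨u, hu⟩ : H)⁻¹ from rfl, map_inv, e1', inv_one]
  exact eq_top_iff.2 fun h _ => by
    have := key h
    rwa [hπ, ← MonoidHom.mem_ker, Abelianization.ker_of] at this

theorem group_perfect23 [Gen D] : commutator G = ⊤ := by
  rw [eq_top_iff, ← Gen.gen (D := D), Subgroup.closure_le]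
  intro x hx
  have hp := loc_perfect23 hG hx
  rw [Group.isPerfect_def] at hp
  have : (⟨x, self_mem23' hG hx⟩ : Subgroup.closure (nb D x)) ∈ commutator (Subgroup.closure (nb D x)) := by
    rw [hp]; trivial
  have h2 := Subgroup.mem_map_of_mem (Subgroup.closure (nb D x)).subtype this
  rw [commutator_def, Subgroup.map_commutator] at h2
  exact Subgroup.commutator_mono le_top le_top h2

theorem group_simple23 [Gen D] : IsSimpleGroup G :=
  hG.lay.isSimple (by norm_num) (by norm_num) hG.mem (group_perfect23 hG)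

theorem loc_simple23 : IsSimpleGroup (ModCenter (Subgroup.closure (nb D d))) := by
  haveI := gen_loc hG
  haveI := loc_finite hG.lay.tt d
  obtain ⟨q, hq⟩ := loc_nonempty hG
  exact group_simple hG.loc hq ((lay22 hG.loc hq).primitive (by norm_num) hq)

theorem loc_quasisimple23 {a : G} (ha : a ∈ D) : Cfsg.IsQuasisimple (Subgroup.closure (nb D a)) := by
  refine ⟨loc_perfect23 hG ha, ?_⟩
  haveI := loc_simple23 hG
  obtain ⟨g, rfl⟩ := hG.lay.one d hG.mem a ha
  have hmap : (Subgroup.closure (nb D d)).map (MulAut.conj g).toMonoidHom =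
      Subgroup.closure (nb D (g * d * g⁻¹)) := by
    rw [MonoidHom.map_closure, nb_conj_image hG.lay.tt g d]
    rfl
  set φ := ((MulAut.conj g).subgroupMap (Subgroup.closure (nb D d))).trans (MulEquiv.subgroupCongr hmap)
  have hc : (Subgroup.center (Subgroup.closure (nb D d))).map φ.toMonoidHom =
      Subgroup.center (Subgroup.closure (nb D (g * d * g⁻¹))) := by
    ext x
    rw [Subgroup.mem_map, Subgroup.mem_center_iff]
    constructor
    · rintro ⟨y, hy, rfl⟩ z
      obtain ⟨w, rfl⟩ := φ.surjective z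
      show φ w * φ y = φ y * φ w
      rw [← map_mul, ← map_mul, Subgroup.mem_center_iff.1 hy w]
    · intro h
      obtain ⟨y, rfl⟩ := φ.surjective x
      refine ⟨y, Subgroup.mem_center_iff.2 fun w => φ.injective ?_, rfl⟩
      rw [map_mul, map_mul]
      exact h (φ w)
  set e := QuotientGroup.congr _ _ φ hc
  haveI : Nontrivial (ModCenter (Subgroup.closure (nb D (g * d * g⁻¹)))) := e.symm.toEquiv.nontrivial
  exact IsSimpleGroup.isSimpleGroup_of_surjective e.toMonoidHom e.surjective

end Cfsg.Agent.TT95
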