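import Cfsg.Agent.TT95.ConnStep
import Cfsg.Agent.TT95.Orders23
import Cfsg.Agent.S0293

/-!
Type M(24): the graph properties with 306936, 31671, 3510, 3240, 351, the three components on the common
neighbours of a non-edge, and the transposition as a product of seven of its neighbours.
-/

set_option autoImplicit false
set_option linter.unusedSectionVars false

namespace Cfsg.Agent.TT95

/-- The part of type M(24) that is used. -/
def Core24 (G : Type*) [Group G] (D : Set G) : Prop :=
  Subgroup.center G = ⊥ ∧ ∃ d ∈ D, ∃ c ∈ D, ¬ Commute d c ∧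
    Core23 (ModCenter (Subgroup.closure (nb D d))) (locSet D d) ∧
    Nat.card (ModCenter (Subgroup.closure (nb D d ∩ nb D c))) = 29713078886400

theorem card_pomega8 : Nat.card (Cfsg.POmega (ZMod 3) (Cfsg.quadFormPlus 4 (ZMod 3))) = 4952179814400 := by
  haveI : Fact (Nat.Prime 3) := ⟨by norm_num⟩
  have h := Cfsg.Agent.S0293.result (F := ZMod 3) (q := 3) (ZMod.card 3) 4 le_rfl
  rw [Finset.prod_range_succ, Finset.prod_range_succ, Finset.prod_range_succ, Finset.prod_range_zero,
    show Nat.gcd 4 (3 ^ 4 - 1) = 4 by decide] at h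
  norm_num at h
  omega

theorem core24_of_type {G : Type*} [Group G] [Finite G] {D : Set G} (h : Cfsg.IsOfTypeM24 G D) :
    Core24 G D := by
  obtain ⟨hZ, d, hd, c, hc, hdc, h1, N, hN, ⟨e⟩, ⟨e'⟩⟩ := h
  refine ⟨hZ, d, hd, c, hc, hdc, ?_, ?_⟩
  · have := (core23_of_type h1).diff_one
    rw [mk_image_diff_one] at this
    exact this
  · show Nat.card (_ ⧸ _) = _
    refine (Subgroup.card_eq_card_quotient_mul_card_subgroup N).trans ?_
    rw [Nat.card_congr e'.toEquiv, Nat.card_congr e.toEquiv, card_pomega8, Nat.card_perm, Nat.card_fin]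
    norm_num [Nat.factorial]

variable {G : Type*} [Group G] [Finite G] {D : Set G}

theorem oneClass_twinFree_of_core24 (hD : TTSet D) (h : Core24 G D) : OneClass D ∧ TwinFree D := by
  obtain ⟨hZ, d, hd, c, hc, hdc, h23, hL⟩ := h
  have hE := loc_isGroup hD d
  haveI := loc_finite hD d
  obtain ⟨g1, g2⟩ := oneClass_twinFree_of_core23 hE h23
  obtain ⟨-, q, hq, -, -, -, h22, -⟩ := h23
  haveI := loc_finite hE q
  have hdvd : 2 ^ 15 ∣ Nat.card (ModCenter (Subgroup.closure (nb D d))) :=
    (dvd_card_of_core22 (loc_isGroup hE q) h22).trans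
      ((Subgroup.card_quotient_dvd_card _).trans (Subgroup.card_subgroup_dvd_card _))
  have h1 := oneClass_of_local hD hZ hd hc hdc g1 _ hdvd (by rw [hL]; norm_num)
  exact ⟨h1, twinFree_of_local hD h1 hd g2 ⟨q, hq⟩⟩

theorem exists_edge_of_core24 (hD : TTSet D) (h : Core24 G D) : ∃ a ∈ D, ∃ b, b ∈ nb D a := by
  obtain ⟨-, d, hd, -, -, -, h23, -⟩ := h
  obtain ⟨-, q, hq, -⟩ := h23
  obtain ⟨x, hx, -⟩ := exists_of_mem_locSet hD hq
  exact ⟨d, hd, x, hx⟩

section Far

variable {K : Type*} [Group K] [Finite K] {E : Set K} {n k l s t : ℕ} (hS : StepHyp D E n k l s t)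

include hS

theorem step_kernel {a z : G} (ha : a ∈ D) (hza : Commute z a) (hz : ∀ b ∈ nb D a, Commute z b) :
    z = 1 ∨ z = a := by
  have hcen : ∀ w : G, (∀ x ∈ D, Path D a x → Commute w x) → w = 1 := fun w hw => by
    have : w ∈ Subgroup.center G := by
      rw [← centralizer_D_eq_center hS.tt]
      exact Subgroup.mem_centralizer_iff.2 fun x hx => (hw x hx (hS.conn a ha x hx)).eq.symm
    rwa [hS.center, Subgroup.mem_bot] at this
  rcases kernel_path hS.tt ha hza hz (fun x hx y hy _ => step_dperp hS ha hx hy)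
      (fun x y hx hy _ _ => step_farConn hS ha x hx y hy) with h | h
  · exact Or.inl (hcen z h)
  · right
    rw [eq_inv_of_mul_eq_one_right (hcen _ h), inv_eq hS.tt ha]

/-- With point stabilisers generated by neighbours in the local group, the neighbours generate a subgroup
transitive on the members not commuting with the transposition. -/
theorem step_far_trans (hcent : ∀ q ∈ E, Subgroup.centralizer ({q} : Set K) = Subgroup.closure (nb E q))
    {a c c' : G} (ha : a ∈ D) (hc : c ∈ far D a) (hc' : c' ∈ far D a) :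
    ∃ g ∈ Subgroup.closure (nb D a), g * c * g⁻¹ = c' := by
  have hD := hS.tt
  obtain ⟨b, hb⟩ := step_common hS ha hc
  obtain ⟨b', hb'⟩ := step_common hS ha hc'
  obtain ⟨f, hf⟩ := hS.iso a ha
  obtain ⟨q, hq⟩ := hS.lay.one _ (hf.mem hb.1) _ (hf.mem hb'.1)
  obtain ⟨h₁, hh₁, hact⟩ := hf.lift q
  have e1 : h₁ * b * h₁⁻¹ = b' := hf.inj (conj_mem_nb hD hh₁ hb.1) hb'.1 ((hact b hb.1).trans hq)
  have ea := conj_fix_of_mem hD hh₁
  set c₁ := h₁ * c * h₁⁻¹
  have hc₁ : c₁ ∈ far D a := ⟨conj_mem hD _ hc.1, fun h => hc.2 (by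
    rw [← ea] at h; exact (Commute.conj_iff h₁).1 h)⟩
  have m1 : c₁ ∈ nb D b' := e1 ▸ (nb_conj hD h₁ b c).2 (mem_nb_comm hc.1 hb.2)
  have ma := mem_nb_comm ha hb'.1
  have m' := mem_nb_comm hc'.1 hb'.2
  obtain ⟨φ, hφ⟩ := hS.iso b' hb'.1.1
  obtain ⟨p, pa, pc⟩ := hS.lay.farPairs _ _ _ _ (hφ.mem ma) ((hφ.mem_far_iff ma m1).2 hc₁) (hφ.mem ma)
    ((hφ.mem_far_iff ma m').2 hc')
  have hp : p ∈ Subgroup.centralizer ({φ a} : Set K) :=
    Subgroup.mem_centralizer_singleton_iff.2 (mul_inv_eq_iff_eq_mul.1 pa)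
  rw [hcent _ (hφ.mem ma), ← hφ.image_nb ma] at hp
  obtain ⟨g, hg, hgx⟩ := hφ.act_down hD hS.lay.tt Set.inter_subset_left hp
  refine ⟨g * h₁, mul_mem (Subgroup.closure_mono Set.inter_subset_right hg) hh₁, ?_⟩
  rw [show g * h₁ * c * (g * h₁)⁻¹ = g * c₁ * g⁻¹ by simp only [c₁]; group]
  exact hφ.inj (conj_mem_nb hD (Subgroup.closure_mono Set.inter_subset_left hg) m1) m' ((hgx c₁ m1).trans pc)

/-- The number of members not commuting with `d`, times the order of the group on common neighbours,
divides twice the order of the local group. -/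
theorem card_far_dvd (hcent : ∀ q ∈ E, Subgroup.centralizer ({q} : Set K) = Subgroup.closure (nb E q))
    {d c : G} (hd : d ∈ D) (hc : c ∈ far D d) :
    (far D d).ncard * Nat.card (ModCenter (Subgroup.closure (nb D d ∩ nb D c))) ∣
      2 * Nat.card (ModCenter (Subgroup.closure (nb D d))) := by
  have hD := hS.tt
  set H := Subgroup.closure (nb D d) with hH
  set S : Subgroup H := (Subgroup.centralizer ({c} : Set G)).subgroupOf H with hSdef
  have hr : Set.range (fun g : H => (g : G) * c * (g : G)⁻¹) = far D d := by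
    ext x
    constructor
    · rintro ⟨g, rfl⟩
      refine ⟨conj_mem hD _ hc.1, fun h => hc.2 ?_⟩
      rw [← conj_fix_of_mem hD g.2] at h
      exact (Commute.conj_iff _).1 h
    · intro hx
      obtain ⟨g, hg, e⟩ := step_far_trans hS hcent hd hc hx
      exact ⟨⟨g, hg⟩, e⟩
  have hcard := card_eq_mul_of_fibres (fun g : H => (g : G) * c * (g : G)⁻¹) S
    (fun g g' => conj_eq_conj_iff (g := (g : G)) (g' := (g' : G)) (x := c))
  rw [hr] at hcard
  have hle : Subgroup.closure (nb D d ∩ nb D c) ≤ H := Subgroup.closure_mono Set.inter_subset_left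
  have hS' : Nat.card (ModCenter (Subgroup.closure (nb D d ∩ nb D c))) ∣ Nat.card S := by
    refine (Subgroup.card_quotient_dvd_card _).trans ?_
    rw [← Nat.card_congr (Subgroup.subgroupOfEquivOfLe hle).toEquiv]
    refine Subgroup.card_dvd_of_le fun x hx => ?_
    rw [Subgroup.mem_subgroupOf] at hx
    rw [hSdef, Subgroup.mem_subgroupOf, Subgroup.mem_centralizer_singleton_iff]
    exact (commute_closure_nb hD (Subgroup.closure_mono Set.inter_subset_right hx)).eq.symm
  have hZ : Nat.card (Subgroup.center H) ∣ 2 := by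
    have hle' : (Subgroup.center H).map H.subtype ≤ Subgroup.zpowers d := by
      rintro _ ⟨z, hz, rfl⟩
      rcases step_kernel hS hd (commute_closure_nb hD z.2).symm (fun b hb =>
        (congrArg Subtype.val (Subgroup.mem_center_iff.1 hz ⟨b, Subgroup.subset_closure hb⟩)).symm) with e | e
      · show (z : G) ∈ _
        rw [e]; exact one_mem _
      · show (z : G) ∈ _
        rw [e]; exact Subgroup.mem_zpowers d
    have := Subgroup.card_dvd_of_le hle'
    rwa [Nat.card_zpowers, hD.1.1 d hd, Subgroup.card_map_of_injective H.subtype_injective] at this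
  refine (Nat.mul_dvd_mul_left _ hS').trans ?_
  rw [← hcard, Subgroup.card_eq_card_quotient_mul_card_subgroup (Subgroup.center H), mul_comm]
  exact Nat.mul_dvd_mul_right hZ _

/-- Two nonadjacent members of a component are not twins there, when there are more of them than common
neighbours of an edge. -/
theorem step_mu_ne {a d x : G} (ha : a ∈ D) (hd : d ∈ far D a) (hx : x ∈ common D a d)
    (hgt : t < s - 1 - t) (h0 : 0 < t)
    (hall : ∀ x' ∈ common D a d, ∀ z' ∈ comp (common D a d) x' ∩ far D x',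
      (common D a d ∩ common D x' z').ncard = s) : False := by
  have hst : 0 < s := by omega
  obtain ⟨y, hy⟩ : (common D a d ∩ nb D x).Nonempty := Set.nonempty_of_ncard_ne_zero (by
    rw [step_deg hS ha hd hx]; omega)
  obtain ⟨z, hz⟩ : (common D a d ∩ nb D x ∩ nb D y).Nonempty := Set.nonempty_of_ncard_ne_zero (by
    rw [step_deg_two hS ha hd hx hy]; omega)
  obtain ⟨hc1, hc2⟩ := step_comp hS ha hd hz.1.1
  have hX := hc2 s (hall z hz.1.1)
  have hX' : (comp (common D a d) z ∩ far D z).ncard = s - 1 - t :=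
    Nat.eq_of_mul_eq_mul_right hst (hX.trans (mul_comm _ _))
  have hsub : comp (common D a d) z ∩ far D z ⊆ common D a d ∩ nb D x ∩ nb D y := by
    intro w hw
    have hsub' : common D a d ∩ common D z w ⊆ common D a d ∩ nb D z := fun v hv => ⟨hv.1, hv.2.1⟩
    have heq : common D a d ∩ common D z w = common D a d ∩ nb D z :=
      Set.eq_of_subset_of_ncard_le hsub' (by rw [hall z hz.1.1 w hw, step_deg hS ha hd hz.1.1]) (Set.toFinite _)
    have hxw : x ∈ nb D w := (heq.ge ⟨hx, mem_nb_comm hx.1.1 hz.1.2⟩).2.2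
    have hyw : y ∈ nb D w := (heq.ge ⟨hy.1, mem_nb_comm hy.1.1.1 hz.2⟩).2.2
    exact ⟨⟨hw.1.1, mem_nb_comm hw.1.1.1.1 hxw⟩, mem_nb_comm hw.1.1.1.1 hyw⟩
  have := Set.ncard_le_ncard hsub (Set.toFinite _)
  rw [hX', step_deg_two hS ha hd hx hy] at this
  omega

end Far

set_option synthInstance.maxSize 2048 in
theorem num24_mu : ∀ μ < 351, μ ≠ 0 → 78624 % μ = 0 →
    891855360 % (352 + 78624 / μ) = 0 →
    ∀ r < 31671 / (352 + 78624 / μ) + 1, 891855360 % (r * (352 + 78624 / μ)) = 0 → r % 2 = 1 →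
      275264 % (891855360 / (r * (352 + 78624 / μ))) = 0 → μ = 108 ∧ r = 3 := by
  decide +kernel

/-- The standing hypotheses for type M(24), the local group being read at `d`. -/
structure Cfg24 {G : Type*} [Group G] (D : Set G) (d : G) (q : ModCenter (Subgroup.closure (nb D d))) : Prop where
  mem : d ∈ D
  lay : Lay D 306936 31671 3510 3240 351
  step : StepHyp D (locSet D d) 31671 3510 693 351 126
  loc : Cfg23 (locSet D d) q
  three : ∀ a ∈ D, ∀ e ∈ far D a, (comps (common D a e)).ncard = 3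

/-- The standing hypotheses follow from type M(24). -/
theorem cfg24_of_type {G : Type*} [Group G] [Finite G] {D : Set G} (hD : Cfsg.IsThreeTranspositionGroup D)
    (hprim : Cfsg.IsPrimitiveUnderConj D) (h24 : Cfsg.IsOfTypeM24 G D) : ∃ d q, Cfg24 D d q := by
  have hcore := core24_of_type h24
  replace hD := TTSet.of_group hD
  obtain ⟨a₀, ha₀, b₀, hb₀⟩ := exists_edge_of_core24 hD hcore
  have hconn := conn_of_primitive hD hprim ha₀ hb₀
  obtain ⟨e1, e2⟩ := oneClass_twinFree_of_core24 hD hcore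
  obtain ⟨hZ, d, hd, c, hc, hdc, h23, hL⟩ := hcore
  haveI := loc_finite hD d
  have hE := loc_isGroup hD d
  have hconn' := conn23 hE h23
  obtain ⟨q, hq⟩ := cfg23_of_core hE h23 hconn'
  obtain ⟨-, hquads, -⟩ := lay23 hE h23 hconn'
  haveI : Gen (locSet D d) := ⟨loc_closure hD d⟩
  obtain ⟨f, hf⟩ := exists_iso_loc hD e1 e2 hd
  have hS : StepHyp D (locSet D d) 31671 3510 693 351 126 :=
    ⟨hD, hZ, e1, e2, hconn, hq.lay, hquads, iso_everywhere hD e1 hd hf, by norm_num, by norm_num⟩
  have hc' : c ∈ far D d := ⟨hc, hdc⟩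
  have hdvd : (far D d).ncard ∣ 275264 := by
    have h := card_far_dvd hS (fun p hp => centralizer23 hq hp) hd hc'
    rw [hL, card_group23 hq] at h
    refine Nat.dvd_of_mul_dvd_mul_right (k := 29713078886400) (by norm_num) (h.trans ?_)
    norm_num
  -- the arithmetic at the pair (d, c)
  obtain ⟨x, hx⟩ := step_common hS hd hc'
  obtain ⟨X, μ, m1, m2, m3, m4, z, hz, hxz, hp, eμ⟩ := step_formula hS hd hc' hx (by norm_num)
  have hmu : ∀ x' ∈ common D d c, ∀ z' ∈ comp (common D d c) x' ∩ far D x',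
      (common D d c ∩ common D x' z').ncard = μ := fun x' hx' z' hz' =>
    (step_mu hS hd hc' hx' hz'.1.1 hz'.2.2 hz'.1.2 hd hc' hx hz hxz hp).trans eμ
  have hμ : μ < 351 := by
    refine lt_of_le_of_ne m2 fun e => step_mu_ne hS hd hc' hx (by norm_num) (by norm_num) ?_
    subst e
    exact hmu
  have hcomp : ∀ y ∈ common D d c, (comp (common D d c) y).ncard = 1 + 351 + X := fun y hy =>
    (step_comp_const hS hd hc' hy hd hc' hx (by norm_num)).trans m4
  have hcard := ncard_eq_mul hcomp
  have hle : (common D d c).ncard ≤ 31671 := by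
    rw [← step_nb hS hd]
    exact Set.ncard_le_ncard Set.inter_subset_left (Set.toFinite _)
  have he := step_edges hS hd (S := (common D d c).ncard) fun e he' => step_far_const hS hd he' hd hc'
  norm_num at he m3
  rw [hcard] at he hle
  set r := (comps (common D d c)).ncard with hr
  have hXμ : 78624 / μ = X := by rw [← m3, Nat.mul_div_cancel _ (by omega)]
  have hr0 : 0 < r := comps_pos hx
  have hpos : 0 < r * (1 + 351 + X) := by positivity
  have hF : 891855360 / (r * (352 + X)) = (far D d).ncard := by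
    rw [← he, show 1 + 351 + X = 352 + X by omega, Nat.mul_div_cancel _ (by positivity)]
  obtain ⟨eμ', er⟩ := num24_mu μ hμ (by omega) (by rw [← m3]; exact Nat.mul_mod_left X μ)
    (by rw [hXμ, ← he, ← mul_assoc, show 1 + 351 + X = 352 + X by omega]; exact Nat.mul_mod_left _ _) r
    (by
      rw [hXμ]
      refine Nat.lt_succ_of_le ((Nat.le_div_iff_mul_le (by omega)).2 ?_)
      rw [show 352 + X = 1 + 351 + X by omega]; exact hle)
    (by rw [hXμ, ← he, show 1 + 351 + X = 352 + X by omega]; exact Nat.mul_mod_left _ _)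
    (Nat.odd_iff.1 (comps_odd hS.tt (common_closed hS.tt d c) hx))
    (by rw [hXμ, hF]; exact Nat.mod_eq_zero_of_dvd hdvd)
  have hX : X = 728 := by rw [← hXμ, eμ']
  -- every far pair looks like (d, c)
  have key : ∀ a ∈ D, ∀ e ∈ far D a, (comps (common D a e)).ncard = 3 ∧ (common D a e).ncard = 3240 := by
    intro a ha e he'
    have h1 : (common D a e).ncard = 3240 := by
      rw [step_far_const hS ha he' hd hc', hcard, er, hX]
    have h2 := ncard_eq_mul (S := common D a e) (c := 1080) fun y hy => by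
      rw [step_comp_const hS ha he' hy hd hc' hx (by norm_num), m4, hX]
    exact ⟨by omega, h1⟩
  have hN : ∀ a ∈ D, (far D a).ncard = 275264 := fun a ha => by
    have := step_edges hS ha (S := 3240) fun e he' => (key a ha e he').2
    norm_num at this
    omega
  refine ⟨d, q, hd, ⟨hD, hZ, e1, e2, hconn, fun _ ha => step_nbConn hS ha, fun _ ha => step_farConn hS ha, ?_,
    fun _ ha => step_nb hS ha, fun _ ha _ hb => step_edge hS ha hb, fun a ha e he' => (key a ha e he').2,
    fun _ ha _ he' _ hy => step_deg hS ha he' hy, step_pairs hS, step_farPairs hS,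
    fun _ ha _ hx _ hy h => step_dperp hS ha hx hy h⟩, hS, hq, fun a ha e he' => (key a ha e he').1⟩
  have e : D = insert d (nb D d ∪ far D d) := by
    ext y
    refine ⟨fun hy => ?_, fun hy => ?_⟩
    · rcases mem_nb_or_far (a := d) hy with h | h | h
      · exact Or.inl h
      · exact Or.inr (Or.inl h)
      · exact Or.inr (Or.inr h)
    · rcases hy with h | h | h
      · exact h ▸ hd
      · exact h.1
      · exact h.1
  conv_lhs => rw [e]
  rw [Set.ncard_insert_of_notMem (fun h => h.elim (fun h => h.2.1 rfl) fun h => h.2 (Commute.refl d))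
      (Set.toFinite _),
    Set.ncard_union_eq (Set.disjoint_left.2 fun y h1 h2 => h2.2 h1.2.2) (Set.toFinite _) (Set.toFinite _),
    step_nb hS hd, hN d hd]

variable {d : G} {q : ModCenter (Subgroup.closure (nb D d))} (hG : Cfg24 D d q)

include hG

theorem noRel7 : NoRel D 7 := noRel_succ hG.lay.tt hG.lay.one hG.lay.tf hG.mem (noRel6 hG.loc)

/-- Seven neighbours multiply to the transposition. -/
theorem exists_seven : ∃ l : List G, l.Nodup ∧ l.length = 7 ∧ (∀ x ∈ l, x ∈ nb D d) ∧
    (∀ x ∈ l, ∀ y ∈ l, Commute x y) ∧ l.prod = d := by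
  have hD := hG.lay.tt
  haveI := loc_finite hD d
  have hE := hG.loc.lay.tt
  obtain ⟨f, hf⟩ := hG.step.iso d hG.mem
  obtain ⟨l6, hnd6, hlen6, hmem6, hc6, hp6⟩ := exists_six hG.loc
  have hqc : ∀ y ∈ q :: l6, ∀ z ∈ q :: l6, Commute y z := by
    intro y hy z hz
    rcases List.mem_cons.1 hy with ey | hy' <;> rcases List.mem_cons.1 hz with ez | hz'
    · rw [ey, ez]
    · rw [ey]; exact (hmem6 z hz').2.2
    · rw [ez]; exact (hmem6 y hy').2.2.symm
    · exact hc6 y hy' z hz'
  have hnd : (q :: l6).Nodup := List.nodup_cons.2 ⟨fun h => (hmem6 q h).2.1 rfl, hnd6⟩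
  have hmem : ∀ y ∈ q :: l6, y ∈ locSet D d := fun y hy =>
    (List.mem_cons.1 hy).elim (fun e => e ▸ hG.loc.mem) fun h => (hmem6 y h).1
  choose g hg hge using fun y (hy : y ∈ q :: l6) => hf.surj (hmem y hy)
  set l := (q :: l6).attach.map (fun y => g y.1 y.2) with hl
  have hlmem : ∀ y ∈ l, y ∈ nb D d := by
    intro y hy
    obtain ⟨z, -, rfl⟩ := List.mem_map.1 hy
    exact hg z.1 z.2
  have hmap : l.map f = q :: l6 := by
    rw [hl, List.map_map]
    exact (List.map_congr_left fun z _ => hge z.1 z.2).trans (List.attach_map_subtype_val _)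
  have hnd' : l.Nodup := List.Nodup.of_map f (hmap.symm ▸ hnd)
  have hcomm : ∀ y ∈ l, ∀ z ∈ l, Commute y z := fun y hy z hz =>
    (hf.comm y (hlmem y hy) z (hlmem z hz)).1
      (hqc _ (hmap ▸ List.mem_map_of_mem hy) _ (hmap ▸ List.mem_map_of_mem hz))
  have hlen : l.length = 7 := by simp [hl, hlen6]
  refine ⟨l, hnd', hlen, hlmem, hcomm, ?_⟩
  have h1 : (l.map f).prod = 1 := by rw [hmap, List.prod_cons, hp6, sq hE hG.loc.mem]
  refine (hG.lay.kernel hG.mem (Commute.list_prod_left _ _ fun y hy => (hlmem y hy).2.2.symm)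
    ((hf.list_central hD hE hG.loc.lay.center hlmem).2 h1)).resolve_left
    (noRel7 hG l hnd' hlen (fun y hy => (hlmem y hy).1) hcomm)

theorem self_mem24 {a : G} (ha : a ∈ D) : a ∈ Subgroup.closure (nb D a) := by
  have hD := hG.lay.tt
  obtain ⟨l, -, -, h3, -, h5⟩ := exists_seven hG
  obtain ⟨g, rfl⟩ := hG.lay.one d hG.mem a ha
  have hle : Subgroup.closure (nb D d) ≤
      (Subgroup.closure (nb D (g * d * g⁻¹))).comap (MulAut.conj g).toMonoidHom := by
    rw [Subgroup.closure_le]
    exact fun y hy => Subgroup.subset_closure ((nb_conj hD g d y).2 hy)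
  have h : l.prod ∈ Subgroup.closure (nb D d) := list_prod_mem fun y hy => Subgroup.subset_closure (h3 y hy)
  exact hle (show d ∈ Subgroup.closure (nb D d) from (congrArg (· ∈ Subgroup.closure (nb D d)) h5).mp h)

end Cfsg.Agent.TT95
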