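import Cfsg.Agent.TT95.Cent23
import Cfsg.Agent.TT95.Tower24

/-!
The hypotheses of the centraliser criterion one step up the tower, with the point stabilisers of the local
group generated by neighbours.
-/

set_option autoImplicit false
set_option linter.unusedSectionVars false

namespace Cfsg.Agent.TT95

variable {G K : Type*} [Group G] [Finite G] [Group K] [Finite K] {D : Set G} {E : Set K} {n k l s t : ℕ}
  (hS : StepHyp D E n k l s t) (hcent : ∀ q ∈ E, Subgroup.centralizer ({q} : Set K) = Subgroup.closure (nb E q))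

include hS hcent

/-- An element generated at `w` that centralises `a` is generated at `a`. -/
theorem gen_fixed_mem {a w g : G} (ha : a ∈ D) (hw : w ∈ nb D a) (hg : g ∈ Subgroup.closure (nb D w))
    (hga : Commute g a) : g ∈ Subgroup.closure (nb D a) := by
  have hD := hS.tt
  obtain ⟨f, hf⟩ := hS.iso w hw.1
  have hE := hS.lay.tt
  have haw := mem_nb_comm ha hw
  obtain ⟨q, -, hqx⟩ := hf.act_up hD hE subset_rfl hg
  have hqa : Commute q (f a) := by
    have := hqx a haw
    rw [hga.eq, mul_inv_cancel_right] at this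
    exact mul_inv_eq_iff_eq_mul.1 this.symm
  have hmem : q ∈ Subgroup.centralizer ({f a} : Set _) := Subgroup.mem_centralizer_singleton_iff.2 hqa.eq
  rw [hcent _ (hf.mem haw), ← hf.image_nb haw] at hmem
  obtain ⟨h, hh, hhx⟩ := hf.act_down hD hE Set.inter_subset_left hmem
  have hhw : h ∈ Subgroup.closure (nb D w) := Subgroup.closure_mono Set.inter_subset_left hh
  have hha : h ∈ Subgroup.closure (nb D a) := Subgroup.closure_mono Set.inter_subset_right hh
  set u := h⁻¹ * g with hu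
  have huw : u ∈ Subgroup.closure (nb D w) := mul_mem (inv_mem hhw) hg
  have hfix : ∀ x ∈ nb D w, Commute u x := by
    intro x hx
    have h1 := conj_mem_nb hD hg hx
    have h2 := conj_mem_nb hD hhw hx
    have e := hf.inj h1 h2 ((hqx x hx).trans (hhx x hx).symm)
    refine mul_inv_eq_iff_eq_mul.1 ?_
    rw [hu, show h⁻¹ * g * x * (h⁻¹ * g)⁻¹ = h⁻¹ * (g * x * g⁻¹) * h by group, e]
    group
  have hgu : g = h * u := by rw [hu, mul_inv_cancel_left]
  rw [hgu]
  rcases step_kernel hS hw.1 (commute_closure_nb hD huw).symm hfix with e | e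
  · rw [e, mul_one]; exact hha
  · rw [e]; exact mul_mem hha (Subgroup.subset_closure hw)

/-- The common neighbours of an edge are conjugate under the subgroup they generate. -/
theorem gen_common_trans {a x w w' : G} (ha : a ∈ D) (hx : x ∈ nb D a) (hw : w ∈ common D a x)
    (hw' : w' ∈ common D a x) : ∃ k ∈ Subgroup.closure (common D a x), k * w' * k⁻¹ = w := by
  have hD := hS.tt
  obtain ⟨f, hf⟩ := hS.iso a ha
  have hE := hS.lay.tt
  obtain ⟨n1, n2, n3⟩ := (hf.mem_nb_iff hx hw'.1).2 hw'.2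
  obtain ⟨m1, m2, m3⟩ := (hf.mem_nb_iff hx hw.1).2 hw.2
  obtain ⟨q, qx, qw⟩ := hS.lay.pairs _ _ _ _ (hf.mem hx) n1 (hf.mem hx) m1 n2.symm m2.symm n3 m3
  have hmem : q ∈ Subgroup.centralizer ({f x} : Set _) :=
    Subgroup.mem_centralizer_singleton_iff.2 (mul_inv_eq_iff_eq_mul.1 qx)
  rw [hcent _ (hf.mem hx), ← hf.image_nb hx] at hmem
  obtain ⟨k, hk, hkx⟩ := hf.act_down hD hE Set.inter_subset_left hmem
  exact ⟨k, hk, hf.inj (conj_mem_nb hD (Subgroup.closure_mono Set.inter_subset_left hk) hw'.1) hw.1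
    ((hkx _ hw'.1).trans qw)⟩

theorem gen_swap_mem {a x e w : G} (ha : a ∈ D) (he : e ∈ far D a) (hw : w ∈ common D a x) (hx : x ∈ nb D a)
    (hwe : Commute w e) : swapEl a x e ∈ Subgroup.closure (nb D w) := by
  have ma : a ∈ Subgroup.closure (nb D w) := Subgroup.subset_closure (mem_nb_comm ha hw.1)
  have mx : x ∈ Subgroup.closure (nb D w) := Subgroup.subset_closure (mem_nb_comm hx.1 hw.2)
  have me : e ∈ Subgroup.closure (nb D w) :=
    Subgroup.subset_closure ⟨he.1, fun c => he.2 (c ▸ hw.1.2.2), hwe⟩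
  exact mul_mem (mul_mem (mul_mem ma me) ma) (mul_mem (mul_mem mx me) mx)

theorem gen_swap_coset {a x e e' : G} (ha : a ∈ D) (hx : x ∈ nb D a) (he : Witness D a x e)
    (he' : Witness D a x e') : (swapEl a x e)⁻¹ * swapEl a x e' ∈ Subgroup.closure (nb D a) := by
  have hD := hS.tt
  obtain ⟨hea, hex, w, hw, hwe⟩ := he
  obtain ⟨hea', hex', w', hw', hwe'⟩ := he'
  obtain ⟨k, hk, hkw⟩ := gen_common_trans hS hcent ha hx hw hw'
  have hka : k ∈ Subgroup.closure (nb D a) := Subgroup.closure_mono Set.inter_subset_left hk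
  have hkx : k ∈ Subgroup.closure (nb D x) := Subgroup.closure_mono Set.inter_subset_right hk
  have fa := conj_fix_of_mem hD hka
  have fx := conj_fix_of_mem hD hkx
  have hflip : ∀ {u v : G}, v ∈ far D u → k * v * k⁻¹ ∈ far D (k * u * k⁻¹) := fun {u v} h =>
    ⟨conj_mem hD k h.1, fun c => h.2 ((Commute.conj_iff k).1 c)⟩
  have g1 : k * e' * k⁻¹ ∈ far D a := by have := hflip hea'; rwa [fa] at this
  have g2 : k * e' * k⁻¹ ∈ far D x := by have := hflip hex'; rwa [fx] at this
  have g3 : Commute w (k * e' * k⁻¹) := hkw ▸ (Commute.conj_iff k).2 hwe'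
  have es : swapEl a x (k * e' * k⁻¹) = k * swapEl a x e' * k⁻¹ := by
    simp only [swapEl]
    conv_lhs => rw [show a = k * a * k⁻¹ from fa.symm, show x = k * x * k⁻¹ from fx.symm]
    group
  have sym : ∀ {u v : G}, u ∈ far D v → ¬ Commute u v := fun h c => h.2 c.symm
  have f1 := swap_conj_fst hD ha hx.1 hea.1 hx.2.2 hx.2.1.symm (sym hea) (sym hex)
  have f2 := swap_conj_fst hD ha hx.1 g1.1 hx.2.2 hx.2.1.symm (sym g1) (sym g2)
  have f3 := swap_conj_fst hD ha hx.1 hea'.1 hx.2.2 hx.2.1.symm (sym hea') (sym hex')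
  have f4 := swap_conj_snd hD ha hx.1 hea'.1 hx.2.2 hx.2.1.symm (sym hea') (sym hex')
  have hi := swap_inv hD ha hx.1 hea'.1 hx.2.2 hx.2.1.symm (sym hea') (sym hex')
  have h1 : (swapEl a x e)⁻¹ * swapEl a x (k * e' * k⁻¹) ∈ Subgroup.closure (nb D a) := by
    refine gen_fixed_mem hS hcent ha hw.1
      (mul_mem (inv_mem (gen_swap_mem hS hcent ha hea hw hx hwe)) (gen_swap_mem hS hcent ha g1 hw hx g3)) ?_
    refine mul_inv_eq_iff_eq_mul.1 ?_
    set s := swapEl a x e
    set s' := swapEl a x (k * e' * k⁻¹)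
    rw [show s⁻¹ * s' * a * (s⁻¹ * s')⁻¹ = s⁻¹ * (s' * a * s'⁻¹) * s by group, f2]
    conv_lhs => rw [← f1]
    group
  set s' := swapEl a x e' with hs'
  have hmap : ∀ y ∈ common D a x, s' * y * s'⁻¹ ∈ common D a x := fun y hy => by
    refine ⟨?_, ?_⟩
    · have := (nb_conj hD s' x y).2 hy.2; rwa [f4] at this
    · have := (nb_conj hD s' a y).2 hy.1; rwa [f3] at this
  have hle : Subgroup.closure (common D a x) ≤ (Subgroup.closure (nb D a)).comap (MulAut.conj s').toMonoidHom := by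
    rw [Subgroup.closure_le]
    exact fun y hy => Subgroup.subset_closure (hmap y hy).1
  have h2 : s' * k⁻¹ * s'⁻¹ ∈ Subgroup.closure (nb D a) := hle (inv_mem hk)
  have e2 : (swapEl a x e)⁻¹ * s' = (swapEl a x e)⁻¹ * swapEl a x (k * e' * k⁻¹) * (k * (s' * k⁻¹ * s'⁻¹)⁻¹⁻¹) := by
    rw [es, inv_inv]
    have hi' : s'⁻¹ = s' := hi
    have hs2 : s' * s' = 1 := by conv_lhs => arg 1; rw [← hi']
                                 exact inv_mul_cancel s'
    calc (swapEl a x e)⁻¹ * s' = (swapEl a x e)⁻¹ * (k * (s' * s') * k⁻¹) * s'⁻¹ := by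
          rw [hs2, mul_one, mul_inv_cancel, mul_one, hi']
      _ = _ := by group
  rw [e2, inv_inv]
  exact mul_mem h1 (mul_mem hka h2)

open scoped Classical in
/-- Neighbours of a common neighbour avoiding both. -/
theorem gen_choice_set {a x y : G} (hfar : ∀ u ∈ D, ∀ v ∈ far D u, (common D u v).ncard ≤ k) (hbig : 2 * (k + 1) < n - 1 - k)
    (ha : a ∈ D) (hx : x ∈ nb D a) (hy : y ∈ far D a) :
    ∃ f, Witness D a x f ∧ f * y * f ∈ far D a := by
  have hD := hS.tt
  obtain ⟨w, hw⟩ : (common D a x).Nonempty :=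
    Set.nonempty_of_ncard_ne_zero (by rw [step_edge hS ha hx]; have := hS.hlk; omega)
  have haw := mem_nb_comm ha hw.1
  have hxw := mem_nb_comm hx.1 hw.2
  set A := nb D w ∩ far D a with hA
  have hAc : A.ncard = n - 1 - k := by
    rw [hA, step_locfar_card hS hw.1.1 haw]
  set B1 := insert x (common D w x)
  set B2 := insert y (common D w y)
  have hB1 : B1.ncard ≤ k + 1 := (Set.ncard_insert_le _ _).trans (by rw [step_edge hS hw.1.1 hxw])
  have hwy : w ≠ y := fun e => hy.2 (e ▸ hw.1.2.2)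
  have hB2 : B2.ncard ≤ k + 1 := by
    refine (Set.ncard_insert_le _ _).trans ?_
    by_cases hc : Commute w y
    · rw [step_edge hS hw.1.1 ⟨hy.1, hwy.symm, hc⟩]
    · have := hfar w hw.1.1 y ⟨hy.1, hc⟩; omega
  obtain ⟨u, ⟨huw, hua⟩, hu⟩ : ∃ u ∈ A, u ∉ B1 ∪ B2 := by
    by_contra hc
    push Not at hc
    have := (Set.ncard_le_ncard (fun u hu => hc u hu : A ⊆ B1 ∪ B2) (Set.toFinite _)).trans (Set.ncard_union_le _ _)
    omega
  simp only [B1, B2, Set.mem_union, Set.mem_insert_iff, not_or] at hu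
  obtain ⟨⟨nx, cx⟩, ny, cy⟩ := hu
  have hux : ¬ Commute x u := fun c => cx ⟨huw, hua.1, nx, c⟩
  have huy : ¬ Commute y u := fun c => cy ⟨huw, hua.1, ny, c⟩
  have sa := sq hD ha
  have eu : a * (a * u * a) * a = u := by
    rw [show a * (a * u * a) * a = (a * a) * u * (a * a) by group, sa, one_mul, mul_one]
  have fa : a * u * a ∈ far D a := by
    refine ⟨conj_mem' hD hua.1 ha, fun c => hua.2 ?_⟩
    have := ((Commute.refl a).mul_right c).mul_right (Commute.refl a)
    rwa [eu] at this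
  have fx : a * u * a ∈ far D x := by
    refine ⟨fa.1, fun c => hux ?_⟩
    have := (hx.2.2.symm.mul_right c).mul_right hx.2.2.symm
    rwa [eu] at this
  refine ⟨a * u * a, ⟨fa, fx, w, hw, ((nb_closed hD w).2 a haw u huw).2.2⟩, ?_⟩
  set f := a * u * a with hf
  refine ⟨conj_mem' hD hy.1 fa.1, fun c => huy ?_⟩
  have h1 : Commute (f * a * f) y := by
    have := (Commute.conj_iff f).2 c
    rwa [inv_eq hD fa.1, show f * (f * y * f) * f = (f * f) * y * (f * f) by group, sq hD fa.1, one_mul,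
      mul_one] at this
  rw [← braid hD ha fa.1 fa.2, eu] at h1
  exact h1.symm

end Cfsg.Agent.TT95
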