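import Cfsg.Agent.TT95.Auto
import Cfsg.Agent.TT95.StepTrans
import Cfsg.Agent.TT95.LayPrim

/-!
Type M(24): the centraliser of a transposition is generated by its neighbours; orders and width.
-/

set_option autoImplicit false
set_option linter.unusedSectionVars false

namespace Cfsg.Agent.TT95

variable {G : Type*} [Group G] [Finite G] {D : Set G} {d : G} {q : ModCenter (Subgroup.closure (nb D d))}
  (hG : Cfg24 D d q)

include hG

theorem gen_loc24 : Gen (locSet D d) := ⟨loc_closure hG.lay.tt d⟩

theorem loc_cent24 : ∀ p ∈ locSet D d, Subgroup.centralizer ({p} : Set (ModCenter (Subgroup.closure (nb D d)))) =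
    Subgroup.closure (nb (locSet D d) p) := fun p hp => by
  haveI := gen_loc24 hG
  haveI := loc_finite hG.lay.tt d
  exact centralizer23 hG.loc hp

theorem cube_mem24 {g : G} (hg : Commute g d) (h3 : g * g * g = 1) : g ∈ Subgroup.closure (nb D d) := by
  have hD := hG.lay.tt
  haveI := gen_loc24 hG
  haveI := loc_finite hD d
  set φ : MulAut G := MulAut.conj g with hφdef
  have hφ : ∀ x, φ x ∈ nb D d ↔ x ∈ nb D d := fun x => by
    show g * x * g⁻¹ ∈ nb D d ↔ _
    conv_lhs => rw [← show g * d * g⁻¹ = d by rw [hg.eq, mul_inv_cancel_right]]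
    exact nb_conj hD g d x
  obtain ⟨α, hα, hαv⟩ := exists_modAut hD φ hφ
  have hstep : ∀ h : Subgroup.closure (nb D d), φ h ∈ Subgroup.closure (nb D d) := fun h => by
    have hle : Subgroup.closure (nb D d) ≤ (Subgroup.closure (nb D d)).comap φ.toMonoidHom := by
      rw [Subgroup.closure_le]
      exact fun x hx => Subgroup.subset_closure ((hφ x).2 hx)
    exact hle h.2
  have hα3 : α * α * α = 1 := by
    refine MulEquiv.ext fun p => ?_
    obtain ⟨h, rfl⟩ := QuotientGroup.mk_surjective p
    show α (α (α (QuotientGroup.mk h))) = QuotientGroup.mk h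
    rw [hαv h (hstep h), hαv ⟨_, hstep h⟩ (hstep ⟨_, hstep h⟩), hαv ⟨_, hstep ⟨_, hstep h⟩⟩ (hstep ⟨_, hstep ⟨_, hstep h⟩⟩)]
    refine congrArg QuotientGroup.mk (Subtype.ext ?_)
    show g * (g * (g * (h : G) * g⁻¹) * g⁻¹) * g⁻¹ = h
    rw [show g * (g * (g * (h : G) * g⁻¹) * g⁻¹) * g⁻¹ = g * g * g * h * (g * g * g)⁻¹ by group, h3]
    group
  obtain ⟨h, hh, hhx⟩ := eq_conj_on_nb hD hG.lay.one hG.lay.tf hG.mem hφ hαv (cube_inner hG.loc hα hα3)
  have hfix : ∀ x ∈ nb D d, Commute (h⁻¹ * g) x := fun x hx => by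
    refine mul_inv_eq_iff_eq_mul.1 ?_
    rw [show h⁻¹ * g * x * (h⁻¹ * g)⁻¹ = h⁻¹ * (g * x * g⁻¹) * h by group, show g * x * g⁻¹ = h * x * h⁻¹ from hhx x hx]
    group
  have hgu : g = h * (h⁻¹ * g) := (mul_inv_cancel_left h g).symm
  rw [hgu]
  rcases hG.lay.kernel hG.mem ((commute_closure_nb hD hh).symm.inv_left.mul_left hg) hfix with e | e
  · rw [e, mul_one]; exact hh
  · rw [e]; exact mul_mem hh (self_mem24 hG hG.mem)

theorem transHyp24 : TransHyp D d := by
  haveI := gen_loc24 hG
  haveI := loc_finite hG.lay.tt d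
  have hbig : 2 * (3510 + 1) < 31671 - 1 - 3510 := by norm_num
  have hfar : ∀ u ∈ D, ∀ v ∈ far D u, (common D u v).ncard ≤ 3510 := fun u hu v hv => by
    rw [hG.lay.card_far u hu v hv]; norm_num
  exact {
    tt := hG.lay.tt
    mem := hG.mem
    self := self_mem24 hG hG.mem
    cube := fun _ hg h3 => cube_mem24 hG hg h3
    wit := fun x hx => by
      obtain ⟨y, hy⟩ : (far D d).Nonempty := by
        refine Set.nonempty_of_ncard_ne_zero ?_
        have := hG.lay.card_split hG.mem (Set.toFinite _)
        omega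
      obtain ⟨f, hf, -⟩ := gen_choice_set hG.step (loc_cent24 hG) hfar hbig hG.mem hx hy
      exact ⟨f, hf⟩
    swap := fun x hx _ _ he he' => gen_swap_coset hG.step (loc_cent24 hG) hG.mem hx he he'
    choice := fun x hx y hy => gen_choice_set hG.step (loc_cent24 hG) hfar hbig hG.mem hx hy }

/-- The centraliser of a transposition is generated by its neighbours. -/
theorem centralizer24 [Gen D] {a : G} (ha : a ∈ D) :
    Subgroup.centralizer ({a} : Set G) = Subgroup.closure (nb D a) := by
  have hD := hG.lay.tt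
  refine le_antisymm (fun u hu => ?_) fun u hu => ?_
  · obtain ⟨g, hg⟩ := hG.lay.one d hG.mem a ha
    have h' : g⁻¹ * u * g ∈ Subgroup.centralizer ({d} : Set G) := by
      rw [Subgroup.mem_centralizer_singleton_iff]
      have hu' : u * a = a * u := Subgroup.mem_centralizer_singleton_iff.1 hu
      rw [← hg] at hu'
      calc g⁻¹ * u * g * d = g⁻¹ * (u * (g * d * g⁻¹)) * g := by group
        _ = d * (g⁻¹ * u * g) := by rw [hu']; group
    rw [(transHyp24 hG).centralizer] at h'
    have hle : Subgroup.closure (nb D d) ≤ (Subgroup.closure (nb D a)).comap (MulAut.conj g).toMonoidHom := by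
      rw [Subgroup.closure_le]
      intro y hy
      exact Subgroup.subset_closure (hg ▸ (nb_conj hD g d y).2 hy)
    simpa [mul_assoc] using hle h'
  · rw [Subgroup.mem_centralizer_singleton_iff]
    exact (commute_closure_nb hD hu).eq.symm

theorem center_loc24 {a : G} (ha : a ∈ D) :
    Subgroup.center (Subgroup.closure (nb D a)) =
      (Subgroup.zpowers a).subgroupOf (Subgroup.closure (nb D a)) := by
  have hD := hG.lay.tt
  ext z
  rw [Subgroup.mem_subgroupOf, Subgroup.mem_center_iff]
  constructor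
  · intro h
    rcases hG.lay.kernel ha (commute_closure_nb hD z.2).symm fun b hb =>
      (congrArg Subtype.val (h ⟨b, Subgroup.subset_closure hb⟩)).symm with e | e
    · rw [e]; exact one_mem _
    · rw [e]; exact Subgroup.mem_zpowers a
  · intro h w
    obtain ⟨n, hn⟩ := Subgroup.mem_zpowers_iff.1 h
    refine Subtype.ext ?_
    show (w : G) * z = z * w
    rw [← hn]
    exact ((commute_closure_nb hD w.2).zpow_left n).eq.symm

theorem card_centralizer24 [Gen D] :
    Nat.card (Subgroup.centralizer ({d} : Set G)) = 2 * 4089470473293004800 := by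
  haveI := gen_loc24 hG
  haveI := loc_finite hG.lay.tt d
  rw [centralizer24 hG hG.mem, Subgroup.card_eq_card_quotient_mul_card_subgroup
      (Subgroup.center (Subgroup.closure (nb D d))), card_group23 hG.loc, center_loc24 hG hG.mem,
    Nat.card_congr (Subgroup.subgroupOfEquivOfLe ((Subgroup.zpowers_le).2 (self_mem24 hG hG.mem))).toEquiv,
    Nat.card_zpowers, hG.lay.tt.1.1 d hG.mem]

theorem card_group24 [Gen D] : Nat.card G = 306936 * (2 * 4089470473293004800) := by
  have hr : Set.range (fun g : G => g * d * g⁻¹) = D := by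
    ext x
    exact ⟨fun ⟨g, hg⟩ => hg ▸ conj_mem hG.lay.tt g hG.mem, fun hx => hG.lay.one d hG.mem x hx⟩
  rw [card_eq_mul_of_fibres (fun g : G => g * d * g⁻¹) (Subgroup.centralizer ({d} : Set G))
    (fun g g' => conj_eq_conj_iff), hr, hG.lay.card_D, card_centralizer24 hG]

theorem width24 : Cfsg.commutingWidth D = 24 := by
  haveI := gen_loc24 hG
  haveI := loc_finite hG.lay.tt d
  rw [width_succ hG.lay.tt hG.mem hG.step.iso, width23 hG.loc]

end Cfsg.Agent.TT95
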