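import Cfsg.Agent.TT95.Octad

/-!
Type M(24): a product of commuting transpositions is one of at most four with the same parity.
-/

set_option autoImplicit false
set_option linter.unusedSectionVars false

namespace Cfsg.Agent.TT95

variable {G : Type*} [Group G] [Finite G] {D : Set G} {d : G} {q : ModCenter (Subgroup.closure (nb D d))}
  (hG : Cfg24 D d q)

include hG

theorem reduce24 (n : ℕ) : ∀ l : List G, l.length ≤ n → (∀ a ∈ l, a ∈ D) →
    (∀ a ∈ l, ∀ b ∈ l, Commute a b) → ∃ m : List G, m.Nodup ∧ m.length ≤ 4 ∧ m.length % 2 = l.length % 2 ∧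
      (∀ a ∈ m, a ∈ D) ∧ (∀ a ∈ m, ∀ b ∈ m, Commute a b) ∧
      (∀ z ∈ D, (∀ x ∈ l, Commute z x) → ∀ u ∈ m, Commute z u) ∧ m.prod = l.prod := by
  classical
  have hD := hG.lay.tt
  induction n with
  | zero =>
    intro l hl _ _
    obtain rfl := List.length_eq_zero_iff.1 (Nat.le_zero.1 hl)
    exact ⟨[], List.nodup_nil, by simp, rfl, by simp, by simp, by simp, rfl⟩
  | succ n ih =>
    intro l hl hmem hcm
    by_cases hnd : l.Nodup
    · by_cases h4 : l.length ≤ 4
      · exact ⟨l, hnd, h4, rfl, hmem, hcm, fun z _ h => h, rfl⟩
      match l, h4 with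
      | [], h => simp at h
      | [_], h => simp at h
      | [_, _], h => simp at h
      | [_, _, _], h => simp at h
      | [_, _, _, _], h => simp at h
      | a :: b :: c :: e :: h :: rest, _ =>
        set P := [a, b, c, e, h] with hP
        have hsub : ∀ x ∈ P, x ∈ a :: b :: c :: e :: h :: rest := fun x hx => by
          simp only [hP, List.mem_cons, List.not_mem_nil, or_false] at hx ⊢; tauto
        have hrest : ∀ x ∈ rest, x ∈ a :: b :: c :: e :: h :: rest := fun x hx => by simp [hx]
        have hPnd : P.Nodup := hnd.sublist (by simp [hP, List.cons_sublist_cons])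
        obtain ⟨x, y, z, hndr, -, hrD, hrc, hrp⟩ := octad_through hG hPnd (fun u hu => hmem u (hsub u hu))
          (fun u hu v hv => hcm u (hsub u hu) v (hsub v hv))
        have hx := hrD x (by simp)
        have hy := hrD y (by simp)
        have hz := hrD z (by simp)
        have cxy := hrc x (by simp) y (by simp)
        have cxz := hrc x (by simp) z (by simp)
        have cyz := hrc y (by simp) z (by simp)
        simp only [List.nodup_cons, List.mem_cons, List.not_mem_nil, or_false, not_or] at hndr
        obtain ⟨-, -, -, -, -, ⟨nxy, nxz⟩, nyz, -⟩ := hndr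
        have hinv : (x * y * z) * (x * y * z) = 1 := by
          rw [← pow_two, (cxz.mul_left cyz).mul_pow, cxy.mul_pow, pow_two, pow_two, pow_two, sq hD hx, sq hD hy,
            sq hD hz, one_mul, one_mul]
        have hPprod : P.prod = x * y * z := by
          have e1 : P.prod * (x * y * z) = 1 := by
            rw [← hrp]; simp [hP, mul_assoc]
          rw [eq_inv_of_mul_eq_one_left e1, inv_eq_of_mul_eq_one_right hinv]
        have hperp : ∀ w ∈ D, (∀ u ∈ P, Commute w u) → Commute w x ∧ Commute w y ∧ Commute w z := by
          intro w hw hwP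
          refine (ThreeTransp.centralize_three hD.1 hx hy hz hw nxy nxz nyz cxy cxz cyz).1 ?_
          rw [← hPprod]
          exact Commute.list_prod_right _ _ hwP
        have hxr : ∀ u ∈ [x, y, z], ∀ r ∈ rest, Commute r u := by
          intro u hu r hr
          obtain ⟨k1, k2, k3⟩ := hperp r (hmem r (hrest r hr)) fun v hv => hcm r (hrest r hr) v (hsub v hv)
          simp only [List.mem_cons, List.not_mem_nil, or_false] at hu
          rcases hu with rfl | rfl | rfl <;> assumption
        have hD2 : ∀ u ∈ [x, y, z] ++ rest, u ∈ D := by
          intro u hu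
          rcases List.mem_append.1 hu with h' | h'
          · simp only [List.mem_cons, List.not_mem_nil, or_false] at h'
            rcases h' with rfl | rfl | rfl <;> assumption
          · exact hmem u (hrest u h')
        have hC2 : ∀ u ∈ [x, y, z] ++ rest, ∀ v ∈ [x, y, z] ++ rest, Commute u v := by
          intro u hu v hv
          rcases List.mem_append.1 hu with h' | h' <;> rcases List.mem_append.1 hv with h'' | h''
          · simp only [List.mem_cons, List.not_mem_nil, or_false] at h' h''
            rcases h' with rfl | rfl | rfl <;> rcases h'' with rfl | rfl | rfl <;>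
              first | exact Commute.refl _ | assumption | (apply Commute.symm; assumption)
          · exact (hxr u h' v h'').symm
          · exact hxr v h'' u h'
          · exact hcm u (hrest u h') v (hrest v h'')
        obtain ⟨m, m1, m2, m3, m4, m5, m6, m7⟩ := ih ([x, y, z] ++ rest) (by simp at hl ⊢; omega) hD2 hC2
        refine ⟨m, m1, m2, ?_, m4, m5, fun w hw hwl => m6 w hw ?_, ?_⟩
        · rw [m3]; simp; omega
        · intro u hu
          rcases List.mem_append.1 hu with h' | h'
          · obtain ⟨k1, k2, k3⟩ := hperp w hw fun v hv => hwl v (hsub v hv)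
            simp only [List.mem_cons, List.not_mem_nil, or_false] at h'
            rcases h' with rfl | rfl | rfl <;> assumption
          · exact hwl u (hrest u h')
        · rw [m7, show a :: b :: c :: e :: h :: rest = P ++ rest from rfl, List.prod_append, List.prod_append,
            hPprod]
          simp [mul_assoc]
    · obtain ⟨a, ha⟩ : ∃ a, 2 ≤ l.count a := by
        obtain ⟨a, ha⟩ : ∃ a, ¬ l.count a ≤ 1 := by simpa [List.nodup_iff_count_le_one] using hnd
        exact ⟨a, by omega⟩
      have ha1 : a ∈ l := List.count_pos_iff.1 (by omega)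
      have ha2 : a ∈ l.erase a := List.count_pos_iff.1 (by rw [List.count_erase_self]; omega)
      have hperm : l.Perm (a :: a :: (l.erase a).erase a) :=
        (List.perm_cons_erase ha1).trans ((List.perm_cons_erase ha2).cons a)
      have hin : ∀ u ∈ (l.erase a).erase a, u ∈ l := fun u hu => List.mem_of_mem_erase (List.mem_of_mem_erase hu)
      have hlen := hperm.length_eq
      simp only [List.length_cons] at hlen
      obtain ⟨m, m1, m2, m3, m4, m5, m6, m7⟩ := ih ((l.erase a).erase a) (by omega) (fun u hu => hmem u (hin u hu))
        (fun u hu v hv => hcm u (hin u hu) v (hin v hv))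
      refine ⟨m, m1, m2, by omega, m4, m5, fun w hw hwl => m6 w hw fun u hu => hwl u (hin u hu), ?_⟩
      have hpw : l.Pairwise Commute := List.pairwise_of_forall_mem_list fun u hu v hv => hcm u hu v hv
      rw [m7, hperm.prod_eq' hpw, List.prod_cons, List.prod_cons, ← mul_assoc, sq hD (hmem a ha1), one_mul]

end Cfsg.Agent.TT95
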