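import Cfsg.Agent.TT95.Count24
import Cfsg.Agent.TT95.Reduce24
import Mathlib.GroupTheory.Transfer
import Mathlib.GroupTheory.Perm.Sign

/-!
Type M(24): the group has a homomorphism to the units of the integers sending every transposition to -1,
obtained by transfer from the stabiliser of an octad.
-/

set_option autoImplicit false
set_option linter.unusedSectionVars false

namespace Cfsg.Agent.TT95

variable {G : Type*} [Group G] {D : Set G}

theorem comp_conj (hD : TTSet D) {a c g : G} (ha : g * a * g⁻¹ = a) (hc : g * c * g⁻¹ = c) {x : G}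
    : (fun v => g * v * g⁻¹) '' comp (common D a c) x = comp (common D a c) (g * x * g⁻¹) := by
  have hmap : ∀ (k : G), k * a * k⁻¹ = a → k * c * k⁻¹ = c → ∀ v ∈ common D a c, k * v * k⁻¹ ∈ common D a c :=
    fun k e e' v hv => ⟨e ▸ (nb_conj hD k a v).2 hv.1, e' ▸ (nb_conj hD k c v).2 hv.2⟩
  have ha' : g⁻¹ * a * g⁻¹⁻¹ = a := by conv_lhs => rw [← ha]
                                       group
  have hc' : g⁻¹ * c * g⁻¹⁻¹ = c := by conv_lhs => rw [← hc]
                                       group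
  ext v
  constructor
  · rintro ⟨u, hu, rfl⟩
    exact ⟨hmap g ha hc u hu.1, Path.conj hD g (hmap g ha hc) hu.2⟩
  · intro hv
    refine ⟨g⁻¹ * v * g⁻¹⁻¹, ⟨hmap _ ha' hc' v hv.1, ?_⟩, by group⟩
    have := Path.conj hD g⁻¹ (hmap _ ha' hc') hv.2
    rwa [show g⁻¹ * (g * x * g⁻¹) * g⁻¹⁻¹ = x by group] at this

/-- The action of the centraliser of a pair on the components of its common neighbours. -/
theorem exists_compHom [Finite G] (hD : TTSet D) (a c : G) :
    ∃ ψ : Subgroup.centralizer ({a, c} : Set G) →* Equiv.Perm (comps (common D a c)),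
      ∀ g x (hx : x ∈ common D a c),
        (ψ g ⟨comp (common D a c) x, x, hx, rfl⟩).1 = comp (common D a c) ((g : G) * x * (g : G)⁻¹) := by
  have hfix : ∀ g : Subgroup.centralizer ({a, c} : Set G),
      (g : G) * a * (g : G)⁻¹ = a ∧ (g : G) * c * (g : G)⁻¹ = c := fun g =>
    ⟨mul_inv_eq_iff_eq_mul.2 (Subgroup.mem_centralizer_iff.1 g.2 a (Or.inl rfl)).symm,
      mul_inv_eq_iff_eq_mul.2 (Subgroup.mem_centralizer_iff.1 g.2 c (Or.inr rfl)).symm⟩
  have hin : ∀ (g : Subgroup.centralizer ({a, c} : Set G)) (B : comps (common D a c)),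
      (fun v => (g : G) * v * (g : G)⁻¹) '' B.1 ∈ comps (common D a c) := by
    rintro g ⟨_, x, hx, rfl⟩
    have h1 := (nb_conj hD (g : G) a x).2 hx.1
    have h2 := (nb_conj hD (g : G) c x).2 hx.2
    rw [(hfix g).1] at h1
    rw [(hfix g).2] at h2
    exact ⟨(g : G) * x * (g : G)⁻¹, ⟨h1, h2⟩, (comp_conj hD (hfix g).1 (hfix g).2).symm⟩
  letI : MulAction (Subgroup.centralizer ({a, c} : Set G)) (comps (common D a c)) :=
    { smul := fun g B => ⟨_, hin g B⟩
      one_smul := fun B => Subtype.ext (by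
        show (fun v => ((1 : Subgroup.centralizer ({a, c} : Set G)) : G) * v *
          ((1 : Subgroup.centralizer ({a, c} : Set G)) : G)⁻¹) '' B.1 = B.1
        simp)
      mul_smul := fun g h B => Subtype.ext (by
        show (fun v => ((g * h : Subgroup.centralizer ({a, c} : Set G)) : G) * v * _⁻¹) '' B.1 =
          (fun v => (g : G) * v * (g : G)⁻¹) '' ((fun v => (h : G) * v * (h : G)⁻¹) '' B.1)
        rw [Set.image_image]
        refine Set.image_congr fun v _ => ?_
        simp [mul_assoc]) }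
  exact ⟨MulAction.toPermHom _ _, fun g x hx => comp_conj hD (hfix g).1 (hfix g).2⟩

variable [Finite G] {d : G} {q : ModCenter (Subgroup.closure (nb D d))} (hG : Cfg24 D d q)

include hG

/-- The parity on the centraliser of a noncommuting pair, read from the three components. -/
theorem exists_chi {a c : G} (ha : a ∈ D) (hc : c ∈ far D a) :
    ∃ χ : Subgroup.centralizer ({a, c} : Set G) →* ℤˣ,
      ∀ g : Subgroup.centralizer ({a, c} : Set G), (g : G) ∈ common D a c → χ g = -1 := by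
  classical
  have hD := hG.lay.tt
  haveI := Fintype.ofFinite (comps (common D a c))
  obtain ⟨ψ, hψ⟩ := exists_compHom hD a c
  refine ⟨Equiv.Perm.sign.comp ψ, fun g hg => ?_⟩
  have hS := common_closed hD a c
  have h3 := hG.three a ha c hc
  have hcard : Fintype.card (comps (common D a c)) = 3 := by
    rw [← Nat.card_eq_fintype_card]; exact h3
  set B : comps (common D a c) := ⟨comp (common D a c) g, g, hg, rfl⟩
  have hBfix : ψ g B = B := Subtype.ext (by
    show (ψ g ⟨comp (common D a c) g, g, hg, rfl⟩).1 = comp (common D a c) g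
    rw [hψ g g hg, mul_inv_cancel_right])
  obtain ⟨⟨_, z, hz, rfl⟩, hzB⟩ : ∃ B' : comps (common D a c), B' ≠ B :=
    Fintype.exists_ne_of_one_lt_card (by omega) B
  have hne : ψ g ≠ 1 := by
    intro e
    have h1 := congrArg Subtype.val (Equiv.congr_fun e ⟨comp (common D a c) z, z, hz, rfl⟩)
    rw [hψ g z hz, inv_eq hD (hS.1 hg)] at h1
    have hn : ¬ Path (common D a c) g z := fun hp => hzB (Subtype.ext ((comp_eq_iff hz).2 hp).symm)
    exact not_path_conj hD hS hg hz hn ((comp_eq_iff (hS.2 _ hg _ hz)).1 h1.symm)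
  have hsup : (ψ g).support.card = 2 := by
    refine le_antisymm ?_ (Nat.succ_le_of_lt (Nat.lt_of_not_le fun h => hne (Equiv.Perm.card_support_le_one.1 h)))
    have hsub : (ψ g).support ⊆ Finset.univ.erase B := fun u hu =>
      Finset.mem_erase.2 ⟨fun e => Equiv.Perm.mem_support.1 hu (e ▸ hBfix), Finset.mem_univ _⟩
    refine (Finset.card_le_card hsub).trans ?_
    rw [Finset.card_erase_of_mem (Finset.mem_univ _), Finset.card_univ, hcard]
  exact (Equiv.Perm.card_support_eq_two.1 hsup).sign_eq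

section Oct

variable [DecidableEq G] {O : Finset G} (hO : IsOct D O)

include hO

theorem X_closed {x x' : G} (hx : x ∈ (perp D (↑O : Set G))) (hx' : x' ∈ (perp D (↑O : Set G))) : x * x' * x ∈ (perp D (↑O : Set G)) := by
  have hD := hG.lay.tt
  have hc : ∀ o ∈ O, Commute o (x * x' * x) := fun o ho =>
    ((hx.2.2 o ho).mul_right (hx'.2.2 o ho)).mul_right (hx.2.2 o ho)
  refine ⟨conj_mem' hD hx'.1 hx.1, fun h => hx'.2.1 ?_, hc⟩
  have h' : x * (x * x' * x) * x = x' := by
    rw [show x * (x * x' * x) * x = (x * x) * x' * (x * x) by group, sq hD hx.1, one_mul, mul_one]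
  rw [← (hx.2.2 _ h).eq, mul_assoc, sq hD hx.1, mul_one] at h'
  exact h' ▸ h

theorem X_third {x x' : G} (hx : x ∈ (perp D (↑O : Set G))) (hx' : x' ∈ (perp D (↑O : Set G))) (h : ¬ Commute x x') :
    ¬ Commute x (x * x' * x) ∧ ¬ Commute x' (x * x' * x) := by
  have hD := hG.lay.tt
  have h1 : ∀ {u v : G}, u ∈ D → ¬ Commute u v → ¬ Commute u (u * v * u) := fun {u v} hu hn hc => hn (by
    have := ((Commute.refl u).mul_right hc).mul_right (Commute.refl u)
    rwa [show u * (u * v * u) * u = (u * u) * v * (u * u) by group, sq hD hu, one_mul, mul_one] at this)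
  exact ⟨h1 hx.1 h, by rw [braid hD hx.1 hx'.1 h]; exact h1 hx'.1 fun e => h e.symm⟩

/-- Two different classes avoided leave the third. -/
theorem X_same {x x' u v : G} (hx : x ∈ (perp D (↑O : Set G))) (hx' : x' ∈ (perp D (↑O : Set G))) (hu : u ∈ (perp D (↑O : Set G))) (hv : v ∈ (perp D (↑O : Set G))) (h : ¬ Commute x x')
    (u1 : ¬ Commute u x) (u2 : ¬ Commute u x') (v1 : ¬ Commute v x) (v2 : ¬ Commute v x') : Commute u v := by
  obtain ⟨ht, hfour, -⟩ := oct_perp hG hO
  rcases hfour x hx x' hx' u hu v hv h (fun e => u1 e.symm) (fun e => u2 e.symm) with e | e | e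
  · exact absurd e v1
  · exact absurd e v2
  · exact e.symm

/-- Conjugation by one class maps another onto the third. -/
theorem X_conj_class {x x' u : G} (hx : x ∈ (perp D (↑O : Set G))) (hx' : x' ∈ (perp D (↑O : Set G))) (hu : u ∈ (perp D (↑O : Set G))) (h : ¬ Commute x x')
    (hux : Commute u x) : ¬ Commute x (u * x' * u) ∧ ¬ Commute x' (u * x' * u) ∧ ¬ Commute u x' := by
  obtain ⟨ht, -, -⟩ := oct_perp hG hO
  have hux' : ¬ Commute u x' := fun e => h (ht x hx u hu x' hx' hux.symm e)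
  obtain ⟨k1, k2⟩ := X_third hG hO hu hx' hux'
  exact ⟨fun e => k1 (ht u hu x hx _ (X_closed hG hO hu hx') hux e), k2, hux'⟩

/-- The class of `y` paired. -/
def Tcls (D : Set G) (O : Finset G) (y : G) : Subgroup G :=
  Subgroup.closure {g | ∃ u ∈ perp D (↑O : Set G), ∃ v ∈ perp D (↑O : Set G),
    Commute u y ∧ Commute v y ∧ g = u * v}

theorem Tcls_list {y t : G} (ht : t ∈ Tcls D O y) : ∃ l : List G, Even l.length ∧
    (∀ u ∈ l, u ∈ (perp D (↑O : Set G)) ∧ Commute u y) ∧ l.prod = t := by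
  induction ht using Subgroup.closure_induction'' with
  | mem g hg =>
    obtain ⟨u, hu, v, hv, h1, h2, rfl⟩ := hg
    exact ⟨[u, v], ⟨1, rfl⟩, by simp [hu, hv, h1, h2], by simp⟩
  | inv_mem g hg =>
    obtain ⟨u, hu, v, hv, h1, h2, rfl⟩ := hg
    exact ⟨[v, u], ⟨1, rfl⟩, by simp [hu, hv, h1, h2],
      by simp [inv_eq hG.lay.tt hu.1, inv_eq hG.lay.tt hv.1]⟩
  | one => exact ⟨[], ⟨0, rfl⟩, by simp, rfl⟩
  | mul p r _ _ hp hr =>
    obtain ⟨l, h1, h2, h3⟩ := hp
    obtain ⟨l', h1', h2', h3'⟩ := hr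
    refine ⟨l ++ l', by rw [List.length_append]; exact h1.add h1', fun u hu => ?_,
      by rw [List.prod_append, h3, h3']⟩
    exact (List.mem_append.1 hu).elim (h2 u) (h2' u)

theorem Tcls_fix {y t : G} (hy : y ∈ (perp D (↑O : Set G))) (ht : t ∈ Tcls D O y) {u : G} (hu : u ∈ (perp D (↑O : Set G))) (huy : Commute u y) :
    Commute t u := by
  obtain ⟨htr, -, -⟩ := oct_perp hG hO
  obtain ⟨l, -, h2, rfl⟩ := Tcls_list hG hO ht
  exact Commute.list_prod_left _ _ fun v hv => htr v (h2 v hv).1 y hy u hu (h2 v hv).2 huy.symm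

/-- A pair from the class of `y` preserves the class of `z`. -/
theorem Tcls_class {y z t : G} (hy : y ∈ (perp D (↑O : Set G))) (hyz : ¬ Commute y z) (hz : z ∈ (perp D (↑O : Set G))) (ht : t ∈ Tcls D O y) :
    ∀ u ∈ (perp D (↑O : Set G)), Commute u z → t * u * t⁻¹ ∈ (perp D (↑O : Set G)) ∧ Commute (t * u * t⁻¹) z := by
  have hD := hG.lay.tt
  obtain ⟨htr, -, -⟩ := oct_perp hG hO
  induction ht using Subgroup.closure_induction'' with
  | mem g hg =>
    obtain ⟨a, ha, b, hb, h1, h2, rfl⟩ := hg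
    intro u hu huz
    have huy : ¬ Commute y u := fun e => hyz (htr y hy u hu z hz e huz)
    obtain ⟨m1, m2, -⟩ := X_conj_class hG hO hy hu hb huy h2
    have hm := X_closed hG hO hb hu
    obtain ⟨r1, r2, -⟩ := X_conj_class hG hO hy hm ha m1 h1
    have hr := X_closed hG hO ha hm
    rw [mul_inv_rev, inv_eq hD ha.1, inv_eq hD hb.1,
      show a * b * u * (b * a) = a * (b * u * b) * a by group]
    refine ⟨hr, ?_⟩
    have hru : Commute (a * (b * u * b) * a) u :=
      X_same hG hO hy hm hr hu m1 (fun e => r1 e.symm) (fun e => r2 e.symm) (fun e => huy e.symm) m2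
    exact htr _ hr u hu z hz hru huz
  | inv_mem g hg =>
    obtain ⟨b, hb, a, ha, h2, h1, rfl⟩ := hg
    intro u hu huz
    have huy : ¬ Commute y u := fun e => hyz (htr y hy u hu z hz e huz)
    obtain ⟨m1, m2, -⟩ := X_conj_class hG hO hy hu hb huy h2
    have hm := X_closed hG hO hb hu
    obtain ⟨r1, r2, -⟩ := X_conj_class hG hO hy hm ha m1 h1
    have hr := X_closed hG hO ha hm
    rw [mul_inv_rev, inv_eq hD ha.1, inv_eq hD hb.1, mul_inv_rev, inv_eq hD ha.1, inv_eq hD hb.1,
      show a * b * u * (b * a) = a * (b * u * b) * a by group]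
    refine ⟨hr, ?_⟩
    have hru : Commute (a * (b * u * b) * a) u :=
      X_same hG hO hy hm hr hu m1 (fun e => r1 e.symm) (fun e => r2 e.symm) (fun e => huy e.symm) m2
    exact htr _ hr u hu z hz hru huz
  | one => intro u hu huz; simpa using ⟨hu, huz⟩
  | mul p r _ _ hp hr =>
    intro u hu huz
    obtain ⟨a, b⟩ := hr u hu huz
    rw [show p * r * u * (p * r)⁻¹ = p * (r * u * r⁻¹) * p⁻¹ by group]
    exact hp _ a b

theorem Tcls_normalise {y z t t' : G} (hy : y ∈ (perp D (↑O : Set G))) (hyz : ¬ Commute y z) (hz : z ∈ (perp D (↑O : Set G))) (ht : t ∈ Tcls D O y)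
    (ht' : t' ∈ Tcls D O z) : t * t' * t⁻¹ ∈ Tcls D O z := by
  have hle : Tcls D O z ≤ (Tcls D O z).comap (MulAut.conj t).toMonoidHom := by
    conv_lhs => rw [Tcls]
    rw [Subgroup.closure_le]
    rintro _ ⟨u, hu, v, hv, h1, h2, rfl⟩
    obtain ⟨a1, a2⟩ := Tcls_class hG hO hy hyz hz ht u hu h1
    obtain ⟨b1, b2⟩ := Tcls_class hG hO hy hyz hz ht v hv h2
    exact Subgroup.subset_closure ⟨_, a1, _, b1, a2, b2, by simp [MulAut.conj_apply, mul_assoc]⟩
  exact hle ht'

/-- A transposition of one class moves the pairs of another into the product of both. -/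
theorem Tcls_swap {y z t : G} (hy : y ∈ (perp D (↑O : Set G))) (hyz : ¬ Commute y z) (hz : z ∈ (perp D (↑O : Set G))) (ht : t ∈ Tcls D O z) :
    ∃ t₁ ∈ Tcls D O y, ∃ t₂ ∈ Tcls D O z, y * t * y = t₁ * t₂ := by
  have hD := hG.lay.tt
  obtain ⟨h1, h2⟩ := Tcls_class hG hO hz (fun e => hyz e.symm) hy ht y hy (Commute.refl y)
  refine ⟨y * (t * y * t⁻¹), Subgroup.subset_closure ⟨y, hy, _, h1, Commute.refl y, h2, rfl⟩, t, ht, ?_⟩
  group

/-- The six products of a noncommuting pair. -/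
def Six (y z p : G) : Prop := p = 1 ∨ p = y ∨ p = z ∨ p = y * z ∨ p = z * y ∨ p = y * z * y

/-- Members of the group generated by the common neighbours in normal form. -/
def NF (D : Set G) (O : Finset G) (y z w : G) : Prop :=
  ∃ t₁ ∈ Tcls D O y, ∃ t₂ ∈ Tcls D O z, ∃ p, Six y z p ∧ w = t₁ * t₂ * p

theorem NF_mulX {y z x w : G} (hy : y ∈ (perp D (↑O : Set G))) (hz : z ∈ (perp D (↑O : Set G))) (hyz : ¬ Commute y z) (hx : x ∈ (perp D (↑O : Set G)))
    (hw : NF D O y z w) : NF D O y z (x * w) := by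
  have hD := hG.lay.tt
  have hzy : ¬ Commute z y := fun e => hyz e.symm
  have sy := sq hD hy.1
  have sz := sq hD hz.1
  have hbr : z * y * z = y * z * y := braid hD hz.1 hy.1 hzy
  have mulY : ∀ {w}, NF D O y z w → NF D O y z (y * w) := by
    rintro _ ⟨t₁, h₁, t₂, h₂, p, hp, rfl⟩
    obtain ⟨τ₁, g₁, τ₂, g₂, e⟩ := Tcls_swap hG hO hy hyz hz h₂
    refine ⟨t₁ * τ₁, mul_mem h₁ g₁, τ₂, g₂, y * p, ?_, ?_⟩
    · rcases hp with rfl | rfl | rfl | rfl | rfl | rfl
      · exact Or.inr (Or.inl (mul_one y))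
      · exact Or.inl sy
      · exact Or.inr (Or.inr (Or.inr (Or.inl rfl)))
      · exact Or.inr (Or.inr (Or.inl (by rw [← mul_assoc, sy, one_mul])))
      · exact Or.inr (Or.inr (Or.inr (Or.inr (Or.inr (mul_assoc _ _ _).symm))))
      · exact Or.inr (Or.inr (Or.inr (Or.inr (Or.inl (by rw [← mul_assoc, ← mul_assoc, sy, one_mul])))))
    · have c1 : Commute t₁ y := Tcls_fix hG hO hy h₁ hy (Commute.refl y)
      calc y * (t₁ * t₂ * p) = (y * t₁) * t₂ * p := by group
        _ = t₁ * (y * t₂ * (y * y)) * p := by rw [← c1.eq, sy, mul_one]; group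
        _ = t₁ * (y * t₂ * y) * (y * p) := by group
        _ = t₁ * τ₁ * τ₂ * (y * p) := by rw [e]; group
  have mulT2 : ∀ {w t}, t ∈ Tcls D O z → NF D O y z w → NF D O y z (t * w) := by
    rintro _ t ht ⟨t₁, h₁, t₂, h₂, p, hp, rfl⟩
    refine ⟨t₁, h₁, t₁⁻¹ * t * t₁⁻¹⁻¹ * t₂,
      mul_mem (Tcls_normalise hG hO hy hyz hz (inv_mem h₁) ht) h₂, p, hp, by group⟩
  have mulT1 : ∀ {w t}, t ∈ Tcls D O y → NF D O y z w → NF D O y z (t * w) := by
    rintro _ t ht ⟨t₁, h₁, t₂, h₂, p, hp, rfl⟩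
    exact ⟨t * t₁, mul_mem ht h₁, t₂, h₂, p, hp, by group⟩
  have mulZ : ∀ {w}, NF D O y z w → NF D O y z (z * w) := by
    rintro _ ⟨t₁, h₁, t₂, h₂, p, hp, rfl⟩
    -- a pair of the other class moved by `z`
    obtain ⟨τ₂, g₂, τ₁, g₁, e⟩ := Tcls_swap hG hO hz hzy hy h₁
    have g₂' := Tcls_normalise hG hO hy hyz hz (inv_mem g₁) g₂
    refine ⟨τ₁, g₁, τ₁⁻¹ * τ₂ * τ₁⁻¹⁻¹ * t₂, mul_mem g₂' h₂, z * p, ?_, ?_⟩
    · rcases hp with rfl | rfl | rfl | rfl | rfl | rfl
      · exact Or.inr (Or.inr (Or.inl (mul_one z)))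
      · exact Or.inr (Or.inr (Or.inr (Or.inr (Or.inl rfl))))
      · exact Or.inl sz
      · exact Or.inr (Or.inr (Or.inr (Or.inr (Or.inr (by rw [← mul_assoc, hbr])))))
      · exact Or.inr (Or.inl (by rw [← mul_assoc, sz, one_mul]))
      · exact Or.inr (Or.inr (Or.inr (Or.inl (by
          rw [← hbr, ← mul_assoc, ← mul_assoc, sz, one_mul]))))
    · have c2 : Commute t₂ z := Tcls_fix hG hO hz h₂ hz (Commute.refl z)
      calc z * (t₁ * t₂ * p) = (z * t₁ * z) * (z * t₂) * p := by
            rw [show z * t₁ * z * (z * t₂) = z * t₁ * (z * z) * t₂ by group, sz, mul_one]; group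
        _ = (τ₂ * τ₁) * (t₂ * z) * p := by rw [e, c2.eq]
        _ = τ₁ * (τ₁⁻¹ * τ₂ * τ₁⁻¹⁻¹ * t₂) * (z * p) := by group
  by_cases h1 : Commute x y
  · rw [show x * w = (x * y) * (y * w) by rw [show x * y * (y * w) = x * (y * y) * w by group, sy, mul_one]]
    exact mulT1 (Subgroup.subset_closure ⟨x, hx, y, hy, h1, Commute.refl y, rfl⟩) (mulY hw)
  by_cases h2 : Commute x z
  · rw [show x * w = (x * z) * (z * w) by rw [show x * z * (z * w) = x * (z * z) * w by group, sz, mul_one]]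
    exact mulT2 (Subgroup.subset_closure ⟨x, hx, z, hz, h2, Commute.refl z, rfl⟩) (mulZ hw)
  set x' := y * x * y
  have hx' : x' ∈ (perp D (↑O : Set G)) := X_closed hG hO hy hx
  obtain ⟨k1, k2⟩ := X_third hG hO hy hx fun e => h1 e.symm
  have h3 : Commute x' z := X_same hG hO hy hx hx' hz (fun e => h1 e.symm) (fun e => k1 e.symm)
    (fun e => k2 e.symm) hzy (fun e => h2 e.symm)
  rw [show x * w = y * ((x' * z) * (z * (y * w))) by
    rw [show x' * z * (z * (y * w)) = x' * (z * z) * (y * w) by group, sz, mul_one,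
      show y * (x' * (y * w)) = (y * y) * x * (y * y) * w by simp only [x']; group, sy, one_mul, mul_one]]
  exact mulY (mulT2 (Subgroup.subset_closure ⟨x', hx', z, hz, h3, Commute.refl z, rfl⟩) (mulZ (mulY hw)))

theorem NF_of_mem {y z w : G} (hy : y ∈ (perp D (↑O : Set G))) (hz : z ∈ (perp D (↑O : Set G))) (hyz : ¬ Commute y z)
    (hw : w ∈ Subgroup.closure (perp D (↑O : Set G))) : NF D O y z w := by
  have key : ∀ w', NF D O y z w' → NF D O y z (w * w') := by
    induction hw using Subgroup.closure_induction'' with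
    | mem x hx => exact fun w' h => NF_mulX hG hO hy hz hyz hx h
    | inv_mem x hx => intro w' h; rw [inv_eq hG.lay.tt hx.1]; exact NF_mulX hG hO hy hz hyz hx h
    | one => intro w' h; rwa [one_mul]
    | mul p r _ _ hp hr => intro w' h; rw [mul_assoc]; exact hp _ (hr _ h)
  have := key 1 ⟨1, one_mem _, 1, one_mem _, 1, Or.inl rfl, by group⟩
  rwa [mul_one] at this

/-- The parity of a paired product fixing the other transposition is trivial. -/
theorem chi_Tcls {y z t : G} (hy : y ∈ (perp D (↑O : Set G))) (hz : z ∈ (perp D (↑O : Set G))) (hyz : ¬ Commute y z) {a c : G}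
    (hac : (a = y ∧ c = z) ∨ (a = z ∧ c = y)) {χ : Subgroup.centralizer ({a, c} : Set G) →* ℤˣ}
    (hχ : ∀ g : Subgroup.centralizer ({a, c} : Set G), (g : G) ∈ common D a c → χ g = -1)
    (ht : t ∈ Tcls D O y) (htz : Commute t z) (htm : t ∈ Subgroup.centralizer ({a, c} : Set G)) :
    χ ⟨t, htm⟩ = 1 := by
  classical
  have hD := hG.lay.tt
  obtain ⟨htr, -, -⟩ := oct_perp hG hO
  obtain ⟨l, hl, hlX, rfl⟩ := Tcls_list hG hO ht
  obtain ⟨o, ho⟩ : O.Nonempty := Finset.card_pos.1 (by rw [hO.card]; norm_num)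
  obtain ⟨hOD, hOc⟩ := hO.cl
  have hD2 : ∀ u ∈ o :: l, u ∈ D := by
    intro u hu
    rcases List.mem_cons.1 hu with rfl | hu
    · exact hOD u ho
    · exact (hlX u hu).1.1
  have hC2 : ∀ u ∈ o :: l, ∀ v ∈ o :: l, Commute u v := by
    intro u hu v hv
    rcases List.mem_cons.1 hu with eu | hu' <;> rcases List.mem_cons.1 hv with ev | hv'
    · rw [eu, ev]
    · exact eu ▸ (hlX v hv').1.2.2 o ho
    · exact ev ▸ ((hlX u hu').1.2.2 o ho).symm
    · exact htr u (hlX u hu').1 y hy v (hlX v hv').1 (hlX u hu').2 (hlX v hv').2.symm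
  obtain ⟨m, m1, m2, m3, m4, m5, m6, m7⟩ := reduce24 hG _ (o :: l) le_rfl hD2 hC2
  have hnm : ∀ u ∈ m, u ∈ common D a c := by
    have hy' : ∀ u ∈ m, Commute y u := m6 y hy.1 fun x hx => by
      rcases List.mem_cons.1 hx with rfl | hx
      · exact (hy.2.2 x ho).symm
      · exact (hlX x hx).2.symm
    have hzp : Commute z m.prod := by
      rw [m7, List.prod_cons]
      exact (hz.2.2 o ho).symm.mul_right htz.symm
    have hz' : ∀ u ∈ m, Commute z u := by
      have hlen : m.length % 2 = 1 := by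
        rw [m3, List.length_cons]
        obtain ⟨k, hk⟩ := hl
        omega
      match m, m2, hlen, m1, m4, m5, hzp with
      | [u], _, _, _, _, _, h => simpa using h
      | [u, v, w], _, _, hnd, hm, hc, h =>
        simp only [List.nodup_cons, List.mem_cons, List.not_mem_nil, or_false, not_or] at hnd
        have h' : Commute z (u * v * w) := by simpa [mul_assoc] using h
        obtain ⟨k1, k2, k3⟩ := (ThreeTransp.centralize_three hD.1 (hm u (by simp)) (hm v (by simp))
          (hm w (by simp)) hz.1 hnd.1.1 hnd.1.2 hnd.2.1 (hc u (by simp) v (by simp)) (hc u (by simp) w (by simp))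
          (hc v (by simp) w (by simp))).1 h'
        simp [k1, k2, k3]
      | [], _, h, _, _, _, _ => simp at h
      | [_, _], _, h, _, _, _, _ => simp at h
      | [_, _, _, _], _, h, _, _, _, _ => simp at h
      | _ :: _ :: _ :: _ :: _ :: _, h, _, _, _, _, _ => simp at h; omega
    intro u hu
    have n1 : u ≠ y := fun e => hyz (e ▸ hz' u hu).symm
    have n2 : u ≠ z := fun e => hyz (e ▸ hy' u hu)
    rcases hac with ⟨rfl, rfl⟩ | ⟨rfl, rfl⟩
    · exact ⟨⟨m4 u hu, n1, hy' u hu⟩, m4 u hu, n2, hz' u hu⟩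
    · exact ⟨⟨m4 u hu, n2, hz' u hu⟩, m4 u hu, n1, hy' u hu⟩
  have hmemC : ∀ u, u ∈ common D a c → u ∈ Subgroup.centralizer ({a, c} : Set G) := fun u hu =>
    Subgroup.mem_centralizer_iff.2 fun x hx => by
      rcases hx with rfl | hx
      · exact hu.1.2.2.eq
      · rw [Set.mem_singleton_iff.1 hx]; exact hu.2.2.2.eq
  have hprod : ∀ (m : List G), (∀ u ∈ m, u ∈ common D a c) → ∀ h : m.prod ∈ Subgroup.centralizer ({a, c} : Set G),
      χ ⟨m.prod, h⟩ = (-1) ^ m.length := by
    intro m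
    induction m with
    | nil =>
      intro _ h
      rw [show (⟨([] : List G).prod, h⟩ : Subgroup.centralizer ({a, c} : Set G)) = 1 from Subtype.ext rfl,
        map_one]
      rfl
    | cons u m ih =>
      intro hm h
      have h' : m.prod ∈ Subgroup.centralizer ({a, c} : Set G) :=
        list_prod_mem fun v hv => hmemC v (hm v (List.mem_cons_of_mem _ hv))
      rw [show (⟨(u :: m).prod, h⟩ : Subgroup.centralizer ({a, c} : Set G)) =
          ⟨u, hmemC u (hm u List.mem_cons_self)⟩ * ⟨m.prod, h'⟩ from Subtype.ext List.prod_cons,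
        map_mul, hχ _ (hm u List.mem_cons_self), ih (fun v hv => hm v (List.mem_cons_of_mem _ hv)) h',
        List.length_cons, pow_succ']
  have hoC : o ∈ common D a c := by
    have hyo : y ∈ nb D o := ⟨hy.1, fun e => hy.2.1 (e ▸ ho), hy.2.2 o ho⟩
    have hzo : z ∈ nb D o := ⟨hz.1, fun e => hz.2.1 (e ▸ ho), hz.2.2 o ho⟩
    rcases hac with ⟨rfl, rfl⟩ | ⟨rfl, rfl⟩
    · exact ⟨mem_nb_comm (hOD o ho) hyo, mem_nb_comm (hOD o ho) hzo⟩
    · exact ⟨mem_nb_comm (hOD o ho) hzo, mem_nb_comm (hOD o ho) hyo⟩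
  have hm' : m.prod ∈ Subgroup.centralizer ({a, c} : Set G) := list_prod_mem fun u hu => hmemC u (hnm u hu)
  have e := hprod m hnm hm'
  rw [show (⟨m.prod, hm'⟩ : Subgroup.centralizer ({a, c} : Set G)) = ⟨o, hmemC o hoC⟩ * ⟨l.prod, htm⟩ from
      Subtype.ext (m7.trans List.prod_cons), map_mul, hχ _ hoC,
    Odd.neg_one_pow (Nat.odd_iff.2 (by rw [m3, List.length_cons]; obtain ⟨k, hk⟩ := hl; omega))] at e
  simpa using e

/-- On the group generated by the common neighbours the parity at a pair is trivial. -/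
theorem chi_W {y z : G} (hy : y ∈ (perp D (↑O : Set G))) (hz : z ∈ (perp D (↑O : Set G))) (hyz : ¬ Commute y z)
    {χ : Subgroup.centralizer ({y, z} : Set G) →* ℤˣ}
    (hχ : ∀ g : Subgroup.centralizer ({y, z} : Set G), (g : G) ∈ common D y z → χ g = -1)
    (w : Subgroup.centralizer ({y, z} : Set G)) (hw : (w : G) ∈ Subgroup.closure (perp D (↑O : Set G))) : χ w = 1 := by
  have hD := hG.lay.tt
  have hzy : ¬ Commute z y := fun e => hyz e.symm
  obtain ⟨htr, -, -⟩ := oct_perp hG hO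
  obtain ⟨t₁, h₁, t₂, h₂, p, hp, e⟩ := NF_of_mem hG hO hy hz hyz hw
  have wy : Commute (w : G) y := (Subgroup.mem_centralizer_iff.1 w.2 y (Or.inl rfl)).symm
  have wz : Commute (w : G) z := (Subgroup.mem_centralizer_iff.1 w.2 z (Or.inr rfl)).symm
  have ep : p = t₂⁻¹ * t₁⁻¹ * w := by rw [e]; group
  have conjp : ∀ {v : G}, Commute (w : G) v → p * v * p⁻¹ = t₂⁻¹ * (t₁⁻¹ * v * t₁⁻¹⁻¹) * t₂⁻¹⁻¹ := fun {v} h => by
    rw [ep, show t₂⁻¹ * t₁⁻¹ * ↑w * v * (t₂⁻¹ * t₁⁻¹ * ↑w)⁻¹ = t₂⁻¹ * t₁⁻¹ * (↑w * v * (↑w)⁻¹) * (t₁ * t₂) by group,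
      h.eq, mul_inv_cancel_right]
    group
  have hpy : Commute (p * y * p⁻¹) y := by
    rw [conjp wy, show t₁⁻¹ * y * t₁⁻¹⁻¹ = y from
      mul_inv_eq_iff_eq_mul.2 (Tcls_fix hG hO hy (inv_mem h₁) hy (Commute.refl y)).eq]
    exact (Tcls_class hG hO hz hzy hy (inv_mem h₂) y hy (Commute.refl y)).2
  have hpz : Commute (p * z * p⁻¹) z := by
    obtain ⟨a1, a2⟩ := Tcls_class hG hO hy hyz hz (inv_mem h₁) z hz (Commute.refl z)
    rw [conjp wz, mul_inv_eq_iff_eq_mul.2 (Tcls_fix hG hO hz (inv_mem h₂) a1 a2).eq]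
    exact a2
  have sy := sq hD hy.1
  have sz := sq hD hz.1
  obtain ⟨-, k2⟩ := X_third hG hO hy hz hyz
  obtain ⟨-, k2'⟩ := X_third hG hO hz hy hzy
  have hp1 : p = 1 := by
    rcases hp with rfl | rfl | rfl | rfl | rfl | rfl
    · rfl
    · rw [inv_eq hD hy.1] at hpz
      exact absurd hpz.symm k2
    · rw [inv_eq hD hz.1] at hpy
      exact absurd hpy.symm k2'
    · rw [show y * z * y * (y * z)⁻¹ = z from exists_conj_of_not_commute hD hy.1 hz.1 hyz] at hpy
      exact absurd hpy hzy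
    · rw [show z * y * z * (z * y)⁻¹ = y from exists_conj_of_not_commute hD hz.1 hy.1 hzy] at hpz
      exact absurd hpz hyz
    · exfalso
      have e3 : y * z * y * y * (y * z * y)⁻¹ = z := by
        rw [mul_inv_rev, mul_inv_rev, inv_eq hD hy.1, inv_eq hD hz.1,
          show y * z * y * y * (y * (z * y)) = y * z * (y * y) * y * z * y by group, sy, mul_one,
          show y * z * y * z * y = y * (z * y * z) * y by group, braid hD hz.1 hy.1 hzy,
          show y * (y * z * y) * y = (y * y) * z * (y * y) by group, sy, one_mul, mul_one]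
      rw [e3] at hpy
      exact hzy hpy
  subst hp1
  rw [mul_one] at e
  have t1y : Commute t₁ y := Tcls_fix hG hO hy h₁ hy (Commute.refl y)
  have t2z : Commute t₂ z := Tcls_fix hG hO hz h₂ hz (Commute.refl z)
  have t2y : Commute t₂ y := by
    have := t1y.inv_left.mul_left wy
    rwa [e, inv_mul_cancel_left] at this
  have t1z : Commute t₁ z := by
    have := wz.mul_left t2z.inv_left
    rwa [e, mul_inv_cancel_right] at this
  have hm : ∀ {t : G}, Commute t y → Commute t z → t ∈ Subgroup.centralizer ({y, z} : Set G) := fun hty htz =>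
    Subgroup.mem_centralizer_iff.2 fun x hx => by
      rcases hx with rfl | hx
      · exact hty.eq.symm
      · rw [Set.mem_singleton_iff.1 hx]; exact htz.eq.symm
  rw [show w = ⟨t₁, hm t1y t1z⟩ * ⟨t₂, hm t2y t2z⟩ from Subtype.ext e, map_mul,
    chi_Tcls hG hO hy hz hyz (Or.inl ⟨rfl, rfl⟩) hχ h₁ t1z (hm t1y t1z),
    chi_Tcls hG hO hz hy hzy (Or.inr ⟨rfl, rfl⟩) hχ h₂ t2y (hm t2y t2z), one_mul]

/-- Noncommuting pairs of common neighbours are moved onto each other by their group. -/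
theorem W_trans {y z y' z' : G} (hy : y ∈ (perp D (↑O : Set G))) (hz : z ∈ (perp D (↑O : Set G))) (hy' : y' ∈ (perp D (↑O : Set G))) (hz' : z' ∈ (perp D (↑O : Set G))) (hyz : ¬ Commute y z)
    (hyz' : ¬ Commute y' z') :
    ∃ w ∈ Subgroup.closure (perp D (↑O : Set G)), w * y * w⁻¹ = y' ∧ w * z * w⁻¹ = z' := by
  have hD := hG.lay.tt
  obtain ⟨htr, -, -⟩ := oct_perp hG hO
  have hm1 : ∀ {a b : G}, a ∈ (perp D (↑O : Set G)) → b ∈ (perp D (↑O : Set G)) → a * b ∈ Subgroup.closure (perp D (↑O : Set G)) := fun ha hb =>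
    mul_mem (Subgroup.subset_closure ha) (Subgroup.subset_closure hb)
  obtain ⟨w₀, hw₀, e₀⟩ : ∃ w₀ ∈ Subgroup.closure (perp D (↑O : Set G)), w₀ * y * w₀⁻¹ = y' := by
    by_cases h : Commute y y'
    · have hzy' : ¬ Commute z y' := fun e => hyz (htr y hy y' hy' z hz h e.symm)
      refine ⟨z * y' * (y * z), mul_mem (hm1 hz hy') (hm1 hy hz), ?_⟩
      rw [show z * y' * (y * z) * y * (z * y' * (y * z))⁻¹ =
          z * y' * (y * z * y * (y * z)⁻¹) * (z * y')⁻¹ by group,
        exists_conj_of_not_commute hD hy.1 hz.1 hyz, exists_conj_of_not_commute hD hz.1 hy'.1 hzy']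
    · exact ⟨y * y', hm1 hy hy', exists_conj_of_not_commute hD hy.1 hy'.1 h⟩
  have hconjX : ∀ w ∈ Subgroup.closure (perp D (↑O : Set G)), ∀ u ∈ (perp D (↑O : Set G)), w * u * w⁻¹ ∈ (perp D (↑O : Set G)) := by
    intro w hw
    induction hw using Subgroup.closure_induction'' with
    | mem x hx => intro u hu; rw [inv_eq hD hx.1]; exact X_closed hG hO hx hu
    | inv_mem x hx => intro u hu; rw [inv_inv, inv_eq hD hx.1]; exact X_closed hG hO hx hu
    | one => intro u hu; simpa using hu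
    | mul p r _ _ hp hr =>
      intro u hu
      rw [show p * r * u * (p * r)⁻¹ = p * (r * u * r⁻¹) * p⁻¹ by group]
      exact hp _ (hr u hu)
  set z₁ := w₀ * z * w₀⁻¹
  have hz₁ : z₁ ∈ (perp D (↑O : Set G)) := hconjX _ hw₀ z hz
  have hyz₁ : ¬ Commute y' z₁ := by rw [← e₀]; exact fun h => hyz ((Commute.conj_iff w₀).1 h)
  -- onto a target in the class of the image of the second
  have key : ∀ t ∈ (perp D (↑O : Set G)), ¬ Commute y' t → Commute z₁ t → ∃ w ∈ Subgroup.closure (perp D (↑O : Set G)),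
      w * y' * w⁻¹ = y' ∧ w * z₁ * w⁻¹ = t := by
    intro t ht hyt hzt
    set m := y' * z₁ * y'
    have hm : m ∈ (perp D (↑O : Set G)) := X_closed hG hO hy' hz₁
    obtain ⟨m1, m2⟩ := X_third hG hO hy' hz₁ hyz₁
    have hmt : ¬ Commute m t := fun e => m2 (htr z₁ hz₁ t ht m hm hzt e.symm)
    set u := m * t * m
    have hu : u ∈ (perp D (↑O : Set G)) := X_closed hG hO hm ht
    obtain ⟨u1, u2⟩ := X_third hG hO hm ht hmt
    have huy : Commute u y' := X_same hG hO hm ht hu hy' hmt (fun e => u1 e.symm) (fun e => u2 e.symm) m1 hyt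
    have hum : ¬ Commute u m := fun e => u1 e.symm
    refine ⟨u * y', hm1 hu hy', ?_, ?_⟩
    · rw [mul_inv_rev, inv_eq hD hu.1, inv_eq hD hy'.1, show u * y' * y' * (y' * u) = u * (y' * y') * y' * u by group,
        sq hD hy'.1, mul_one, huy.eq, mul_assoc, sq hD hu.1, mul_one]
    · rw [mul_inv_rev, inv_eq hD hu.1, inv_eq hD hy'.1, show u * y' * z₁ * (y' * u) = u * m * u by simp only [m]; group,
        braid hD hu.1 hm.1 hum, show m * u * m = (m * m) * t * (m * m) by simp only [u]; group, sq hD hm.1,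
        one_mul, mul_one]
  by_cases h : Commute z₁ z'
  · obtain ⟨w, hw, e1, e2⟩ := key z' hz' hyz' h
    exact ⟨w * w₀, mul_mem hw hw₀, by rw [← e1, ← e₀]; group, by rw [← e2]; simp only [z₁]; group⟩
  · set t := y' * z' * y'
    have ht : t ∈ (perp D (↑O : Set G)) := X_closed hG hO hy' hz'
    obtain ⟨t1, t2⟩ := X_third hG hO hy' hz' hyz'
    have htz : Commute z₁ t := X_same hG hO hy' hz' hz₁ ht hyz' (fun e => hyz₁ e.symm) h (fun e => t1 e.symm)
      (fun e => t2 e.symm)
    obtain ⟨w, hw, e1, e2⟩ := key t ht t1 htz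
    refine ⟨y' * (w * w₀), mul_mem (Subgroup.subset_closure hy') (mul_mem hw hw₀), ?_, ?_⟩
    · rw [show y' * (w * w₀) * y * (y' * (w * w₀))⁻¹ = y' * (w * (w₀ * y * w₀⁻¹) * w⁻¹) * y'⁻¹ by group, e₀, e1,
        mul_inv_cancel_right]
    · rw [show y' * (w * w₀) * z * (y' * (w * w₀))⁻¹ = y' * (w * z₁ * w⁻¹) * y'⁻¹ by simp only [z₁]; group, e2,
        inv_eq hD hy'.1, show y' * t * y' = (y' * y') * z' * (y' * y') by simp only [t]; group, sq hD hy'.1,
        one_mul, mul_one]

omit hG hO in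
/-- The stabiliser of a finite set. -/
def octStab (O : Finset G) : Subgroup G where
  carrier := {g | ∀ x, g * x * g⁻¹ ∈ O ↔ x ∈ O}
  one_mem' x := by simp
  mul_mem' := fun {g h} hg hh x => by
    rw [show g * h * x * (g * h)⁻¹ = g * (h * x * h⁻¹) * g⁻¹ by group]
    exact (hg _).trans (hh x)
  inv_mem' := fun {g} hg x => by
    rw [← hg (g⁻¹ * x * g⁻¹⁻¹), show g * (g⁻¹ * x * g⁻¹⁻¹) * g⁻¹ = x by group]

/-- A character of the stabiliser of an octad separating its members from their common neighbours. -/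
theorem exists_eta : ∃ η : octStab O →* ℤˣ,
    (∀ s : octStab O, (s : G) ∈ O → η s = -1) ∧ ∀ s : octStab O, (s : G) ∈ (perp D (↑O : Set G)) → η s = 1 := by
  have hD := hG.lay.tt
  obtain ⟨-, -, y, hy, z, hz, hyz⟩ := oct_perp hG hO
  obtain ⟨χ, hχ⟩ := exists_chi hG hy.1 (c := z) ⟨hz.1, hyz⟩
  set W := Subgroup.closure (perp D (↑O : Set G))
  have hsX : ∀ (s : octStab O) (u : G), u ∈ (perp D (↑O : Set G)) → (s : G) * u * (s : G)⁻¹ ∈ (perp D (↑O : Set G)) := by
    intro s u hu
    refine ⟨conj_mem hD _ hu.1, fun h => hu.2.1 ((s.2 u).1 h), fun o ho => ?_⟩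
    have h' : (s : G)⁻¹ * o * (s : G)⁻¹⁻¹ ∈ O := ((octStab O).inv_mem s.2 o).2 ho
    have := (Commute.conj_iff (s : G)).2 (hu.2.2 _ h')
    rwa [show (s : G) * ((s : G)⁻¹ * o * (s : G)⁻¹⁻¹) * (s : G)⁻¹ = o by group] at this
  have hnormW : ∀ (s : octStab O), ∀ w ∈ W, (s : G) * w * (s : G)⁻¹ ∈ W := by
    intro s
    have hle : W ≤ W.comap (MulAut.conj (s : G)).toMonoidHom := by
      rw [Subgroup.closure_le]
      exact fun u hu => Subgroup.subset_closure (hsX s u hu)
    exact fun w hw => hle hw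
  have hex : ∀ s : octStab O, ∃ w ∈ W, w⁻¹ * (s : G) ∈ Subgroup.centralizer ({y, z} : Set G) := by
    intro s
    obtain ⟨w, hw, e1, e2⟩ := W_trans hG hO hy hz (hsX s y hy) (hsX s z hz) hyz
      (fun h => hyz ((Commute.conj_iff _).1 h))
    refine ⟨w, hw, Subgroup.mem_centralizer_iff.2 fun x hx => ?_⟩
    have ex : w * x * w⁻¹ = (s : G) * x * (s : G)⁻¹ := by
      rcases hx with rfl | hx
      · exact e1
      · rw [Set.mem_singleton_iff.1 hx]; exact e2
    calc x * (w⁻¹ * (s : G)) = w⁻¹ * (w * x * w⁻¹) * s := by group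
      _ = _ := by rw [ex]; group
  choose w hw hwC using hex
  have huniq : ∀ (s : octStab O) (w' : G) (_ : w' ∈ W)
      (h' : w'⁻¹ * (s : G) ∈ Subgroup.centralizer ({y, z} : Set G)), χ ⟨w'⁻¹ * s, h'⟩ = χ ⟨_, hwC s⟩ := by
    intro s w' hw' h'
    set c : Subgroup.centralizer ({y, z} : Set G) := ⟨w'⁻¹ * (s : G), h'⟩ * ⟨_, hwC s⟩⁻¹ with hc
    have hcW : (c : G) ∈ W := by
      rw [hc, Subgroup.coe_mul, Subgroup.coe_inv, show w'⁻¹ * (s : G) * ((w s)⁻¹ * (s : G))⁻¹ = w'⁻¹ * w s by group]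
      exact mul_mem (inv_mem hw') (hw s)
    have := chi_W hG hO hy hz hyz hχ c hcW
    rw [hc, map_mul, map_inv, mul_inv_eq_one] at this
    exact this
  refine ⟨MonoidHom.mk' (fun s => χ ⟨_, hwC s⟩) fun s t => ?_, fun s hs => ?_, fun s hs => ?_⟩
  · rw [← map_mul]
    set c : Subgroup.centralizer ({y, z} : Set G) := ⟨_, hwC s⟩ * ⟨_, hwC t⟩ with hc
    set w' := w s * (((w s)⁻¹ * (s : G)) * w t * ((w s)⁻¹ * (s : G))⁻¹) with hw'
    have hmem : w' ∈ W := by
      refine mul_mem (hw s) ?_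
      rw [show (w s)⁻¹ * (s : G) * w t * ((w s)⁻¹ * (s : G))⁻¹ = (w s)⁻¹ * ((s : G) * w t * (s : G)⁻¹) * w s by group]
      exact mul_mem (mul_mem (inv_mem (hw s)) (hnormW s _ (hw t))) (hw s)
    have e : w'⁻¹ * ((s * t : octStab O) : G) = c := by
      rw [hw', hc, Subgroup.coe_mul, Subgroup.coe_mul]; group
    rw [← huniq (s * t) w' hmem (e ▸ c.2)]
    exact congrArg χ (Subtype.ext e)
  · have hsy : (s : G) ∈ common D y z :=
      ⟨⟨hO.cl.1 _ hs, fun e => hy.2.1 (e ▸ hs), (hy.2.2 _ hs).symm⟩,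
        ⟨hO.cl.1 _ hs, fun e => hz.2.1 (e ▸ hs), (hz.2.2 _ hs).symm⟩⟩
    have hC : (1 : G)⁻¹ * (s : G) ∈ Subgroup.centralizer ({y, z} : Set G) := by
      rw [inv_one, one_mul, Subgroup.mem_centralizer_iff]
      intro x hx
      rcases hx with rfl | hx
      · exact hsy.1.2.2.eq
      · rw [Set.mem_singleton_iff.1 hx]; exact hsy.2.2.2.eq
    show χ ⟨_, hwC s⟩ = -1
    rw [← huniq s 1 (one_mem _) hC]
    exact hχ _ (by simpa using hsy)
  · have hC : (s : G)⁻¹ * (s : G) ∈ Subgroup.centralizer ({y, z} : Set G) := by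
      rw [inv_mul_cancel]; exact one_mem _
    show χ ⟨_, hwC s⟩ = 1
    rw [← huniq s s (Subgroup.subset_closure hs) hC,
      show (⟨(s : G)⁻¹ * s, hC⟩ : Subgroup.centralizer ({y, z} : Set G)) = 1 from Subtype.ext (inv_mul_cancel _),
      map_one]

/-- A transposition stabilising an octad lies in it or among its common neighbours. -/
theorem mem_octStab_cases {e : G} (he : e ∈ D) (h : e ∈ octStab O) : e ∈ O ∨ e ∈ (perp D (↑O : Set G)) := by
  have hD := hG.lay.tt
  by_cases heO : e ∈ O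
  · exact Or.inl heO
  refine Or.inr ⟨he, heO, fun o ho => ?_⟩
  by_contra hn
  have ho' := (h o).2 ho
  rw [inv_eq hD he] at ho'
  have hoD : o ∈ D := hO.cl.1 o ho
  have hc := hO.cl.2 o ho _ ho'
  rw [← braid hD hoD he hn] at hc
  have := ((Commute.refl o).mul_right hc).mul_right (Commute.refl o)
  rw [show o * (o * e * o) * o = (o * o) * e * (o * o) by group, sq hD hoD, one_mul, mul_one] at this
  exact hn this

end Oct

set_option maxHeartbeats 1000000 in
open scoped Classical in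
/-- A character sending every transposition to -1. -/
theorem exists_parity : ∃ ε : G →* ℤˣ, ∀ e ∈ D, ε e = -1 := by
  haveI := Fintype.ofFinite G
  have hD := hG.lay.tt
  obtain ⟨O, hO, hodd⟩ := exists_odd_class hG
  set S := octStab O with hS
  obtain ⟨η, hη1, hη2⟩ := exists_eta hG hO
  haveI : Fintype (G ⧸ S) := Fintype.ofFinite _
  set t := MonoidHom.transfer η with ht
  suffices h : t d = -1 by
    refine ⟨t, fun e he => ?_⟩
    obtain ⟨g, rfl⟩ := hG.lay.one d hG.mem e he
    rw [map_mul, map_mul, mul_comm (t g), mul_assoc, ← map_mul t g, mul_inv_cancel, map_one, mul_one, h]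
  set c2 : G ⧸ S → Prop := fun c => c.out⁻¹ * d * c.out ∈ O with hc2
  -- the count
  have hindex : Odd (Nat.card (G ⧸ S)) := by
    have h := card_eq_mul_of_fibres (fun g : G => O.image fun x => g * x * g⁻¹) S ?_
    · rw [Subgroup.card_eq_card_quotient_mul_card_subgroup S] at h
      rwa [Nat.eq_of_mul_eq_mul_right Nat.card_pos h]
    intro g g'
    constructor
    · intro e x
      rw [show g⁻¹ * g' * x * (g⁻¹ * g')⁻¹ = g⁻¹ * (g' * x * g'⁻¹) * g by group]
      constructor
      · intro hx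
        have : g' * x * g'⁻¹ ∈ O.image (fun x => g * x * g⁻¹) :=
          Finset.mem_image.2 ⟨_, hx, by group⟩
        rw [e, Finset.mem_image] at this
        obtain ⟨u, hu, e'⟩ := this
        obtain rfl : u = x := by simpa using e'
        exact hu
      · intro hx
        have : g' * x * g'⁻¹ ∈ O.image (fun x => g * x * g⁻¹) := e ▸ Finset.mem_image.2 ⟨x, hx, rfl⟩
        obtain ⟨u, hu, e'⟩ := Finset.mem_image.1 this
        rwa [← e', show g⁻¹ * (g * u * g⁻¹) * g = u by group]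
    · intro h
      ext v
      simp only [Finset.mem_image]
      constructor
      · rintro ⟨x, hx, rfl⟩
        refine ⟨(g⁻¹ * g')⁻¹ * x * (g⁻¹ * g')⁻¹⁻¹, ((S.inv_mem h) x).2 hx, by group⟩
      · rintro ⟨x, hx, rfl⟩
        exact ⟨g⁻¹ * g' * x * (g⁻¹ * g')⁻¹, (h x).2 hx, by group⟩
  set V := (Finset.univ.filter c2).card with hV
  have hVodd : Odd V := by
    have hcol : ∀ e ∈ D.toFinset, ((Finset.univ : Finset (G ⧸ S)).bipartiteBelow
        (fun c e => c.out⁻¹ * e * c.out ∈ O) e).card = V := by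
      intro e he
      obtain ⟨g, hg⟩ := hG.lay.one d hG.mem e (Set.mem_toFinset.1 he)
      refine (Finset.card_equiv (MulAction.toPerm g) fun c => ?_).symm
      have hc : ∃ s ∈ S, (g • c).out = g * c.out * s := by
        refine ⟨(g * c.out)⁻¹ * (g • c).out, QuotientGroup.eq.1 ?_, by group⟩
        rw [QuotientGroup.out_eq']
        conv_rhs => rw [← QuotientGroup.out_eq' c]
        rfl
      obtain ⟨s, hs, es⟩ := hc
      simp only [Finset.bipartiteBelow, Finset.mem_filter, Finset.mem_univ, true_and, MulAction.toPerm_apply, c2, es]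
      rw [← hg, show (g * c.out * s)⁻¹ * (g * d * g⁻¹) * (g * c.out * s) = s⁻¹ * (c.out⁻¹ * d * c.out) * s⁻¹⁻¹ by group]
      exact ((S.inv_mem hs) _).symm
    have hrow : ∀ c ∈ (Finset.univ : Finset (G ⧸ S)),
        (D.toFinset.bipartiteAbove (fun c e => c.out⁻¹ * e * c.out ∈ O) c).card = 8 := by
      intro c _
      rw [← hO.card]
      refine Finset.card_equiv (MulAut.conj c.out⁻¹).toEquiv fun e => ?_
      simp only [Finset.bipartiteAbove, Finset.mem_filter, Set.mem_toFinset, MulEquiv.toEquiv_eq_coe,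
        EquivLike.coe_coe, MulAut.conj_apply, inv_inv]
      exact ⟨fun h => h.2, fun h => ⟨by simpa [mul_assoc] using conj_mem hD c.out (hO.cl.1 _ h), h⟩⟩
    have h := Finset.card_mul_eq_card_mul (fun (c : G ⧸ S) (e : G) => c.out⁻¹ * e * c.out ∈ O)
      hrow hcol
    rw [Finset.card_univ, ← Nat.card_eq_fintype_card, ← Set.ncard_eq_toFinset_card', hG.lay.card_D] at h
    obtain ⟨k, hk⟩ := hindex
    rcases Nat.even_or_odd V with ⟨j, hj⟩ | ho
    · omega
    · exact ho
  -- the transfer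
  haveI : Fintype (Quotient (MulAction.orbitRel (Subgroup.zpowers d) (G ⧸ S))) := Fintype.ofFinite _
  rw [ht, MonoidHom.transfer_eq_prod_quotient_orbitRel_zpowers_quot]
  have hdd : ∀ c : G ⧸ S, c.out⁻¹ * d * c.out ∈ S → d • c = c := by
    intro c h
    conv_rhs => rw [← QuotientGroup.out_eq' c]
    conv_lhs => rw [← QuotientGroup.out_eq' c]
    show (QuotientGroup.mk (d * c.out) : G ⧸ S) = _
    rw [QuotientGroup.eq]
    have := S.inv_mem h
    rwa [show (c.out⁻¹ * d * c.out)⁻¹ = (d * c.out)⁻¹ * c.out by group] at this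
  have hOS : ∀ o ∈ O, o ∈ S := fun o ho x => by
    have hfix : ∀ u ∈ O, o * u * o⁻¹ = u := fun u hu => mul_inv_eq_iff_eq_mul.2 (hO.cl.2 o ho u hu).eq
    refine ⟨fun h => ?_, fun hx => (hfix x hx).symm ▸ hx⟩
    have e := hfix _ h
    have e' : o * x * o⁻¹ = x := by
      have := congrArg (fun v => o⁻¹ * v * o) e
      simp only [mul_assoc, inv_mul_cancel_left, inv_mul_cancel, mul_one] at this
      simpa [mul_assoc] using this
    rwa [e'] at h
  have hval : ∀ (r : G) (m : ℕ) (hm : r⁻¹ * d ^ m * r ∈ S), (m % 2 = 1 → r⁻¹ * d * r ∈ S) →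
      η ⟨r⁻¹ * d ^ m * r, hm⟩ = if m % 2 = 1 ∧ r⁻¹ * d * r ∈ O then -1 else 1 := by
    intro r m hm hodd'
    have hpow : d ^ m = if m % 2 = 1 then d else 1 := by
      conv_lhs => rw [← Nat.mod_add_div m 2, pow_add, pow_mul, pow_two, sq hD hG.mem, one_pow, mul_one]
      rcases Nat.mod_two_eq_zero_or_one m with e | e <;> simp [e]
    by_cases h1 : m % 2 = 1
    · rw [if_pos h1] at hpow
      simp only [h1, true_and]
      have eS : (⟨r⁻¹ * d ^ m * r, hm⟩ : S) = ⟨r⁻¹ * d * r, hodd' h1⟩ := Subtype.ext (by simp only [hpow])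
      rw [eS]
      have hrD : r⁻¹ * d * r ∈ D := by simpa using conj_mem hD r⁻¹ hG.mem
      split_ifs with h
      · exact hη1 _ h
      · exact hη2 _ ((mem_octStab_cases hG hO hrD (hodd' h1)).resolve_left h)
    · rw [if_neg h1] at hpow
      simp only [h1, false_and, if_false]
      rw [show (⟨r⁻¹ * d ^ m * r, hm⟩ : S) = 1 from Subtype.ext (by simp [hpow]), map_one]
  have hper : ∀ c : G ⧸ S, Function.minimalPeriod (d • ·) c = 1 ↔ d • c = c := fun c =>
    Function.minimalPeriod_eq_one_iff_isFixedPt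
  have hper2 : ∀ c : G ⧸ S, Function.minimalPeriod (d • ·) c ∣ 2 := fun c =>
    Function.IsPeriodicPt.minimalPeriod_dvd (by
      show d • d • c = c
      rw [smul_smul, sq hD hG.mem, one_smul])
  set T := Quotient (MulAction.orbitRel (Subgroup.zpowers d) (G ⧸ S))
  rw [Finset.prod_congr rfl (g := fun q : T => if c2 q.out then (-1 : ℤˣ) else 1) fun q _ => ?_]
  · rw [Finset.prod_ite, Finset.prod_const, Finset.prod_const, one_pow, mul_one]
    have hcount : (Finset.univ.filter fun q : T => c2 q.out).card = V := by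
      refine Finset.card_bij (fun q _ => q.out) (fun q hq => ?_) (fun q _ q' _ e => ?_) fun c hc => ?_
      · simpa using hq
      · rw [← q.out_eq, ← q'.out_eq, e]
      · simp only [Finset.mem_filter, Finset.mem_univ, true_and] at hc
        have hfix := hdd c (hOS _ hc)
        refine ⟨Quotient.mk'' c, ?_, ?_⟩
        all_goals
          have e : (Quotient.mk'' c : T).out = c := by
            have := Quotient.exact' (Quotient.out_eq' (Quotient.mk'' c : T))
            rw [MulAction.orbitRel_apply, MulAction.mem_orbit_iff] at this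
            obtain ⟨⟨g, hg⟩, e⟩ := this
            obtain ⟨i, rfl⟩ := Subgroup.mem_zpowers_iff.1 hg
            rw [← e]
            show d ^ i • c = c
            exact MulAction.mem_stabilizer_iff.1 (Subgroup.zpow_mem _ (MulAction.mem_stabilizer_iff.2 hfix) i)
        · simp only [Finset.mem_filter, Finset.mem_univ, true_and]; rwa [e]
        · exact e
    refine Eq.trans ?_ hVodd.neg_one_pow
    congr 1
    convert hcount
  · set c := q.out with hc
    rw [hval c.out _ _ ?_]
    · by_cases h : c2 c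
      · rw [if_pos h, if_pos ⟨by rw [(hper c).2 (hdd c (hOS _ h))], h⟩]
      · rw [if_neg h, if_neg (fun e => h e.2)]
    · intro h1
      have hm : Function.minimalPeriod (d • ·) c = 1 := by
        rcases (Nat.dvd_prime Nat.prime_two).1 (hper2 c) with e | e
        · exact e
        · exfalso
          have h2 : (2 : ℕ) % 2 = 1 := by
            conv_lhs => arg 1; rw [← e]
            exact h1
          norm_num at h2
      have := QuotientGroup.out_conj_pow_minimalPeriod_mem S d c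
      rwa [hm, pow_one] at this

end Cfsg.Agent.TT95
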