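import Cfsg.Agent.TT95.InvolClasses

/-!
Type M(22): the transpositions form the only class of 3-transpositions.
-/

set_option autoImplicit false
set_option linter.unusedSectionVars false

namespace Cfsg.Agent.TT95

open Cfsg.Agent.TT95.U6

variable {G : Type*} [Group G] [Finite G] {D : Set G} (hC : Cfg22 D) [Gen D]

include hC

/-- A path a - c - b with a, b commuting and an element commuting with all three. -/
theorem exists_bad_pair {d : G} (hd : d ∈ D) :
    ∃ a b c e, a ∈ D ∧ b ∈ D ∧ c ∈ D ∧ e ∈ D ∧ (a ≠ b ∧ d ≠ a ∧ d ≠ b ∧ d ≠ c ∧ d ≠ e ∧ c ≠ e) ∧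
      Commute a b ∧ ¬ Commute a c ∧ ¬ Commute b c ∧ Commute e a ∧ Commute e b ∧ Commute e c ∧
      Commute d a ∧ Commute d b ∧ Commute d c ∧ Commute d e := by
  obtain ⟨γ, hγ⟩ := hC.loc d hd
  have chk : isPt 320 = true ∧ orth e1 320 = false ∧ orth e2 320 = false ∧ orth e3 320 = true ∧
      orth e1 e2 = true ∧ orth e3 e1 = true ∧ orth e3 e2 = true := by decide +kernel
  obtain ⟨p, o1, o2, o3, o12, o31, o32⟩ := chk
  obtain ⟨m1, m2, m3, -⟩ := base_isPt
  have hne : ∀ q, isPt q = true → d ≠ γ q := fun q hq e => (hγ.mem q hq).2.1 e.symm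
  refine ⟨γ e1, γ e2, γ 320, γ e3, (hγ.mem _ m1).1, (hγ.mem _ m2).1, (hγ.mem _ p).1, (hγ.mem _ m3).1,
    ⟨fun e => absurd (hγ.inj _ _ m1 m2 e) (by decide), hne _ m1, hne _ m2, hne _ p, hne _ m3,
      fun e => absurd (hγ.inj _ _ p m3 e) (by decide)⟩,
    (hγ.comm _ _ m1 m2).2 o12, ?_, ?_, (hγ.comm _ _ m3 m1).2 o31, (hγ.comm _ _ m3 m2).2 o32,
    (hγ.comm _ _ m3 p).2 o3, (hγ.mem _ m1).2.2, (hγ.mem _ m2).2.2, (hγ.mem _ p).2.2, (hγ.mem _ m3).2.2⟩
  · intro h; rw [hγ.comm _ _ m1 p, o1] at h; exact Bool.false_ne_true h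
  · intro h; rw [hγ.comm _ _ m2 p, o2] at h; exact Bool.false_ne_true h

omit hC in
theorem bad_product_gen (hD : TTSet D) (htf : TwinFree D) {a b c e : G} (ha : a ∈ D) (hb : b ∈ D) (hc : c ∈ D) (he : e ∈ D) (hab : Commute a b)
    (hne : a ≠ b) (hac : ¬ Commute a c) (hbc : ¬ Commute b c) (hea : Commute e a) (heb : Commute e b)
    (hec : Commute e c) : ((a * b) * (c * e)) ^ 2 ≠ 1 ∧ ((a * b) * (c * e)) ^ 3 ≠ 1 := by
  have hee := sq hD he
  have hcc := sq hD hc
  have hq2 : (a * b) * (a * b) = 1 := by
    calc a * b * (a * b) = a * (b * a) * b := by group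
      _ = 1 := by rw [← hab.eq, ← mul_assoc, sq hD ha, one_mul, sq hD hb]
  have hse : Commute (a * b) e := hea.symm.mul_left heb.symm
  -- the two conjugates of a, b under c
  have hp : c * a * c ∈ D := conj_mem' hD ha hc
  have hq : c * b * c ∈ D := conj_mem' hD hb hc
  have hpq : Commute (c * a * c) (c * b * c) := by
    have := (Commute.conj_iff c).2 hab
    rwa [inv_eq hD hc] at this
  have hpq' : c * (a * b) * c = (c * a * c) * (c * b * c) := by
    calc c * (a * b) * c = c * a * (c * c) * b * c := by rw [hcc]; group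
      _ = _ := by group
  have hnpq : c * a * c ≠ c * b * c := fun h => hne (mul_left_cancel (mul_right_cancel h))
  have hnpa : ¬ Commute (c * a * c) a := by
    intro h
    rw [← braid hD ha hc hac] at h
    have e1 := h.eq
    rw [show a * c * a * a = a * c * (a * a) by group, sq hD ha, mul_one,
      show a * (a * c * a) = a * a * (c * a) by group, sq hD ha, one_mul] at e1
    exact hac e1
  have hnqb : ¬ Commute (c * b * c) b := by
    intro h
    rw [← braid hD hb hc hbc] at h
    have e1 := h.eq
    rw [show b * c * b * b = b * c * (b * b) by group, sq hD hb, mul_one,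
      show b * (b * c * b) = b * b * (c * b) by group, sq hD hb, one_mul] at e1
    exact hbc e1
  constructor
  · intro h
    have hcs : Commute (a * b) (c * e) := by
      have hce2 : (c * e) * (c * e) = 1 := by
        calc c * e * (c * e) = c * (e * c) * e := by group
          _ = 1 := by rw [hec.eq, ← mul_assoc, hcc, one_mul, hee]
      rw [pow_two] at h
      have := mul_eq_one_iff_eq_inv.1 h
      rw [mul_inv_rev, inv_eq_of_mul_eq_one_right hce2, inv_eq_of_mul_eq_one_right hq2] at this
      exact this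
    have hcab : Commute c (a * b) := by
      have := (hcs.mul_right hse)
      rw [mul_assoc, hee, mul_one] at this
      exact this.symm
    exact hac ((ThreeTransp.centralize_two hD.1 ha hb hc hne hab).1 hcab).1.symm
  · intro h
    -- braid relation between a b and c e
    have key : (a * b) * c * (a * b) * e = c * (a * b) * c := by
      have hr : (a * b) * (c * e) * (a * b) = (c * e) * (a * b) * (c * e) := by
        have h3 : (a * b) * (c * e) * (a * b) * ((c * e) * (a * b) * (c * e)) = 1 := by
          rw [← h, pow_succ, pow_two]; group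
        have hce2 : (c * e)⁻¹ = c * e := by
          rw [mul_inv_rev, inv_eq hD he, inv_eq hD hc, hec.eq]
        rw [mul_eq_one_iff_eq_inv.1 h3, mul_inv_rev (c * e * (a * b)) (c * e), mul_inv_rev (c * e) (a * b), hce2,
          inv_eq_of_mul_eq_one_right hq2]
        group
      calc (a * b) * c * (a * b) * e = (a * b) * c * ((a * b) * e) := by group
        _ = (a * b) * c * (e * (a * b)) := by rw [hse.eq]
        _ = (a * b) * (c * e) * (a * b) := by group
        _ = (c * e) * (a * b) * (c * e) := hr
        _ = c * (e * (a * b)) * (c * e) := by group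
        _ = c * (a * b) * (e * c) * e := by rw [← hse.eq]; group
        _ = c * (a * b) * c * (e * e) := by rw [hec.eq]; group
        _ = _ := by rw [hee, mul_one]
    set c1 := (a * b) * c * (a * b) with hc1
    have hc1D : c1 ∈ D := by
      have := conj_mem hD (a * b) hc
      rwa [inv_eq_of_mul_eq_one_right hq2] at this
    have hc1e : Commute c1 e := (hse.mul_left hec.symm).mul_left hse
    have hne1 : c1 ≠ e := fun h' => by
      rw [h', hee, hpq'] at key
      exact hnpq (by rw [eq_inv_of_mul_eq_one_left key.symm, inv_eq hD hq])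
    rw [hpq'] at key
    have hcom : Commute (c * a * c) (c1 * e) := by rw [key]; exact (Commute.refl _).mul_right hpq
    obtain ⟨p1, p2⟩ := (ThreeTransp.centralize_two hD.1 hc1D he hp hne1 hc1e).1 hcom
    have hcom' : Commute (c * b * c) (c1 * e) := by rw [key]; exact hpq.symm.mul_right (Commute.refl _)
    obtain ⟨q1, q2⟩ := (ThreeTransp.centralize_two hD.1 hc1D he hq hne1 hc1e).1 hcom'
    -- so e is one of the two factors
    by_cases e1 : e = c * a * c
    · exact hnpa (e1 ▸ hea)
    by_cases e2 : e = c * b * c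
    · exact hnqb (e2 ▸ heb)
    by_cases f1 : c1 = c * a * c
    · rw [f1] at key
      exact e2 (mul_left_cancel key)
    by_cases f2 : c1 = c * b * c
    · rw [f2, hpq.eq] at key
      exact e1 (mul_left_cancel key)
    refine noRel_four hD htf [c1, e, c * a * c, c * b * c] ?_ rfl ?_ ?_ ?_
    · simp [hne1, hnpq, e1, e2, f1, f2]
    · simp [hc1D, he, hp, hq]
    · intro u hu v hv
      simp only [List.mem_cons, List.not_mem_nil, or_false] at hu hv
      rcases hu with rfl | rfl | rfl | rfl <;> rcases hv with rfl | rfl | rfl | rfl <;>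
        first
          | exact Commute.refl _
          | assumption
          | (apply Commute.symm; assumption)
    · simp only [List.prod_cons, List.prod_nil, mul_one]
      rw [show c1 * (e * (c * a * c * (c * b * c))) = c1 * e * (c * a * c * (c * b * c)) by group, key,
        show c * a * c * (c * b * c) * (c * a * c * (c * b * c)) =
          c * a * c * ((c * b * c) * (c * a * c)) * (c * b * c) by group, ← hpq.eq,
        show c * a * c * (c * a * c * (c * b * c)) * (c * b * c) =
          (c * a * c * (c * a * c)) * ((c * b * c) * (c * b * c)) by group, sq hD hp, sq hD hq, one_mul]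

theorem bad_product {a b c e : G} (ha : a ∈ D) (hb : b ∈ D) (hc : c ∈ D) (he : e ∈ D) (hab : Commute a b)
    (hne : a ≠ b) (hac : ¬ Commute a c) (hbc : ¬ Commute b c) (hea : Commute e a) (heb : Commute e b)
    (hec : Commute e c) : ((a * b) * (c * e)) ^ 2 ≠ 1 ∧ ((a * b) * (c * e)) ^ 3 ≠ 1 :=
  bad_product_gen hC.tt hC.tf ha hb hc he hab hne hac hbc hea heb hec

/-- A conjugacy class of 3-transpositions consists of transpositions. -/
theorem unique_class (hcore : Core22 G D) {D' : Set G} (hD' : Cfsg.IsThreeTranspositionClass D') : D' = D := by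
  classical
  obtain ⟨h3, ⟨x, hx, hcl⟩, -⟩ := hD'
  obtain ⟨m, h1, hm, hxm⟩ := involution_isProd hC hcore (ThreeTransp.sq_one h3 hx) (ThreeTransp.ne_one h3 hx)
  obtain ⟨d, hd, -⟩ := hcore.2
  by_cases hm1 : m = 1
  · subst hm1
    have hxD := (isProd_one hC).1 hxm
    rw [hcl]
    ext y
    show IsConj x y ↔ _
    rw [isConj_iff]
    exact ⟨fun ⟨g, hg⟩ => hg ▸ conj_mem hC.tt g hxD, fun hy => hC.one x hxD y hy⟩
  exfalso
  obtain ⟨a, b, c, e, ha, hb, hc, he, ⟨nab, nda, ndb, ndc, nde, nce⟩, hab, hac, hbc, hea, heb, hec, hda, hdb, hdc,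
    hde⟩ := exists_bad_pair hC hd
  have hin : ∀ u, IsProd D m u → u ∈ D' := fun u hu => by
    rw [hcl]
    exact isProd_conj hC h1 hm hxm hu
  obtain ⟨hb2, hb3⟩ := bad_product hC ha hb hc he hab nab hac hbc hea heb hec
  obtain rfl | rfl : m = 2 ∨ m = 3 := by omega
  · rcases h3.2 _ (hin (a * b) ⟨[a, b], by simp [nab], rfl, by simp [ha, hb], by simp [hab, hab.symm, Commute.refl], by simp⟩)
      _ (hin (c * e) ⟨[c, e], by simp [nce], rfl, by simp [hc, he], by simp [hec, hec.symm, Commute.refl], by simp⟩)
      with h | h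
    · exact hb2 h
    · exact hb3 h
  · have e1 : (d * (a * b)) * (d * (c * e)) = (a * b) * (c * e) := by
      rw [(hda.mul_right hdb).eq, show a * b * d * (d * (c * e)) = a * b * (d * d) * (c * e) by group,
        sq hC.tt hd, mul_one]
    rcases h3.2 _ (hin (d * (a * b)) ⟨[d, a, b], by simp [nab, nda, ndb], rfl, by simp [hd, ha, hb],
        by simp [hab, hab.symm, hda, hda.symm, hdb, hdb.symm, Commute.refl], by simp⟩)
      _ (hin (d * (c * e)) ⟨[d, c, e], by simp [nce, ndc, nde], rfl, by simp [hd, hc, he],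
        by simp [hec, hec.symm, hdc, hdc.symm, hde, hde.symm, Commute.refl], by simp⟩)
      with h | h
    · exact hb2 (e1 ▸ h)
    · exact hb3 (e1 ▸ h)

end Cfsg.Agent.TT95
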