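import Cfsg.Agent.TT95.LocalPre

/-!
A section of type M(22) has a connected commuting graph, without asking for primitivity: some product
of an odd number of members of one component centralises that component, and then no other can exist.
-/

set_option autoImplicit false
set_option linter.unusedSectionVars false

namespace Cfsg.Agent.TT95

open Cfsg.Agent.TT95.U6

variable {G : Type*} [Group G] {D : Set G} (hP : Pre22 D)

include hP

namespace Pre22

theorem fold_conj {a : G} {γ : ℕ → G} (hγ : IsLocal D a γ) (L : List ℕ) (hL : ∀ p ∈ L, isPt p = true)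
    {x : ℕ} (hx : isPt x = true) :
    (L.map γ).prod * γ x * (L.map γ).prod⁻¹ = γ (L.foldr tv x) ∧ isPt (L.foldr tv x) = true := by
  induction L with
  | nil => exact ⟨by simp, hx⟩
  | cons p L ih =>
    obtain ⟨h1, h2⟩ := ih fun q hq => hL q (List.mem_cons_of_mem _ hq)
    have hp := hL p List.mem_cons_self
    refine ⟨?_, hγ.isPt_tv p _ hp h2⟩
    rw [List.foldr_cons, ← hγ.conj p _ hp h2, ← h1, List.map_cons, List.prod_cons]
    group

/-- The product over a line or a six-point arc acts on the component as 1 or as the transposition. -/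
theorem special_prod {a : G} (ha : a ∈ D) {γ : ℕ → G} (hγ : IsLocal D a γ) {L : List ℕ}
    (hL : L ∈ [[4, 17, 21, 25, 29], [1, 4, 16, 21, 45, 57], [1, 4, 16, 25, 37, 61]]) :
    (∀ x ∈ D, Path D a x → Commute (L.map γ).prod x) ∨
      (∀ x ∈ D, Path D a x → Commute (a * (L.map γ).prod) x) := by
  have h := List.all_eq_true.1 special_check L hL
  simp only [Bool.and_eq_true, List.all_eq_true] at h
  obtain ⟨⟨h1, -⟩, h3⟩ := h
  refine kernel_path hP.tt ha ?_ ?_ (fun x hx y hy hp => dperp hP ha hx hp hy) (farPath hP ha)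
  · refine Commute.list_prod_left _ _ fun u hu => ?_
    obtain ⟨p, hp, rfl⟩ := List.mem_map.1 hu
    exact (hγ.mem p (h1 p hp)).2.2.symm
  · intro b hb
    obtain ⟨q, hq, rfl⟩ := hγ.surj b hb
    refine mul_inv_eq_iff_eq_mul.1 ?_
    rw [(fold_conj hP hγ L h1 hq).1,
      Nat.eq_of_beq_eq_true (allP_iff.1 h3 q (mem_pts.2 hq))]

theorem exists_far_witness {a : G} (ha : a ∈ D) {γ : ℕ → G} (hγ : IsLocal D a γ) :
    ∃ d ∈ far D a, Path D a d ∧ Commute d (γ 1) ∧ Commute d (γ 4) ∧ Commute d (γ 16) := by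
  obtain ⟨q1, q2, q3, q4, -⟩ := base_isPt
  obtain ⟨-, -, -, s4, s5, s6, s7, s8, s9, s10, s11, -⟩ := special_pts
  have hb := hγ.mem e1 q1
  have h4 := hγ.mem e2 q2
  have h16 := hγ.mem e3 q3
  have c12 : Commute (γ e1) (γ e2) := ((hγ.comm e2 e1 q2 q1).2 s11).symm
  have c13 : Commute (γ e1) (γ e3) := ((hγ.comm e3 e1 q3 q1).2 s10).symm
  have n12 : γ e2 ≠ γ e1 := fun e => absurd (hγ.inj e2 e1 q2 q1 e) (by decide)
  have n13 : γ e3 ≠ γ e1 := fun e => absurd (hγ.inj e3 e1 q3 q1 e) (by decide)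
  obtain ⟨δ, hδ, d1, d2⟩ := two hP hb.1 (b := a) ⟨ha, hb.2.1.symm, hb.2.2.symm⟩ ⟨h4.1, n12, c12⟩
    h4.2.1 h4.2.2
  obtain ⟨t, ht, htγ⟩ := hδ.surj _ (show γ e3 ∈ nb D (γ e1) from ⟨h16.1, n13, c13⟩)
  have ht1 : orth t e1 = true := (hδ.comm t e1 ht q1).1 (by rw [htγ, d1]; exact h16.2.2.symm)
  have c23 : Commute (γ e3) (γ e2) := (hγ.comm e3 e2 q3 q2).2 (by decide +kernel)
  have ht2 : orth t e2 = true := (hδ.comm t e2 ht q2).1 (by rw [htγ, d2]; exact c23)
  have ht3 : t ∉ line12 := by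
    intro hmem
    -- a point commuting with a and γ 4 but not with γ 16
    have hf := hγ.mem f3 base_isPt.2.2.2.2.2
    have cf1 : Commute (γ f3) (γ e1) := (hγ.comm f3 e1 base_isPt.2.2.2.2.2 q1).2 s4
    have cf2 : Commute (γ f3) (γ e2) := (hγ.comm f3 e2 base_isPt.2.2.2.2.2 q2).2 s5
    obtain ⟨r, hr, hrγ⟩ := hδ.surj _ (show γ f3 ∈ nb D (γ e1) from
      ⟨hf.1, fun e => absurd (hγ.inj f3 e1 base_isPt.2.2.2.2.2 q1 e) (by decide), cf1.symm⟩)
    have hr1 : orth r e1 = true := (hδ.comm r e1 hr q1).1 (by rw [hrγ, d1]; exact hf.2.2.symm)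
    have hr2 : orth r e2 = true := (hδ.comm r e2 hr q2).1 (by rw [hrγ, d2]; exact cf2)
    have hrt : orth t r = true := by
      have hline := allP_iff.1 line12_spec.1 t (mem_pts.2 ht)
      rw [ht1, ht2, Bool.and_self, Bool.not_true, Bool.false_or, inMask_maskOf.2 hmem] at hline
      refine allP_iff.1 (beq_iff_eq.1 hline) r ?_
      have := allP_iff.1 perp12_spec r (mem_pts.2 hr)
      rw [hr1, hr2, Bool.and_self, beq_iff_eq] at this
      exact inMask_maskOf.1 this.symm |> fun h => h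
    have := (hδ.comm t r ht hr).2 hrt
    rw [htγ, hrγ] at this
    have := (hγ.comm e3 f3 q3 base_isPt.2.2.2.2.2).1 this
    revert this
    decide +kernel
  obtain ⟨g, hg, ge, hfix⟩ := move hP hδ q3 (orbit_third (mem_pts.2 ht) ht1 ht2 ht3)
  have g1 : g * δ e1 * g⁻¹ = a := by
    rw [hfix e1 q1 (fun e _ h => (Bool.and_eq_true _ _ ▸ h).1), d1]
  have g2 : g * δ e2 * g⁻¹ = γ e2 := by
    rw [hfix e2 q2 (fun e _ h => (Bool.and_eq_true _ _ ▸ h).2), d2]
  rw [htγ] at ge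
  refine ⟨g * δ f1 * g⁻¹, g1 ▸ far_of_orth hP hg q1 q4 s7, ?_, ?_, g2 ▸ (hg.comm f1 e2 q4 q2).2 s8,
    ge ▸ (hg.comm f1 e3 q4 q3).2 s9⟩
  · exact Path.trans' (Path.single' ha hb.1 hb.2.2) (Path.single' hb.1 (hg.mem f1 q4).1 (hg.mem f1 q4).2.2)
  · exact (hg.mem f1 q4).2.2.symm

/-- An odd product of members of the component of `a` centralises that component. -/
theorem exists_odd_central {a : G} (ha : a ∈ D) :
    ∃ L : List G, Odd L.length ∧ (∀ u ∈ L, u ∈ D ∧ Path D a u) ∧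
      ∀ x ∈ D, Path D a x → Commute L.prod x := by
  obtain ⟨γ, hγ⟩ := hP.loc a ha
  have hmem : ∀ L ∈ [[4, 17, 21, 25, 29], [1, 4, 16, 21, 45, 57], [1, 4, 16, 25, 37, 61]],
      ∀ p ∈ (L : List ℕ), isPt p = true ∧ γ p ∈ D ∧ Path D a (γ p) ∧
        ∀ q ∈ L, isPt q = true → Commute (γ p) (γ q) := by
    intro L hL p hp
    have h := List.all_eq_true.1 special_check L hL
    simp only [Bool.and_eq_true, List.all_eq_true] at h
    have hpp := h.1.1 p hp
    have hm := hγ.mem p hpp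
    exact ⟨hpp, hm.1, Path.single' ha hm.1 hm.2.2,
      fun q hq hqp => (hγ.comm p q hpp hqp).2 (h.1.2 p hp q hq)⟩
  by_contra hno
  push Not at hno
  have bad : ∀ L : List G, Odd L.length → (∀ u ∈ L, u ∈ D ∧ Path D a u) →
      ¬ ∀ x ∈ D, Path D a x → Commute L.prod x := by
    intro L h1 h2 h3
    obtain ⟨x, hx, hp, hn⟩ := hno L h1 h2
    exact hn (h3 x hx hp)
  obtain ⟨d, hda, hpd, d1, d4, d16⟩ := exists_far_witness hP ha hγ
  have hd := hda.1
  have six : ∀ x y z : ℕ, [1, 4, 16, x, y, z] ∈ [[4, 17, 21, 25, 29], [1, 4, 16, 21, 45, 57],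
      [1, 4, 16, 25, 37, 61]] → x ≠ y → x ≠ z → y ≠ z →
      Commute d (γ x) ∧ Commute d (γ y) ∧ Commute d (γ z) := by
    intro x y z hL nxy nxz nyz
    have hm := hmem _ hL
    have hc := (special_prod hP ha hγ hL).resolve_right fun h => by
      refine bad (a :: [1, 4, 16, x, y, z].map γ) ⟨3, rfl⟩ ?_ fun u hu hpu => by
        rw [List.prod_cons]; exact h u hu hpu
      intro u hu
      rcases List.mem_cons.1 hu with rfl | hu
      · exact ⟨ha, .refl⟩
      · obtain ⟨p, hp, rfl⟩ := List.mem_map.1 hu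
        exact ⟨(hm p hp).2.1, (hm p hp).2.2.1⟩
    have h := hc d hd hpd
    simp only [List.map_cons, List.map_nil, List.prod_cons, List.prod_nil, mul_one, ← mul_assoc] at h
    have h6 : Commute d (γ x * γ y * γ z) := by
      have h' := ((d1.mul_right d4).mul_right d16).inv_right.mul_right h.symm
      rwa [show (γ 1 * γ 4 * γ 16)⁻¹ * (γ 1 * γ 4 * γ 16 * γ x * γ y * γ z) = γ x * γ y * γ z by group] at h'
    obtain ⟨ix, xD, -, xc⟩ := hm x (by simp)
    obtain ⟨iy, yD, -, yc⟩ := hm y (by simp)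
    obtain ⟨iz, zD, -, zc⟩ := hm z (by simp)
    exact (ThreeTransp.centralize_three hP.tt.1 xD yD zD hd
      (fun e => nxy (hγ.inj x y ix iy e)) (fun e => nxz (hγ.inj x z ix iz e))
      (fun e => nyz (hγ.inj y z iy iz e)) (xc y (by simp) iy) (xc z (by simp) iz) (yc z (by simp) iz)).1 h6
  obtain ⟨d21, -, -⟩ := six 21 45 57 (by simp) (by decide) (by decide) (by decide)
  obtain ⟨d25, -, -⟩ := six 25 37 61 (by simp) (by decide) (by decide) (by decide)
  have hm := hmem [4, 17, 21, 25, 29] (by simp)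
  rcases special_prod hP ha hγ (L := [4, 17, 21, 25, 29]) (by simp) with h | h
  · refine bad ([4, 17, 21, 25, 29].map γ) ⟨2, rfl⟩ ?_ h
    intro u hu
    obtain ⟨p, hp, rfl⟩ := List.mem_map.1 hu
    exact ⟨(hm p hp).2.1, (hm p hp).2.2.1⟩
  · obtain ⟨i4, -, -, c4⟩ := hm 4 (by simp)
    obtain ⟨i17, D17, -, c17⟩ := hm 17 (by simp)
    obtain ⟨i21, -, -, c21⟩ := hm 21 (by simp)
    obtain ⟨i25, -, -, c25⟩ := hm 25 (by simp)
    obtain ⟨i29, D29, -, c29⟩ := hm 29 (by simp)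
    have h' := h d hd hpd
    simp only [List.map_cons, List.map_nil, List.prod_cons, List.prod_nil, mul_one] at h'
    have e : γ 4 * (γ 17 * (γ 21 * (γ 25 * γ 29))) = γ 17 * γ 29 * (γ 4 * γ 21 * γ 25) := by
      have k1 : Commute (γ 29) (γ 4 * γ 21 * γ 25) :=
        ((c29 4 (by simp) i4).mul_right (c29 21 (by simp) i21)).mul_right (c29 25 (by simp) i25)
      rw [mul_assoc (γ 17) (γ 29), k1.eq, ← mul_assoc (γ 4) (γ 17), (c4 17 (by simp) i17).eq]
      simp only [mul_assoc]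
    rw [e, ← mul_assoc] at h'
    have h3 : Commute d (a * γ 17 * γ 29) := by
      have h'' := h'.symm.mul_right ((d4.mul_right d21).mul_right d25).inv_right
      rwa [← mul_assoc a, mul_assoc _ _ (γ 4 * γ 21 * γ 25)⁻¹, mul_inv_cancel, mul_one] at h''
    have m17 := hγ.mem 17 i17
    have m29 := hγ.mem 29 i29
    exact hda.2 ((ThreeTransp.centralize_three hP.tt.1 ha D17 D29 hd m17.2.1.symm m29.2.1.symm
      (fun e => absurd (hγ.inj 17 29 i17 i29 e) (by decide)) m17.2.2 m29.2.2 (c17 29 (by simp) i29)).1 h3).1.symm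

theorem even_trans_step {b c : G} (hb : b ∈ D) (hc : c ∈ D) (h : Commute b c) :
    ∃ d ∈ D, ¬ Commute b d ∧ ¬ Commute c d ∧ Path D b d := by
  obtain ⟨q1, q2, -⟩ := base_isPt
  by_cases e : c = b
  · subst e
    obtain ⟨γ, hγ⟩ := hP.loc c hc
    have hm := hγ.mem e1 q1
    obtain ⟨d, hd, h1, -⟩ := witness hP hc (γ e1) hm (γ e1) hm (Commute.refl _)
    exact ⟨d, hd.1, hd.2, hd.2, Path.trans' (Path.single' hc hm.1 hm.2.2) (Path.single' hm.1 hd.1 h1)⟩
  obtain ⟨γ, hγ, g1⟩ := one' hP hb (b := c) ⟨hc, e, h⟩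
  obtain ⟨hwD, hwb, hbw⟩ := hγ.mem e2 q2
  have cwc : Commute (γ e2) c := g1 ▸ (hγ.comm e2 e1 q2 q1).2 special_pts.2.2.2.2.2.2.2.2.2.2.1
  have hwc : γ e2 ≠ c := fun e => absurd (hγ.inj e2 e1 q2 q1 (e.trans g1.symm)) (by decide)
  obtain ⟨δ, hδ, d1, d2⟩ := two hP hwD (b := b) (c := c) ⟨hb, hwb.symm, hbw.symm⟩ ⟨hc, hwc.symm, cwc⟩ e h
  obtain ⟨i, s2, s3, -⟩ := special_pts
  refine ⟨δ 320, (hδ.mem 320 i).1, (d1 ▸ far_of_orth hP hδ q1 i s2).2, (d2 ▸ far_of_orth hP hδ q2 i s3).2, ?_⟩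
  exact Path.trans' (Path.single' hb hwD hbw) (Path.single' hwD (hδ.mem 320 i).1 (hδ.mem 320 i).2.2)

/-- The commuting graph is connected. -/
theorem conn [Finite G] : Conn D := by
  intro a ha x0 hx0
  by_contra hn0
  obtain ⟨L, hodd, hL, hcent⟩ := exists_odd_central hP ha
  have hD := hP.tt
  set ζ := L.prod with hζ
  set C0 := {x | x ∈ D ∧ Path D a x} with hC0
  set C1 := {x | x ∈ D ∧ Path D x0 x} with hC1
  have hmap : ∀ (g : G) {u v : G}, Path D u v → Path D (g * u * g⁻¹) (g * v * g⁻¹) := fun g {u v} h =>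
    Path.conj hD g (fun y hy => conj_mem hD g hy) h
  set π : G → G := fun x => x * (ζ * x * ζ⁻¹) * x with hπ
  have hout : ∀ x ∈ C1, ¬ Path D a x := fun x hx h => hn0 (Path.trans' h hx.2.symm)
  have hapow : a ^ L.length = a := by
    obtain ⟨k, hk⟩ := hodd
    rw [hk, pow_succ, pow_mul, pow_two, sq hD ha, one_pow, one_mul]
  have hπC : ∀ x ∈ C1, π x ∈ C0 := by
    intro x hx
    have h1 := list_prod_path hD ha hx.1 (hout x hx) L hL
    rw [hapow, inv_eq hD ha] at h1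
    have h2 := hmap x h1
    rw [inv_eq hD hx.1, third_symm hD hx.1 ha fun h => hout x hx (Path.single' ha hx.1 h.symm)] at h2
    exact ⟨conj_mem' hD (conj_mem hD ζ hx.1) hx.1, h2⟩
  have hgood : ∀ u v : G, u ∈ C0 → v ∈ C0 → Commute ζ (u * v) ∧ ∀ x ∈ C1, (u * v) * x * (u * v)⁻¹ ∈ C1 := by
    intro u v hu hv
    refine ⟨(hcent u hu.1 hu.2).mul_right (hcent v hv.1 hv.2), fun x hx => ⟨conj_mem hD _ hx.1, ?_⟩⟩
    refine Path.trans' hx.2 ?_
    have h1 := list_prod_path hD ha hx.1 (hout x hx) [u, v]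
      (by simp only [List.mem_cons, List.not_mem_nil, or_false]; rintro w (rfl | rfl) <;> assumption)
    simp only [List.length_cons, List.length_nil, List.prod_cons, List.prod_nil, mul_one, pow_succ, pow_zero,
      one_mul, sq hD ha, inv_one] at h1
    exact h1
  have hequiv : ∀ g x : G, Commute ζ g → π (g * x * g⁻¹) = g * π x * g⁻¹ := by
    intro g x hg
    have e : ζ * (g * x * g⁻¹) * ζ⁻¹ = g * (ζ * x * ζ⁻¹) * g⁻¹ := by
      rw [show ζ * (g * x * g⁻¹) * ζ⁻¹ = (ζ * g) * x * (ζ * g)⁻¹ by group, hg.eq]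
      group
    simp only [hπ, e]
    group
  have hsurj : C0 ⊆ π '' C1 := by
    have hstep : ∀ u v : G, u ∈ C0 → v ∈ C0 → ¬ Commute u v → u ∈ π '' C1 → v ∈ π '' C1 := by
      intro u v hu hv huv ⟨x, hx, hxu⟩
      refine ⟨(u * v) * x * (u * v)⁻¹, (hgood u v hu hv).2 x hx, ?_⟩
      rw [hequiv _ x (hgood u v hu hv).1, hxu, exists_conj_of_not_commute hD hu.1 hv.1 huv]
    have hmove : ∀ u v : G, u ∈ C0 → v ∈ C0 → u ∈ π '' C1 → v ∈ π '' C1 := by
      intro u v hu hv h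
      by_cases huv : Commute u v
      · obtain ⟨d, hd, h1, h2, hp⟩ := even_trans_step hP hu.1 hv.1 huv
        have hd0 : d ∈ C0 := ⟨hd, Path.trans' hu.2 hp⟩
        exact hstep d v hd0 hv (fun e => h2 e.symm) (hstep u d hu hd0 h1 h)
      · exact hstep u v hu hv huv h
    intro v hv
    exact hmove _ v (hπC x0 ⟨hx0, .refl⟩) hv ⟨x0, ⟨hx0, .refl⟩, rfl⟩
  have hcard : C1.ncard ≤ C0.ncard := by
    refine Set.ncard_le_ncard_of_injOn (fun z => x0 * (a * z * a) * x0) ?_ ?_ (Set.toFinite _)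
    · intro z hz
      refine ⟨conj_mem' hD (conj_mem' hD hz.1 ha) hx0, ?_⟩
      have h1 := hmap x0 (hmap a hz.2)
      rw [inv_eq hD hx0, inv_eq hD ha,
        third_symm hD hx0 ha fun h => hn0 (Path.single' ha hx0 h.symm)] at h1
      exact h1
    · intro y _ z _ h
      simpa using h
  have hinj : Set.InjOn π C1 := by
    refine Set.injOn_of_ncard_image_eq ?_ (Set.toFinite _)
    exact le_antisymm (Set.ncard_image_le (Set.toFinite _))
      (hcard.trans (Set.ncard_le_ncard hsurj (Set.toFinite _)))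
  have hx1 : x0 ∈ C1 := ⟨hx0, .refl⟩
  obtain ⟨hbD, hbp⟩ := hπC x0 hx1
  obtain ⟨γ, hγ⟩ := hP.loc _ hbD
  obtain ⟨q1, q2, -⟩ := base_isPt
  obtain ⟨u0, u1, u2⟩ := hγ.mem e1 q1
  obtain ⟨v0, v1, v2⟩ := hγ.mem e2 q2
  have cuv : Commute (γ e1) (γ e2) := ((hγ.comm e2 e1 q2 q1).2 special_pts.2.2.2.2.2.2.2.2.2.2.1).symm
  have nuv : γ e1 ≠ γ e2 := fun e => absurd (hγ.inj e1 e2 q1 q2 e) (by decide)
  have hu : γ e1 ∈ C0 := ⟨u0, Path.trans' hbp (Path.single' hbD u0 u2)⟩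
  have hv : γ e2 ∈ C0 := ⟨v0, Path.trans' hbp (Path.single' hbD v0 v2)⟩
  obtain ⟨hg, hg'⟩ := hgood _ _ hu hv
  have hfix : (γ e1 * γ e2) * x0 * (γ e1 * γ e2)⁻¹ = x0 := by
    refine hinj (hg' x0 hx1) hx1 ?_
    rw [hequiv _ x0 hg, mul_inv_eq_iff_eq_mul]
    exact (u2.mul_right v2).eq.symm
  have hc : Commute x0 (γ e1 * γ e2) := (mul_inv_eq_iff_eq_mul.1 hfix).symm
  exact hn0 (Path.trans' hu.2
    (Path.single' u0 hx0 ((ThreeTransp.centralize_two hD.1 u0 v0 hx0 nuv cuv).1 hc).1.symm))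

end Pre22

omit hP in
/-- The standing hypotheses follow from the core of type M(22) alone. -/
theorem cfg22_of_core22 [Finite G] (hD : TTSet D) (h : Core22 G D) : Cfg22 D := by
  obtain ⟨h1, h2⟩ := oneClass_twinFree_of_core22 hD h
  have hloc : ∀ a ∈ D, ∃ γ, IsLocal D a γ := fun a ha => exists_isLocal hD h ha
  exact ⟨hD, h.1, h1, h2, fun a ha b hb => Pre22.conn ⟨hD, hloc⟩ a ha b hb, hloc, noRel_five_of_core22 hD h⟩

end Cfsg.Agent.TT95
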