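import Cfsg.Agent.TT95.U6Model

/-!
Finite facts on the residue of a point: 45 keys, each standing for four points, with the five-point
lines among the keys.
-/

set_option autoImplicit false

namespace Cfsg.Agent.TT95.U6

theorem fibre_mem_check :
    allP (fun x => Nat.beq x e1 ||
      (fibres.any fun p => Nat.beq p.1 (key x) && p.2.any (fun y => Nat.beq y x))) perp1 = true := by
  decide +kernel

theorem fibre_orth_check :
    allP (fun p => allP (fun z => allP (fun y => !orth z y || orth z p.1) p.2) perp1) fibres = true := by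
  decide +kernel

theorem key_sep_check :
    allP (fun k => allP (fun l => Nat.beq k l ||
      (keys.any fun z => orth z k && !orth z l)) keys) keys = true := by
  decide +kernel

theorem keys_nodup_check : distinctOK keys 0 = true := by decide +kernel

theorem perp1_check : allP isPt perp1 = true ∧ allP isPt keys = true ∧
    allP (fun x => Nat.beq (key x) 0 == Nat.beq x e1) perp1 = true := by
  decide +kernel

theorem fibre_nodup_check : allP (fun p => distinctOK p.2 0) fibres = true := by decide +kernel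

theorem orth_comm_check :
    allP (fun k => allP (fun l => orth k l == orth l k) keys) keys = true ∧
      allP (fun x => orth x x) keys = true := by
  decide +kernel

theorem nodup_of_distinctOK : ∀ {L : List ℕ} {seen : ℕ}, distinctOK L seen = true →
    L.Nodup ∧ ∀ x ∈ L, inMask seen x = false
  | [], _, _ => by simp
  | a :: L, seen, h => by
    have he : distinctOK (a :: L) seen = (!inMask seen a && distinctOK L (addMask seen a)) := rfl
    rw [he, Bool.and_eq_true, Bool.not_eq_true'] at h
    obtain ⟨h1, h2⟩ := nodup_of_distinctOK h.2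
    refine ⟨List.nodup_cons.2 ⟨fun hm => ?_, h1⟩, fun x hx => ?_⟩
    · have := h2 a hm
      rw [inMask_addMask] at this
      simp at this
    · rcases List.mem_cons.1 hx with rfl | hx
      · exact h.1
      · have := h2 x hx
        rw [inMask_addMask, Bool.or_eq_false_iff] at this
        exact this.1

/-- Points other than e₁ orthogonal to e₁. -/
def isR (x : ℕ) : Prop := isPt x = true ∧ orth x e1 = true ∧ x ≠ e1

/-- The set of keys. -/
def keySet : Finset ℕ := keys.toFinset

/-- The fibre over a key. -/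
def fibre (k : ℕ) : Finset ℕ :=
  ((fibres.filter fun p => Nat.beq p.1 k).flatMap Prod.snd).toFinset

theorem card_keySet : keySet.card = 45 := by
  rw [keySet, List.toFinset_card_of_nodup (nodup_of_distinctOK keys_nodup_check).1, keys_length]

theorem mem_perp1 {x : ℕ} (hx : isR x) : x ∈ perp1 := by
  have := allP_iff.1 perp1_spec x (mem_pts.2 hx.1)
  rw [hx.2.1, beq_iff_eq, eq_comm, inMask_maskOf] at this
  exact this

theorem isR_of_mem_perp1 {x : ℕ} (hx : x ∈ perp1) (hne : x ≠ e1) : isR x := by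
  have hp := allP_iff.1 perp1_check.1 x hx
  have := allP_iff.1 perp1_spec x (mem_pts.2 hp)
  rw [inMask_maskOf.2 hx, beq_iff_eq] at this
  exact ⟨hp, this, hne⟩

theorem key_mem {x : ℕ} (hx : isR x) : key x ∈ keySet := by
  have := allP_iff.1 key_spec.1 x (mem_perp1 hx)
  rw [Bool.or_eq_true, inMask_maskOf] at this
  rcases this with h | h
  · exact absurd (Nat.eq_of_beq_eq_true h) hx.2.2
  · exact List.mem_toFinset.2 h

theorem isR_key {k : ℕ} (hk : k ∈ keySet) : isR k ∧ key k = k := by
  have := allP_iff.1 key_spec.2.1 k (List.mem_toFinset.1 hk)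
  simp only [Bool.and_eq_true, Bool.not_eq_true', inMask_maskOf] at this
  obtain ⟨⟨h1, h2⟩, h3⟩ := this
  exact ⟨isR_of_mem_perp1 h1 (fun e => by rw [e] at h3; simp at h3), Nat.eq_of_beq_eq_true h2⟩

theorem mem_fibre_pair {k x : ℕ} (hx : x ∈ fibre k) : ∃ p ∈ fibres, p.1 = k ∧ x ∈ p.2 := by
  simp only [fibre, List.mem_toFinset, List.mem_flatMap, List.mem_filter] at hx
  obtain ⟨p, ⟨hp, hk⟩, hx⟩ := hx
  exact ⟨p, hp, Nat.eq_of_beq_eq_true hk, hx⟩

theorem fibre_spec {k x : ℕ} (hx : x ∈ fibre k) : isR x ∧ key x = k := by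
  obtain ⟨p, hp, rfl, hxp⟩ := mem_fibre_pair hx
  have := allP_iff.1 key_spec.2.2.1 p hp
  rw [Bool.and_eq_true] at this
  have h2 := allP_iff.1 this.2 x hxp
  simp only [Bool.and_eq_true, Bool.not_eq_true', inMask_maskOf] at h2
  obtain ⟨⟨⟨h1, h3⟩, h4⟩, -⟩ := h2
  exact ⟨isR_of_mem_perp1 h1 (fun e => by rw [e] at h3; simp at h3), Nat.eq_of_beq_eq_true h4⟩

theorem mem_fibre {x : ℕ} (hx : isR x) : x ∈ fibre (key x) := by
  have := allP_iff.1 fibre_mem_check x (mem_perp1 hx)
  simp only [Bool.or_eq_true, List.any_eq_true, Bool.and_eq_true] at this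
  obtain ⟨p, hp, hk, y, hy, hxy⟩ := this.resolve_left (fun h => hx.2.2 (Nat.eq_of_beq_eq_true h))
  simp only [fibre, List.mem_toFinset, List.mem_flatMap, List.mem_filter]
  exact ⟨p, ⟨hp, hk⟩, Nat.eq_of_beq_eq_true hxy ▸ hy⟩

theorem fibre_pair_unique : (fibres.map Prod.fst).Nodup := (nodup_of_distinctOK keys_nodup_check).1

theorem fibre_card {k : ℕ} (hk : k ∈ keySet) : (fibre k).card = 4 := by
  obtain ⟨p, hp, rfl⟩ := List.mem_map.1 (List.mem_toFinset.1 hk)
  have e : fibre p.1 = p.2.toFinset := by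
    ext x
    simp only [fibre, List.mem_toFinset, List.mem_flatMap, List.mem_filter]
    constructor
    · rintro ⟨q, ⟨hq, hq1⟩, hx⟩
      rwa [List.inj_on_of_nodup_map fibre_pair_unique hq hp (Nat.eq_of_beq_eq_true hq1)] at hx
    · exact fun hx => ⟨p, ⟨hp, by simp⟩, hx⟩
  have h := allP_iff.1 key_spec.2.2.1 p hp
  rw [Bool.and_eq_true] at h
  rw [e, List.toFinset_card_of_nodup (nodup_of_distinctOK (allP_iff.1 fibre_nodup_check p hp)).1]
  exact Nat.eq_of_beq_eq_true h.1

theorem orth_key_right {z x : ℕ} (hz : isPt z = true) (hze : orth z e1 = true) (hx : isR x) :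
    orth z x = orth z (key x) := by
  have hzm : z ∈ perp1 := by
    have := allP_iff.1 perp1_spec z (mem_pts.2 hz)
    rwa [hze, beq_iff_eq, eq_comm, inMask_maskOf] at this
  obtain ⟨p, hp, hpk, hxp⟩ := mem_fibre_pair (mem_fibre hx)
  have h1 := allP_iff.1 (allP_iff.1 key_spec.2.2.2 p hp) z hzm
  have h2 := allP_iff.1 (allP_iff.1 (allP_iff.1 fibre_orth_check p hp) z hzm) x hxp
  rw [hpk] at h1 h2
  rw [Bool.or_eq_true, Bool.not_eq_true'] at h1 h2
  cases e : orth z (key x) <;> cases e' : orth z x <;> try rfl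
  · rw [e, e'] at h2; simp at h2
  · rw [e] at h1
    have := allP_iff.1 (h1.resolve_left (by simp)) x hxp
    rw [e'] at this
    exact this

theorem fibre_orth {k x y : ℕ} (hx : x ∈ fibre k) (hy : y ∈ fibre k) : orth x y = true := by
  obtain ⟨p, hp, rfl, hxp⟩ := mem_fibre_pair hx
  obtain ⟨q, hq, hq1, hyq⟩ := mem_fibre_pair hy
  rw [List.inj_on_of_nodup_map fibre_pair_unique hq hp hq1] at hyq
  have := allP_iff.1 key_spec.2.2.1 p hp
  rw [Bool.and_eq_true] at this
  have h2 := allP_iff.1 this.2 x hxp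
  rw [Bool.and_eq_true] at h2
  exact allP_iff.1 h2.2 y hyq

/-- The relation of being collinear among keys. -/
def Adj (k l : ℕ) : Prop := k ≠ l ∧ orth k l = true

instance : DecidableRel Adj := fun _ _ => inferInstanceAs (Decidable (_ ∧ _))

theorem adj_symm {k l : ℕ} (hk : k ∈ keySet) (hl : l ∈ keySet) (h : Adj k l) : Adj l k := by
  have := allP_iff.1 (allP_iff.1 orth_comm_check.1 k (List.mem_toFinset.1 hk)) l (List.mem_toFinset.1 hl)
  rw [h.2, beq_iff_eq] at this
  exact ⟨h.1.symm, this.symm⟩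

theorem orth_key_self {k : ℕ} (hk : k ∈ keySet) : orth k k = true :=
  allP_iff.1 orth_comm_check.2 k (List.mem_toFinset.1 hk)

theorem key_separated {k l : ℕ} (hk : k ∈ keySet) (hl : l ∈ keySet) (h : k ≠ l) :
    ∃ z ∈ keySet, orth z k = true ∧ orth z l = false := by
  have := allP_iff.1 (allP_iff.1 key_sep_check k (List.mem_toFinset.1 hk)) l (List.mem_toFinset.1 hl)
  simp only [Bool.or_eq_true, List.any_eq_true, Bool.and_eq_true, Bool.not_eq_true'] at this
  obtain ⟨z, hz, h1, h2⟩ := this.resolve_left (fun e => h (Nat.eq_of_beq_eq_true e))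
  exact ⟨z, List.mem_toFinset.2 hz, h1, h2⟩

theorem mask_of_key {k : ℕ} (hk : k ∈ keySet) :
    ∃ m, (k, m) ∈ keyNbrs ∧ (∀ l ∈ keySet, inMask m l = true ↔ Adj k l) ∧
      (keySet.filter fun l => inMask m l = true).card = 12 := by
  have hm : k ∈ keyNbrs.map Prod.fst := by rw [keyNbrs_spec.2]; exact List.mem_toFinset.1 hk
  obtain ⟨p, hp, rfl⟩ := List.mem_map.1 hm
  have h := allP_iff.1 keyNbrs_spec.1 p hp
  rw [Bool.and_eq_true] at h
  refine ⟨p.2, hp, fun l hl => ?_, ?_⟩
  · have := allP_iff.1 h.1 l (List.mem_toFinset.1 hl)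
    rw [beq_iff_eq] at this
    rw [← this, Bool.and_eq_true, Bool.not_eq_true', Adj]
    exact ⟨fun h => ⟨fun e => by simp [e] at h, h.1⟩,
      fun h => ⟨h.2, Bool.eq_false_iff.2 fun e => h.1 (Nat.eq_of_beq_eq_true e)⟩⟩
  · rw [keySet, ← List.toFinset_filter,
      List.toFinset_card_of_nodup ((nodup_of_distinctOK keys_nodup_check).1.filter _),
      ← List.countP_eq_length_filter, ← cntP_eq]
    have h2 := Nat.eq_of_beq_eq_true h.2
    simpa only [Bool.decide_eq_true] using h2

theorem card_adj {k : ℕ} (hk : k ∈ keySet) : (keySet.filter fun l => Adj k l).card = 12 := by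
  obtain ⟨m, -, h1, h2⟩ := mask_of_key hk
  rw [← h2]
  exact congrArg _ (Finset.filter_congr fun l hl => (h1 l hl).symm)

/-- Two collinear keys have exactly three further common neighbours, and these are collinear. -/
theorem line_spec {k l : ℕ} (hk : k ∈ keySet) (hl : l ∈ keySet) (h : Adj k l) :
    (keySet.filter fun r => Adj k r ∧ Adj l r).card = 3 ∧
      ∀ r ∈ keySet, ∀ t ∈ keySet, Adj k r → Adj l r → Adj k t → Adj l t → orth r t = true := by
  obtain ⟨mk, hmk, h1, -⟩ := mask_of_key hk
  obtain ⟨ml, hml, g1, -⟩ := mask_of_key hl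
  have hR := allP_iff.1 (allP_iff.1 residue_lines _ hmk) _ hml
  rw [Bool.or_eq_true, Bool.not_eq_true', Bool.and_eq_true] at hR
  obtain ⟨hc, hp⟩ := hR.resolve_left (fun e => by rw [(h1 l hl).2 h] at e; simp at e)
  have hand : ∀ r, inMask (Nat.land mk ml) r = (inMask mk r && inMask ml r) := fun r => by
    rw [inMask_eq, inMask_eq, inMask_eq]; exact Nat.testBit_and mk ml r
  have hcount : ∀ (P : ℕ → Prop) [DecidablePred P] (q : ℕ → Bool),
      (∀ r ∈ keySet, q r = true ↔ P r) → (keySet.filter P).card = cntP q keys := by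
    intro P _ q hq
    rw [cntP_eq, List.countP_eq_length_filter, ← List.toFinset_card_of_nodup
      ((nodup_of_distinctOK keys_nodup_check).1.filter _), List.toFinset_filter]
    exact congrArg _ (Finset.filter_congr fun r hr => (hq r hr).symm)
  refine ⟨?_, fun r hr t ht a1 a2 b1 b2 => ?_⟩
  · rw [hcount _ (inMask (Nat.land mk ml)) fun r hr => by rw [hand, Bool.and_eq_true, h1 r hr, g1 r hr]]
    exact Nat.eq_of_beq_eq_true hc
  obtain ⟨mr, hmr, r1, -⟩ := mask_of_key hr
  have hp' := allP_iff.1 hp _ hmr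
  rw [hand, (h1 r hr).2 a1, (g1 r hr).2 a2] at hp'
  simp only [Bool.and_self, Bool.not_true, Bool.false_or] at hp'
  -- all common neighbours other than r are neighbours of r
  by_cases hrt : r = t
  · subst hrt; exact orth_key_self hr
  have hsub : (keySet.filter fun x => Adj r x ∧ Adj k x ∧ Adj l x) ⊆
      (keySet.filter fun x => Adj k x ∧ Adj l x).erase r := by
    intro x hx
    simp only [Finset.mem_filter, Finset.mem_erase] at hx ⊢
    exact ⟨hx.2.1.1.symm, hx.1, hx.2.2⟩
  have heq := Finset.eq_of_subset_of_card_le hsub (by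
    rw [Finset.card_erase_of_mem (by simp [hr, a1, a2]),
      hcount _ (inMask (Nat.land mk ml)) fun x hx => by rw [hand, Bool.and_eq_true, h1 x hx, g1 x hx],
      hcount (fun x => Adj r x ∧ Adj k x ∧ Adj l x) (inMask (Nat.land mr (Nat.land mk ml))) fun x hx => by
        rw [inMask_eq]
        show (mr &&& _).testBit x = true ↔ _
        rw [Nat.testBit_and, ← inMask_eq, ← inMask_eq, hand, Bool.and_eq_true, Bool.and_eq_true, r1 x hx,
          h1 x hx, g1 x hx],
      Nat.eq_of_beq_eq_true hc, Nat.eq_of_beq_eq_true hp'])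
  have htm : t ∈ (keySet.filter fun x => Adj k x ∧ Adj l x).erase r := by
    simp [ht, b1, b2, Ne.symm hrt]
  rw [← heq, Finset.mem_filter] at htm
  exact htm.2.1.2

end Cfsg.Agent.TT95.U6
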