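import Cfsg.Agent.TT95.Cent24
import Cfsg.Agent.TT95.Parity24
import Cfsg.Agent.Lib.Components.Basic

/-!
Type M(24): the derived subgroup is simple, of index two, and is the layer.
-/

set_option autoImplicit false
set_option linter.unusedSectionVars false

namespace Cfsg.Agent.TT95

variable {G : Type*} [Group G] [Finite G] {D : Set G}

/-- A nontrivial normal subgroup contains the derived subgroup. -/
theorem Lay.commutator_le {n k l s t : ℕ} (hL : Lay D n k l s t) [Gen D] (h2 : 2 * (k + 1) < n) (hl : l + 1 < k)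
    {a : G} (ha : a ∈ D) {N : Subgroup G} (hN : N.Normal) (hbot : N ≠ ⊥) : commutator G ≤ N := by
  have hD := hL.tt
  have hprim := hL.primitive h2 ha
  obtain ⟨n', hn, hn1⟩ := (Subgroup.ne_bot_iff_exists_ne_one.1 hbot |> fun ⟨m, h⟩ =>
    (⟨m.1, m.2, fun e => h (Subtype.ext e)⟩ : ∃ m, m ∈ N ∧ m ≠ (1 : G)))
  obtain ⟨d, hd, hnd⟩ : ∃ d ∈ D, n' * d * n'⁻¹ ≠ d := by
    by_contra h
    push Not at h
    apply hn1
    have : n' ∈ Subgroup.center G := by
      rw [← centralizer_D_eq_center hD]
      exact Subgroup.mem_centralizer_iff.2 fun x hx => (mul_inv_eq_iff_eq_mul.1 (h x hx)).symm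
    rwa [hL.center, Subgroup.mem_bot] at this
  set d' := n' * d * n'⁻¹ with hd'
  have hd'D : d' ∈ D := conj_mem hD n' hd
  have hdd : d' * d ∈ N := by
    rw [hd', show n' * d * n'⁻¹ * d = n' * (d * n'⁻¹ * d) by group]
    refine N.mul_mem hn ?_
    have := hN.conj_mem _ (N.inv_mem hn) d
    rwa [inv_eq hD hd] at this
  obtain ⟨u, v, hu, hv, huv, huvN⟩ : ∃ u v, u ∈ D ∧ v ∈ D ∧ ¬ Commute u v ∧ u * v ∈ N := by
    by_cases hc : Commute d d'
    · obtain ⟨x, hx, hxd'⟩ : ∃ x ∈ nb D d, ¬ Commute d' x := by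
        by_contra hno
        push Not at hno
        have hsub : nb D d ⊆ insert d' (common D d d') := fun x hx => by
          by_cases e : x = d'
          · exact Or.inl e
          · exact Or.inr ⟨hx, hx.1, e, hno x hx⟩
        have := (Set.ncard_le_ncard hsub (Set.toFinite _)).trans (Set.ncard_insert_le _ _)
        rw [hL.card_nb d hd, hL.card_edge d hd d' ⟨hd'D, hnd, hc⟩] at this
        omega
      refine ⟨x * d' * x, d', conj_mem' hD hd'D hx.1, hd'D, fun h => hxd' ?_, ?_⟩
      · rw [← braid hD hd'D hx.1 hxd'] at h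
        have := ((Commute.refl d').mul_left h).mul_left (Commute.refl d')
        rw [show d' * (d' * x * d') * d' = (d' * d') * x * (d' * d') by group, sq hD hd'D, one_mul, mul_one] at this
        exact this.symm
      · have h1 := hN.conj_mem _ hdd x
        rw [inv_eq hD hx.1, show x * (d' * d) * x = x * d' * (d * x) by group, hx.2.2.eq, ← mul_assoc] at h1
        have := N.mul_mem h1 hdd
        rwa [show x * d' * x * d * (d' * d) = x * d' * x * (d * d' * d) by group, hc.eq, mul_assoc d' d d,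
          sq hD hd, mul_one] at this
    · exact ⟨d', d, hd'D, hd, fun h => hc h.symm, hdd⟩
  set B : Set G := {w | w ∈ D ∧ u * w ∈ N} with hB
  have hblock : ∀ g : G, (fun x => g * x * g⁻¹) '' B = B ∨ Disjoint ((fun x => g * x * g⁻¹) '' B) B := by
    intro g
    by_cases hdis : Disjoint ((fun x => g * x * g⁻¹) '' B) B
    · exact Or.inr hdis
    left
    obtain ⟨_, ⟨w, hw, rfl⟩, hw'⟩ := Set.not_disjoint_iff.1 hdis
    have hq : ∀ s, g * (w⁻¹ * s) * g⁻¹ ∈ N ↔ w⁻¹ * s ∈ N := fun s =>
      ⟨fun h => by simpa [mul_assoc] using hN.conj_mem _ h g⁻¹, fun h => hN.conj_mem _ h g⟩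
    have hrel : ∀ s, u * (g * s * g⁻¹) ∈ N ↔ u * s ∈ N := fun s => by
      rw [show u * (g * s * g⁻¹) = u * (g * w * g⁻¹) * (g * (w⁻¹ * s) * g⁻¹) by group, N.mul_mem_cancel_left hw'.2,
        hq, show u * s = u * w * (w⁻¹ * s) by group, N.mul_mem_cancel_left hw.2]
    ext y
    constructor
    · rintro ⟨s, hs, rfl⟩
      exact ⟨conj_mem hD g hs.1, (hrel s).2 hs.2⟩
    · intro hy
      exact ⟨g⁻¹ * y * g, ⟨by simpa using conj_mem hD g⁻¹ hy.1,
        (hrel _).1 (by rw [show g * (g⁻¹ * y * g) * g⁻¹ = y by group]; exact hy.2)⟩, by group⟩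
  rcases hprim.2.2 B (fun w hw => hw.1) hblock with h | h
  · refine absurd ?_ huv
    rw [h ⟨hu, by rw [sq hD hu]; exact N.one_mem⟩ ⟨hv, huvN⟩]
  rw [← Subgroup.Normal.quotient_commutative_iff_commutator_le]
  have hall : ∀ w ∈ D, (QuotientGroup.mk w : G ⧸ N) = QuotientGroup.mk u := by
    intro w hw
    have : w ∈ B := h.symm ▸ hw
    symm
    rw [QuotientGroup.eq, inv_eq hD hu]
    exact this.2
  have hmem : ∀ p : G ⧸ N, p ∈ Subgroup.zpowers (QuotientGroup.mk u : G ⧸ N) := by
    intro p
    obtain ⟨g, rfl⟩ := QuotientGroup.mk_surjective p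
    have hg : g ∈ Subgroup.closure D := by rw [Gen.gen (D := D)]; trivial
    induction hg using Subgroup.closure_induction with
    | mem w hw => rw [hall w hw]; exact Subgroup.mem_zpowers _
    | one => exact one_mem _
    | mul p q _ _ hp hq => exact mul_mem hp hq
    | inv p _ hp => exact inv_mem hp
  exact ⟨⟨fun p q => by
    obtain ⟨i, rfl⟩ := Subgroup.mem_zpowers_iff.1 (hmem p)
    obtain ⟨j, rfl⟩ := Subgroup.mem_zpowers_iff.1 (hmem q)
    rw [← zpow_add, ← zpow_add, add_comm]⟩⟩

variable {d : G} {q : ModCenter (Subgroup.closure (nb D d))} (hG : Cfg24 D d q) [Gen D]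

include hG

/-- The derived subgroup has index two. -/
theorem index_commutator24 : (commutator G).index = 2 := by
  have hD := hG.lay.tt
  obtain ⟨ε, hε⟩ := exists_parity hG
  have hle : commutator G ≤ ε.ker := Abelianization.commutator_subset_ker ε
  have hd : d ∉ commutator G := fun h => by
    have := hle h
    rw [MonoidHom.mem_ker, hε d hG.mem] at this
    exact absurd this (by decide)
  rw [Subgroup.index_eq_two_iff]
  refine ⟨d, fun b => ?_⟩
  have hdis : b ∈ commutator G ∨ b * d ∈ commutator G := by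
    have hb : b ∈ Subgroup.closure D := by rw [Gen.gen (D := D)]; trivial
    set π := (QuotientGroup.mk' (commutator G)) with hπ
    have hπd : ∀ x ∈ D, π x = π d := by
      intro x hx
      obtain ⟨g, rfl⟩ := hG.lay.one d hG.mem x hx
      show (QuotientGroup.mk (g * d * g⁻¹) : G ⧸ commutator G) = QuotientGroup.mk d
      rw [QuotientGroup.eq, show (g * d * g⁻¹)⁻¹ * d = g * d⁻¹ * g⁻¹ * (d⁻¹)⁻¹ by group, commutator_def]
      exact Subgroup.commutator_mem_commutator (Subgroup.mem_top g) (Subgroup.mem_top d⁻¹)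
    have h2 : π d * π d = 1 := by rw [← map_mul, sq hD hG.mem, map_one]
    have key : π b = 1 ∨ π b = π d := by
      induction hb using Subgroup.closure_induction'' with
      | mem x hx => exact Or.inr (hπd x hx)
      | inv_mem x hx => rw [inv_eq hD hx]; exact Or.inr (hπd x hx)
      | one => exact Or.inl (map_one π)
      | mul u v _ _ hu hv =>
        rcases hu with eu | eu <;> rcases hv with ev | ev
        · exact Or.inl (by rw [map_mul, eu, ev, one_mul])
        · exact Or.inr (by rw [map_mul, eu, ev, one_mul])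
        · exact Or.inr (by rw [map_mul, eu, ev, mul_one])
        · exact Or.inl (by rw [map_mul, eu, ev, h2])
    rcases key with e | e
    · exact Or.inl ((QuotientGroup.eq_one_iff b).1 e)
    · exact Or.inr ((QuotientGroup.eq_one_iff (b * d)).1 (show π (b * d) = 1 by rw [map_mul, e, h2]))
  rcases hdis with h | h
  · exact Or.inr ⟨h, fun h' => hd (by simpa using mul_mem (inv_mem h) h')⟩
  · exact Or.inl ⟨h, fun h' => hd (by simpa using mul_mem (inv_mem h') h)⟩

/-- The derived subgroup is simple. -/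
theorem simple_commutator24 : IsSimpleGroup (commutator G) := by
  have hD := hG.lay.tt
  set M := commutator G with hM
  have hidx := index_commutator24 hG
  have hdM : d ∉ M := fun h => by
    obtain ⟨ε, hε⟩ := exists_parity hG
    have := Abelianization.commutator_subset_ker ε h
    rw [MonoidHom.mem_ker, hε d hG.mem] at this
    exact absurd this (by decide)
  have hmin : ∀ N : Subgroup G, N.Normal → N ≠ ⊥ → M ≤ N := fun N hN h =>
    hG.lay.commutator_le (by norm_num) (by norm_num) hG.mem hN h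
  have hcardM : Nat.card M = 306936 * 4089470473293004800 := by
    have := Subgroup.card_mul_index M
    rw [hidx, card_group24 hG] at this
    omega
  haveI : Nontrivial M := by
    rw [← Finite.one_lt_card_iff_nontrivial, hcardM]
    norm_num
  refine ⟨fun N hN => ?_⟩
  by_contra hcon
  push Not at hcon
  obtain ⟨hbot, htop⟩ := hcon
  set N₁ := N.map M.subtype with hN₁
  have hle : N₁ ≤ M := Subgroup.map_subtype_le N
  have hconjM : ∀ g ∈ M, ∀ x ∈ N₁, g * x * g⁻¹ ∈ N₁ := by
    rintro g hg _ ⟨x, hx, rfl⟩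
    exact ⟨⟨g, hg⟩ * x * ⟨g, hg⟩⁻¹, hN.conj_mem x hx _, rfl⟩
  set N₂ := N₁.map (MulAut.conj d).toMonoidHom with hN₂
  have hmem₂ : ∀ x, x ∈ N₂ ↔ d * x * d ∈ N₁ := fun x => by
    rw [hN₂, Subgroup.mem_map_equiv]
    show d⁻¹ * x * d ∈ N₁ ↔ _
    rw [inv_eq hD hG.mem]
  have hdec : ∀ g : G, g ∈ M ∨ d * g ∈ M := fun g => by
    by_cases h : g ∈ M
    · exact Or.inl h
    · exact Or.inr ((Subgroup.mul_mem_iff_of_index_two hidx).2 (iff_of_false hdM h))
  have sd := sq hD hG.mem
  have hMd : ∀ m ∈ M, d * m * d ∈ M := fun m hm => by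
    have := (inferInstance : M.Normal).conj_mem m hm d
    rwa [inv_eq hD hG.mem] at this
  have h₂M : ∀ g ∈ M, ∀ x ∈ N₂, g * x * g⁻¹ ∈ N₂ := fun g hg x hx => by
    rw [hmem₂] at hx ⊢
    have := hconjM _ (hMd g hg) _ hx
    rwa [show d * g * d * (d * x * d) * (d * g * d)⁻¹ = d * g * (d * d) * x * g⁻¹ * d⁻¹ by group, sd, mul_one,
      inv_eq hD hG.mem, show d * g * x * g⁻¹ * d = d * (g * x * g⁻¹) * d by group] at this
  have hinf : (N₁ ⊓ N₂).Normal := ⟨fun x hx g => by
    have hconj : ∀ g ∈ M, g * x * g⁻¹ ∈ N₁ ⊓ N₂ := fun g hg => ⟨hconjM g hg x hx.1, h₂M g hg x hx.2⟩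
    rcases hdec g with h | h
    · exact hconj g h
    · have h' := hconj _ h
      rw [show d * g * x * (d * g)⁻¹ = d * (g * x * g⁻¹) * d⁻¹ by group, inv_eq hD hG.mem] at h'
      refine ⟨?_, (hmem₂ _).2 h'.1⟩
      have := (hmem₂ _).1 h'.2
      rwa [show d * (d * (g * x * g⁻¹) * d) * d = (d * d) * (g * x * g⁻¹) * (d * d) by group, sd, one_mul,
        mul_one] at this⟩
  have htriv : N₁ ⊓ N₂ = ⊥ := by
    by_contra h
    have h1 := (hmin _ hinf h).trans inf_le_left
    refine htop (eq_top_iff.2 fun x _ => ?_)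
    obtain ⟨y, hy, e⟩ := h1 x.2
    exact (Subtype.ext e : y = x) ▸ hy
  -- the two conjugates commute and fill the derived subgroup
  have hcomm : ∀ x ∈ N₁, ∀ y ∈ N₂, Commute x y := by
    intro x hx y hy
    have h : x * y * x⁻¹ * y⁻¹ ∈ N₁ ⊓ N₂ := by
      have hyM : y ∈ M := by
        have := hMd _ (hle ((hmem₂ y).1 hy))
        rwa [show d * (d * y * d) * d = (d * d) * y * (d * d) by group, sd, one_mul, mul_one] at this
      refine ⟨?_, N₂.mul_mem (h₂M x (hle hx) y hy) (N₂.inv_mem hy)⟩
      rw [show x * y * x⁻¹ * y⁻¹ = x * (y * x⁻¹ * y⁻¹) by group]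
      exact N₁.mul_mem hx (hconjM y hyM _ (N₁.inv_mem hx))
    rw [htriv, Subgroup.mem_bot] at h
    exact mul_inv_eq_iff_eq_mul.1 (mul_inv_eq_one.1 h)
  have h₂le : N₂ ≤ M := fun y hy => by
    have := hMd _ (hle ((hmem₂ y).1 hy))
    rwa [show d * (d * y * d) * d = (d * d) * y * (d * d) by group, sd, one_mul, mul_one] at this
  let μ : N₁ × N₂ →* G :=
    { toFun := fun p => (p.1 : G) * p.2
      map_one' := by simp
      map_mul' := fun p r => by
        show (p.1 : G) * r.1 * ((p.2 : G) * r.2) = (p.1 : G) * p.2 * ((r.1 : G) * r.2)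
        rw [show (p.1 : G) * r.1 * (p.2 * r.2) = p.1 * (r.1 * p.2) * r.2 by group,
          (hcomm _ r.1.2 _ p.2.2).eq]
        group }
  have hinj : Function.Injective μ := by
    refine (injective_iff_map_eq_one _).2 fun p hp => ?_
    have e : (p.1 : G) = (p.2 : G)⁻¹ := eq_inv_of_mul_eq_one_left hp
    have h1 : (p.1 : G) ∈ N₁ ⊓ N₂ := ⟨p.1.2, e ▸ N₂.inv_mem p.2.2⟩
    rw [htriv, Subgroup.mem_bot] at h1
    rw [h1] at e
    exact Prod.ext (Subtype.ext h1) (Subtype.ext (by simpa using inv_eq_one.1 e.symm))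
  have hnorm : μ.range.Normal := ⟨fun x hx g => by
    obtain ⟨⟨⟨a, ha⟩, ⟨b, hb⟩⟩, rfl⟩ := hx
    have hin : ∀ g ∈ M, g * (a * b) * g⁻¹ ∈ μ.range := fun g hg =>
      ⟨(⟨_, hconjM g hg a ha⟩, ⟨_, h₂M g hg b hb⟩), by show g * a * g⁻¹ * (g * b * g⁻¹) = _; group⟩
    rcases hdec g with h | h
    · exact hin g h
    · obtain ⟨⟨⟨a', ha'⟩, ⟨b', hb'⟩⟩, e⟩ := hin _ h
      have e' : a' * b' = d * g * (a * b) * (d * g)⁻¹ := e
      have hb'' : d * b' * d ∈ N₁ := (hmem₂ b').1 hb'
      have ha'' : d * a' * d ∈ N₂ := (hmem₂ _).2 (by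
        rwa [show d * (d * a' * d) * d = (d * d) * a' * (d * d) by group, sd, one_mul, mul_one])
      refine ⟨(⟨_, hb''⟩, ⟨_, ha''⟩), ?_⟩
      show d * b' * d * (d * a' * d) = g * (a * b) * g⁻¹
      rw [show d * b' * d * (d * a' * d) = d * b' * (d * d) * a' * d by group, sd, mul_one,
        show d * b' * a' * d = d * (b' * a') * d by group, ← (hcomm a' ha' b' hb').eq, e',
        show d * (d * g * (a * b) * (d * g)⁻¹) * d = (d * d) * (g * (a * b) * g⁻¹) * (d⁻¹ * d) by group, sd,
        inv_mul_cancel, one_mul, mul_one]⟩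
  have hrange : μ.range = M := by
    refine le_antisymm ?_ (hmin _ hnorm ?_)
    · rintro _ ⟨p, rfl⟩
      exact M.mul_mem (hle p.1.2) (h₂le p.2.2)
    · intro h
      apply hbot
      rw [eq_bot_iff]
      intro x hx
      have : (x : G) ∈ μ.range := ⟨(⟨x, x, hx, rfl⟩, 1), mul_one _⟩
      rw [h, Subgroup.mem_bot] at this
      rw [Subgroup.mem_bot]
      exact Subtype.ext this
  have hcard := Nat.card_congr (MonoidHom.ofInjective hinj).toEquiv
  rw [hrange, hcardM, Nat.card_prod,
    show Nat.card N₂ = Nat.card N₁ from Subgroup.card_map_of_injective (MulAut.conj d).injective] at hcard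
  -- the order is not a square
  have h29 : 29 ∣ Nat.card N₁ := by
    rcases (Nat.Prime.dvd_mul (by norm_num : Nat.Prime 29)).1
      (show 29 ∣ Nat.card N₁ * Nat.card N₁ by rw [hcard]; norm_num) with h | h <;> exact h
  obtain ⟨j, hj⟩ := h29
  have : 29 * 29 ∣ 306936 * 4089470473293004800 := ⟨j * j, by rw [← hcard, hj]; ring⟩
  norm_num at this

theorem centralizer_commutator24 : Subgroup.centralizer (commutator G : Set G) = ⊥ := by
  by_contra h
  have h1 := hG.lay.commutator_le (by norm_num) (by norm_num) hG.mem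
    (inferInstance : (Subgroup.centralizer (commutator G : Set G)).Normal) h
  haveI := simple_commutator24 hG
  have hab : IsMulCommutative (commutator G) := ⟨⟨fun x y => Subtype.ext
    (Subgroup.mem_centralizer_iff.1 (h1 y.2) x x.2)⟩⟩
  letI : CommGroup (commutator G) :=
    { (inferInstance : Group (commutator G)) with mul_comm := fun x y => hab.1.1 x y }
  have hp := IsSimpleGroup.prime_card (α := commutator G)
  have hm := Subgroup.card_mul_index (commutator G)
  rw [index_commutator24 hG, card_group24 hG] at hm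
  have : Nat.card (commutator G) = 306936 * 4089470473293004800 := by omega
  rw [this] at hp
  norm_num at hp

/-- The layer is the derived subgroup. -/
theorem layer24 : Cfsg.layer G = commutator G := by
  have hsimple := simple_commutator24 hG
  have hqs : Cfsg.IsQuasisimple (commutator G) := by
    refine Components.isQuasisimple_of_isSimpleGroup fun hab => ?_
    have h := centralizer_commutator24 hG
    have h1 : commutator G ≤ Subgroup.centralizer (commutator G : Set G) := fun x hx =>
      Subgroup.mem_centralizer_iff.2 fun y hy => congrArg Subtype.val (hab.1.1 ⟨y, hy⟩ ⟨x, hx⟩)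
    rw [h, le_bot_iff] at h1
    have := index_commutator24 hG
    rw [h1, Subgroup.index_bot, card_group24 hG] at this
    norm_num at this
  have hcomp : Cfsg.IsComponent (commutator G) := ⟨Subgroup.Normal.isSubnormal inferInstance, hqs⟩
  refine le_antisymm (Components.layer_le_iff.2 fun L hL => ?_) (Components.component_le_layer hcomp)
  rcases Components.component_le_or_commutator_eq_bot_of_normal hL (commutator G) with h | h
  · exact h
  · rw [Subgroup.commutator_eq_bot_iff_le_centralizer, centralizer_commutator24 hG] at h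
    exact h.trans bot_le

end Cfsg.Agent.TT95
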