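import Cfsg.Agent.TT95.Graph

/-!
The components of the commuting graph on a closed set: their number times their size, parity, and the
exclusion of five.
-/

set_option autoImplicit false
set_option linter.unusedSectionVars false

namespace Cfsg.Agent.TT95

variable {G : Type*} [Group G]

/-- The component of `x` in `S`. -/
def comp (S : Set G) (x : G) : Set G := {y | y ∈ S ∧ Path S x y}

/-- The components of `S`. -/
def comps (S : Set G) : Set (Set G) := comp S '' S

theorem comp_eq_iff {S : Set G} {x y : G} (hy : y ∈ S) : comp S x = comp S y ↔ Path S x y := by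
  refine ⟨fun h => ?_, fun h => Set.ext fun z => and_congr_right fun _ => ⟨h.symm.trans', h.trans'⟩⟩
  exact ((h.symm ▸ ⟨hy, .refl⟩ : y ∈ comp S x)).2

theorem ncard_eq_mul [Finite G] {S : Set G} {c : ℕ} (h : ∀ x ∈ S, (comp S x).ncard = c) :
    S.ncard = (comps S).ncard * c := by
  classical
  haveI := Fintype.ofFinite G
  rw [Set.ncard_eq_toFinset_card' S, Set.ncard_eq_toFinset_card' (comps S),
    Finset.card_eq_sum_card_fiberwise (f := comp S) (t := (comps S).toFinset)
      (fun x hx => by simp only [Finset.mem_coe, Set.mem_toFinset] at hx ⊢; exact ⟨x, hx, rfl⟩)]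
  refine Finset.sum_const_nat fun C hC => ?_
  rw [Set.mem_toFinset] at hC
  obtain ⟨x, hx, rfl⟩ := hC
  rw [← h x hx, ← Set.ncard_coe_finset, Finset.coe_filter]
  congr 1
  ext y
  simp only [Set.mem_toFinset, Set.mem_setOf_eq]
  exact ⟨fun ⟨hy, e⟩ => ⟨hy, ((comp_eq_iff hx).1 e).symm⟩, fun ⟨hy, p⟩ => ⟨hy, (comp_eq_iff hx).2 p.symm⟩⟩

theorem comps_pos [Finite G] {S : Set G} {x : G} (hx : x ∈ S) : 1 ≤ (comps S).ncard :=
  (Set.ncard_pos (Set.toFinite _)).2 ⟨_, x, hx, rfl⟩

theorem conn_of_comps_one [Finite G] {S : Set G} (h : (comps S).ncard = 1) : Conn S := by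
  intro x hx y hy
  obtain ⟨C, hC⟩ := Set.ncard_eq_one.1 h
  have h1 : comp S x ∈ comps S := ⟨x, hx, rfl⟩
  have h2 : comp S y ∈ comps S := ⟨y, hy, rfl⟩
  rw [hC, Set.mem_singleton_iff] at h1 h2
  exact (comp_eq_iff hy).1 (h1.trans h2.symm)

/-- No symmetric operation of Steiner triples lives on five things. -/
theorem no_five {α : Type*} {T : Set α} (hT : T.ncard = 5) (op : α → α → α)
    (hmem : ∀ a ∈ T, ∀ b ∈ T, a ≠ b → op a b ∈ T ∧ op a b ≠ a ∧ op a b ≠ b)
    (hsymm : ∀ a ∈ T, ∀ b ∈ T, a ≠ b → op a b = op b a)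
    (hinv : ∀ a ∈ T, ∀ b ∈ T, a ≠ b → op a (op a b) = b) : False := by
  have hfin : T.Finite := Set.finite_of_ncard_pos (by omega)
  obtain ⟨A, B, hA, hB, hAB⟩ := (Set.one_lt_ncard_iff hfin).1 (by omega : 1 < T.ncard)
  obtain ⟨hC, hCA, hCB⟩ := hmem A hA B hB hAB
  set C := op A B with hCdef
  have eAC : op A C = B := hinv A hA B hB hAB
  have eBA : op B A = C := (hsymm B hB A hA hAB.symm)
  have eBC : op B C = A := eBA ▸ hinv B hB A hA hAB.symm
  have h3 : ({A, B, C} : Set α).ncard ≤ 3 := by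
    refine (Set.ncard_insert_le _ _).trans ?_
    have := Set.ncard_insert_le B ({C} : Set α)
    rw [Set.ncard_singleton] at this
    omega
  obtain ⟨X, hX, hXn⟩ : ∃ X ∈ T, X ∉ ({A, B, C} : Set α) := by
    by_contra hc
    push Not at hc
    have := Set.ncard_le_ncard (fun x hx => hc x hx : T ⊆ {A, B, C}) (by simp)
    omega
  simp only [Set.mem_insert_iff, Set.mem_singleton_iff, not_or] at hXn
  obtain ⟨(nA : X ≠ A), (nB : X ≠ B), (nC : X ≠ C)⟩ := hXn
  obtain ⟨hY, hYA, hYX⟩ := hmem A hA X hX nA.symm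
  set Y := op A X with hYdef
  have eAY : op A Y = X := hinv A hA X hX nA.symm
  have hYB : Y ≠ B := fun e => nC (by rw [← eAY, e])
  have hYC : Y ≠ C := fun e => nB (by rw [← eAY, e, eAC])
  have h5 : T = {A, B, C, X, Y} := by
    refine (Set.eq_of_subset_of_ncard_le ?_ ?_ hfin).symm
    · simp only [Set.insert_subset_iff, Set.singleton_subset_iff]
      exact ⟨hA, hB, hC, hX, hY⟩
    · rw [hT, Set.ncard_insert_of_notMem, Set.ncard_insert_of_notMem, Set.ncard_insert_of_notMem,
        Set.ncard_pair hYX.symm]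
      · simp [nC.symm, hYC.symm]
      · simp [hCB.symm, nB.symm, hYB.symm]
      · simp [hAB, hCA.symm, nA.symm, hYA.symm]
  obtain ⟨hZ, hZB, hZX⟩ := hmem B hB X hX nB.symm
  set Z := op B X with hZdef
  have eBZ : op B Z = X := hinv B hB X hX nB.symm
  rw [h5] at hZ
  simp only [Set.mem_insert_iff, Set.mem_singleton_iff] at hZ
  rcases hZ with e | e | e | e | e
  · exact nC (by rw [← eBZ, e, eBA])
  · exact hZB e
  · exact nA (by rw [← eBZ, e, eBC])
  · exact hZX e
  · have e1 : op X A = Y := (hsymm X hX A hA nA).trans rfl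
    have e2 : op X B = Y := (hsymm X hX B hB nB).trans e
    exact hAB (by rw [← hinv X hX A hA nA, e1, ← e2, hinv X hX B hB nB])

variable {D : Set G} (hD : TTSet D) {S : Set G} (hS : Closed D S)

include hD hS

theorem conj_comp {y z z' : G} (hy : y ∈ S) (hz' : z' ∈ S) (h : Path S z z') :
    comp S (y * z * y) = comp S (y * z' * y) := by
  refine (comp_eq_iff (hS.2 y hy z' hz')).2 ?_
  have := Path.conj (T := S) hD y (fun w hw => by rw [inv_eq hD (hS.1 hy)]; exact hS.2 y hy w hw) h
  rwa [inv_eq hD (hS.1 hy)] at this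

/-- The number of components is odd. -/
theorem comps_odd [Finite G] {x : G} (hx : x ∈ S) : Odd (comps S).ncard := by
  classical
  haveI := Fintype.ofFinite G
  set T := (comps S).toFinset.erase (comp S x) with hT
  have hr : ∀ C ∈ T, ∃ z ∈ S, comp S z = C := fun C hC => by
    have := Finset.mem_of_mem_erase hC
    rw [Set.mem_toFinset] at this
    exact this
  choose rep hrepS hrep using hr
  have hne : ∀ C (h : C ∈ T), ¬ Path S x (rep C h) := fun C h hp =>
    (Finset.ne_of_mem_erase h) ((hrep C h).symm.trans ((comp_eq_iff (hrepS C h)).2 hp).symm)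
  have hxx : ∀ z, x * (x * z * x) * x = z := fun z => by
    rw [show x * (x * z * x) * x = (x * x) * z * (x * x) by group, sq hD (hS.1 hx), one_mul, mul_one]
  let τ : ∀ C ∈ T, Set G := fun C h => comp S (x * rep C h * x)
  have hτ : ∀ C (h : C ∈ T), τ C h ∈ T := fun C h => by
    refine Finset.mem_erase.2 ⟨fun e => ?_, Set.mem_toFinset.2 ⟨_, hS.2 x hx _ (hrepS C h), rfl⟩⟩
    exact path_third hD hS hx (hrepS C h) (hne C h) ((comp_eq_iff hx).1 e).symm
  have h2 : ((T.card : ℕ) : ZMod 2) = 0 := by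
    rw [Finset.card_eq_sum_ones, Nat.cast_sum]
    refine Finset.sum_involution τ (fun _ _ => by decide) (fun C h _ e => ?_) hτ (fun C h => ?_)
    · refine not_path_conj hD hS hx (hrepS C h) (hne C h) ((comp_eq_iff (hS.2 x hx _ (hrepS C h))).1 ?_)
      exact (hrep C h).trans e.symm
    · have hz := hrepS _ (hτ C h)
      have hp := (comp_eq_iff (hS.2 x hx _ (hrepS C h))).1 (hrep _ (hτ C h))
      show comp S (x * rep (τ C h) (hτ C h) * x) = C
      rw [conj_comp hD hS hx (hS.2 x hx _ (hrepS C h)) hp, hxx, hrep C h]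
  have hcard : T.card + 1 = (comps S).ncard := by
    rw [Set.ncard_eq_toFinset_card' (comps S), hT]
    exact Finset.card_erase_add_one (Set.mem_toFinset.2 ⟨x, hx, rfl⟩)
  rw [← hcard]
  exact ((ZMod.natCast_eq_zero_iff_even).1 h2).add_one

theorem comps_ne_five [Finite G] : (comps S).ncard ≠ 5 := by
  classical
  intro h5
  have hex : ∀ C : Set G, ∃ z : G, C ∈ comps S → z ∈ S ∧ comp S z = C := fun C => by
    by_cases h : C ∈ comps S
    · obtain ⟨z, hz, e⟩ := h
      exact ⟨z, fun _ => ⟨hz, e⟩⟩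
    · exact ⟨1, fun h' => absurd h' h⟩
  choose rep hrep using hex
  refine no_five h5 (fun A B => comp S (rep A * rep B * rep A)) ?_ ?_ ?_
  all_goals
    intro A hA B hB hne
    obtain ⟨ha, eA⟩ := hrep A hA
    obtain ⟨hb, eB⟩ := hrep B hB
    have hn : ¬ Path S (rep A) (rep B) := fun p => hne (by rw [← eA, ← eB]; exact (comp_eq_iff hb).2 p)
  · refine ⟨⟨_, hS.2 _ ha _ hb, rfl⟩, fun e => ?_, fun e => ?_⟩
    · exact path_third hD hS ha hb hn ((comp_eq_iff ha).1 (e.trans eA.symm)).symm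
    · exact not_path_conj hD hS ha hb hn ((comp_eq_iff hb).1 (e.trans eB.symm)).symm
  · show comp S _ = comp S _
    rw [braid hD (hS.1 ha) (hS.1 hb) fun c => hn (Path.single' ha hb c)]
  · obtain ⟨hz, eZ⟩ := hrep _ (⟨_, hS.2 _ ha _ hb, rfl⟩ : comp S (rep A * rep B * rep A) ∈ comps S)
    show comp S _ = B
    rw [conj_comp hD hS ha (hS.2 _ ha _ hb) ((comp_eq_iff (hS.2 _ ha _ hb)).1 eZ),
      show rep A * (rep A * rep B * rep A) * rep A = (rep A * rep A) * rep B * (rep A * rep A) by group,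
      sq hD (hS.1 ha), one_mul, mul_one, eB]

end Cfsg.Agent.TT95
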