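import Cfsg.Agent.TT95.InvolClasses

/-!
Type M(22): pairwise commuting sets of transpositions span elementary abelian groups of order at most
2^10, with equality attained.
-/

set_option autoImplicit false
set_option linter.unusedSectionVars false

namespace Cfsg.Agent.TT95

open Cfsg.Agent.TT95.U6

variable {G : Type*} [Group G]

/-- A subgroup whose elements commute and square to one. -/
def El (B : Subgroup G) : Prop := (∀ u ∈ B, ∀ v ∈ B, Commute u v) ∧ ∀ u ∈ B, u * u = 1

theorem El.inv_eq {B : Subgroup G} (hB : El B) {u : G} (hu : u ∈ B) : u⁻¹ = u :=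
  inv_eq_of_mul_eq_one_right (hB.2 u hu)

theorem El.mono {A B : Subgroup G} (hB : El B) (h : A ≤ B) : El A :=
  ⟨fun u hu v hv => hB.1 u (h hu) v (h hv), fun u hu => hB.2 u (h hu)⟩

/-- Adjoining a commuting involution. -/
def adjoin (B : Subgroup G) (hB : El B) (z : G) (hz : z * z = 1) (hc : ∀ b ∈ B, Commute b z) : Subgroup G where
  carrier := {y | y ∈ B ∨ y * z ∈ B}
  one_mem' := Or.inl (one_mem B)
  mul_mem' := by
    intro u v hu hv
    rcases hu with hu | hu <;> rcases hv with hv | hv
    · exact Or.inl (mul_mem hu hv)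
    · exact Or.inr (by rw [mul_assoc]; exact mul_mem hu hv)
    · refine Or.inr ?_
      rw [mul_assoc, (hc v hv).eq, ← mul_assoc]
      exact mul_mem hu hv
    · refine Or.inl ?_
      have := mul_mem hu hv
      rwa [show u * z * (v * z) = u * (z * (v * z)) by group, ← (hc _ hv).eq,
        show u * (v * z * z) = u * v * (z * z) by group, hz, mul_one] at this
  inv_mem' := by
    intro u hu
    rcases hu with hu | hu
    · exact Or.inl (inv_mem hu)
    · refine Or.inr ?_
      have e : u = u * z * z := by rw [mul_assoc, hz, mul_one]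
      rw [e, mul_inv_rev, inv_eq_of_mul_eq_one_right hz, hB.inv_eq hu, ← (hc _ hu).eq,
        mul_assoc (u * z) z z, hz, mul_one]
      exact hu

theorem le_adjoin {B : Subgroup G} (hB : El B) {z : G} (hz : z * z = 1) (hc : ∀ b ∈ B, Commute b z) :
    B ≤ adjoin B hB z hz hc := fun _ h => Or.inl h

theorem mem_adjoin_self {B : Subgroup G} (hB : El B) {z : G} (hz : z * z = 1) (hc : ∀ b ∈ B, Commute b z) :
    z ∈ adjoin B hB z hz hc := Or.inr (by rw [hz]; exact one_mem B)

theorem el_adjoin {B : Subgroup G} (hB : El B) {z : G} (hz : z * z = 1) (hc : ∀ b ∈ B, Commute b z) :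
    El (adjoin B hB z hz hc) := by
  have hform : ∀ u ∈ adjoin B hB z hz hc, ∃ b ∈ B, u = b ∨ u = b * z := by
    rintro u (h | h)
    · exact ⟨u, h, Or.inl rfl⟩
    · exact ⟨u * z, h, Or.inr (by rw [mul_assoc, hz, mul_one])⟩
  constructor
  · intro u hu v hv
    obtain ⟨b, hb, rfl | rfl⟩ := hform u hu <;> obtain ⟨c, hc', rfl | rfl⟩ := hform v hv
    · exact hB.1 _ hb _ hc'
    · exact (hB.1 _ hb _ hc').mul_right (hc _ hb)
    · exact (hB.1 _ hb _ hc').mul_left (hc _ hc').symm
    · exact ((hB.1 _ hb _ hc').mul_right (hc _ hb)).mul_left ((hc _ hc').symm.mul_right (Commute.refl z))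
  · intro u hu
    obtain ⟨b, hb, rfl | rfl⟩ := hform u hu
    · exact hB.2 _ hb
    · rw [show b * z * (b * z) = b * (z * b) * z by group, ← (hc b hb).eq,
        show b * (b * z) * z = b * b * (z * z) by group, hB.2 b hb, hz, mul_one]

theorem card_adjoin [Finite G] {B : Subgroup G} (hB : El B) {z : G} (hz : z * z = 1)
    (hc : ∀ b ∈ B, Commute b z) (hn : z ∉ B) : Nat.card (adjoin B hB z hz hc) = 2 * Nat.card B := by
  have e : ((adjoin B hB z hz hc : Subgroup G) : Set G) = (B : Set G) ∪ (fun b => b * z) '' (B : Set G) := by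
    ext y
    constructor
    · rintro (h | h)
      · exact Or.inl h
      · exact Or.inr ⟨y * z, h, by show y * z * z = y; rw [mul_assoc, hz, mul_one]⟩
    · rintro (h | ⟨b, hb, rfl⟩)
      · exact Or.inl h
      · exact Or.inr (by show b * z * z ∈ B; rw [mul_assoc, hz, mul_one]; exact hb)
  rw [← SetLike.coe_sort_coe, Nat.card_coe_set_eq, e, Set.ncard_union_eq ?_ (Set.toFinite _) (Set.toFinite _),
    Set.ncard_image_of_injective _ (mul_left_injective z), ← Nat.card_coe_set_eq, SetLike.coe_sort_coe, two_mul]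
  rw [Set.disjoint_left]
  rintro y hy ⟨b, hb, rfl⟩
  exact hn ((B.mul_mem_cancel_left hb).1 hy)

theorem El.card_two_pow [Finite G] {B : Subgroup G} (hB : El B) : ∃ n, Nat.card B = 2 ^ n := by
  haveI : Fact (Nat.Prime 2) := ⟨Nat.prime_two⟩
  refine IsPGroup.iff_card.1 fun g => ⟨1, ?_⟩
  rw [pow_one, pow_two]
  exact Subtype.ext (hB.2 g g.2)

/-- A set of pairwise commuting transpositions. -/
def Clique (D K : Set G) : Prop := K ⊆ D ∧ ∀ u ∈ K, ∀ v ∈ K, Commute u v

theorem Clique.el {D K : Set G} (hD : TTSet D) (hK : Clique D K) : El (Subgroup.closure K) := by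
  have hc : ∀ u ∈ Subgroup.closure K, ∀ v ∈ Subgroup.closure K, Commute u v := by
    intro u hu v hv
    have h1 : Subgroup.closure K ≤ Subgroup.centralizer K := by
      rw [Subgroup.closure_le]
      exact fun w hw => Subgroup.mem_centralizer_iff.2 fun x hx => hK.2 x hx w hw
    have h2 : v ∈ Subgroup.centralizer (Subgroup.closure K : Set G) := by
      rw [Subgroup.centralizer_closure]; exact h1 hv
    exact Subgroup.mem_centralizer_iff.1 h2 u hu
  refine ⟨hc, fun u hu => ?_⟩
  induction hu using Subgroup.closure_induction with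
  | mem w hw => exact sq hD (hK.1 hw)
  | one => exact one_mul 1
  | mul p q hp hq ep eq' =>
    rw [show p * q * (p * q) = p * (q * p) * q by group, ← (hc p hp q hq).eq,
      show p * (p * q) * q = p * p * (q * q) by group, ep, eq', mul_one]
  | inv p _ ep => rw [← mul_inv_rev, ep, inv_one]

theorem prod_mem_closure {K : Set G} {l : List G} (hl : ∀ u ∈ l, u ∈ K) : l.prod ∈ Subgroup.closure K :=
  list_prod_mem fun u hu => Subgroup.subset_closure (hl u hu)

/-- Maximal cliques. -/
def MaxClique (D K : Set G) : Prop := Clique D K ∧ ∀ y ∈ D, (∀ u ∈ K, Commute y u) → y ∈ K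

theorem Clique.extend [Finite G] {D K : Set G} (hK : Clique D K) : ∃ M, K ⊆ M ∧ MaxClique D M := by
  obtain ⟨M, ⟨hM, hKM⟩, hmax⟩ := Set.Finite.exists_maximalFor id {M : Set G | Clique D M ∧ K ⊆ M}
    (Set.toFinite _) ⟨K, hK, subset_rfl⟩
  refine ⟨M, hKM, hM, fun y hy hc => ?_⟩
  have h : Clique D (insert y M) ∧ K ⊆ insert y M := by
    refine ⟨⟨Set.insert_subset hy hM.1, ?_⟩, hKM.trans (Set.subset_insert _ _)⟩
    rintro u (rfl | hu) v (rfl | hv)
    · exact Commute.refl _
    · exact hc v hv
    · exact (hc u hu).symm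
    · exact hM.2 u hu v hv
  exact hmax h (Set.subset_insert y M) (Set.mem_insert y M)

variable [Finite G] {D : Set G} (hC : Cfg22 D) [Gen D]

include hC

theorem clique_ncard_le {a : G} (ha : a ∈ D) {K : Set G} (hK : Clique D K) : K.ncard ≤ 22 := by
  rw [← width_eq hC ha]
  refine le_csSup ⟨Nat.card G, ?_⟩ ⟨K, hK.1, Set.toFinite _, hK.2, rfl⟩
  rintro n ⟨E, -, -, -, rfl⟩
  exact Set.ncard_le_card E

/-- In a maximal clique every product of members is a product of at most three. -/
theorem short_prod {M : Set G} (hM : MaxClique D M) : ∀ (n : ℕ) (l : List G), l.length ≤ n → (∀ u ∈ l, u ∈ M) →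
    ∃ t : List G, t.Nodup ∧ t.length ≤ 3 ∧ (∀ u ∈ t, u ∈ M) ∧ t.prod = l.prod := by
  classical
  intro n
  induction n with
  | zero =>
    intro l hl _
    obtain rfl := List.length_eq_zero_iff.1 (Nat.le_zero.1 hl)
    exact ⟨[], by simp⟩
  | succ n ih =>
    intro l hl hmem
    have hpw : l.Pairwise Commute :=
      List.pairwise_of_forall_mem_list fun u hu v hv => hM.1.2 u (hmem u hu) v (hmem v hv)
    by_cases hnd : l.Nodup
    · by_cases h3 : l.length ≤ 3
      · exact ⟨l, hnd, h3, hmem, rfl⟩
      match l, h3 with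
      | a :: b :: c :: d :: rest, _ =>
        have hm4 : ∀ x ∈ [a, b, c, d], x ∈ M := fun x hx => hmem x (by
          simp only [List.mem_cons, List.not_mem_nil, or_false] at hx ⊢; tauto)
        obtain ⟨t, ht, htD, htP, htp⟩ := reduce_four hC (hM.1.1 (hm4 a (by simp))) (hM.1.1 (hm4 b (by simp)))
          (hM.1.1 (hm4 c (by simp))) (hM.1.1 (hm4 d (by simp)))
          (hnd.sublist (by simp [List.cons_sublist_cons]))
          (fun u hu v hv => hM.1.2 u (hm4 u hu) v (hm4 v hv))
        have htM : ∀ u ∈ t, u ∈ M := fun u hu => hM.2 u (htD u hu) fun y hy =>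
          (htP u hu y (hM.1.1 hy) fun x hx => hM.1.2 y hy x (hm4 x hx)).symm
        obtain ⟨t', h1, h2, h3', h4⟩ := ih (t ++ rest) (by simp at hl ⊢; omega) (by
          intro u hu
          rcases List.mem_append.1 hu with h | h
          · exact htM u h
          · exact hmem u (by simp [h]))
        exact ⟨t', h1, h2, h3', by rw [h4, List.prod_append, htp]; simp [mul_assoc]⟩
      | [], h => simp at h
      | [_], h => simp at h
      | [_, _], h => simp at h
      | [_, _, _], h => simp at h
    · obtain ⟨a, ha⟩ : ∃ a, ¬ l.count a ≤ 1 := by simpa [List.nodup_iff_count_le_one] using hnd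
      have ha1 : a ∈ l := List.count_pos_iff.1 (by omega)
      have ha2 : a ∈ l.erase a := List.count_pos_iff.1 (by rw [List.count_erase_self]; omega)
      have hperm : l.Perm (a :: a :: (l.erase a).erase a) :=
        (List.perm_cons_erase ha1).trans ((List.perm_cons_erase ha2).cons a)
      have hlen := hperm.length_eq
      simp only [List.length_cons] at hlen
      obtain ⟨t, h1, h2, h3, h4⟩ := ih ((l.erase a).erase a) (by omega)
        (fun u hu => hmem u (List.mem_of_mem_erase (List.mem_of_mem_erase hu)))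
      refine ⟨t, h1, h2, h3, ?_⟩
      rw [h4, hperm.prod_eq' hpw, List.prod_cons, List.prod_cons, ← mul_assoc, sq hC.tt (hM.1.1 (hmem a ha1)),
        one_mul]

/-- A commuting set of transpositions spans at most 2^10 elements. -/
theorem card_closure_le {K : Set G} (hK : Clique D K) : Nat.card (Subgroup.closure K) ≤ 2 ^ 10 := by
  classical
  rcases K.eq_empty_or_nonempty with rfl | ⟨a, ha⟩
  · simp
  obtain ⟨M, hKM, hM⟩ := hK.extend
  obtain ⟨n, hn⟩ := (hM.1.el hC.tt).card_two_pow
  refine (Nat.le_of_dvd Nat.card_pos (Subgroup.card_dvd_of_le (Subgroup.closure_mono hKM))).trans ?_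
  rw [hn]
  refine Nat.pow_le_pow_right two_pos (Nat.lt_succ_iff.1 ((Nat.pow_lt_pow_iff_right one_lt_two).1 (?_ : 2 ^ n < 2 ^ 11)))
  rw [← hn]
  set S : Finset G := (Set.toFinite M).toFinset with hS
  have hSM : ∀ u, u ∈ S ↔ u ∈ M := fun u => Set.Finite.mem_toFinset _
  have hS22 : S.card ≤ 22 := by
    rw [hS, ← Set.ncard_eq_toFinset_card]
    exact clique_ncard_le hC (hK.1 ha) hM.1
  set T : Finset (Finset G) :=
    S.powersetCard 0 ∪ S.powersetCard 1 ∪ S.powersetCard 2 ∪ S.powersetCard 3 with hT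
  have hTcard : T.card < 2 ^ 11 := by
    have h : ∀ k, (S.powersetCard k).card ≤ Nat.choose 22 k := fun k => by
      rw [Finset.card_powersetCard]; exact Nat.choose_le_choose k hS22
    calc T.card ≤ _ := (Finset.card_union_le _ _).trans (Nat.add_le_add ((Finset.card_union_le _ _).trans
          (Nat.add_le_add (Finset.card_union_le _ _) le_rfl)) le_rfl)
      _ ≤ Nat.choose 22 0 + Nat.choose 22 1 + Nat.choose 22 2 + Nat.choose 22 3 :=
        Nat.add_le_add (Nat.add_le_add (Nat.add_le_add (h 0) (h 1)) (h 2)) (h 3)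
      _ < 2 ^ 11 := by decide
  refine lt_of_le_of_lt ?_ hTcard
  rw [← SetLike.coe_sort_coe, Nat.card_coe_set_eq, ← Set.ncard_coe_finset T]
  refine (Set.ncard_le_ncard ?_ (Set.toFinite _)).trans (Set.ncard_image_le (f := fun s : Finset G => s.toList.prod) (Set.toFinite _))
  intro x hx
  obtain ⟨l, hl, rfl⟩ : ∃ l : List G, (∀ u ∈ l, u ∈ M) ∧ l.prod = x := by
    induction hx using Subgroup.closure_induction with
    | mem w hw => exact ⟨[w], by simpa using hw, by simp⟩
    | one => exact ⟨[], by simp⟩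
    | mul p q _ _ hp hq =>
      obtain ⟨l, h1, rfl⟩ := hp
      obtain ⟨l', h1', rfl⟩ := hq
      exact ⟨l ++ l', fun u hu => (List.mem_append.1 hu).elim (h1 u) (h1' u), List.prod_append⟩
    | inv p hp hp' =>
      rw [(hM.1.el hC.tt).inv_eq hp]
      exact hp'
  obtain ⟨t, t1, t2, t3, t4⟩ := short_prod hC hM l.length l le_rfl hl
  have htc : t.toFinset.card = t.length := List.toFinset_card_of_nodup t1
  have hts : t.toFinset ⊆ S := fun u hu => (hSM u).2 (t3 u (List.mem_toFinset.1 hu))
  refine ⟨t.toFinset, ?_, ?_⟩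
  · rw [Finset.mem_coe, hT]
    simp only [Finset.mem_union, Finset.mem_powersetCard]
    rcases Nat.lt_succ_iff_lt_or_eq.1 (Nat.lt_succ_iff.2 t2) with h | h
    · rcases Nat.lt_succ_iff_lt_or_eq.1 h with h | h
      · rcases Nat.lt_succ_iff_lt_or_eq.1 h with h | h
        · exact Or.inl (Or.inl (Or.inl ⟨hts, by omega⟩))
        · exact Or.inl (Or.inl (Or.inr ⟨hts, by omega⟩))
      · exact Or.inl (Or.inr ⟨hts, by omega⟩)
    · exact Or.inr ⟨hts, by omega⟩
  · show t.toFinset.toList.prod = _
    rw [← t4]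
    exact ((List.toFinset_toList t1).symm.prod_eq' (List.pairwise_of_forall_mem_list fun u hu v hv =>
      hM.1.2 u (t3 u hu) v (t3 v hv))).symm

end Cfsg.Agent.TT95
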