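import Cfsg.Agent.TT95.LayLocal
import Cfsg.Agent.TT95.Components

/-!
From the graph properties of the local group to those of the group one step up the tower.
-/

set_option autoImplicit false
set_option linter.unusedSectionVars false

namespace Cfsg.Agent.TT95

/-- A class of 3-transpositions whose local groups all look like `E`. -/
structure StepHyp {G K : Type*} [Group G] [Group K] (D : Set G) (E : Set K) (n k l s t : ℕ) : Prop where
  tt : TTSet D
  center : Subgroup.center G = ⊥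
  one : OneClass D
  tf : TwinFree D
  conn : Conn D
  lay : Lay E n k l s t
  quads : TransQuads E
  iso : ∀ a ∈ D, ∃ f, Iso D a E f
  hkn : 1 + k < n
  hlk : 1 + l < k

variable {G K : Type*} [Group G] [Finite G] [Group K] [Finite K] {D : Set G} {E : Set K} {n k l s t : ℕ}
  (hS : StepHyp D E n k l s t)

theorem Iso.image_inter_nb {G K : Type*} [Group G] [Group K] {D : Set G} {E : Set K} {a : G} {f : G → K}
    (h : Iso D a E f) {S : Set G} (hS : S ⊆ nb D a) {x : G} (hx : x ∈ nb D a) :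
    f '' (S ∩ nb D x) = f '' S ∩ nb E (f x) := by
  ext q
  constructor
  · rintro ⟨y, ⟨hy, hyx⟩, rfl⟩
    exact ⟨⟨y, hy, rfl⟩, (h.mem_nb_iff hx (hS hy)).2 hyx⟩
  · rintro ⟨⟨y, hy, rfl⟩, hq⟩
    exact ⟨y, ⟨hy, (h.mem_nb_iff hx (hS hy)).1 hq⟩, rfl⟩

include hS

theorem step_nb {a : G} (ha : a ∈ D) : (nb D a).ncard = n := by
  obtain ⟨f, hf⟩ := hS.iso a ha
  rw [hf.ncard, hS.lay.card_D]

theorem step_edge {a b : G} (ha : a ∈ D) (hb : b ∈ nb D a) : (common D a b).ncard = k := by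
  obtain ⟨f, hf⟩ := hS.iso a ha
  rw [← hf.ncard_image (show common D a b ⊆ nb D a from Set.inter_subset_left), hf.image_nb hb,
    hS.lay.card_nb _ (hf.mem hb)]

theorem step_locfar_card {a b : G} (ha : a ∈ D) (hb : b ∈ nb D a) :
    (nb D a ∩ far D b).ncard = n - 1 - k := by
  obtain ⟨f, hf⟩ := hS.iso a ha
  rw [← hf.ncard_image (show nb D a ∩ far D b ⊆ nb D a from Set.inter_subset_left), hf.image_far hb]
  have := hS.lay.card_split (hf.mem hb) (Set.toFinite _)
  omega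

theorem step_nbConn {a : G} (ha : a ∈ D) : Conn (nb D a) := by
  obtain ⟨f, hf⟩ := hS.iso a ha
  exact hf.conn_pull subset_rfl (hf.bij.image_eq ▸ hS.lay.conn)

theorem step_locFar {a b : G} (ha : a ∈ D) (hb : b ∈ nb D a) : Conn (nb D b ∩ far D a) := by
  obtain ⟨f, hf⟩ := hS.iso b hb.1
  have hab := mem_nb_comm ha hb
  exact hf.conn_pull Set.inter_subset_left (hf.image_far hab ▸ hS.lay.farConn _ (hf.mem hab))

theorem step_witness {a b b' : G} (ha : a ∈ D) (hb : b ∈ nb D a) (hb' : b' ∈ nb D a) (hc : Commute b b') :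
    ∃ f ∈ far D a, Commute b f ∧ Commute b' f := by
  obtain ⟨φ, hφ⟩ := hS.iso b hb.1
  have hab := mem_nb_comm ha hb
  by_cases e : b' = b
  · subst e
    obtain ⟨x, ⟨hx, hxa⟩⟩ : (nb D b' ∩ far D a).Nonempty := by
      refine Set.nonempty_of_ncard_ne_zero ?_
      rw [step_locfar_card hS hb'.1 hab]
      have := hS.hkn
      omega
    exact ⟨x, hxa, hx.2.2, hx.2.2⟩
  have hb'b : b' ∈ nb D b := ⟨hb'.1, e, hc⟩
  have hba' : φ a ∈ nb E (φ b') := (hφ.mem_nb_iff hb'b hab).2 (mem_nb_comm ha hb')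
  obtain ⟨q, hq, hqa⟩ : ∃ q ∈ nb E (φ b'), q ∈ far E (φ a) := by
    by_contra hno
    push Not at hno
    have hsub : nb E (φ b') ⊆ insert (φ a) (common E (φ b') (φ a)) := fun q hq => by
      by_cases e : q = φ a
      · exact Or.inl e
      · exact Or.inr ⟨hq, hq.1, e, not_not.1 fun h => hno q hq ⟨hq.1, h⟩⟩
    have := (Set.ncard_le_ncard hsub (Set.toFinite _)).trans (Set.ncard_insert_le _ _)
    rw [hS.lay.card_nb _ (hφ.mem hb'b), hS.lay.card_edge _ (hφ.mem hb'b) _ hba'] at this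
    have := hS.hlk
    omega
  obtain ⟨x, hx, rfl⟩ := hφ.surj hq.1
  exact ⟨x, (hφ.mem_far_iff hab hx).1 hqa, hx.2.2, ((hφ.mem_nb_iff hb'b hx).1 hq).2.2⟩

theorem step_farConn {a : G} (ha : a ∈ D) : Conn (far D a) := fun x hx y hy =>
  far_path hS.tt ha (step_nbConn hS ha) (fun _ hb => step_locFar hS ha hb)
    (fun _ hb _ hb' hc => step_witness hS ha hb hb' hc) hx hy (hS.conn a ha x hx.1) (hS.conn a ha y hy.1)

theorem step_common {a d : G} (ha : a ∈ D) (hd : d ∈ far D a) : ∃ w, w ∈ common D a d :=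
  exists_common_path hS.tt ha (hS.conn a ha d hd.1) hd

theorem step_farPairs : TransFar D := by
  intro a b a' b' ha hb ha' hb'
  obtain ⟨w, hw⟩ := step_common hS ha hb
  obtain ⟨w', hw'⟩ := step_common hS ha' hb'
  obtain ⟨g, hg⟩ := hS.one w hw.1.1 w' hw'.1.1
  have hin : ∀ z, z ∈ nb D w → g * z * g⁻¹ ∈ nb D w' := fun z hz => hg ▸ (nb_conj hS.tt g w z).2 hz
  obtain ⟨f, hf⟩ := hS.iso w' hw'.1.1
  have m1 := hin a (mem_nb_comm ha hw.1)
  have m2 := hin b (mem_nb_comm hb.1 hw.2)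
  have m3 := mem_nb_comm ha' hw'.1
  have m4 := mem_nb_comm hb'.1 hw'.2
  obtain ⟨q, qa, qb⟩ := hS.lay.farPairs _ _ _ _ (hf.mem m1)
    ((hf.mem_far_iff m1 m2).2 ⟨m2.1, fun h => hb.2 ((Commute.conj_iff g).1 h)⟩) (hf.mem m3)
    ((hf.mem_far_iff m3 m4).2 hb')
  obtain ⟨h, -, hh⟩ := hf.lift_to hS.tt q
  refine ⟨h * g, ?_, ?_⟩
  · rw [← hh _ m1 _ m3 qa]; group
  · rw [← hh _ m2 _ m4 qb]; group

theorem step_pairs : TransPairs D := by
  intro a b a' b' ha hb ha' hb' hne hne' hc hc'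
  obtain ⟨g, hg, m1⟩ := to_first hS.tt hS.one ha hb ha' hne hc
  obtain ⟨f, hf⟩ := hS.iso a' ha'
  have m2 : b' ∈ nb D a' := ⟨hb', hne'.symm, hc'⟩
  obtain ⟨q, hq⟩ := hS.lay.one _ (hf.mem m1) _ (hf.mem m2)
  obtain ⟨h, h1, hh⟩ := hf.lift_to hS.tt q
  refine ⟨h * g, ?_, ?_⟩
  · rw [show h * g * a * (h * g)⁻¹ = h * (g * a * g⁻¹) * h⁻¹ by group, hg, h1]
  · rw [← hh _ m1 _ m2 hq]; group

theorem step_dperp {a x y : G} (ha : a ∈ D) (hx : x ∈ far D a) (hy : y ∈ far D a)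
    (h : ∀ b ∈ common D a x, Commute b y) : y = x ∨ y = a * x * a := by
  obtain ⟨b, hb⟩ := step_common hS ha hx
  obtain ⟨f, hf⟩ := hS.iso b hb.1.1
  have ma := mem_nb_comm ha hb.1
  have mx := mem_nb_comm hx.1 hb.2
  have my : y ∈ nb D b := ⟨hy.1, fun e => hy.2 (e ▸ hb.1.2.2), h b hb⟩
  have := hS.lay.dperp _ (hf.mem ma) _ ((hf.mem_far_iff ma mx).2 hx) _ ((hf.mem_far_iff ma my).2 hy) ?_
  · rcases this with e | e
    · exact Or.inl (hf.inj my mx e)
    · exact Or.inr (hf.inj my ((nb_closed hS.tt b).2 a ma x mx) (e.trans (hf.conj a ma x mx).symm))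
  · intro q hq
    rw [← hf.image_common ma mx] at hq
    obtain ⟨z, ⟨hz, hzc⟩, rfl⟩ := hq
    exact (hf.comm z hz y my).2 (h z hzc)

theorem step_deg {a d x : G} (ha : a ∈ D) (hd : d ∈ far D a) (hx : x ∈ common D a d) :
    (common D a d ∩ nb D x).ncard = s := by
  obtain ⟨f, hf⟩ := hS.iso x hx.1.1
  have ma := mem_nb_comm ha hx.1
  have md := mem_nb_comm hd.1 hx.2
  rw [Set.inter_comm, ← hf.ncard_image (show nb D x ∩ common D a d ⊆ nb D x from Set.inter_subset_left),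
    hf.image_common ma md, hS.lay.card_far _ (hf.mem ma) _ ((hf.mem_far_iff ma md).2 hd)]

theorem step_deg_two {a d x y : G} (ha : a ∈ D) (hd : d ∈ far D a) (hx : x ∈ common D a d)
    (hy : y ∈ common D a d ∩ nb D x) : (common D a d ∩ nb D x ∩ nb D y).ncard = t := by
  obtain ⟨f, hf⟩ := hS.iso x hx.1.1
  have ma := mem_nb_comm ha hx.1
  have md := mem_nb_comm hd.1 hx.2
  have hsub : nb D x ∩ common D a d ⊆ nb D x := Set.inter_subset_left
  rw [Set.inter_comm (common D a d), ← hf.ncard_image (Set.inter_subset_left.trans hsub),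
    hf.image_inter_nb hsub hy.2, hf.image_common ma md]
  exact hS.lay.card_deg _ (hf.mem ma) _ ((hf.mem_far_iff ma md).2 hd) _
    (hf.image_common ma md ▸ ⟨y, ⟨hy.2, hy.1⟩, rfl⟩)

theorem conj_common (g a b : G) :
    (fun v => g * v * g⁻¹) '' common D a b = common D (g * a * g⁻¹) (g * b * g⁻¹) := by
  rw [common, Set.image_inter (fun x y h => by simpa using h), ← nb_conj_image hS.tt, ← nb_conj_image hS.tt]
  rfl

/-- The number of common neighbours inside `common a d` of two of its nonadjacent members in one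
component is constant. -/
theorem step_mu {a d x z a' d' x' z' : G} (ha : a ∈ D) (hd : d ∈ far D a) (hx : x ∈ common D a d)
    (hz : z ∈ common D a d) (hxz : ¬ Commute x z) (hp : Path (common D a d) x z) (ha' : a' ∈ D)
    (hd' : d' ∈ far D a') (hx' : x' ∈ common D a' d') (hz' : z' ∈ common D a' d') (hxz' : ¬ Commute x' z')
    (hp' : Path (common D a' d') x' z') :
    (common D a d ∩ common D x z).ncard = (common D a' d' ∩ common D x' z').ncard := by
  obtain ⟨w, hw, -, wz, wxc, wzc⟩ := common_of_path hS.tt (common_closed hS.tt a d) hx hp hxz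
  obtain ⟨w', hw', -, wz', wxc', wzc'⟩ := common_of_path hS.tt (common_closed hS.tt a' d') hx' hp' hxz'
  have wx : w ≠ x := fun e => hxz (e ▸ wzc)
  have wx' : w' ≠ x' := fun e => hxz' (e ▸ wzc')
  obtain ⟨g, hg⟩ := hS.one w hw.1.1 w' hw'.1.1
  have hin : ∀ v, v ∈ nb D w → g * v * g⁻¹ ∈ nb D w' := fun v hv => hg ▸ (nb_conj hS.tt g w v).2 hv
  have ma := hin a (mem_nb_comm ha hw.1)
  have md := hin d (mem_nb_comm hd.1 hw.2)
  have mx := hin x ⟨hx.1.1, wx.symm, wxc.symm⟩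
  have mz := hin z ⟨hz.1.1, wz.symm, wzc⟩
  have ma' := mem_nb_comm ha' hw'.1
  have md' := mem_nb_comm hd'.1 hw'.2
  have mx' : x' ∈ nb D w' := ⟨hx'.1.1, wx'.symm, wxc'.symm⟩
  have mz' : z' ∈ nb D w' := ⟨hz'.1.1, wz'.symm, wzc'⟩
  obtain ⟨f, hf⟩ := hS.iso w' hw'.1.1
  have gnb : ∀ {u v : G}, v ∈ nb D u → g * v * g⁻¹ ∈ nb D (g * u * g⁻¹) :=
    fun {u v} h => (nb_conj hS.tt g u v).2 h
  have q1 : Quad E (f (g * a * g⁻¹)) (f (g * x * g⁻¹)) (f (g * d * g⁻¹)) (f (g * z * g⁻¹)) :=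
    ⟨hf.mem ma, (hf.mem_far_iff ma md).2 ⟨md.1, fun h => hd.2 ((Commute.conj_iff g).1 h)⟩,
      ⟨(hf.mem_nb_iff ma mx).2 (gnb hx.1), (hf.mem_nb_iff md mx).2 (gnb hx.2)⟩,
      ⟨(hf.mem_nb_iff ma mz).2 (gnb hz.1), (hf.mem_nb_iff md mz).2 (gnb hz.2)⟩,
      (hf.mem_far_iff mx mz).2 ⟨mz.1, fun h => hxz ((Commute.conj_iff g).1 h)⟩⟩
  have q2 : Quad E (f a') (f x') (f d') (f z') :=
    ⟨hf.mem ma', (hf.mem_far_iff ma' md').2 hd',
      ⟨(hf.mem_nb_iff ma' mx').2 hx'.1, (hf.mem_nb_iff md' mx').2 hx'.2⟩,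
      ⟨(hf.mem_nb_iff ma' mz').2 hz'.1, (hf.mem_nb_iff md' mz').2 hz'.2⟩,
      (hf.mem_far_iff mx' mz').2 ⟨mz'.1, hxz'⟩⟩
  obtain ⟨q, qa, qx, qd, qz⟩ := hS.quads _ _ _ _ _ _ _ _ q1 q2
  obtain ⟨h, -, hh⟩ := hf.lift_to hS.tt q
  have e : ∀ v, (h * g) * v * (h * g)⁻¹ = h * (g * v * g⁻¹) * h⁻¹ := fun v => by group
  rw [← hh _ ma _ ma' qa, ← hh _ mx _ mx' qx, ← hh _ md _ md' qd, ← hh _ mz _ mz' qz, ← e a, ← e d, ← e x,
    ← e z, ← conj_common hS, ← conj_common hS, ← Set.image_inter (fun x y h => by simpa using h),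
    Set.ncard_image_of_injective _ (fun x y h => by simpa using h)]

open scoped Classical in
/-- The size of a component of `common a d`. -/
theorem step_comp {a d x : G} (ha : a ∈ D) (hd : d ∈ far D a) (hx : x ∈ common D a d) :
    (comp (common D a d) x).ncard = 1 + s + (comp (common D a d) x ∩ far D x).ncard ∧
      ∀ μ, (∀ z ∈ comp (common D a d) x ∩ far D x, (common D a d ∩ common D x z).ncard = μ) →
        (comp (common D a d) x ∩ far D x).ncard * μ = s * (s - 1 - t) := by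
  haveI := Fintype.ofFinite G
  set S := common D a d with hSdef
  set C := comp S x with hC
  have hxC : x ∈ C := ⟨hx, .refl⟩
  have hN : S ∩ nb D x ⊆ C := fun y hy => ⟨hy.1, Path.single' hx hy.1 hy.2.2.2⟩
  have hxnot : x ∉ S ∩ nb D x := fun h => h.2.2.1 rfl
  constructor
  · have e : C = insert x (S ∩ nb D x ∪ C ∩ far D x) := by
      refine subset_antisymm (fun y hy => ?_) ?_
      · rcases mem_nb_or_far (a := x) (hy.1.1.1) with h | h | h
        · exact Or.inl h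
        · exact Or.inr (Or.inl ⟨hy.1, h⟩)
        · exact Or.inr (Or.inr ⟨hy, h⟩)
      · exact Set.insert_subset hxC (Set.union_subset hN Set.inter_subset_left)
    conv_lhs => rw [e]
    rw [Set.ncard_insert_of_notMem (fun h => h.elim hxnot fun h => h.2.2 (Commute.refl x)) (Set.toFinite _),
      Set.ncard_union_eq (Set.disjoint_left.2 fun y h1 h2 => h2.2.2 h1.2.2.2) (Set.toFinite _) (Set.toFinite _),
      step_deg hS ha hd hx]
    ring
  · intro μ hμ
    set N := (S ∩ nb D x).toFinset with hNf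
    set X := (C ∩ far D x).toFinset with hXf
    have hrow : ∀ y ∈ N, (X.bipartiteAbove Commute y).card = s - 1 - t := by
      intro y hy
      rw [hNf, Set.mem_toFinset] at hy
      have e : (↑(X.bipartiteAbove Commute y) : Set G) =
          (S ∩ nb D y) \ insert x (S ∩ nb D x ∩ nb D y) := by
        ext z
        simp only [hXf, Finset.bipartiteAbove, Finset.coe_filter, Set.mem_toFinset, Set.mem_setOf_eq,
          Set.mem_diff, Set.mem_insert_iff, Set.mem_inter_iff, not_or]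
        constructor
        · rintro ⟨⟨hzC, hzf⟩, hc⟩
          exact ⟨⟨hzC.1, hzC.1.1.1, fun e => hzf.2 (e ▸ hy.2.2.2), hc⟩,
            fun e => hzf.2 (e ▸ Commute.refl x), fun h => hzf.2 h.1.2.2.2⟩
        · rintro ⟨⟨hzS, hzy⟩, hne, hn⟩
          refine ⟨⟨⟨hzS, (Path.single' hx hy.1 hy.2.2.2).trans' (Path.single' hy.1 hzS hzy.2.2)⟩,
            hzy.1, fun hc => hn ⟨⟨hzS, hzy.1, hne, hc⟩, hzy⟩⟩, hzy.2.2⟩
      rw [← Set.ncard_coe_finset, e, Set.ncard_sdiff ?_ (Set.toFinite _), step_deg hS ha hd hy.1,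
        Set.ncard_insert_of_notMem (fun h => h.1.2.2.1 rfl) (Set.toFinite _), step_deg_two hS ha hd hx hy]
      · omega
      · exact Set.insert_subset ⟨hx, mem_nb_comm hx.1.1 hy.2⟩ fun z hz => ⟨hz.1.1, hz.2⟩
    have hcol : ∀ z ∈ X, (N.bipartiteBelow Commute z).card = μ := by
      intro z hz
      rw [hXf, Set.mem_toFinset] at hz
      rw [← hμ z hz, ← Set.ncard_coe_finset]
      congr 1
      ext y
      simp only [hNf, Finset.bipartiteBelow, Finset.coe_filter, Set.mem_toFinset, Set.mem_setOf_eq,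
        Set.mem_inter_iff]
      constructor
      · rintro ⟨⟨hy, hyx⟩, hc⟩
        exact ⟨hy, hyx, hy.1.1, fun e => hz.2.2 (e ▸ hyx.2.2), hc.symm⟩
      · rintro ⟨hy, hyx, hyz⟩
        exact ⟨⟨hy, hyx⟩, hyz.2.2.symm⟩
    have h := Finset.card_mul_eq_card_mul (s := N) (t := X) Commute hrow hcol
    rw [hNf, ← Set.ncard_eq_toFinset_card', hXf, ← Set.ncard_eq_toFinset_card', step_deg hS ha hd hx] at h
    exact h.symm

theorem step_formula {a d x : G} (ha : a ∈ D) (hd : d ∈ far D a) (hx : x ∈ common D a d)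
    (hst : 0 < s * (s - 1 - t)) :
    ∃ X μ, 1 ≤ μ ∧ μ ≤ s ∧ X * μ = s * (s - 1 - t) ∧ (comp (common D a d) x).ncard = 1 + s + X ∧
      ∃ z ∈ common D a d, ¬ Commute x z ∧ Path (common D a d) x z ∧
        (common D a d ∩ common D x z).ncard = μ := by
  obtain ⟨h1, h2⟩ := step_comp hS ha hd hx
  rcases (comp (common D a d) x ∩ far D x).eq_empty_or_nonempty with he | ⟨z, hz⟩
  · have := h2 0 (by rw [he]; simp)
    rw [he, Set.ncard_empty, zero_mul] at this
    omega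
  obtain ⟨w, hw, -, wz, wxc, wzc⟩ :=
    common_of_path hS.tt (common_closed hS.tt a d) hx hz.1.2 hz.2.2
  have hwx : w ≠ x := fun e => hz.2.2 (e ▸ wzc)
  have hpos : 1 ≤ (common D a d ∩ common D x z).ncard :=
    (Set.ncard_pos (Set.toFinite _)).2 ⟨w, hw, ⟨hw.1.1, hwx, wxc⟩, hw.1.1, wz, wzc.symm⟩
  have hle : (common D a d ∩ common D x z).ncard ≤ s := by
    rw [← step_deg hS ha hd hx]
    exact Set.ncard_le_ncard (fun v hv => (⟨hv.1, hv.2.1⟩ : v ∈ common D a d ∩ nb D x)) (Set.toFinite _)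
  exact ⟨_, _, hpos, hle, h2 _ (fun z' hz' => step_mu hS ha hd hx hz'.1.1 hz'.2.2 hz'.1.2 ha hd hx hz.1.1
    hz.2.2 hz.1.2), h1, z, hz.1.1, hz.2.2, hz.1.2, rfl⟩

theorem step_comp_const {a d x a' d' x' : G} (ha : a ∈ D) (hd : d ∈ far D a) (hx : x ∈ common D a d)
    (ha' : a' ∈ D) (hd' : d' ∈ far D a') (hx' : x' ∈ common D a' d') (hst : 0 < s * (s - 1 - t)) :
    (comp (common D a d) x).ncard = (comp (common D a' d') x').ncard := by
  obtain ⟨X, μ, hμ, -, e, c, z, hz, hxz, hp, eμ⟩ := step_formula hS ha hd hx hst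
  obtain ⟨X', μ', -, -, e', c', z', hz', hxz', hp', eμ'⟩ := step_formula hS ha' hd' hx' hst
  have : μ = μ' := by rw [← eμ, ← eμ']; exact step_mu hS ha hd hx hz hxz hp ha' hd' hx' hz' hxz' hp'
  subst this
  rw [c, c', Nat.eq_of_mul_eq_mul_right hμ (e.trans e'.symm)]

theorem step_far_const {a d a' d' : G} (ha : a ∈ D) (hd : d ∈ far D a) (ha' : a' ∈ D) (hd' : d' ∈ far D a') :
    (common D a d).ncard = (common D a' d').ncard := by
  obtain ⟨g, ga, gd⟩ := step_farPairs hS a d a' d' ha hd ha' hd'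
  rw [← ga, ← gd, ← conj_common hS, Set.ncard_image_of_injective _ (fun x y h => by simpa using h)]

open scoped Classical in
theorem step_edges {a : G} (ha : a ∈ D) {S : ℕ} (hSc : ∀ d ∈ far D a, (common D a d).ncard = S) :
    (far D a).ncard * S = n * (n - 1 - k) := by
  haveI := Fintype.ofFinite G
  set A := (far D a).toFinset with hA
  set N := (nb D a).toFinset with hN
  have hrow : ∀ d ∈ A, (N.bipartiteAbove Commute d).card = S := by
    intro d hd
    rw [hA, Set.mem_toFinset] at hd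
    rw [← hSc d hd, ← Set.ncard_coe_finset]
    congr 1
    ext y
    simp only [hN, Finset.bipartiteAbove, Finset.coe_filter, Set.mem_toFinset, Set.mem_setOf_eq]
    exact ⟨fun ⟨hy, hc⟩ => ⟨hy, hy.1, fun e => hd.2 (e ▸ hy.2.2), hc⟩, fun h => ⟨h.1, h.2.2.2⟩⟩
  have hcol : ∀ b ∈ N, (A.bipartiteBelow Commute b).card = n - 1 - k := by
    intro b hb
    rw [hN, Set.mem_toFinset] at hb
    rw [← step_locfar_card hS hb.1 (mem_nb_comm ha hb), ← Set.ncard_coe_finset]
    congr 1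
    ext y
    simp only [hA, Finset.bipartiteBelow, Finset.coe_filter, Set.mem_toFinset, Set.mem_setOf_eq,
      Set.mem_inter_iff]
    exact ⟨fun ⟨hy, hc⟩ => ⟨⟨hy.1, fun e => hy.2 (e ▸ hb.2.2), hc.symm⟩, hy⟩,
      fun ⟨hy, hya⟩ => ⟨hya, hy.2.2.symm⟩⟩
  have h := Finset.card_mul_eq_card_mul (s := A) (t := N) Commute hrow hcol
  rwa [hA, ← Set.ncard_eq_toFinset_card', hN, ← Set.ncard_eq_toFinset_card', step_nb hS ha] at h

/-- The next member of the tower, once the arithmetic fixes the number and size of the components. -/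
theorem step_lay {R C N : ℕ} (hne : D.Nonempty) (hst : 0 < s * (s - 1 - t)) (hRC : 0 < R * C)
    (hN : N * (R * C) = n * (n - 1 - k))
    (hnum : ∀ r X μ F : ℕ, 1 ≤ μ → μ ≤ s → X * μ = s * (s - 1 - t) → F * (r * (1 + s + X)) = n * (n - 1 - k) →
      r * (1 + s + X) ≤ n → Odd r → r ≠ 5 → r = R ∧ 1 + s + X = C) :
    Lay D (1 + n + N) n k (R * C) s ∧
      ∀ a ∈ D, ∀ d ∈ far D a, (comps (common D a d)).ncard = R ∧
        ∀ x ∈ common D a d, (comp (common D a d) x).ncard = C := by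
  have key : ∀ a ∈ D, ∀ d ∈ far D a, (comps (common D a d)).ncard = R ∧
      (∀ x ∈ common D a d, (comp (common D a d) x).ncard = C) ∧ (common D a d).ncard = R * C := by
    intro a ha d hd
    obtain ⟨x, hx⟩ := step_common hS ha hd
    obtain ⟨X, μ, h1, h2, h3, h4, -⟩ := step_formula hS ha hd hx hst
    have hc : ∀ y ∈ common D a d, (comp (common D a d) y).ncard = 1 + s + X := fun y hy =>
      (step_comp_const hS ha hd hy ha hd hx hst).trans h4
    have hcard := ncard_eq_mul hc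
    have hle : (common D a d).ncard ≤ n := by
      rw [← step_nb hS ha]
      exact Set.ncard_le_ncard Set.inter_subset_left (Set.toFinite _)
    have he := step_edges hS ha (S := (common D a d).ncard) fun d' hd' => step_far_const hS ha hd' ha hd
    rw [hcard] at he hle
    obtain ⟨e1, e2⟩ := hnum _ X μ _ h1 h2 h3 he hle
      (comps_odd hS.tt (common_closed hS.tt a d) hx) (comps_ne_five hS.tt (common_closed hS.tt a d))
    exact ⟨e1, fun y hy => (hc y hy).trans e2, by rw [hcard, e1, e2]⟩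
  obtain ⟨a₀, ha₀⟩ := hne
  have hfar : (far D a₀).ncard = N := by
    have he := step_edges hS ha₀ (S := R * C) fun d hd => (key a₀ ha₀ d hd).2.2
    exact Nat.eq_of_mul_eq_mul_right hRC (he.trans hN.symm)
  have hD : D.ncard = 1 + n + N := by
    have e : D = insert a₀ (nb D a₀ ∪ far D a₀) := by
      ext x
      refine ⟨fun hx => ?_, fun hx => ?_⟩
      · rcases mem_nb_or_far (a := a₀) hx with h | h | h
        · exact Or.inl h
        · exact Or.inr (Or.inl h)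
        · exact Or.inr (Or.inr h)
      · rcases hx with h | h | h
        · exact h ▸ ha₀
        · exact h.1
        · exact h.1
    conv_lhs => rw [e]
    rw [Set.ncard_insert_of_notMem (fun h => h.elim (fun h => h.2.1 rfl) fun h => h.2 (Commute.refl a₀))
        (Set.toFinite _),
      Set.ncard_union_eq (Set.disjoint_left.2 fun y h1 h2 => h2.2 h1.2.2) (Set.toFinite _) (Set.toFinite _),
      step_nb hS ha₀, hfar]
    ring
  refine ⟨{
    tt := hS.tt, center := hS.center, one := hS.one, tf := hS.tf, conn := hS.conn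
    nbConn := fun _ ha => step_nbConn hS ha
    farConn := fun _ ha => step_farConn hS ha
    card_D := hD
    card_nb := fun _ ha => step_nb hS ha
    card_edge := fun _ ha _ hb => step_edge hS ha hb
    card_far := fun a ha d hd => (key a ha d hd).2.2
    card_deg := fun _ ha _ hd _ hx => step_deg hS ha hd hx
    pairs := step_pairs hS
    farPairs := step_farPairs hS
    dperp := fun _ ha _ hx _ hy h => step_dperp hS ha hx hy h }, fun a ha d hd => ⟨(key a ha d hd).1, (key a ha d hd).2.1⟩⟩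

/-- If the common neighbours of a non-edge are connected then the four-cycles are conjugate. -/
theorem step_quads (hcc : ∀ a ∈ D, ∀ d ∈ far D a, Conn (common D a d)) : TransQuads D := by
  intro a b c d a' b' c' d' hq hq'
  have hget : ∀ a b c d, Quad D a b c d → ∃ w, w ∈ D ∧ a ∈ nb D w ∧ b ∈ nb D w ∧ c ∈ nb D w ∧ d ∈ nb D w := by
    rintro a b c d ⟨ha, hc, hb, hd, -, hbd⟩
    obtain ⟨w, hw, n1, n2, c1, c2⟩ :=
      common_of_path hS.tt (common_closed hS.tt a c) hb (hcc a ha c hc b hb d hd) hbd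
    exact ⟨w, hw.1.1, mem_nb_comm ha hw.1, ⟨hb.1.1, n1.symm, c1.symm⟩, mem_nb_comm hc.1 hw.2,
      ⟨hd.1.1, n2.symm, c2⟩⟩
  obtain ⟨w, hw, wa, wb, wc, wd⟩ := hget a b c d hq
  obtain ⟨w', hw', wa', wb', wc', wd'⟩ := hget a' b' c' d' hq'
  obtain ⟨g, hg⟩ := hS.one w hw w' hw'
  have hin : ∀ v, v ∈ nb D w → g * v * g⁻¹ ∈ nb D w' := fun v hv => hg ▸ (nb_conj hS.tt g w v).2 hv
  obtain ⟨f, hf⟩ := hS.iso w' hw'
  obtain ⟨-, hac, hb, hd, hbd⟩ := hq
  obtain ⟨-, hac', hb', hd', hbd'⟩ := hq'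
  have gnb : ∀ {u v : G}, v ∈ nb D u → g * v * g⁻¹ ∈ nb D (g * u * g⁻¹) :=
    fun {u v} h => (nb_conj hS.tt g u v).2 h
  have q1 : Quad E (f (g * a * g⁻¹)) (f (g * b * g⁻¹)) (f (g * c * g⁻¹)) (f (g * d * g⁻¹)) :=
    ⟨hf.mem (hin a wa), (hf.mem_far_iff (hin a wa) (hin c wc)).2
        ⟨(hin c wc).1, fun h => hac.2 ((Commute.conj_iff g).1 h)⟩,
      ⟨(hf.mem_nb_iff (hin a wa) (hin b wb)).2 (gnb hb.1), (hf.mem_nb_iff (hin c wc) (hin b wb)).2 (gnb hb.2)⟩,
      ⟨(hf.mem_nb_iff (hin a wa) (hin d wd)).2 (gnb hd.1), (hf.mem_nb_iff (hin c wc) (hin d wd)).2 (gnb hd.2)⟩,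
      (hf.mem_far_iff (hin b wb) (hin d wd)).2 ⟨(hin d wd).1, fun h => hbd.2 ((Commute.conj_iff g).1 h)⟩⟩
  have q2 : Quad E (f a') (f b') (f c') (f d') :=
    ⟨hf.mem wa', (hf.mem_far_iff wa' wc').2 hac',
      ⟨(hf.mem_nb_iff wa' wb').2 hb'.1, (hf.mem_nb_iff wc' wb').2 hb'.2⟩,
      ⟨(hf.mem_nb_iff wa' wd').2 hd'.1, (hf.mem_nb_iff wc' wd').2 hd'.2⟩,
      (hf.mem_far_iff wb' wd').2 hbd'⟩
  obtain ⟨q, qa, qb, qc, qd⟩ := hS.quads _ _ _ _ _ _ _ _ q1 q2
  obtain ⟨h, -, hh⟩ := hf.lift_to hS.tt q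
  refine ⟨h * g, ?_, ?_, ?_, ?_⟩
  · rw [← hh _ (hin a wa) _ wa' qa]; group
  · rw [← hh _ (hin b wb) _ wb' qb]; group
  · rw [← hh _ (hin c wc) _ wc' qc]; group
  · rw [← hh _ (hin d wd) _ wd' qd]; group

end Cfsg.Agent.TT95
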