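import Cfsg.Agent.TT95.Cent23

/-!
Automorphisms preserving the class of transpositions: at most one coset of outer ones in types M(22) and
M(23).
-/

set_option autoImplicit false
set_option linter.unusedSectionVars false

namespace Cfsg.Agent.TT95

/-- The automorphisms preserving `E`. -/
def PresAut {K : Type*} [Group K] (E : Set K) : Subgroup (MulAut K) where
  carrier := {α | ∀ x, α x ∈ E ↔ x ∈ E}
  one_mem' x := Iff.rfl
  mul_mem' := fun {α β} ha hb x => (ha (β x)).trans (hb x)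
  inv_mem' := fun {α} ha x => by
    rw [← ha ((α⁻¹) x), show α ((α⁻¹) x) = x from MulEquiv.apply_symm_apply α x]

/-- An inner automorphism. -/
def IsInner {K : Type*} [Group K] (α : MulAut K) : Prop := ∃ q, MulAut.conj q = α

theorem IsInner.mul {K : Type*} [Group K] {α β : MulAut K} (h : IsInner α) (h' : IsInner β) :
    IsInner (α * β) := by
  obtain ⟨p, rfl⟩ := h
  obtain ⟨q, rfl⟩ := h'
  exact ⟨p * q, map_mul _ _ _⟩

theorem IsInner.inv {K : Type*} [Group K] {α : MulAut K} (h : IsInner α) : IsInner α⁻¹ := by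
  obtain ⟨p, rfl⟩ := h
  exact ⟨p⁻¹, map_inv _ _⟩

section Embed

variable {K : Type*} [Group K] {E : Set K} (hE : TTSet E) (hZ : Subgroup.center K = ⊥) [Gen E]

include hE hZ

/-- The group as inner automorphisms, with its class. -/
theorem exists_embed : ∃ ψ : K →* PresAut E, Function.Injective ψ ∧
    (∀ q, (ψ q).1 = MulAut.conj q) ∧ (∀ (α : PresAut E) q, α * ψ q * α⁻¹ = ψ (α.1 q)) ∧
      TTSet (ψ '' E) ∧ Subgroup.center (PresAut E) = ⊥ := by
  have hmem : ∀ q : K, MulAut.conj q ∈ PresAut E := fun q x =>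
    ⟨fun h => by simpa [mul_assoc] using conj_mem hE q⁻¹ h, fun h => conj_mem hE q h⟩
  set ψ : K →* PresAut E := (MulAut.conj (G := K)).codRestrict (PresAut E) hmem with hψ
  have hinj : Function.Injective ψ := by
    refine (injective_iff_map_eq_one _).2 fun q hq => ?_
    have : q ∈ Subgroup.center K := Subgroup.mem_center_iff.2 fun x => by
      have e : q * x * q⁻¹ = x := by
        have h := congrArg (fun α : PresAut E => α.1 x) hq
        simpa [hψ] using h
      exact (mul_inv_eq_iff_eq_mul.1 e).symm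
    rwa [hZ, Subgroup.mem_bot] at this
  have hnat : ∀ (α : PresAut E) q, α * ψ q * α⁻¹ = ψ (α.1 q) := fun α q => Subtype.ext (MulEquiv.ext fun x => by
    show α.1 (q * (α.1⁻¹) x * q⁻¹) = α.1 q * x * (α.1 q)⁻¹
    rw [map_mul, map_mul, map_inv, show α.1 ((α.1⁻¹) x) = x from MulEquiv.apply_symm_apply _ x])
  have htriv : ∀ α : PresAut E, (∀ e ∈ E, Commute α (ψ e)) → α = 1 := fun α h => by
    have hfix : ∀ e ∈ E, α.1 e = e := fun e he => hinj (by
      rw [← hnat, (h e he).eq, mul_inv_cancel_right])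
    refine Subtype.ext (MulEquiv.ext fun x => ?_)
    have hx : x ∈ Subgroup.closure E := by rw [Gen.gen (D := E)]; trivial
    show α.1 x = x
    induction hx using Subgroup.closure_induction with
    | mem e he => exact hfix e he
    | one => exact map_one _
    | mul u v _ _ hu hv => rw [map_mul, hu, hv]
    | inv u _ hu => rw [map_inv, hu]
  have hthree : Cfsg.IsThreeTranspositionSet (ψ '' E) := by
    refine ⟨?_, ?_⟩
    · rintro _ ⟨p, hp, rfl⟩
      rw [orderOf_injective ψ hinj]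
      exact hE.1.1 p hp
    · rintro _ ⟨p, hp, rfl⟩ _ ⟨q, hq, rfl⟩
      rcases hE.1.2 p hp q hq with e | e
      · exact Or.inl (by rw [← map_mul, ← map_pow, e, map_one])
      · exact Or.inr (by rw [← map_mul, ← map_pow, e, map_one])
  have hZA : Subgroup.center (PresAut E) = ⊥ := (Subgroup.eq_bot_iff_forall _).2 fun α hα =>
    htriv α fun e _ => (Subgroup.mem_center_iff.1 hα _).symm
  refine ⟨ψ, hinj, fun q => rfl, hnat, ⟨hthree, ?_, ?_⟩, hZA⟩
  · rintro α _ ⟨e, he, rfl⟩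
    exact ⟨α.1 e, (α.2 e).2 he, (hnat α e).symm⟩
  · refine le_antisymm (fun α hα => ?_) (Subgroup.center_le_centralizer _)
    rw [htriv α fun e he => (Subgroup.mem_centralizer_iff.1 hα _ ⟨e, he, rfl⟩).symm]
    exact one_mem _

end Embed

theorem Path.map {G H : Type*} [Group G] [Group H] (ψ : G →* H) {S : Set G} {T : Set H}
    (hST : ∀ x ∈ S, ψ x ∈ T) {x y : G} (h : Path S x y) : Path T (ψ x) (ψ y) := by
  induction h with
  | refl => exact .refl
  | tail _ e ih => exact ih.trans' (Path.single' (hST _ e.1) (hST _ e.2.1) (e.2.2.map ψ))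

/-- An automorphism fixing a member and its neighbours is inner. -/
theorem inner_of_fix {K : Type*} [Group K] [Finite K] {E : Set K} {n k l s t : ℕ} (hL : Lay E n k l s t) [Gen E]
    {α : MulAut K} (hα : α ∈ PresAut E) {a : K} (ha : a ∈ E) (h0 : α a = a) (h1 : ∀ x ∈ nb E a, α x = x) :
    IsInner α := by
  have hE := hL.tt
  obtain ⟨ψ, hinj, hval, hnat, htt, hZA⟩ := exists_embed hE hL.center
  set A : PresAut E := ⟨α, hα⟩
  have hcomm : ∀ {x y}, Commute (ψ x) (ψ y) ↔ Commute x y := fun {x y} => commute_map_iff hinj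
  have hz : ∀ x, α x = x → Commute A (ψ x) := fun x e => by
    have := hnat A x
    rw [show A.1 x = x from e] at this
    exact mul_inv_eq_iff_eq_mul.1 this
  have hnbA : ∀ b ∈ nb (ψ '' E) (ψ a), ∃ x ∈ nb E a, ψ x = b := by
    rintro _ ⟨⟨x, hx, rfl⟩, h2, h3⟩
    exact ⟨x, ⟨hx, fun e => h2 (by rw [e]), hcomm.1 h3⟩, rfl⟩
  have hall : ∀ z : PresAut E, (∀ x ∈ ψ '' E, Path (ψ '' E) (ψ a) x → Commute z x) → z = 1 := fun z hzc => by
    have : z ∈ Subgroup.center (PresAut E) := by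
      rw [← centralizer_D_eq_center htt]
      refine Subgroup.mem_centralizer_iff.2 ?_
      rintro _ ⟨x, hx, rfl⟩
      exact (hzc _ ⟨x, hx, rfl⟩ (Path.map (T := ψ '' E) ψ (fun y hy => ⟨y, hy, rfl⟩) (hL.conn a ha x hx))).eq.symm
    rwa [hZA, Subgroup.mem_bot] at this
  have key := kernel_path htt (z := A) (a := ψ a) ⟨a, ha, rfl⟩ (hz a h0) (fun b hb => by
      obtain ⟨x, hx, rfl⟩ := hnbA b hb
      exact hz x (h1 x hx)) ?_ ?_
  · rcases key with h | h
    · exact ⟨1, by rw [map_one]; exact (congrArg Subtype.val (hall _ h)).symm⟩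
    · refine ⟨a, (hval a).symm.trans ?_⟩
      have e := eq_inv_of_mul_eq_one_right (hall _ h)
      rw [← map_inv, inv_eq hE ha] at e
      exact (congrArg Subtype.val e).symm
  · rintro _ ⟨⟨x, hx, rfl⟩, hx'⟩ _ ⟨⟨y, hy, rfl⟩, hy'⟩ - hb
    rcases hL.dperp a ha x ⟨hx, fun e => hx' (hcomm.2 e)⟩ y ⟨hy, fun e => hy' (hcomm.2 e)⟩ (fun b hb' => by
        refine hcomm.1 (hb (ψ b) ?_)
        exact ⟨⟨⟨b, hb'.1.1, rfl⟩, fun e => hb'.1.2.1 (hinj e), hcomm.2 hb'.1.2.2⟩,
          ⟨⟨b, hb'.1.1, rfl⟩, fun e => hb'.2.2.1 (hinj e), hcomm.2 hb'.2.2.2⟩⟩) with e | e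
    · exact Or.inl (by rw [e])
    · exact Or.inr (by rw [e, map_mul, map_mul])
  · rintro _ _ ⟨⟨x, hx, rfl⟩, hx'⟩ ⟨⟨y, hy, rfl⟩, hy'⟩ - -
    exact Path.map (T := far (ψ '' E) (ψ a)) ψ (fun u hu => ⟨⟨u, hu.1, rfl⟩, fun e => hu.2 (hcomm.1 e)⟩)
      (hL.farConn a ha x ⟨hx, fun e => hx' (hcomm.2 e)⟩ y ⟨hy, fun e => hy' (hcomm.2 e)⟩)

/-- Two outer automorphisms in type M(22) differ by an inner one. -/
theorem two_outer22 {K : Type*} [Group K] [Finite K] {E : Set K} (hC : Cfg22 E) [Gen E] {a : K} (ha : a ∈ E)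
    {α β : MulAut K} (hα : α ∈ PresAut E) (hβ : β ∈ PresAut E) (h1 : ¬ IsInner α) (h2 : ¬ IsInner β) :
    IsInner (α * β⁻¹) := by
  obtain ⟨ψ, hinj, hval, hnat, htt, hZA⟩ := exists_embed hC.tt hC.center
  have hM := cfg22_map hC ψ hinj htt hZA
  have hfix : ∀ A : PresAut E, ∃ q, Commute (ψ q * A) (ψ a) := by
    intro A
    obtain ⟨q, hq⟩ := hC.one (A.1 a) ((A.2 a).2 ha) a ha
    refine ⟨q, mul_inv_eq_iff_eq_mul.1 ?_⟩
    rw [show ψ q * A * ψ a * (ψ q * A)⁻¹ = ψ q * (A * ψ a * A⁻¹) * (ψ q)⁻¹ by group, hnat, ← map_inv, ← map_mul,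
      ← map_mul, hq]
  have hrange : ∀ w, w ∈ Subgroup.closure (nb (ψ '' E) (ψ a)) → IsInner w.1 := by
    intro w hw
    have hle : Subgroup.closure (nb (ψ '' E) (ψ a)) ≤ ψ.range :=
      (Subgroup.closure_le _).2 fun x hx => Set.image_subset_range _ _ hx.1
    obtain ⟨p, rfl⟩ := hle hw
    exact ⟨p, (hval p).symm⟩
  obtain ⟨q, hq⟩ := hfix ⟨α, hα⟩
  obtain ⟨r, hr⟩ := hfix ⟨β, hβ⟩
  have hno : ∀ {q : K} {γ : MulAut K} (hγ : γ ∈ PresAut E), ¬ IsInner γ →
      ψ q * ⟨γ, hγ⟩ ∉ Subgroup.closure (nb (ψ '' E) (ψ a)) := fun {q γ} hγ hn hm => hn (by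
    have hi : IsInner ((ψ q).1⁻¹ * ((ψ q * ⟨γ, hγ⟩ : PresAut E)).1) :=
      IsInner.mul (IsInner.inv ⟨q, (hval q).symm⟩) (hrange _ hm)
    simpa using hi)
  obtain ⟨γ, hγ⟩ := hM.loc (ψ a) ⟨a, ha, rfl⟩
  have h := hrange _ (coset_unique hM ⟨a, ha, rfl⟩ hγ hq hr (hno hα h1) (hno hβ h2))
  have h' : IsInner ((ψ q).1⁻¹ * ((ψ q * ⟨α, hα⟩ * (ψ r * ⟨β, hβ⟩)⁻¹ : PresAut E)).1 * (ψ r).1) :=
    IsInner.mul (IsInner.mul (IsInner.inv ⟨q, (hval q).symm⟩) h) ⟨r, (hval r).symm⟩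
  have e : (ψ q).1⁻¹ * ((ψ q * ⟨α, hα⟩ * (ψ r * ⟨β, hβ⟩)⁻¹ : PresAut E)).1 * (ψ r).1 = α * β⁻¹ := by
    simp only [Subgroup.coe_mul, Subgroup.coe_inv]
    group
  rwa [e] at h'

section Induced

variable {G : Type*} [Group G] {D : Set G}

/-- An automorphism fixing the neighbour set acts on the local group. -/
theorem exists_modAut (hD : TTSet D) {a : G} (φ : MulAut G) (hφ : ∀ x, φ x ∈ nb D a ↔ x ∈ nb D a) :
    ∃ α ∈ PresAut (locSet D a), ∀ (h : Subgroup.closure (nb D a)) (h' : φ h ∈ Subgroup.closure (nb D a)),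
      α (QuotientGroup.mk h) = QuotientGroup.mk ⟨φ h, h'⟩ := by
  have himg : φ '' nb D a = nb D a := by
    ext x
    exact ⟨fun ⟨y, hy, e⟩ => e ▸ (hφ y).2 hy, fun hx => ⟨φ⁻¹ x, (hφ _).1 (by
      rwa [show φ (φ⁻¹ x) = x from MulEquiv.apply_symm_apply φ x]), MulEquiv.apply_symm_apply φ x⟩⟩
  have hmap : (Subgroup.closure (nb D a)).map φ.toMonoidHom = Subgroup.closure (nb D a) := by
    rw [MonoidHom.map_closure]
    exact congrArg Subgroup.closure himg
  set σ := (φ.subgroupMap (Subgroup.closure (nb D a))).trans (MulEquiv.subgroupCongr hmap)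
  have hσ : ∀ h, ((σ h : Subgroup.closure (nb D a)) : G) = φ h := fun h => rfl
  have hc : (Subgroup.center (Subgroup.closure (nb D a))).map σ.toMonoidHom =
      Subgroup.center (Subgroup.closure (nb D a)) := by
    ext x
    rw [Subgroup.mem_map, Subgroup.mem_center_iff]
    constructor
    · rintro ⟨y, hy, rfl⟩ z
      obtain ⟨w, rfl⟩ := σ.surjective z
      show σ w * σ y = σ y * σ w
      rw [← map_mul, ← map_mul, Subgroup.mem_center_iff.1 hy w]
    · intro h
      obtain ⟨y, rfl⟩ := σ.surjective x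
      refine ⟨y, Subgroup.mem_center_iff.2 fun w => σ.injective ?_, rfl⟩
      rw [map_mul, map_mul]
      exact h (σ w)
  refine ⟨QuotientGroup.congr _ _ σ hc, fun q => ?_, fun h h' => congrArg QuotientGroup.mk (Subtype.ext rfl)⟩
  constructor
  · intro hq
    obtain ⟨y, hy, e, hne⟩ := exists_of_mem_locSet hD hq
    have hy' : φ⁻¹ y ∈ nb D a := (hφ _).1 (by
      rwa [show φ (φ⁻¹ y) = y from MulEquiv.apply_symm_apply φ y])
    have e' : q = mkNb hy' := (QuotientGroup.congr _ _ σ hc).injective (e.symm.trans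
      (congrArg QuotientGroup.mk (Subtype.ext (MulEquiv.apply_symm_apply φ y).symm)))
    rw [e']
    refine mkNb_mem hD hy' fun h => hne ?_
    rw [h] at e'
    rw [e', map_one] at e
    exact e
  · intro hq
    obtain ⟨y, hy, rfl, hne⟩ := exists_of_mem_locSet hD hq
    have e : (QuotientGroup.congr _ _ σ hc) (mkNb hy) = mkNb ((hφ y).2 hy) :=
      congrArg QuotientGroup.mk (Subtype.ext rfl)
    rw [e]
    refine mkNb_mem hD _ fun h => hne ?_
    exact (map_eq_one_iff _ (QuotientGroup.congr _ _ σ hc).injective).1 (e.trans h)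

/-- If the induced automorphism is inner, so is the original one up to one fixing all neighbours. -/
theorem eq_conj_on_nb [Finite G] (hD : TTSet D) (hone : OneClass D) (htf : TwinFree D) {a : G} (ha : a ∈ D)
    {φ : MulAut G} (hφ : ∀ x, φ x ∈ nb D a ↔ x ∈ nb D a)
    {α : MulAut (ModCenter (Subgroup.closure (nb D a)))}
    (hα : ∀ (h : Subgroup.closure (nb D a)) (h' : φ h ∈ Subgroup.closure (nb D a)),
      α (QuotientGroup.mk h) = QuotientGroup.mk ⟨φ h, h'⟩) (hin : IsInner α) :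
    ∃ h ∈ Subgroup.closure (nb D a), ∀ x ∈ nb D a, φ x = h * x * h⁻¹ := by
  obtain ⟨p, rfl⟩ := hin
  obtain ⟨⟨h, hh⟩, rfl⟩ := QuotientGroup.mk_surjective p
  refine ⟨h, hh, fun x hx => ?_⟩
  have hx1 := (hφ x).2 hx
  have hx2 := conj_mem_nb hD hh hx
  refine eq_of_mkNb_eq hD hx1 hx2 (mkNb_ne_one hD hone htf ha hx1) ?_
  show (QuotientGroup.mk (⟨φ x, Subgroup.subset_closure hx1⟩ : Subgroup.closure (nb D a)) : ModCenter _) = _
  rw [← hα ⟨x, Subgroup.subset_closure hx⟩ (Subgroup.subset_closure hx1), MulAut.conj_apply]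
  rfl

end Induced

/-- Two outer automorphisms in type M(23) differ by an inner one. -/
theorem two_outer23 {K : Type*} [Group K] [Finite K] {E : Set K} {a : K} (hG : Cfg23 E a) [Gen E]
    {α β : MulAut K} (hα : α ∈ PresAut E) (hβ : β ∈ PresAut E) (h1 : ¬ IsInner α) (h2 : ¬ IsInner β) :
    IsInner (α * β⁻¹) := by
  have hE := hG.lay.tt
  haveI := loc_finite hE a
  haveI := gen_loc hG
  have hfix : ∀ γ ∈ PresAut E, ∃ q, MulAut.conj q * γ ∈ PresAut E ∧ (MulAut.conj q * γ) a = a := by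
    intro γ hγ
    obtain ⟨q, hq⟩ := hG.lay.one (γ a) ((hγ a).2 hG.mem) a hG.mem
    refine ⟨q, (PresAut E).mul_mem (fun x => ?_) hγ, hq⟩
    exact ⟨fun h => by simpa [mul_assoc] using conj_mem hE q⁻¹ h, fun h => conj_mem hE q h⟩
  have hnb : ∀ γ ∈ PresAut E, γ a = a → ∀ x, γ x ∈ nb E a ↔ x ∈ nb E a := by
    intro γ hγ hfix' x
    have hcm : Commute a (γ x) ↔ Commute a x := by
      conv_lhs => rw [← hfix']
      exact commute_map_iff (f := γ) γ.injective
    show γ x ∈ E ∧ γ x ≠ a ∧ _ ↔ x ∈ E ∧ x ≠ a ∧ _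
    rw [hγ x, hcm, show (γ x ≠ a ↔ x ≠ a) by
      conv_lhs => rw [← hfix']
      exact γ.injective.ne_iff]
  have hinner : ∀ γ ∈ PresAut E, ∀ (hγa : γ a = a) (ρ : MulAut (ModCenter (Subgroup.closure (nb E a)))),
      (∀ (h : Subgroup.closure (nb E a)) (h' : γ h ∈ Subgroup.closure (nb E a)),
        ρ (QuotientGroup.mk h) = QuotientGroup.mk ⟨γ h, h'⟩) → IsInner ρ → IsInner γ := by
    intro γ hγ hγa ρ hρ hin
    obtain ⟨h, hh, hhx⟩ := eq_conj_on_nb hE hG.lay.one hG.lay.tf hG.mem (hnb γ hγ hγa) hρ hin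
    have hc : MulAut.conj h⁻¹ * γ ∈ PresAut E := (PresAut E).mul_mem (fun x =>
      ⟨fun h' => by simpa [mul_assoc] using conj_mem hE h h', fun h' => conj_mem hE h⁻¹ h'⟩) hγ
    have := inner_of_fix hG.lay hc hG.mem ?_ fun x hx => ?_
    · have h3 := IsInner.mul (⟨h, rfl⟩ : IsInner (MulAut.conj h)) this
      rwa [← mul_assoc, ← map_mul, mul_inv_cancel, map_one, one_mul] at h3
    · show h⁻¹ * γ a * h⁻¹⁻¹ = a
      rw [hγa, inv_inv]
      conv_lhs => arg 1; arg 2; rw [← conj_fix_of_mem hE hh]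
      group
    · show h⁻¹ * γ x * h⁻¹⁻¹ = x
      rw [hhx x hx]
      group
  obtain ⟨q, hq1, hq2⟩ := hfix α hα
  obtain ⟨r, hr1, hr2⟩ := hfix β hβ
  set α' := MulAut.conj q * α with hα'
  set β' := MulAut.conj r * β with hβ'
  have n1 : ¬ IsInner α' := fun h => h1 (by
    have := IsInner.mul (IsInner.inv ⟨q, rfl⟩) h
    rwa [hα', inv_mul_cancel_left] at this)
  have n2 : ¬ IsInner β' := fun h => h2 (by
    have := IsInner.mul (IsInner.inv ⟨r, rfl⟩) h
    rwa [hβ', inv_mul_cancel_left] at this)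
  obtain ⟨ρ, hρ, hρv⟩ := exists_modAut hE α' (hnb α' hq1 hq2)
  obtain ⟨σ, hσ, hσv⟩ := exists_modAut hE β' (hnb β' hr1 hr2)
  obtain ⟨p, hp⟩ : (locSet E a).Nonempty := by
    obtain ⟨x, hx⟩ : (nb E a).Nonempty := Set.nonempty_of_ncard_ne_zero (by rw [hG.lay.card_nb a hG.mem]; norm_num)
    exact ⟨_, mkNb_mem hE hx (mkNb_ne_one hE hG.lay.one hG.lay.tf hG.mem hx)⟩
  have hin := two_outer22 hG.loc hp hρ hσ (fun h => n1 (hinner α' hq1 hq2 ρ hρv h))
    (fun h => n2 (hinner β' hr1 hr2 σ hσv h))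
  set δ := α' * β'⁻¹ with hδ
  have hδP : δ ∈ PresAut E := (PresAut E).mul_mem hq1 ((PresAut E).inv_mem hr1)
  have hb' : β'⁻¹ a = a := by
    conv_lhs => rw [← hr2]
    exact MulEquiv.symm_apply_apply β' a
  have hδa : δ a = a := by rw [hδ, MulAut.mul_apply, hb', hq2]
  have hres := hinner δ hδP hδa _ ?_ hin
  · have h3 := IsInner.mul (IsInner.mul (IsInner.inv ⟨q, rfl⟩) hres) (⟨r, rfl⟩ : IsInner (MulAut.conj r))
    rw [hδ, hα', hβ'] at h3
    simpa [mul_assoc] using h3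
  · intro h h'
    have hh : β'⁻¹ (h : K) ∈ Subgroup.closure (nb E a) := by
      have hle : Subgroup.closure (nb E a) ≤ (Subgroup.closure (nb E a)).comap (β'⁻¹ : MulAut K).toMonoidHom := by
        rw [Subgroup.closure_le]
        intro x hx
        exact Subgroup.subset_closure ((hnb β'⁻¹ ((PresAut E).inv_mem hr1) hb' x).2 hx)
      exact hle h.2
    rw [MulAut.mul_apply]
    have e : σ⁻¹ (QuotientGroup.mk h) = QuotientGroup.mk ⟨β'⁻¹ (h : K), hh⟩ := by
      apply σ.injective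
      rw [show σ (σ⁻¹ (QuotientGroup.mk h)) = QuotientGroup.mk h from MulEquiv.apply_symm_apply σ _,
        hσv ⟨_, hh⟩ (by rw [show β' (β'⁻¹ (h : K)) = h from MulEquiv.apply_symm_apply β' _]; exact h.2)]
      exact congrArg QuotientGroup.mk (Subtype.ext (MulEquiv.apply_symm_apply β' _).symm)
    rw [e, hρv ⟨_, hh⟩ h']
    rfl

/-- An element of order three fixing the neighbour set acts as an inner element. -/
theorem cube_inner {K : Type*} [Group K] [Finite K] {E : Set K} {a : K} (hG : Cfg23 E a) [Gen E]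
    {α : MulAut K} (hα : α ∈ PresAut E) (h3 : α * α * α = 1) : IsInner α := by
  by_contra hn
  have hn' : ¬ IsInner α⁻¹ := fun h => hn (by simpa using h.inv)
  have h := two_outer23 hG hα ((PresAut E).inv_mem hα) hn hn'
  rw [inv_inv, eq_inv_of_mul_eq_one_left h3] at h
  exact hn' h

end Cfsg.Agent.TT95
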