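import Cfsg.Agent.Lib.Components.GenFitting
import Mathlib.GroupTheory.QuotientGroup.Basic

/-!
A group with a self-centralizing quasisimple normal subgroup.
-/

set_option autoImplicit false
set_option linter.unusedSectionVars false

namespace Cfsg.Agent.TT95.CentAux

open Subgroup Cfsg.Agent.Components

variable {X : Type*} [Group X] (K : Subgroup X) [hKn : K.Normal]

theorem fstar_eq (hK : Cfsg.IsQuasisimple K) (hC : Subgroup.centralizer (K : Set X) ≤ K) :
    Cfsg.generalizedFittingSubgroup X = K := by
  have hcomp : Cfsg.IsComponent K := ⟨hKn.isSubnormal, hK⟩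
  refine le_antisymm (sup_le ?_ ?_) ((component_le_layer hcomp).trans le_sup_left)
  · refine layer_le_iff.2 fun M hM => ?_
    rcases component_eq_or_commutator_eq_bot hM hcomp with h | h
    · exact h.le
    · exact (commutator_eq_bot_iff_le_centralizer.1 h).trans hC
  · exact (fitting_le_centralizer_layer.trans
      (Subgroup.centralizer_le (component_le_layer hcomp))).trans hC

/-- The action on the central quotient. -/
noncomputable def quotAut (H : Type*) [Group H] : MulAut H →* MulAut (H ⧸ center H) :=
  MonoidHom.mk'
    (fun φ => QuotientGroup.congr _ _ φ (characteristic_iff_map_eq.1 inferInstance φ))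
    fun φ ψ => MulEquiv.ext fun x => by
      obtain ⟨h, rfl⟩ := QuotientGroup.mk_surjective x
      rfl

theorem quotAut_mk {H : Type*} [Group H] (φ : MulAut H) (h : H) :
    quotAut H φ (QuotientGroup.mk h) = QuotientGroup.mk (φ h) := rfl

theorem kills_perfect {H : Type*} [Group H] (hp : Group.IsPerfect H) (f : H →* center H) (h : H) :
    f h = 1 := by
  have hle : commutator H ≤ f.ker := by
    rw [_root_.commutator_def, Subgroup.commutator_le]
    intro a _ b _
    rw [MonoidHom.mem_ker, map_commutatorElement, commutatorElement_eq_one_iff_mul_comm]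
    exact Subtype.ext (Subgroup.mem_center_iff.1 (f b).2 (f a))
  exact MonoidHom.mem_ker.1 (hle (hp.commutator_eq_top ▸ Subgroup.mem_top h))

attribute [local irreducible] quotAut

/-- A fixed point of the action on the central quotient of a perfect group is trivial. -/
theorem quotAut_eq_one {H : Type*} [Group H] (hp : Group.IsPerfect H) {φ : MulAut H} (h : quotAut H φ = 1) :
    φ = 1 := by
  have hz : ∀ k : H, φ k * k⁻¹ ∈ center H := fun k => by
    have h2 : (QuotientGroup.mk k : H ⧸ center H) = QuotientGroup.mk (φ k) := by
      rw [← quotAut_mk, h, MulAut.one_apply]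
    have h3 := (inferInstance : (center H).Normal).conj_mem _ (QuotientGroup.eq.1 h2) k
    rwa [show k * (k⁻¹ * φ k) * k⁻¹ = φ k * k⁻¹ by group] at h3
  let δ : H →* center H := MonoidHom.mk' (fun k => ⟨_, hz k⟩) fun k l => Subtype.ext (by
    show φ (k * l) * (k * l)⁻¹ = φ k * k⁻¹ * (φ l * l⁻¹)
    rw [map_mul, mul_inv_rev, mul_assoc (φ k) k⁻¹, Subgroup.mem_center_iff.1 (hz l) k⁻¹]
    group)
  refine MulEquiv.ext fun k => ?_
  have h4 := congrArg Subtype.val (kills_perfect hp δ k)
  exact mul_inv_eq_one.1 h4

/-- If the centraliser of a perfect normal subgroup is its centre, the quotient by it is the whole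
automorphism group of the central quotient as soon as the orders agree. -/
theorem exists_aut_iso [Finite X] {Q : Type*} [Group Q] [Finite Q] (hp : Group.IsPerfect K)
    (e : K ⧸ center K ≃* Q) (Z : Subgroup X) [hZn : Z.Normal] (hZ : (center K).map K.subtype = Z)
    (hC : Subgroup.centralizer (K : Set X) ≤ Z) (hcard : Nat.card (MulAut Q) * Nat.card Z = Nat.card X) :
    Nonempty (X ⧸ Z ≃* MulAut Q) := by
  let conjK : X →* MulAut K := MulAut.conjNormal
  let c : X →* MulAut Q := (MulAut.congr e).toMonoidHom.comp ((quotAut K).comp conjK)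
  have hker : c.ker = Z := by
    refine le_antisymm (fun x hx => hC ?_) fun x hx => ?_
    · have h1 : quotAut K (conjK x) = 1 := by
        refine (MulAut.congr e).injective ?_
        rw [map_one]; exact MonoidHom.mem_ker.1 hx
      have h2 := quotAut_eq_one hp h1
      refine Subgroup.mem_centralizer_iff.2 fun k hk' => ?_
      have h5 := congrArg Subtype.val (DFunLike.congr_fun h2 ⟨k, hk'⟩)
      rw [MulAut.conjNormal_apply] at h5
      exact (mul_inv_eq_iff_eq_mul.1 h5).symm
    · rw [← hZ] at hx
      obtain ⟨z, hz, rfl⟩ := hx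
      have h1 : conjK (K.subtype z) = 1 := MulEquiv.ext fun k => Subtype.ext (by
        show ((conjK (K.subtype z) k : K) : X) = k
        rw [MulAut.conjNormal_apply]
        have := congrArg Subtype.val (Subgroup.mem_center_iff.1 hz k)
        simp only [Subgroup.coe_mul] at this
        rw [Subgroup.coe_subtype, ← this, mul_inv_cancel_right])
      rw [MonoidHom.mem_ker, MonoidHom.comp_apply, MonoidHom.comp_apply, h1, map_one, map_one]
  have : Finite (MulAut Q) := Finite.of_injective _ MulEquiv.toEquiv_injective
  let f : X ⧸ Z →* MulAut Q := QuotientGroup.lift Z c hker.ge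
  have hinj : Function.Injective f := by
    refine (injective_iff_map_eq_one _).2 fun y hy => ?_
    obtain ⟨x, rfl⟩ := QuotientGroup.mk_surjective y
    exact (QuotientGroup.eq_one_iff x).2 (hker ▸ MonoidHom.mem_ker.2 hy)
  have hq : Nat.card (X ⧸ Z) = Nat.card (MulAut Q) := by
    have := Subgroup.card_eq_card_quotient_mul_card_subgroup Z
    rw [← hcard] at this
    exact (Nat.eq_of_mul_eq_mul_right Nat.card_pos this).symm
  exact ⟨MulEquiv.ofBijective f ((Nat.bijective_iff_injective_and_card f).2 ⟨hinj, hq⟩)⟩

/-- The automorphism group of a centreless group. -/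
theorem card_mulAut {Q : Type*} [Group Q] (hZ : center Q = ⊥) :
    Nat.card (MulAut Q) = Nat.card (MulAut Q ⧸ (MulAut.conj : Q →* MulAut Q).range) * Nat.card Q := by
  have hinj : Function.Injective (MulAut.conj : Q →* MulAut Q) := by
    refine (injective_iff_map_eq_one _).2 fun x hx => ?_
    rw [← Subgroup.mem_bot, ← hZ, Subgroup.mem_center_iff]
    exact fun y => (mul_inv_eq_iff_eq_mul.1 (DFunLike.congr_fun hx y)).symm
  rw [Nat.card_congr (MonoidHom.ofInjective hinj).toEquiv]
  exact Subgroup.card_eq_card_quotient_mul_card_subgroup _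

end Cfsg.Agent.TT95.CentAux
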