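import Cfsg.Agent.TT95.Basic

/-!
The involution exchanging two commuting transpositions built from a third commuting with neither, and
its effect on a further transposition commuting with both.
-/

set_option autoImplicit false
set_option linter.unusedSectionVars false

namespace Cfsg.Agent.TT95

variable {G : Type*} [Group G] {D : Set G}

/-- The element exchanging `a` and `b`, for `d` commuting with neither. -/
def swapEl (a b d : G) : G := a * d * a * (b * d * b)

variable (hD : TTSet D) {a b d : G} (ha : a ∈ D) (hb : b ∈ D) (hd : d ∈ D)
  (hab : Commute a b) (hne : a ≠ b) (hda : ¬ Commute d a) (hdb : ¬ Commute d b)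

include hD ha hb hd hab hne hda hdb

theorem swap_comm : Commute (a * d * a) (b * d * b) := by
  rw [braid hD ha hd (fun h => hda h.symm), braid hD hb hd (fun h => hdb h.symm)]
  have := (Commute.conj_iff d).2 hab
  rwa [inv_eq hD hd] at this

theorem swap_eq : swapEl a b d = d * (a * b) * d := by
  rw [swapEl, braid hD ha hd (fun h => hda h.symm), braid hD hb hd (fun h => hdb h.symm),
    show d * a * d * (d * b * d) = d * a * (d * d) * b * d by group, sq hD hd, mul_one, mul_assoc d a b]

theorem swap_sq : swapEl a b d * swapEl a b d = 1 := by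
  rw [swap_eq hD ha hb hd hab hne hda hdb,
    show d * (a * b) * d * (d * (a * b) * d) = d * (a * b) * (d * d) * (a * b) * d by group, sq hD hd, mul_one,
    show d * (a * b) * (a * b) * d = d * (a * (b * a) * b) * d by group, ← hab.eq,
    show d * (a * (a * b) * b) * d = d * ((a * a) * (b * b)) * d by group, sq hD ha, sq hD hb, one_mul, mul_one,
    sq hD hd]

theorem swap_inv : (swapEl a b d)⁻¹ = swapEl a b d :=
  inv_eq_of_mul_eq_one_right (swap_sq hD ha hb hd hab hne hda hdb)

theorem swap_conj_fst : swapEl a b d * a * (swapEl a b d)⁻¹ = b := by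
  have hab' : ¬ Commute (b * d * b) a := by
    intro h
    apply hda
    have := (Commute.conj_iff b).2 h
    rwa [inv_eq hD hb, show b * (b * d * b) * b = (b * b) * d * (b * b) by group, sq hD hb, one_mul, mul_one,
      show b * a * b = a by rw [← hab.eq, mul_assoc, sq hD hb, mul_one]] at this
  have e1 : (a * d * a) * a * (a * d * a) = d := by
    rw [show (a * d * a) * a * (a * d * a) = a * (d * (a * a) * a * d) * a by group, sq hD ha, mul_one,
      show a * (d * a * d) * a = a * (a * d * a) * a by rw [braid hD ha hd (fun h => hda h.symm)],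
      show a * (a * d * a) * a = (a * a) * d * (a * a) by group, sq hD ha, one_mul, mul_one]
  have e2 : (b * d * b) * d * (b * d * b) = b := by
    rw [braid hD hb hd (fun h => hdb h.symm),
      show d * b * d * d * (d * b * d) = d * b * (d * d) * d * b * d by group, sq hD hd, mul_one,
      show d * b * d * b * d = d * (b * d * b) * d by group, braid hD hb hd (fun h => hdb h.symm),
      show d * (d * b * d) * d = (d * d) * b * (d * d) by group, sq hD hd, one_mul, mul_one]
  have hc := swap_comm hD ha hb hd hab hne hda hdb
  rw [swap_inv hD ha hb hd hab hne hda hdb]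
  unfold swapEl
  calc a * d * a * (b * d * b) * a * (a * d * a * (b * d * b))
      = b * d * b * (a * d * a) * a * (a * d * a * (b * d * b)) := by
        rw [show a * d * a * (b * d * b) * a = b * d * b * (a * d * a) * a from congrArg (· * a) hc.eq]
    _ = b * d * b * ((a * d * a) * a * (a * d * a)) * (b * d * b) := by group
    _ = b := by rw [e1, e2]

theorem swap_conj_snd : swapEl a b d * b * (swapEl a b d)⁻¹ = a := by
  have h := swap_conj_fst hD ha hb hd hab hne hda hdb
  have hi := swap_inv hD ha hb hd hab hne hda hdb
  have hs := swap_sq hD ha hb hd hab hne hda hdb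
  rw [hi] at h ⊢
  calc swapEl a b d * b * swapEl a b d
      = swapEl a b d * (swapEl a b d * a * swapEl a b d) * swapEl a b d := by rw [h]
    _ = (swapEl a b d * swapEl a b d) * a * (swapEl a b d * swapEl a b d) := by group
    _ = a := by rw [hs, one_mul, mul_one]

theorem swap_fix {z : G} (hza : Commute z a) (hzb : Commute z b) (hzd : Commute z d) :
    swapEl a b d * z * (swapEl a b d)⁻¹ = z := by
  have : Commute z (swapEl a b d) :=
    ((hza.mul_right hzd).mul_right hza).mul_right ((hzb.mul_right hzd).mul_right hzb)
  rw [← this.eq, mul_inv_cancel_right]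

theorem swap_other {c : G} (hc : c ∈ D) (hca : Commute c a) (hcb : Commute c b) (hcd : ¬ Commute c d)
    (hnca : c ≠ a) (hncb : c ≠ b) :
    swapEl a b d * c * (swapEl a b d)⁻¹ ≠ c ∧ Commute c (swapEl a b d * c * (swapEl a b d)⁻¹) ∧
      Commute d (a * b * c * (swapEl a b d * c * (swapEl a b d)⁻¹)) := by
  have hA : a * d * a ∈ D := conj_mem' hD hd ha
  have hB : b * d * b ∈ D := conj_mem' hD hd hb
  have hcA : ¬ Commute c (a * d * a) := by
    intro h
    apply hcd
    have := (hca.mul_right h).mul_right hca
    rwa [show a * (a * d * a) * a = (a * a) * d * (a * a) by group, sq hD ha, one_mul, mul_one] at this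
  have hcB : ¬ Commute c (b * d * b) := by
    intro h
    apply hcd
    have := (hcb.mul_right h).mul_right hcb
    rwa [show b * (b * d * b) * b = (b * b) * d * (b * b) by group, sq hD hb, one_mul, mul_one] at this
  have hAB := swap_comm hD ha hb hd hab hne hda hdb
  have hi := swap_inv hD ha hb hd hab hne hda hdb
  have hθ : swapEl a b d * c * swapEl a b d = (a * d * a) * (c * (b * d * b) * c) * (a * d * a) := by
    rw [swapEl]
    conv_lhs => arg 2; rw [hAB.eq]
    rw [show a * d * a * (b * d * b) * c * (b * d * b * (a * d * a)) =
      a * d * a * ((b * d * b) * c * (b * d * b)) * (a * d * a) by group, ← braid hD hc hB hcB]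
  refine ⟨fun e => ?_, ?_, ?_⟩
  · rw [hi, hθ] at e
    have h2 : c * (b * d * b) * c = (a * d * a) * c * (a * d * a) := by
      have := congrArg (fun t => (a * d * a) * t * (a * d * a)) e
      rwa [show (a * d * a) * ((a * d * a) * (c * (b * d * b) * c) * (a * d * a)) * (a * d * a) =
        ((a * d * a) * (a * d * a)) * (c * (b * d * b) * c) * ((a * d * a) * (a * d * a)) by group,
        sq hD hA, one_mul, mul_one] at this
    rw [← braid hD hc hA hcA] at h2
    have h3 : b * d * b = a * d * a := mul_left_cancel (mul_right_cancel h2)
    rw [braid hD ha hd (fun h => hda h.symm), braid hD hb hd (fun h => hdb h.symm)] at h3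
    exact hne (mul_left_cancel (mul_right_cancel h3)).symm
  · have h1 : Commute ((a * d * a) * c * (a * d * a)) (c * (b * d * b) * c) := by
      rw [← braid hD hc hA hcA]
      have := (Commute.conj_iff c).2 hAB
      rwa [inv_eq hD hc] at this
    rw [hi, hθ]
    have h4 := (Commute.conj_iff (a * d * a)).2 h1
    rw [inv_eq hD hA] at h4
    rwa [show (a * d * a) * ((a * d * a) * c * (a * d * a)) * (a * d * a) =
      ((a * d * a) * (a * d * a)) * c * ((a * d * a) * (a * d * a)) by group, sq hD hA, one_mul, mul_one] at h4
  · set s := swapEl a b d with hs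
    set θ := s * c * s⁻¹ with hθdef
    set p := a * b * c with hp
    have hcθ : Commute c θ := by
      have h1 : Commute ((a * d * a) * c * (a * d * a)) (c * (b * d * b) * c) := by
        rw [← braid hD hc hA hcA]
        have := (Commute.conj_iff c).2 hAB
        rwa [inv_eq hD hc] at this
      rw [hθdef, hi, hs, hθ]
      have h4 := (Commute.conj_iff (a * d * a)).2 h1
      rw [inv_eq hD hA] at h4
      rwa [show (a * d * a) * ((a * d * a) * c * (a * d * a)) * (a * d * a) =
        ((a * d * a) * (a * d * a)) * c * ((a * d * a) * (a * d * a)) by group, sq hD hA, one_mul, mul_one] at h4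
    have haθ : Commute a θ := by
      have := (Commute.conj_iff s).2 hcb.symm
      rwa [hs, swap_conj_snd hD ha hb hd hab hne hda hdb] at this
    have hbθ : Commute b θ := by
      have := (Commute.conj_iff s).2 hca.symm
      rwa [hs, swap_conj_fst hD ha hb hd hab hne hda hdb] at this
    have hform : θ = d * p * d * p * d := by
      rw [hθdef, hi, hs, swap_eq hD ha hb hd hab hne hda hdb,
        show d * (a * b) * d * c * (d * (a * b) * d) = d * (a * b) * (d * c * d) * (a * b) * d by group,
        ← braid hD hc hd hcd, hp,
        show d * (a * b) * (c * d * c) * (a * b) * d = d * (a * b * c) * d * (c * (a * b)) * d by group,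
        (hca.mul_right hcb).eq]
    have hpθ : p * θ = θ * p := ((haθ.mul_left hbθ).mul_left hcθ).eq
    show d * (p * θ) = p * θ * d
    rw [hform] at hpθ
    rw [hform]
    calc d * (p * (d * p * d * p * d)) = d * p * d * p * d * p * d := by group
      _ = (d * p * d * p * d * p) * d := by group
      _ = (p * (d * p * d * p * d)) * d := by rw [hpθ]

end Cfsg.Agent.TT95
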