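import Cfsg.Agent.TT95.Pair24
import Cfsg.Agent.TT95.CentAux
import Cfsg.Agent.TT95.SwapBasic

/-!
Type M(24): the derived part of the centraliser of a product of two commuting transpositions.
-/

set_option autoImplicit false
set_option linter.unusedSectionVars false
set_option linter.style.haveILetI false

namespace Cfsg.Agent.TT95

open Cfsg.Agent.Components

variable {G : Type*} [Group G] [Finite G] {D : Set G} {d : G} {q : ModCenter (Subgroup.closure (nb D d))}
  (hG : Cfg24 D d q) [Gen D] {a b : G} (ha : a ∈ D) (hb : b ∈ nb D a)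

include hG

theorem mem_commutator24 {ε : G →* ℤˣ} (hε : ∀ e ∈ D, ε e = -1) (g : G) : g ∈ commutator G ↔ ε g = 1 := by
  have hle : commutator G ≤ ε.ker := Abelianization.commutator_subset_ker ε
  refine ⟨fun h => MonoidHom.mem_ker.1 (hle h), fun h => ?_⟩
  by_contra hg
  have hd : d ∉ commutator G := fun hd => by
    have := MonoidHom.mem_ker.1 (hle hd)
    rw [hε d hG.mem] at this
    exact absurd this (by decide)
  have := MonoidHom.mem_ker.1 (hle
    ((Subgroup.mul_mem_iff_of_index_two (index_commutator24 hG)).2 (iff_of_false hg hd)))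
  rw [map_mul, h, hε d hG.mem] at this
  exact absurd this (by decide)

include ha hb

/-- The derived part of the centraliser of the pair. -/
theorem pair_derived (K : Subgroup G) (hK : K = commutator G ⊓ Subgroup.centralizer ({a, b} : Set G)) :
    Cfsg.IsQuasisimple K ∧ a * b ∈ K ∧
      (∀ z ∈ K, (∀ k ∈ K, Commute z k) ↔ z = 1 ∨ z = a * b) ∧
      ∃ χ : K →* ModCenter (Subgroup.closure (nb (locSet D d) q)),
        Function.Surjective χ ∧ ∀ z : K, χ z = 1 ↔ (z : G) = 1 ∨ (z : G) = a * b := by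
  have hD := hG.lay.tt
  haveI := gen_loc24 hG
  haveI := loc_finite hD d
  haveI := loc_simple23 hG.loc
  obtain ⟨ε, hε⟩ := exists_parity hG
  rw [centralizer_pair24 hG ha hb] at hK
  set C := Subgroup.closure (common D a b) with hC
  obtain ⟨χ, hs, hk⟩ := exists_pairHom hG ha hb
  have hj : a * b ∈ C := (mem_pair_cases hG ha hb (by simp)).1
  have hjd := prod_mem_derived hG ha hb hj
  have hcZ : ∀ z : C, z ∈ Subgroup.center C ↔ (z : G) ∈ ({1, a, b, a * b} : Set G) := by
    intro z
    constructor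
    · intro hz
      refine (hk z).1 ?_
      have : χ z ∈ Subgroup.center (ModCenter (Subgroup.closure (nb (locSet D d) q))) :=
        Subgroup.mem_center_iff.2 fun p => by
          obtain ⟨w, rfl⟩ := hs p
          rw [← map_mul, ← map_mul, Subgroup.mem_center_iff.1 hz w]
      rwa [hG.loc.loc.center, Subgroup.mem_bot] at this
    · intro hz
      exact Subgroup.mem_center_iff.2 fun w => Subtype.ext ((mem_pair_cases hG ha hb hz).2 w w.2).eq.symm
  have hker : χ.ker = Subgroup.center C := Subgroup.ext fun z => by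
    rw [MonoidHom.mem_ker, hk, hcZ]
  let eX : C ⧸ Subgroup.center C ≃* ModCenter (Subgroup.closure (nb (locSet D d) q)) :=
    (QuotientGroup.quotientMulEquivOfEq hker.symm).trans (QuotientGroup.quotientKerEquivOfSurjective χ hs)
  haveI : Nontrivial (C ⧸ Subgroup.center C) := eX.toEquiv.nontrivial
  haveI hsimp : IsSimpleGroup (C ⧸ Subgroup.center C) :=
    IsSimpleGroup.isSimpleGroup_of_surjective eX.symm.toMonoidHom eX.symm.surjective
  have hna : ¬ IsMulCommutative (C ⧸ Subgroup.center C) := fun hcm => by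
    have htop : Subgroup.center (ModCenter (Subgroup.closure (nb (locSet D d) q))) = ⊤ :=
      eq_top_iff.2 fun x _ => Subgroup.mem_center_iff.2 fun y => eX.symm.injective (by
        rw [map_mul, map_mul]; exact hcm.is_comm.comm _ _)
    rw [hG.loc.loc.center] at htop
    exact bot_ne_top htop
  have hsup := commutator_sup_center_eq_top hsimp hna
  have hKC : K = (commutator C).map C.subtype := by
    refine le_antisymm (fun k hk' => ?_) ?_
    · rw [hK] at hk'
      obtain ⟨y, hy, z, hz, e⟩ := Subgroup.mem_sup_of_normal_right.1 (hsup.ge (Subgroup.mem_top ⟨k, hk'.2⟩))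
      have hεy : ε y = 1 := MonoidHom.mem_ker.1
        (Abelianization.commutator_subset_ker (ε.comp C.subtype) hy)
      have hεz : ε z = 1 := by
        have := (mem_commutator24 hG hε k).1 hk'.1
        rw [← show (y : G) * z = k from congrArg Subtype.val e, map_mul, hεy, one_mul] at this
        exact this
      refine ⟨y * z, mul_mem hy ?_, congrArg Subtype.val e⟩
      rcases (hcZ z).1 hz with h | h | h | h
      · rw [show z = 1 from Subtype.ext h]; exact one_mem _
      · rw [h, hε a ha] at hεz; exact absurd hεz (by decide)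
      · rw [h, hε b hb.1] at hεz; exact absurd hεz (by decide)
      · rw [show z = ⟨a * b, hj⟩ from Subtype.ext h]; exact hjd
    · rw [hK]
      refine le_inf ?_ (Subgroup.map_subtype_le _)
      rw [Subgroup.map_subtype_commutator]
      exact Subgroup.commutator_mono le_top le_top
  have hjK : a * b ∈ K := hKC ▸ ⟨_, hjd, rfl⟩
  have hKle : K ≤ C := hK ▸ inf_le_right
  have hdec : ∀ x : C, ∃ k ∈ K, ∃ z ∈ Subgroup.center C, k * (z : G) = x := fun x => by
    obtain ⟨y, hy, z, hz, e⟩ := Subgroup.mem_sup_of_normal_right.1 (hsup.ge (Subgroup.mem_top x))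
    exact ⟨y, hKC ▸ ⟨y, hy, rfl⟩, z, hz, congrArg Subtype.val e⟩
  have htwo : ∀ z : G, z ∈ ({1, a, b, a * b} : Set G) → z ∈ commutator G → z = 1 ∨ z = a * b := by
    intro z hz hzL
    have := (mem_commutator24 hG hε z).1 hzL
    rcases hz with h | h | h | h
    · exact Or.inl h
    · rw [h, hε a ha] at this; exact absurd this (by decide)
    · rw [h, hε b hb.1] at this; exact absurd this (by decide)
    · exact Or.inr h
  have hpair : ∀ z : G, z = 1 ∨ z = a * b → z ∈ ({1, a, b, a * b} : Set G) := by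
    rintro z (rfl | rfl) <;> simp
  refine ⟨?_, hjK, fun z hz => ⟨fun hcom => ?_, fun h k hk' => ?_⟩,
    χ.comp (Subgroup.inclusion hKle), fun p => ?_, fun z => ?_⟩
  · have e : commutator C ≃* K :=
      ((commutator C).equivMapOfInjective C.subtype C.subtype_injective).trans (MulEquiv.subgroupCongr hKC.symm)
    exact isQuasisimple_of_mulEquiv e (isQuasisimple_commutator hsimp hna)
  · refine htwo z ((hcZ ⟨z, hKle hz⟩).1 (Subgroup.mem_center_iff.2 fun w => Subtype.ext ?_)) (hK ▸ hz : z ∈ commutator G ⊓ C).1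
    obtain ⟨k, hk', u, hu, e⟩ := hdec w
    show (w : G) * z = z * w
    rw [← e]
    exact (((hcom k hk').symm).mul_left
      ((mem_pair_cases hG ha hb ((hcZ u).1 hu)).2 z (hKle hz))).eq
  · exact (mem_pair_cases hG ha hb (hpair z h)).2 k (hKle hk')
  · obtain ⟨x, rfl⟩ := hs p
    obtain ⟨k, hk', u, hu, e⟩ := hdec x
    refine ⟨⟨k, hk'⟩, ?_⟩
    rw [show x = ⟨k, hKle hk'⟩ * u from Subtype.ext e.symm, map_mul, (hk u).2 ((hcZ u).1 hu), mul_one]
    rfl
  · show χ (Subgroup.inclusion hKle z) = 1 ↔ _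
    rw [hk]
    exact ⟨fun h => htwo _ h (hK ▸ z.2 : (z : G) ∈ commutator G ⊓ C).1, hpair _⟩

/-- The product of the pair: its centraliser in the derived subgroup. -/
theorem pair_swap (K CL : Subgroup G) (hK : K = commutator G ⊓ Subgroup.centralizer ({a, b} : Set G))
    (hCL : CL = commutator G ⊓ Subgroup.centralizer ({a * b} : Set G)) :
    K ≤ CL ∧ (K.subgroupOf CL).index = 2 ∧
      ∀ x ∈ CL, (∀ k ∈ K, Commute x k) → x ∈ K := by
  classical
  have hD := hG.lay.tt
  obtain ⟨ε, hε⟩ := exists_parity hG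
  have hab := hb.2.2
  have hne : a ≠ b := hb.2.1.symm
  have hfix : ∀ u : G, u * a * u⁻¹ = a ∧ u * b * u⁻¹ = b ↔ u ∈ Subgroup.centralizer ({a, b} : Set G) := by
    intro u
    rw [Subgroup.mem_centralizer_iff, mul_inv_eq_iff_eq_mul, mul_inv_eq_iff_eq_mul]
    exact ⟨fun h => by rintro x (rfl | rfl); exacts [h.1.symm, h.2.symm],
      fun h => ⟨(h a (Or.inl rfl)).symm, (h b (Or.inr rfl)).symm⟩⟩
  have hle : K ≤ CL := by
    rw [hK, hCL]
    refine inf_le_inf le_rfl fun g hg => Subgroup.mem_centralizer_singleton_iff.2 ?_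
    have h1 : Commute a g := Subgroup.mem_centralizer_iff.1 hg a (Or.inl rfl)
    have h2 : Commute b g := Subgroup.mem_centralizer_iff.1 hg b (Or.inr rfl)
    exact (h1.symm.mul_right h2.symm).eq
  have hperm : ∀ u : G, u ∈ CL →
      (u * a * u⁻¹ = a ∧ u * b * u⁻¹ = b) ∨ (u * a * u⁻¹ = b ∧ u * b * u⁻¹ = a) := by
    intro u hu
    rw [hCL] at hu
    refine pair_unique hD hG.lay.tf ha hb.1 (conj_mem hD u ha) (conj_mem hD u hb.1) hne hab
      ((Commute.conj_iff u).2 hab) ?_
    rw [show u * a * u⁻¹ * (u * b * u⁻¹) = u * (a * b) * u⁻¹ by group,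
      Subgroup.mem_centralizer_singleton_iff.1 hu.2, mul_inv_cancel_right]
  have hmemK : ∀ u ∈ CL, u ∈ K ↔ u * a * u⁻¹ = a ∧ u * b * u⁻¹ = b := by
    intro u hu
    rw [hCL] at hu
    rw [hK, Subgroup.mem_inf, hfix]
    exact ⟨fun h => h.2, fun h => ⟨hu.1, h⟩⟩
  obtain ⟨e, hea, heb⟩ := hG.lay.exists_far_both (by norm_num) ha hb.1
  have nea : ¬ Commute e a := fun h => hea.2 h.symm
  have neb : ¬ Commute e b := fun h => heb.2 h.symm
  have f1 := swap_conj_fst hD ha hb.1 hea.1 hab hne nea neb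
  have f2 := swap_conj_snd hD ha hb.1 hea.1 hab hne nea neb
  have hs : swapEl a b e ∈ CL := by
    rw [hCL]
    refine ⟨(mem_commutator24 hG hε _).2 (by simp [swapEl, hε a ha, hε b hb.1, hε e hea.1]),
      Subgroup.mem_centralizer_singleton_iff.2 ?_⟩
    rw [← mul_inv_eq_iff_eq_mul,
      show swapEl a b e * (a * b) * (swapEl a b e)⁻¹ =
        swapEl a b e * a * (swapEl a b e)⁻¹ * (swapEl a b e * b * (swapEl a b e)⁻¹) by group, f1, f2, hab.eq]
  refine ⟨hle, ?_, fun x hx hcom => ?_⟩
  · rw [Subgroup.index_eq_two_iff]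
    refine ⟨⟨_, hs⟩, fun v => ?_⟩
    simp only [Subgroup.mem_subgroupOf, Subgroup.coe_mul]
    rw [hmemK _ (mul_mem v.2 hs), hmemK _ v.2]
    have e' : ∀ x, (v : G) * swapEl a b e * x * ((v : G) * swapEl a b e)⁻¹ =
        v * (swapEl a b e * x * (swapEl a b e)⁻¹) * (v : G)⁻¹ := fun x => by group
    rw [e', e', f1, f2]
    rcases hperm v v.2 with h | h
    · exact Or.inr ⟨h, fun h' => hne (h'.1.symm.trans h.2)⟩
    · exact Or.inl ⟨⟨h.2, h.1⟩, fun h' => hne (h'.1.symm.trans h.1)⟩
  · rw [hmemK x hx]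
    refine (hperm x hx).resolve_right fun h => ?_
    obtain ⟨l, hlen, hl, -⟩ := exists_seven_common hG ha hb
    obtain ⟨u, hu⟩ : ∃ u, u ∈ common D a b := by
      match l, hlen with
      | y :: _, _ => exact ⟨y, hl y List.mem_cons_self⟩
    have huK : u * a ∈ K := by
      rw [hK]
      refine ⟨(mem_commutator24 hG hε _).2 (by rw [map_mul, hε u hu.1.1, hε a ha]; decide), ?_⟩
      rw [centralizer_pair24 hG ha hb]
      exact mul_mem (Subgroup.subset_closure hu) (fst_mem_common24 hG ha hb)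
    have hc := (mul_inv_eq_iff_eq_mul.2 (hcom _ huK).eq : x * (u * a) * x⁻¹ = u * a)
    rw [show x * (u * a) * x⁻¹ = x * u * x⁻¹ * (x * a * x⁻¹) by group, h.1] at hc
    refine mul_three_notMem hD hG.lay.tf hu.1.1 ha hb.1 hu.1.2.1 hu.2.2.1 hne hu.1.2.2.symm hu.2.2.2.symm hab ?_
    rw [← hc, mul_assoc, sq hD hb.1, mul_one]
    exact conj_mem hD x hu.1.1

end Cfsg.Agent.TT95
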