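import Cfsg.Agent.TT95.Pair23
import Cfsg.Agent.TT95.Unique

/-!
Type M(23): the classes of involutions and the uniqueness of the class of transpositions.
-/

set_option autoImplicit false
set_option linter.unusedSectionVars false

namespace Cfsg.Agent.TT95

section Gen

variable {G : Type*} [Group G] {D : Set G} (hD : TTSet D)

include hD

theorem exists_reduced_gen (hred : ∀ a b c d : G, a ∈ D → b ∈ D → c ∈ D → d ∈ D → [a, b, c, d].Nodup →
      (∀ u ∈ [a, b, c, d], ∀ v ∈ [a, b, c, d], Commute u v) → ∃ l : List G, l.length ≤ 3 ∧ (∀ u ∈ l, u ∈ D) ∧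
        (∀ u ∈ l, ∀ y ∈ D, (∀ x ∈ [a, b, c, d], Commute y x) → Commute y u) ∧ l.prod = a * b * c * d)
    (n : ℕ) : ∀ l : List G, l.length ≤ n → (∀ a ∈ l, a ∈ D) →
    (∀ a ∈ l, ∀ b ∈ l, Commute a b) → ∃ m, m ≤ 3 ∧ IsProd D m l.prod := by
  classical
  induction n with
  | zero =>
    intro l hl _ _
    obtain rfl := List.length_eq_zero_iff.1 (Nat.le_zero.1 hl)
    exact ⟨0, by norm_num, [], by simp⟩
  | succ n ih =>
    intro l hl hmem hcm
    by_cases hnd : l.Nodup
    · by_cases h3 : l.length ≤ 3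
      · exact ⟨_, h3, l, hnd, rfl, hmem, hcm, rfl⟩
      match l, h3 with
      | a :: b :: c :: d :: rest, _ =>
        have hsub : ∀ x ∈ [a, b, c, d], x ∈ a :: b :: c :: d :: rest := fun x hx => by
          simp only [List.mem_cons, List.not_mem_nil, or_false] at hx ⊢; tauto
        have hnd4 : [a, b, c, d].Nodup := hnd.sublist (by simp [List.cons_sublist_cons])
        obtain ⟨t, ht, htD, htP, htprod⟩ := hred _ _ _ _ (hmem a (hsub a (by simp))) (hmem b (hsub b (by simp)))
          (hmem c (hsub c (by simp))) (hmem d (hsub d (by simp))) hnd4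
          (fun u hu v hv => hcm u (hsub u hu) v (hsub v hv))
        have hrest : ∀ y ∈ rest, y ∈ a :: b :: c :: d :: rest := fun y hy => by simp [hy]
        have htr : ∀ u ∈ t, ∀ y ∈ rest, Commute y u := fun u hu y hy =>
          htP u hu y (hmem y (hrest y hy)) fun x hx => hcm y (hrest y hy) x (hsub x hx)
        have htt : ∀ u ∈ t, ∀ v ∈ t, Commute u v := by
          intro u hu v hv
          refine htP v hv u (htD u hu) fun x hx => (htP u hu x (hmem x (hsub x hx)) fun x' hx' => ?_).symm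
          exact hcm x (hsub x hx) x' (hsub x' hx')
        have he : (a :: b :: c :: d :: rest).prod = (t ++ rest).prod := by
          rw [List.prod_append, htprod]; simp [mul_assoc]
        rw [he]
        refine ih (t ++ rest) ?_ ?_ ?_
        · simp at hl ⊢; omega
        · intro u hu
          rcases List.mem_append.1 hu with h | h
          · exact htD u h
          · exact hmem u (hrest u h)
        · intro u hu v hv
          rcases List.mem_append.1 hu with h | h <;> rcases List.mem_append.1 hv with h' | h'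
          · exact htt u h v h'
          · exact (htr u h v h').symm
          · exact htr v h' u h
          · exact hcm u (hrest u h) v (hrest v h')
      | [], h => simp at h
      | [_], h => simp at h
      | [_, _], h => simp at h
      | [_, _, _], h => simp at h
    · obtain ⟨a, ha⟩ : ∃ a, 2 ≤ l.count a := by
        obtain ⟨a, ha⟩ : ∃ a, ¬ l.count a ≤ 1 := by simpa [List.nodup_iff_count_le_one] using hnd
        exact ⟨a, by omega⟩
      have ha1 : a ∈ l := List.count_pos_iff.1 (by omega)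
      have ha2 : a ∈ l.erase a := List.count_pos_iff.1 (by rw [List.count_erase_self]; omega)
      have hperm : l.Perm (a :: a :: (l.erase a).erase a) :=
        (List.perm_cons_erase ha1).trans ((List.perm_cons_erase ha2).cons a)
      have hpw : l.Pairwise Commute := List.pairwise_of_forall_mem_list fun u hu v hv => hcm u hu v hv
      rw [hperm.prod_eq' hpw, List.prod_cons, List.prod_cons, ← mul_assoc, sq hD (hmem a ha1), one_mul]
      refine ih _ ?_ (fun u hu => hmem u (List.mem_of_mem_erase (List.mem_of_mem_erase hu)))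
        (fun u hu v hv => hcm u (List.mem_of_mem_erase (List.mem_of_mem_erase hu)) v
          (List.mem_of_mem_erase (List.mem_of_mem_erase hv)))
      have := hperm.length_eq
      simp at this
      omega

theorem isProd1_iff {x : G} : IsProd D 1 x ↔ x ∈ D := by
  constructor
  · rintro ⟨l, -, hl, hm, -, rfl⟩
    match l, hl with
    | [a], _ => simpa using hm a (by simp)
  · exact fun h => ⟨[x], by simp [h, Commute.refl]⟩

theorem isProd2_elim {x : G} (h : IsProd D 2 x) :
    ∃ a b, a ∈ D ∧ b ∈ D ∧ a ≠ b ∧ Commute a b ∧ a * b = x := by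
  obtain ⟨l, hn, hl, hm, hc, rfl⟩ := h
  match l, hl with
  | [a, b], _ => exact ⟨a, b, hm a (by simp), hm b (by simp), by simpa using hn, hc a (by simp) b (by simp), by simp⟩

theorem isProd3_elim {x : G} (h : IsProd D 3 x) :
    ∃ a b c, a ∈ D ∧ b ∈ D ∧ c ∈ D ∧ (a ≠ b ∧ a ≠ c ∧ b ≠ c) ∧ Commute a b ∧ Commute a c ∧ Commute b c ∧
      a * b * c = x := by
  obtain ⟨l, hn, hl, hm, hc, rfl⟩ := h
  match l, hl with
  | [a, b, c], _ =>
    simp only [List.nodup_cons, List.mem_cons, List.not_mem_nil, or_false, not_or] at hn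
    exact ⟨a, b, c, hm a (by simp), hm b (by simp), hm c (by simp), ⟨hn.1.1, hn.1.2, hn.2.1⟩,
      hc a (by simp) b (by simp), hc a (by simp) c (by simp), hc b (by simp) c (by simp), by simp [mul_assoc]⟩

/-- Products of at most three determine their length. -/
theorem isProd_len (htf : TwinFree D) (h5 : NoRel D 5) {m m' : ℕ} {x : G} (h1 : 1 ≤ m) (h3 : m ≤ 3) (h1' : 1 ≤ m')
    (h3' : m' ≤ 3) (h : IsProd D m x) (h' : IsProd D m' x) : m = m' := by
  have h12 : ∀ {y}, IsProd D 1 y → ¬ IsProd D 2 y := fun {y} h h' => by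
    obtain ⟨a, b, ha, hb, hne, hab, rfl⟩ := isProd2_elim hD h'
    have hy := (isProd1_iff hD).1 h
    have c1 : Commute a (a * b) := (Commute.refl a).mul_right hab
    refine hne (htf a ha b hb (fun z hz => ⟨fun hza => ?_, fun hzb => ?_⟩) hab)
    · have e : a = b * (a * b) := by rw [hab.eq, ← mul_assoc, sq hD hb, one_mul]
      have h' : Commute z (b * (a * b)) := e ▸ hza.symm
      exact ((ThreeTransp.centralize_two hD.1 hb hy hz (fun e' => ne_one hD ha (right_eq_mul.1 e'))
        (hab.symm.mul_right (Commute.refl b))).1 h').1.symm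
    · have e : b = a * (a * b) := by rw [← mul_assoc, sq hD ha, one_mul]
      have h' : Commute z (a * (a * b)) := e ▸ hzb.symm
      exact ((ThreeTransp.centralize_two hD.1 ha hy hz (fun e' => ne_one hD hb (left_eq_mul.1 e')) c1).1 h').1.symm
  have h13 : ∀ {y}, IsProd D 1 y → ¬ IsProd D 3 y := fun {y} h h' => by
    obtain ⟨a, b, c, ha, hb, hc, hne, hab, hac, hbc, e⟩ := isProd3_elim hD h'
    exact mul_three_notMem hD htf ha hb hc hne.1 hne.2.1 hne.2.2 hab hac hbc (e ▸ (isProd1_iff hD).1 h)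
  have h23 : ∀ {y}, IsProd D 2 y → ¬ IsProd D 3 y := fun {y} h h' => by
    obtain ⟨a, b, ha, hb, hne, hab, rfl⟩ := isProd2_elim hD h
    obtain ⟨c, d, e, hc, hd, he, hne3, hcd, hce, hde, eq3⟩ := isProd3_elim hD h'
    obtain ⟨ac, ad, ae⟩ := (ThreeTransp.centralize_three hD.1 hc hd he ha hne3.1 hne3.2.1 hne3.2.2 hcd hce hde).1
      (eq3 ▸ (Commute.refl a).mul_right hab)
    obtain ⟨bc, bd, be⟩ := (ThreeTransp.centralize_three hD.1 hc hd he hb hne3.1 hne3.2.1 hne3.2.2 hcd hce hde).1
      (eq3 ▸ hab.symm.mul_right (Commute.refl b))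
    by_cases hd5 : [a, b, c, d, e].Nodup
    · refine h5 [a, b, c, d, e] hd5 rfl (by simp [ha, hb, hc, hd, he]) ?_ ?_
      · intro u hu v hv
        simp only [List.mem_cons, List.not_mem_nil, or_false] at hu hv
        rcases hu with rfl | rfl | rfl | rfl | rfl <;> rcases hv with rfl | rfl | rfl | rfl | rfl <;>
          first
            | exact Commute.refl _
            | assumption
            | (apply Commute.symm; assumption)
      · simp only [List.prod_cons, List.prod_nil, mul_one]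
        rw [show a * (b * (c * (d * e))) = a * b * (c * d * e) by group, eq3,
          show a * b * (a * b) = a * (b * a) * b by group, ← hab.eq,
          show a * (a * b) * b = (a * a) * (b * b) by group, sq hD ha, sq hD hb, one_mul]
    simp only [List.nodup_cons, List.mem_cons, List.not_mem_nil, or_false, not_or, not_false_iff, List.nodup_nil,
      and_true] at hd5
    -- a coincidence makes one factor a product of two
    have two : ∀ u v, u ∈ D → v ∈ D → u ≠ v → Commute u v → u * v ∉ D := fun u v hu hv huv c hm =>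
      h12 ((isProd1_iff hD).2 hm) ⟨[u, v], by simp [huv], rfl, by simp [hu, hv], by simp [c, c.symm, Commute.refl], by simp⟩
    have drop : ∀ p q u v w, p ∈ D → q ∈ D → v ∈ D → w ∈ D → v ≠ w → Commute v w → p = u → p * q = u * v * w →
        False := fun p q u v w hp hq hv hw hvw c e1 e2 =>
      two v w hv hw hvw c (by
        subst e1
        rw [mul_assoc] at e2
        exact mul_left_cancel e2 ▸ hq)
    have p1 : c * d * e = d * c * e := by rw [hcd.eq]
    have p2 : c * d * e = e * c * d := by rw [mul_assoc e c d]; exact ((hce.symm).mul_right hde.symm).eq.symm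
    by_cases q1 : a = c
    · exact drop a b c d e ha hb hd he hne3.2.2 hde q1 eq3.symm
    by_cases q2 : a = d
    · exact drop a b d c e ha hb hc he hne3.2.1 hce q2 (eq3.symm.trans p1)
    by_cases q3 : a = e
    · exact drop a b e c d ha hb hc hd hne3.1 hcd q3 (eq3.symm.trans p2)
    by_cases q4 : b = c
    · exact drop b a c d e hb ha hd he hne3.2.2 hde q4 (hab.symm.eq.trans eq3.symm)
    by_cases q5 : b = d
    · exact drop b a d c e hb ha hc he hne3.2.1 hce q5 (hab.symm.eq.trans (eq3.symm.trans p1))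
    by_cases q6 : b = e
    · exact drop b a e c d hb ha hc hd hne3.1 hcd q6 (hab.symm.eq.trans (eq3.symm.trans p2))
    exact hd5 ⟨⟨hne, q1, q2, q3⟩, ⟨q4, q5, q6⟩, ⟨hne3.1, hne3.2.1⟩, hne3.2.2⟩
  interval_cases m <;> interval_cases m' <;>
    first
      | rfl
      | exact absurd h' (h12 h) | exact absurd h (h12 h')
      | exact absurd h' (h13 h) | exact absurd h (h13 h')
      | exact absurd h' (h23 h) | exact absurd h (h23 h')

end Gen

variable {G : Type*} [Group G] [Finite G] {D : Set G} {d : G} (hG : Cfg23 D d)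

include hG

theorem noRel5_23 : NoRel D 5 :=
  noRel_succ hG.lay.tt hG.lay.one hG.lay.tf hG.mem (noRel_four hG.loc.tt hG.loc.tf)

/-- Four commuting transpositions multiply to three. -/
theorem reduce_four23 {a b c e : G} (ha : a ∈ D) (hb : b ∈ D) (hc : c ∈ D) (he : e ∈ D)
    (hnd : [a, b, c, e].Nodup) (hcm : ∀ u ∈ [a, b, c, e], ∀ v ∈ [a, b, c, e], Commute u v) :
    ∃ l : List G, l.length ≤ 3 ∧ (∀ u ∈ l, u ∈ D) ∧
      (∀ u ∈ l, ∀ y ∈ D, (∀ x ∈ [a, b, c, e], Commute y x) → Commute y u) ∧ l.prod = a * b * c * e := by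
  have hD := hG.lay.tt
  haveI := loc_finite hD d
  simp only [List.nodup_cons, List.mem_cons, List.not_mem_nil, or_false, not_or] at hnd
  obtain ⟨⟨nab, nac, nae⟩, ⟨nbc, nbe⟩, nce, -⟩ := hnd
  have hb' : b ∈ nb D a := ⟨hb, Ne.symm nab, hcm a (by simp) b (by simp)⟩
  have hc' : c ∈ nb D a := ⟨hc, Ne.symm nac, hcm a (by simp) c (by simp)⟩
  have he' : e ∈ nb D a := ⟨he, Ne.symm nae, hcm a (by simp) e (by simp)⟩
  have cbc : Commute b c := hcm b (by simp) c (by simp)
  have cbe : Commute b e := hcm b (by simp) e (by simp)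
  have cce : Commute c e := hcm c (by simp) e (by simp)
  obtain ⟨f, hf⟩ := hG.step.iso a ha
  have hne : f b ≠ f c ∧ f b ≠ f e ∧ f c ≠ f e :=
    ⟨fun h => nbc (hf.inj hb' hc' h), fun h => nbe (hf.inj hb' he' h), fun h => nce (hf.inj hc' he' h)⟩
  have k1 := (hf.comm b hb' c hc').2 cbc
  have k2 := (hf.comm b hb' e he').2 cbe
  have k3 := (hf.comm c hc' e he').2 cce
  obtain ⟨x, y, z, hx, hy, hz, xy, xz, yz, cxy, cxz, cyz, x1, x2, x3, hprod, -⟩ :=
    partner hG.loc (hf.mem hb') (hf.mem hc') (hf.mem he') hne k1 k2 k3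
  rcases triple_cases hG.loc.tt hG.loc.tf (hf.mem hb') (hf.mem hc') (hf.mem he') hx hy hz hne ⟨xy, xz, yz⟩ k1 k2 k3
      cxy cxz cyz hprod with h | h
  · exfalso
    rcases (h x).2 (Or.inl rfl) with r | r | r
    · exact x1 r
    · exact x2 r
    · exact x3 r
  obtain ⟨hnd6, hcm6, hone⟩ := h
  obtain ⟨x', hx', rfl⟩ := hf.surj hx
  obtain ⟨y', hy', rfl⟩ := hf.surj hy
  obtain ⟨z', hz', rfl⟩ := hf.surj hz
  have hall : ∀ u ∈ [b, c, e, x', y', z'], u ∈ nb D a := by
    intro u hu
    simp only [List.mem_cons, List.not_mem_nil, or_false] at hu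
    rcases hu with rfl | rfl | rfl | rfl | rfl | rfl <;> assumption
  have hndl : [b, c, e, x', y', z'].Nodup := List.Nodup.of_map f hnd6
  have hcml : ∀ u ∈ [b, c, e, x', y', z'], ∀ v ∈ [b, c, e, x', y', z'], Commute u v := fun u hu v hv =>
    (hf.comm u (hall u hu) v (hall v hv)).1
      (hcm6 _ (List.mem_map_of_mem (f := f) hu) _ (List.mem_map_of_mem (f := f) hv))
  have hpa := prod_eq_of_image hG ha hb' hndl rfl hall hcml hf hone
  simp only [List.prod_cons, List.prod_nil, mul_one] at hpa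
  have cm : Commute x' y' ∧ Commute x' z' ∧ Commute y' z' :=
    ⟨hcml _ (by simp) _ (by simp), hcml _ (by simp) _ (by simp), hcml _ (by simp) _ (by simp)⟩
  have heq : a * b * c * e = x' * y' * z' := by
    have hsq : b * (c * (e * (b * c * e))) = 1 := by
      rw [show b * (c * (e * (b * c * e))) = b * c * (e * (b * c)) * e by group,
        ((cbe.symm).mul_right cce.symm).eq,
        show b * c * (b * c * e) * e = b * c * (b * c) * (e * e) by group, sq hD he, mul_one,
        show b * c * (b * c) = b * (c * b) * c by group, ← cbc.eq,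
        show b * (b * c) * c = (b * b) * (c * c) by group, sq hD hb, sq hD hc, one_mul]
    have e1 : a * b * c * e = b * c * e * a := by
      rw [show a * b * c * e = a * (b * c * e) by group,
        ((hb'.2.2.mul_right hc'.2.2).mul_right he'.2.2).eq]
    have e2 : b * c * e * (b * c * e) = 1 := by rw [← hsq]; group
    calc a * b * c * e = b * c * e * a := e1
      _ = b * c * e * (b * c * e) * (x' * y' * z') := by
        conv_lhs => rw [← hpa]
        group
      _ = _ := by rw [e2, one_mul]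
  refine ⟨[x', y', z'], by simp, by simp [hx'.1, hy'.1, hz'.1], fun u hu w hw h => ?_, by rw [heq]; simp [mul_assoc]⟩
  have hwc : Commute w (x' * y' * z') := heq ▸
    (((h a (by simp)).mul_right (h b (by simp))).mul_right (h c (by simp))).mul_right (h e (by simp))
  obtain ⟨w1, w2, w3⟩ := (ThreeTransp.centralize_three hD.1 hx'.1 hy'.1 hz'.1 hw (fun h => xy (by rw [h]))
    (fun h => xz (by rw [h])) (fun h => yz (by rw [h])) cm.1 cm.2.1 cm.2.2).1 hwc
  simp only [List.mem_cons, List.not_mem_nil, or_false] at hu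
  rcases hu with rfl | rfl | rfl <;> assumption

open scoped Classical in
/-- An involution fixes a transposition. -/
theorem involution_fixes23 {g : G} (hg : g * g = 1) : ∃ c ∈ D, Commute g c := by
  by_contra hno
  push Not at hno
  haveI := Fintype.ofFinite G
  have hD := hG.lay.tt
  have h2 : ((D.toFinset.card : ℕ) : ZMod 2) = 0 := by
    rw [Finset.card_eq_sum_ones, Nat.cast_sum]
    refine Finset.sum_involution (fun c _ => g * c * g⁻¹) (fun _ _ => by decide)
      (fun c hc _ e => hno c (Set.mem_toFinset.1 hc) (mul_inv_eq_iff_eq_mul.1 e))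
      (fun c hc => Set.mem_toFinset.2 (conj_mem hD g (Set.mem_toFinset.1 hc))) (fun c _ => ?_)
    rw [show g * (g * c * g⁻¹) * g⁻¹ = g * g * c * (g * g)⁻¹ by group, hg]
    group
  rw [← Set.ncard_eq_toFinset_card', hG.lay.card_D] at h2
  revert h2
  decide

theorem involution_isProd23 [Gen D] {g : G} (hg : g * g = 1) (h1 : g ≠ 1) :
    ∃ m, 1 ≤ m ∧ m ≤ 3 ∧ IsProd D m g := by
  classical
  have hD := hG.lay.tt
  haveI := gen_loc hG
  haveI := loc_finite hD d
  obtain ⟨a, ha, hga⟩ := involution_fixes23 hG hg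
  have hgH : g ∈ Subgroup.closure (nb D a) := by
    rw [← centralizer23 hG ha, Subgroup.mem_centralizer_singleton_iff]; exact hga.eq
  obtain ⟨f, hf⟩ := hG.step.iso a ha
  obtain ⟨φ, hφ, -, hφ1⟩ := hf.exists_hom hD hG.loc.tt hG.loc.center
  set x := φ ⟨g, hgH⟩
  have hxx : x * x = 1 := by
    rw [← map_mul, show (⟨g, hgH⟩ : Subgroup.closure (nb D a)) * ⟨g, hgH⟩ = 1 from Subtype.ext hg, map_one]
  obtain ⟨l, hl, hlc, hlp⟩ : ∃ l : List (ModCenter (Subgroup.closure (nb D d))), (∀ q ∈ l, q ∈ locSet D d) ∧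
      (∀ p ∈ l, ∀ q ∈ l, Commute p q) ∧ l.prod = x := by
    by_cases hx1 : x = 1
    · exact ⟨[], by simp, by simp, by simp [hx1]⟩
    · obtain ⟨m, -, -, l, -, -, h3, h4, h5⟩ := involution_isProd hG.loc hG.core hxx hx1
      exact ⟨l, h3, h4, h5⟩
  have hex : ∀ q : ModCenter (Subgroup.closure (nb D d)), ∃ y, q ∈ locSet D d → y ∈ nb D a ∧ f y = q := by
    intro q
    by_cases hq : q ∈ locSet D d
    · obtain ⟨y, hy, e⟩ := hf.surj hq
      exact ⟨y, fun _ => ⟨hy, e⟩⟩
    · exact ⟨1, fun h => absurd h hq⟩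
  choose lift hlift using hex
  have hval : ∀ (s : List (ModCenter (Subgroup.closure (nb D d)))), (∀ q ∈ s, q ∈ locSet D d) →
      ∀ hm : (s.map lift).prod ∈ Subgroup.closure (nb D a), φ ⟨_, hm⟩ = s.prod := by
    intro s
    induction s with
    | nil =>
      intro _ hm
      rw [show (⟨_, hm⟩ : Subgroup.closure (nb D a)) = 1 from Subtype.ext rfl, map_one, List.prod_nil]
    | cons q s ih =>
      intro hs hm
      obtain ⟨m1, e1⟩ := hlift q (hs q List.mem_cons_self)
      have hm' : (s.map lift).prod ∈ Subgroup.closure (nb D a) := list_prod_mem fun y hy => by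
        obtain ⟨q', hq', rfl⟩ := List.mem_map.1 hy
        exact Subgroup.subset_closure (hlift q' (hs q' (List.mem_cons_of_mem _ hq'))).1
      rw [show (⟨_, hm⟩ : Subgroup.closure (nb D a)) = ⟨lift q, Subgroup.subset_closure m1⟩ * ⟨_, hm'⟩ from
          Subtype.ext List.prod_cons, map_mul, hφ _ m1, e1, ih (fun q' hq' => hs q' (List.mem_cons_of_mem _ hq')) hm',
        List.prod_cons]
  have htH : (l.map lift).prod ∈ Subgroup.closure (nb D a) := list_prod_mem fun y hy => by
    obtain ⟨q, hq, rfl⟩ := List.mem_map.1 hy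
    exact Subgroup.subset_closure (hlift q (hl q hq)).1
  have htnb : ∀ y ∈ l.map lift, y ∈ nb D a := fun y hy => by
    obtain ⟨q, hq, rfl⟩ := List.mem_map.1 hy
    exact (hlift q (hl q hq)).1
  have htc : ∀ y ∈ l.map lift, ∀ y' ∈ l.map lift, Commute y y' := by
    intro y hy y' hy'
    obtain ⟨q, hq, rfl⟩ := List.mem_map.1 hy
    obtain ⟨q', hq', rfl⟩ := List.mem_map.1 hy'
    rw [← hf.comm _ (hlift q (hl q hq)).1 _ (hlift q' (hl q' hq')).1, (hlift q (hl q hq)).2, (hlift q' (hl q' hq')).2]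
    exact hlc q hq q' hq'
  have hdiff : φ (⟨_, htH⟩⁻¹ * ⟨g, hgH⟩) = 1 := by
    rw [map_mul, map_inv, hval l hl htH, hlp, inv_mul_cancel]
  have hcase := hG.lay.kernel ha (commute_closure_nb hD (mul_mem (inv_mem htH) hgH)).symm ((hφ1 _).1 hdiff)
  obtain ⟨u, hu, huc, hup⟩ : ∃ u : List G, (∀ y ∈ u, y ∈ D) ∧ (∀ y ∈ u, ∀ y' ∈ u, Commute y y') ∧ u.prod = g := by
    rcases hcase with e | e
    · exact ⟨l.map lift, fun y hy => (htnb y hy).1, htc, inv_mul_eq_one.1 e⟩
    · refine ⟨a :: l.map lift, ?_, ?_, ?_⟩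
      · intro y hy
        rcases List.mem_cons.1 hy with rfl | hy
        · exact ha
        · exact (htnb y hy).1
      · intro y hy y' hy'
        rcases List.mem_cons.1 hy with ey | hy <;> rcases List.mem_cons.1 hy' with ey' | hy'
        · rw [ey, ey']
        · rw [ey]; exact (htnb y' hy').2.2
        · rw [ey']; exact (htnb y hy).2.2.symm
        · exact htc y hy y' hy'
      · rw [List.prod_cons, (Commute.list_prod_right _ a fun y hy => (htnb y hy).2.2).eq]
        exact (inv_mul_eq_iff_eq_mul.1 e).symm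
  obtain ⟨m, hm, hmp⟩ := exists_reduced_gen hD
    (fun _ _ _ _ h1 h2 h3 h4 h5 h6 => reduce_four23 hG h1 h2 h3 h4 h5 h6) u.length u le_rfl hu huc
  rw [hup] at hmp
  refine ⟨m, Nat.one_le_iff_ne_zero.2 fun e => h1 ?_, hm, hmp⟩
  obtain ⟨s, -, hs, -, -, rfl⟩ := hmp
  rw [e, List.length_eq_zero_iff] at hs
  simp [hs]

theorem exists_triangle {a : G} (ha : a ∈ D) :
    ∃ b c, b ∈ nb D a ∧ c ∈ common D a b := by
  obtain ⟨b, hb⟩ : (nb D a).Nonempty := Set.nonempty_of_ncard_ne_zero (by rw [hG.lay.card_nb a ha]; norm_num)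
  obtain ⟨c, hc⟩ : (common D a b).Nonempty :=
    Set.nonempty_of_ncard_ne_zero (by rw [hG.lay.card_edge a ha b hb]; norm_num)
  exact ⟨b, c, hb, hc⟩

theorem exists_isProd23 {m : ℕ} (h1 : 1 ≤ m) (h3 : m ≤ 3) :
    ∃ x, IsProd D m x ∧ x * x = 1 ∧ x ≠ 1 := by
  have hD := hG.lay.tt
  obtain ⟨b, c, hb, hc⟩ := exists_triangle hG hG.mem
  have hd := hG.mem
  interval_cases m
  · exact ⟨d, (isProd1_iff hD).2 hd, sq hD hd, ne_one hD hd⟩
  · refine ⟨d * b, ⟨[d, b], by simp [hb.2.1.symm], rfl, by simp [hd, hb.1], by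
      simp [hb.2.2, hb.2.2.symm], by simp⟩, ?_, fun e => hb.2.1 ?_⟩
    · rw [show d * b * (d * b) = d * (b * d) * b by group, ← hb.2.2.eq, show d * (d * b) * b = (d * d) * (b * b) by group,
        sq hD hd, sq hD hb.1, one_mul]
    · rw [eq_inv_of_mul_eq_one_right e, inv_eq hD hd]
  · refine ⟨d * b * c, ⟨[d, b, c], by simp [hb.2.1.symm, hc.1.2.1.symm, hc.2.2.1.symm], rfl,
      by simp [hd, hb.1, hc.1.1], by
      simp [hb.2.2, hb.2.2.symm, hc.1.2.2, hc.1.2.2.symm, hc.2.2.2, hc.2.2.2.symm], by simp [mul_assoc]⟩, ?_,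
      fun e => ?_⟩
    · rw [show d * b * c * (d * b * c) = d * b * (c * (d * b)) * c by group,
        (hc.1.2.2.symm.mul_right hc.2.2.2.symm).eq, show d * b * (d * b * c) * c = d * b * (d * b) * (c * c) by group,
        sq hD hc.1.1, mul_one, show d * b * (d * b) = d * (b * d) * b by group, ← hb.2.2.eq,
        show d * (d * b) * b = (d * d) * (b * b) by group, sq hD hd, sq hD hb.1, one_mul]
    · refine mul_two_notMem hD hG.lay.tf hd hb ?_
      rw [eq_inv_of_mul_eq_one_left e, inv_eq hD hc.1.1]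
      exact hc.1.1

theorem isProd_conj23 (hT : TransTriples D) {m : ℕ} {x y : G} (h1 : 1 ≤ m) (h3 : m ≤ 3) (hx : IsProd D m x)
    (hy : IsProd D m y) : IsConj x y := by
  have hD := hG.lay.tt
  interval_cases m
  · exact isConj_iff.2 (hG.lay.one x ((isProd1_iff hD).1 hx) y ((isProd1_iff hD).1 hy))
  · obtain ⟨a, b, ha, hb, hne, hab, rfl⟩ := isProd2_elim hD hx
    obtain ⟨a', b', ha', hb', hne', hab', rfl⟩ := isProd2_elim hD hy
    obtain ⟨g, g1, g2⟩ := hG.lay.pairs a b a' b' ha hb ha' hb' hne hne' hab hab'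
    exact isConj_iff.2 ⟨g, by rw [← g1, ← g2]; group⟩
  · obtain ⟨a, b, c, ha, hb, hc, hne, hab, hac, hbc, rfl⟩ := isProd3_elim hD hx
    obtain ⟨a', b', c', ha', hb', hc', hne', hab', hac', hbc', rfl⟩ := isProd3_elim hD hy
    obtain ⟨g, g1, g2, g3⟩ := hT a b c a' b' c' ha hb hc ha' hb' hc' hne hne' hab hac hbc hab' hac' hbc'
    exact isConj_iff.2 ⟨g, by rw [← g1, ← g2, ← g3]; group⟩

/-- A class of 3-transpositions consists of transpositions. -/
theorem unique_class23 [Gen D] (hT : TransTriples D) {D' : Set G} (hD' : Cfsg.IsThreeTranspositionClass D') :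
    D' = D := by
  classical
  have hD := hG.lay.tt
  obtain ⟨h3, ⟨x, hx, hcl⟩, -⟩ := hD'
  obtain ⟨m, h1, hm, hxm⟩ := involution_isProd23 hG (ThreeTransp.sq_one h3 hx) (ThreeTransp.ne_one h3 hx)
  by_cases hm1 : m = 1
  · subst hm1
    have hxD := (isProd1_iff hD).1 hxm
    rw [hcl]
    ext y
    show IsConj x y ↔ _
    rw [isConj_iff]
    exact ⟨fun ⟨g, hg⟩ => hg ▸ conj_mem hD g hxD, fun hy => hG.lay.one x hxD y hy⟩
  exfalso
  haveI := gen_loc hG
  haveI := loc_finite hD d
  obtain ⟨q, hq⟩ := loc_nonempty hG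
  obtain ⟨A, B, C, E', hA, hB, hC, hE, ⟨nAB, -, -, -, -, nCE⟩, hAB, hAC, hBC, hEA, hEB, hEC, -⟩ :=
    exists_bad_pair hG.loc hq
  obtain ⟨f, hf⟩ := hG.step.iso d hG.mem
  obtain ⟨a, ma, rfl⟩ := hf.surj hA
  obtain ⟨b, mb, rfl⟩ := hf.surj hB
  obtain ⟨c, mc, rfl⟩ := hf.surj hC
  obtain ⟨e, me, rfl⟩ := hf.surj hE
  have nab : a ≠ b := fun h => nAB (by rw [h])
  have nce : c ≠ e := fun h => nCE (by rw [h])
  have hab := (hf.comm a ma b mb).1 hAB
  have hac : ¬ Commute a c := fun h => hAC ((hf.comm a ma c mc).2 h)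
  have hbc : ¬ Commute b c := fun h => hBC ((hf.comm b mb c mc).2 h)
  have hea := (hf.comm e me a ma).1 hEA
  have heb := (hf.comm e me b mb).1 hEB
  have hec := (hf.comm e me c mc).1 hEC
  have ha := ma.1; have hb := mb.1; have hc := mc.1; have he := me.1
  have hdD := hG.mem
  have hin : ∀ u, IsProd D m u → u ∈ D' := fun u hu => by
    rw [hcl]
    exact isProd_conj23 hG hT h1 hm hxm hu
  obtain ⟨hb2, hb3⟩ := bad_product_gen hD hG.lay.tf ha hb hc he hab nab hac hbc hea heb hec
  obtain rfl | rfl : m = 2 ∨ m = 3 := by omega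
  · rcases h3.2 _ (hin (a * b) ⟨[a, b], by simp [nab], rfl, by simp [ha, hb], by simp [hab, hab.symm, Commute.refl], by simp⟩)
      _ (hin (c * e) ⟨[c, e], by simp [nce], rfl, by simp [hc, he], by simp [hec, hec.symm, Commute.refl], by simp⟩)
      with h | h
    · exact hb2 h
    · exact hb3 h
  · have e1 : (d * (a * b)) * (d * (c * e)) = (a * b) * (c * e) := by
      rw [(ma.2.2.mul_right mb.2.2).eq, show a * b * d * (d * (c * e)) = a * b * (d * d) * (c * e) by group,
        sq hD hdD, mul_one]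
    rcases h3.2 _ (hin (d * (a * b)) ⟨[d, a, b], by simp [nab, ma.2.1.symm, mb.2.1.symm], rfl, by simp [hdD, ha, hb],
        by simp [hab, hab.symm, ma.2.2, ma.2.2.symm, mb.2.2, mb.2.2.symm, Commute.refl], by simp⟩)
      _ (hin (d * (c * e)) ⟨[d, c, e], by simp [nce, mc.2.1.symm, me.2.1.symm], rfl, by simp [hdD, hc, he],
        by simp [hec, hec.symm, mc.2.2, mc.2.2.symm, me.2.2, me.2.2.symm, Commute.refl], by simp⟩)
      with h | h
    · exact hb2 (e1 ▸ h)
    · exact hb3 (e1 ▸ h)

end Cfsg.Agent.TT95
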