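import Cfsg.Agent.TT95.InvolFix24
import Cfsg.Agent.TT95.Parity24
import Cfsg.Agent.TT95.Cent24
import Cfsg.Agent.TT95.Reduce24
import Cfsg.Agent.TT95.Invol23

/-!
Type M(24): the four classes of involutions and the uniqueness of the class of transpositions.
-/

set_option autoImplicit false
set_option linter.unusedSectionVars false

namespace Cfsg.Agent.TT95

variable {G : Type*} [Group G] [Finite G] {D : Set G} {d : G} {q : ModCenter (Subgroup.closure (nb D d))}
  (hG : Cfg24 D d q)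

include hG

theorem transTriples24 : TransTriples D :=
  transTriples_of_local hG.lay.tt hG.lay.one hG.lay.tf hG.mem hG.loc.lay.pairs

/-- Ordered quadruples of commuting transpositions are conjugate. -/
theorem transQuads24 {a b c e a' b' c' e' : G} (h : ∀ u ∈ [a, b, c, e], u ∈ D)
    (h' : ∀ u ∈ [a', b', c', e'], u ∈ D) (hnd : [a, b, c, e].Nodup) (hnd' : [a', b', c', e'].Nodup)
    (hcm : ∀ u ∈ [a, b, c, e], ∀ v ∈ [a, b, c, e], Commute u v)
    (hcm' : ∀ u ∈ [a', b', c', e'], ∀ v ∈ [a', b', c', e'], Commute u v) :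
    ∃ g : G, g * a * g⁻¹ = a' ∧ g * b * g⁻¹ = b' ∧ g * c * g⁻¹ = c' ∧ g * e * g⁻¹ = e' := by
  have hD := hG.lay.tt
  have hone := hG.lay.one
  have htf := hG.lay.tf
  have hd := hG.mem
  haveI := loc_finite hD d
  obtain ⟨g, hga⟩ := hone a (h a (by simp)) d hd
  obtain ⟨g', hga'⟩ := hone a' (h' a' (by simp)) d hd
  simp only [List.nodup_cons, List.mem_cons, List.not_mem_nil, or_false, not_or] at hnd hnd'
  have hnb : ∀ {k p u : G}, k * p * k⁻¹ = d → u ∈ D → p ≠ u → Commute p u → k * u * k⁻¹ ∈ nb D d :=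
    fun {k p u} hk hu hne hc => ⟨conj_mem hD k hu,
      fun e => hne (mul_left_cancel (mul_right_cancel (e.trans hk.symm))).symm, hk ▸ (Commute.conj_iff k).2 hc⟩
  have nb1 := hnb hga (h b (by simp)) hnd.1.1 (hcm a (by simp) b (by simp))
  have nc1 := hnb hga (h c (by simp)) hnd.1.2.1 (hcm a (by simp) c (by simp))
  have ne1 := hnb hga (h e (by simp)) hnd.1.2.2 (hcm a (by simp) e (by simp))
  have nb2 := hnb hga' (h' b' (by simp)) hnd'.1.1 (hcm' a' (by simp) b' (by simp))
  have nc2 := hnb hga' (h' c' (by simp)) hnd'.1.2.1 (hcm' a' (by simp) c' (by simp))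
  have ne2 := hnb hga' (h' e' (by simp)) hnd'.1.2.2 (hcm' a' (by simp) e' (by simp))
  have hn := fun (x : G) (hx : x ∈ nb D d) => mkNb_ne_one hD hone htf hd hx
  have hne : ∀ {k x y : G} (hx : k * x * k⁻¹ ∈ nb D d) (hy : k * y * k⁻¹ ∈ nb D d), x ≠ y →
      mkNb hx ≠ mkNb hy := fun hx hy hxy e =>
    hxy (mul_left_cancel (mul_right_cancel (eq_of_mkNb_eq hD hx hy (hn _ hx) e)))
  obtain ⟨k, hk1, hk2, hk3⟩ := transTriples_of_local hG.loc.lay.tt hG.loc.lay.one hG.loc.lay.tf hG.loc.mem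
    hG.loc.step.lay.pairs _ _ _ _ _ _
    (mkNb_mem hD nb1 (hn _ nb1)) (mkNb_mem hD nc1 (hn _ nc1)) (mkNb_mem hD ne1 (hn _ ne1))
    (mkNb_mem hD nb2 (hn _ nb2)) (mkNb_mem hD nc2 (hn _ nc2)) (mkNb_mem hD ne2 (hn _ ne2))
    ⟨hne nb1 nc1 hnd.2.1.1, hne nb1 ne1 hnd.2.1.2, hne nc1 ne1 hnd.2.2.1⟩
    ⟨hne nb2 nc2 hnd'.2.1.1, hne nb2 ne2 hnd'.2.1.2, hne nc2 ne2 hnd'.2.2.1⟩
    (mkNb_commute hD _ _ ((Commute.conj_iff g).2 (hcm b (by simp) c (by simp))))
    (mkNb_commute hD _ _ ((Commute.conj_iff g).2 (hcm b (by simp) e (by simp))))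
    (mkNb_commute hD _ _ ((Commute.conj_iff g).2 (hcm c (by simp) e (by simp))))
    (mkNb_commute hD _ _ ((Commute.conj_iff g').2 (hcm' b' (by simp) c' (by simp))))
    (mkNb_commute hD _ _ ((Commute.conj_iff g').2 (hcm' b' (by simp) e' (by simp))))
    (mkNb_commute hD _ _ ((Commute.conj_iff g').2 (hcm' c' (by simp) e' (by simp))))
  obtain ⟨m, rfl⟩ := QuotientGroup.mk_surjective k
  have fin : ∀ {x x' : G}, (m : G) * (g * x * g⁻¹) * (m : G)⁻¹ = g' * x' * g'⁻¹ →
      g'⁻¹ * m * g * x * (g'⁻¹ * m * g)⁻¹ = x' := by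
    intro x x' e
    calc g'⁻¹ * m * g * x * (g'⁻¹ * m * g)⁻¹ = g'⁻¹ * ((m : G) * (g * x * g⁻¹) * (m : G)⁻¹) * g' := by group
      _ = g'⁻¹ * (g' * x' * g'⁻¹) * g' := by rw [e]
      _ = x' := by group
  exact ⟨g'⁻¹ * m * g, fin (by rw [hga, hga', conj_fix_of_mem hD m.2]), fin (lift_conj hD hone htf hd nb1 nb2 hk1),
    fin (lift_conj hD hone htf hd nc1 nc2 hk2), fin (lift_conj hD hone htf hd ne1 ne2 hk3)⟩

theorem isProd4_elim {x : G} (h : IsProd D 4 x) :
    ∃ a b c e, [a, b, c, e].Nodup ∧ (∀ u ∈ [a, b, c, e], u ∈ D) ∧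
      (∀ u ∈ [a, b, c, e], ∀ v ∈ [a, b, c, e], Commute u v) ∧ a * b * c * e = x := by
  obtain ⟨l, hn, hl, hm, hc, rfl⟩ := h
  match l, hl with
  | [a, b, c, e], _ => exact ⟨a, b, c, e, hn, hm, hc, by simp [mul_assoc]⟩

theorem isProd_conj24 {m : ℕ} {x y : G} (h1 : 1 ≤ m) (h4 : m ≤ 4) (hx : IsProd D m x) (hy : IsProd D m y) :
    IsConj x y := by
  have hD := hG.lay.tt
  interval_cases m
  · exact isConj_iff.2 (hG.lay.one x ((isProd1_iff hD).1 hx) y ((isProd1_iff hD).1 hy))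
  · obtain ⟨a, b, ha, hb, hne, hab, rfl⟩ := isProd2_elim hD hx
    obtain ⟨a', b', ha', hb', hne', hab', rfl⟩ := isProd2_elim hD hy
    obtain ⟨g, g1, g2⟩ := hG.lay.pairs a b a' b' ha hb ha' hb' hne hne' hab hab'
    exact isConj_iff.2 ⟨g, by rw [← g1, ← g2]; group⟩
  · obtain ⟨a, b, c, ha, hb, hc, hne, hab, hac, hbc, rfl⟩ := isProd3_elim hD hx
    obtain ⟨a', b', c', ha', hb', hc', hne', hab', hac', hbc', rfl⟩ := isProd3_elim hD hy
    obtain ⟨g, g1, g2, g3⟩ := transTriples24 hG a b c a' b' c' ha hb hc ha' hb' hc' hne hne' hab hac hbc hab' hac' hbc'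
    exact isConj_iff.2 ⟨g, by rw [← g1, ← g2, ← g3]; group⟩
  · obtain ⟨a, b, c, e, hn, hm, hc, rfl⟩ := isProd4_elim hG hx
    obtain ⟨a', b', c', e', hn', hm', hc', rfl⟩ := isProd4_elim hG hy
    obtain ⟨g, g1, g2, g3, g4⟩ := transQuads24 hG hm hm' hn hn' hc hc'
    exact isConj_iff.2 ⟨g, by rw [← g1, ← g2, ← g3, ← g4]; group⟩

theorem isProd_sq24 {m : ℕ} {x : G} (h : IsProd D m x) : x * x = 1 := by
  obtain ⟨l, -, -, hmem, hcm, rfl⟩ := h
  have hD := hG.lay.tt
  induction l with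
  | nil => simp
  | cons a l ih =>
    rw [List.prod_cons, (Commute.list_prod_left l a fun y hy => hcm y (List.mem_cons_of_mem _ hy) a
      List.mem_cons_self).mul_mul_mul_comm a _, sq hD (hmem a List.mem_cons_self),
      ih (fun y hy => hmem y (List.mem_cons_of_mem _ hy))
        (fun y hy z hz => hcm y (List.mem_cons_of_mem _ hy) z (List.mem_cons_of_mem _ hz)), one_mul]

theorem isProd_parity {ε : G →* ℤˣ} (hε : ∀ e ∈ D, ε e = -1) {m : ℕ} {x : G} (h : IsProd D m x) :
    ε x = (-1) ^ m := by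
  obtain ⟨l, -, rfl, hmem, -, rfl⟩ := h
  induction l with
  | nil => simp
  | cons a l ih =>
    rw [List.prod_cons, map_mul, hε a (hmem a List.mem_cons_self), ih fun y hy => hmem y (List.mem_cons_of_mem _ hy),
      List.length_cons, pow_succ']

theorem two_ne_four {x : G} (h : IsProd D 2 x) (h' : IsProd D 4 x) : False := by
  have hD := hG.lay.tt
  obtain ⟨a, b, ha, hb, hne, hab, rfl⟩ := isProd2_elim hD h
  obtain ⟨p, r, s, t, hn, hm, hc, he⟩ := isProd4_elim hG h'
  have hfix : ∀ u ∈ [p, r, s, t], Commute u a ∧ Commute u b := by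
    intro u hu
    have hu' := hm u hu
    have hcu : Commute u (a * b) := he ▸ (((hc u hu p (by simp)).mul_right (hc u hu r (by simp))).mul_right
      (hc u hu s (by simp))).mul_right (hc u hu t (by simp))
    exact (ThreeTransp.centralize_two hD.1 ha hb hu' hne hab).1 hcu
  simp only [List.nodup_cons, List.mem_cons, List.not_mem_nil, or_false, not_or] at hn
  obtain ⟨⟨n1, n2, n3⟩, ⟨n4, n5⟩, n6, -⟩ := hn
  have hp := hm p (by simp); have hr := hm r (by simp); have hs := hm s (by simp); have ht := hm t (by simp)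
  have cab : ∀ u ∈ [a, b, p, r, s, t], ∀ v ∈ [a, b, p, r, s, t], Commute u v := by
    intro u hu v hv
    rcases List.mem_cons.1 hu with eu | hu <;> rcases List.mem_cons.1 hv with ev | hv
    · rw [eu, ev]
    · rw [eu]
      rcases List.mem_cons.1 hv with ev | hv
      · rw [ev]; exact hab
      · exact (hfix v hv).1.symm
    · rw [ev]
      rcases List.mem_cons.1 hu with eu | hu
      · rw [eu]; exact hab.symm
      · exact (hfix u hu).1
    · rcases List.mem_cons.1 hu with eu | hu <;> rcases List.mem_cons.1 hv with ev | hv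
      · rw [eu, ev]
      · rw [eu]; exact (hfix v hv).2.symm
      · rw [ev]; exact (hfix u hu).2
      · exact hc u hu v hv
  -- a common member would leave three multiplying to a transposition
  have drop : ∀ (u v w z : G) (_ : u ∈ D) (_ : v ∈ D) (_ : w ∈ D) (_ : z ∈ D), v ≠ w → v ≠ z → w ≠ z →
      Commute v w → Commute v z → Commute w z → ∀ o ∈ D, u * o = u * v * w * z → False := by
    intro u v w z hu hv hw hz k1 k2 k3 c1 c2 c3 o ho e
    rw [mul_assoc u v, mul_assoc u (v * w)] at e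
    exact mul_three_notMem hD hG.lay.tf hv hw hz k1 k2 k3 c1 c2 c3 (mul_left_cancel e ▸ ho)
  have k : ∀ o o', o ∈ D → o' ∈ D → o * o' = p * r * s * t → o ≠ p ∧ o ≠ r ∧ o ≠ s ∧ o ≠ t := by
    intro o o' ho ho' e
    refine ⟨?_, ?_, ?_, ?_⟩ <;> intro h <;> subst h
    · exact drop o r s t hp hr hs ht n4 n5 n6 (hc r (by simp) s (by simp)) (hc r (by simp) t (by simp))
        (hc s (by simp) t (by simp)) o' ho' e
    · exact drop o p s t hr hp hs ht n2 n3 n6 (hc p (by simp) s (by simp)) (hc p (by simp) t (by simp))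
        (hc s (by simp) t (by simp)) o' ho' (by rw [e, (hc p (by simp) o (by simp)).eq])
    · exact drop o p r t hs hp hr ht n1 n3 n5 (hc p (by simp) r (by simp)) (hc p (by simp) t (by simp))
        (hc r (by simp) t (by simp)) o' ho'
        (by rw [e, ((hc p (by simp) o (by simp)).mul_left (hc r (by simp) o (by simp))).eq]; group)
    · exact drop o p r s ht hp hr hs n1 n2 n4 (hc p (by simp) r (by simp)) (hc p (by simp) s (by simp))
        (hc r (by simp) s (by simp)) o' ho'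
        (by rw [e, (((hc p (by simp) o (by simp)).mul_left (hc r (by simp) o (by simp))).mul_left
          (hc s (by simp) o (by simp))).eq]; group)
  obtain ⟨a1, a2, a3, a4⟩ := k a b ha hb he.symm
  obtain ⟨b1, b2, b3, b4⟩ := k b a hb ha (hab.symm.eq.trans he.symm)
  refine noRel6_24 hG [a, b, p, r, s, t] (by simp [hne, a1, a2, a3, a4, b1, b2, b3, b4, n1, n2, n3, n4, n5, n6]) rfl
    (by simp [ha, hb, hp, hr, hs, ht]) cab ?_
  simp only [List.prod_cons, List.prod_nil, mul_one]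
  rw [show a * (b * (p * (r * (s * t)))) = a * b * (p * r * s * t) by group, he,
    show a * b * (a * b) = a * (b * a) * b by group, ← hab.eq,
    show a * (a * b) * b = (a * a) * (b * b) by group, sq hD ha, sq hD hb, one_mul]

/-- Products of at most four determine their length. -/
theorem isProd_len24 {m m' : ℕ} {x : G} (h1 : 1 ≤ m) (h4 : m ≤ 4) (h1' : 1 ≤ m') (h4' : m' ≤ 4)
    (h : IsProd D m x) (h' : IsProd D m' x) : m = m' := by
  classical
  have hD := hG.lay.tt
  obtain ⟨ε, hε⟩ := exists_parity hG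
  have hp : (-1 : ℤˣ) ^ m = (-1) ^ m' := (isProd_parity hG hε h).symm.trans (isProd_parity hG hε h')
  have h13 : ∀ {y}, IsProd D 1 y → ¬ IsProd D 3 y := fun {y} h h' => by
    obtain ⟨a, b, c, ha, hb, hc, hne, hab, hac, hbc, e⟩ := isProd3_elim hD h'
    exact mul_three_notMem hD hG.lay.tf ha hb hc hne.1 hne.2.1 hne.2.2 hab hac hbc (e ▸ (isProd1_iff hD).1 h)
  interval_cases m <;> interval_cases m' <;>
    first
      | rfl
      | exact absurd h' (h13 h)
      | exact absurd h (h13 h')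
      | exact absurd (two_ne_four hG h h') id
      | exact absurd (two_ne_four hG h' h) id
      | exact absurd hp (by decide)

theorem exists_isProd24 {m : ℕ} (h1 : 1 ≤ m) (h4 : m ≤ 4) : ∃ x, IsProd D m x ∧ x * x = 1 ∧ x ≠ 1 := by
  classical
  have hD := hG.lay.tt
  haveI := loc_finite hD d
  have hd := hG.mem
  obtain ⟨b, hb⟩ : (nb D d).Nonempty := Set.nonempty_of_ncard_ne_zero (by rw [hG.lay.card_nb d hd]; norm_num)
  obtain ⟨c, hc⟩ : (common D d b).Nonempty :=
    Set.nonempty_of_ncard_ne_zero (by rw [hG.lay.card_edge d hd b hb]; norm_num)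
  have h3 : ({d, b, c} : Finset G) ∈ cliques D 3 := mem_cliques.2 ⟨by
      rw [Finset.card_insert_of_notMem (by simp [hb.2.1.symm, hc.1.2.1.symm]), Finset.card_pair hc.2.2.1.symm],
    by simp [hd, hb.1, hc.1.1],
    by simp [hb.2.2, hb.2.2.symm, hc.1.2.2, hc.1.2.2.symm, hc.2.2.2, hc.2.2.2.symm, Commute.refl]⟩
  obtain ⟨e, he⟩ : (perp D ↑({d, b, c} : Finset G)).Nonempty :=
    Set.nonempty_of_ncard_ne_zero (by rw [perp_three hG h3]; norm_num)
  obtain ⟨heD, hen, hec⟩ := he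
  simp only [Finset.coe_insert, Finset.coe_singleton, Set.mem_insert_iff, Set.mem_singleton_iff, not_or] at hen
  have e1 := hec d (by simp); have e2 := hec b (by simp); have e3 := hec c (by simp)
  obtain ⟨l, hl⟩ : ∃ l : List G, l = [d, b, c, e].take m := ⟨_, rfl⟩
  have hsub : ∀ u ∈ l, u ∈ [d, b, c, e] := fun u hu => List.mem_of_mem_take (hl ▸ hu)
  have hx : IsProd D m l.prod := by
    refine ⟨l, ?_, ?_, fun u hu => ?_, fun u hu v hv => ?_, rfl⟩
    · rw [hl]
      refine List.Nodup.sublist (List.take_sublist _ _) ?_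
      simp [hb.2.1.symm, hc.1.2.1.symm, hc.2.2.1.symm, Ne.symm hen.1, Ne.symm hen.2.1, Ne.symm hen.2.2]
    · rw [hl, List.length_take]; simp only [List.length_cons, List.length_nil]; omega
    · have := hsub u hu
      simp only [List.mem_cons, List.not_mem_nil, or_false] at this
      rcases this with rfl | rfl | rfl | rfl
      exacts [hd, hb.1, hc.1.1, heD]
    · have := hsub u hu
      have := hsub v hv
      simp only [List.mem_cons, List.not_mem_nil, or_false] at *
      rcases ‹u = d ∨ _› with rfl | rfl | rfl | rfl <;> rcases ‹v = _ ∨ _› with rfl | rfl | rfl | rfl <;>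
        first
          | exact Commute.refl _
          | exact hb.2.2 | exact hb.2.2.symm | exact hc.1.2.2 | exact hc.1.2.2.symm
          | exact hc.2.2.2 | exact hc.2.2.2.symm | assumption | (apply Commute.symm; assumption)
  refine ⟨_, hx, isProd_sq24 hG hx, fun h1x => ?_⟩
  rw [hl] at h1x
  have nc := mul_three_notMem hD hG.lay.tf hd hb.1 hc.1.1 hb.2.1.symm hc.1.2.1.symm hc.2.2.1.symm hb.2.2 hc.1.2.2
    hc.2.2.2
  interval_cases m <;> simp only [List.take_succ_cons, List.take_zero, List.prod_cons, List.prod_nil, mul_one] at h1x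
  · exact ne_one hD hd h1x
  · exact hb.2.1 (by rw [eq_inv_of_mul_eq_one_right h1x, inv_eq hD hd])
  · refine mul_two_notMem hD hG.lay.tf hd hb ?_
    rw [← mul_assoc] at h1x
    rw [eq_inv_of_mul_eq_one_left h1x, inv_eq hD hc.1.1]
    exact hc.1.1
  · refine nc ?_
    rw [show d * (b * (c * e)) = d * b * c * e by group] at h1x
    rw [eq_inv_of_mul_eq_one_left h1x, inv_eq hD heD]
    exact heD

theorem involution_isProd24 [Gen D] {g : G} (hg : g * g = 1) (h1 : g ≠ 1) :
    ∃ m, 1 ≤ m ∧ m ≤ 4 ∧ IsProd D m g := by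
  classical
  have hD := hG.lay.tt
  haveI := gen_loc24 hG
  haveI := loc_finite hD d
  obtain ⟨a, ha, hga⟩ := involution_fixes24 hG hg
  have hgH : g ∈ Subgroup.closure (nb D a) := by
    rw [← centralizer24 hG ha, Subgroup.mem_centralizer_singleton_iff]; exact hga.eq
  obtain ⟨f, hf⟩ := hG.step.iso a ha
  obtain ⟨φ, hφ, -, hφ1⟩ := hf.exists_hom hD hG.loc.lay.tt hG.loc.lay.center
  set x := φ ⟨g, hgH⟩
  have hxx : x * x = 1 := by
    rw [← map_mul, show (⟨g, hgH⟩ : Subgroup.closure (nb D a)) * ⟨g, hgH⟩ = 1 from Subtype.ext hg, map_one]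
  obtain ⟨l, hl, hlc, hlp⟩ : ∃ l : List (ModCenter (Subgroup.closure (nb D d))), (∀ q ∈ l, q ∈ locSet D d) ∧
      (∀ p ∈ l, ∀ q ∈ l, Commute p q) ∧ l.prod = x := by
    by_cases hx1 : x = 1
    · exact ⟨[], by simp, by simp, by simp [hx1]⟩
    · obtain ⟨m, -, -, l, -, -, h3, h4, h5⟩ := involution_isProd23 hG.loc hxx hx1
      exact ⟨l, h3, h4, h5⟩
  have hex : ∀ q : ModCenter (Subgroup.closure (nb D d)), ∃ y, q ∈ locSet D d → y ∈ nb D a ∧ f y = q := by
    intro q
    by_cases hq : q ∈ locSet D d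
    · obtain ⟨y, hy, e⟩ := hf.surj hq
      exact ⟨y, fun _ => ⟨hy, e⟩⟩
    · exact ⟨1, fun h => absurd h hq⟩
  choose lift hlift using hex
  have htnb : ∀ y ∈ l.map lift, y ∈ nb D a := fun y hy => by
    obtain ⟨p, hp, rfl⟩ := List.mem_map.1 hy
    exact (hlift p (hl p hp)).1
  have hval : ∀ (s : List (ModCenter (Subgroup.closure (nb D d)))), (∀ q ∈ s, q ∈ locSet D d) →
      ∀ hm : (s.map lift).prod ∈ Subgroup.closure (nb D a), φ ⟨_, hm⟩ = s.prod := by
    intro s
    induction s with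
    | nil =>
      intro _ hm
      rw [show (⟨_, hm⟩ : Subgroup.closure (nb D a)) = 1 from Subtype.ext rfl, map_one, List.prod_nil]
    | cons p s ih =>
      intro hs hm
      obtain ⟨m1, e1⟩ := hlift p (hs p List.mem_cons_self)
      have hm' : (s.map lift).prod ∈ Subgroup.closure (nb D a) := list_prod_mem fun y hy => by
        obtain ⟨q', hq', rfl⟩ := List.mem_map.1 hy
        exact Subgroup.subset_closure (hlift q' (hs q' (List.mem_cons_of_mem _ hq'))).1
      rw [show (⟨_, hm⟩ : Subgroup.closure (nb D a)) = ⟨lift p, Subgroup.subset_closure m1⟩ * ⟨_, hm'⟩ from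
          Subtype.ext List.prod_cons, map_mul, hφ _ m1, e1, ih (fun q' hq' => hs q' (List.mem_cons_of_mem _ hq')) hm',
        List.prod_cons]
  have htH : (l.map lift).prod ∈ Subgroup.closure (nb D a) :=
    list_prod_mem fun y hy => Subgroup.subset_closure (htnb y hy)
  have htc : ∀ y ∈ l.map lift, ∀ y' ∈ l.map lift, Commute y y' := by
    intro y hy y' hy'
    obtain ⟨p, hp, rfl⟩ := List.mem_map.1 hy
    obtain ⟨p', hp', rfl⟩ := List.mem_map.1 hy'
    rw [← hf.comm _ (hlift p (hl p hp)).1 _ (hlift p' (hl p' hp')).1, (hlift p (hl p hp)).2, (hlift p' (hl p' hp')).2]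
    exact hlc p hp p' hp'
  have hdiff : φ (⟨_, htH⟩⁻¹ * ⟨g, hgH⟩) = 1 := by
    rw [map_mul, map_inv, hval l hl htH, hlp, inv_mul_cancel]
  have hcase := hG.lay.kernel ha (commute_closure_nb hD (mul_mem (inv_mem htH) hgH)).symm ((hφ1 _).1 hdiff)
  obtain ⟨u, hu, huc, hup⟩ : ∃ u : List G, (∀ y ∈ u, y ∈ D) ∧ (∀ y ∈ u, ∀ y' ∈ u, Commute y y') ∧ u.prod = g := by
    rcases hcase with e | e
    · exact ⟨l.map lift, fun y hy => (htnb y hy).1, htc, inv_mul_eq_one.1 e⟩
    · refine ⟨a :: l.map lift, ?_, ?_, ?_⟩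
      · intro y hy
        rcases List.mem_cons.1 hy with rfl | hy
        · exact ha
        · exact (htnb y hy).1
      · intro y hy y' hy'
        rcases List.mem_cons.1 hy with ey | hy <;> rcases List.mem_cons.1 hy' with ey' | hy'
        · rw [ey, ey']
        · rw [ey]; exact (htnb y' hy').2.2
        · rw [ey']; exact (htnb y hy).2.2.symm
        · exact htc y hy y' hy'
      · rw [List.prod_cons, (Commute.list_prod_right _ a fun y hy => (htnb y hy).2.2).eq]
        exact (inv_mul_eq_iff_eq_mul.1 e).symm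
  obtain ⟨s, hs1, hs2, -, hs4, hs5, -, hs7⟩ := reduce24 hG u.length u le_rfl hu huc
  refine ⟨s.length, Nat.one_le_iff_ne_zero.2 fun e => h1 ?_, hs2, s, hs1, rfl, hs4, hs5, hs7.trans hup⟩
  rw [← hup, ← hs7, List.length_eq_zero_iff.1 e, List.prod_nil]

/-- A class of 3-transpositions consists of transpositions. -/
theorem unique_class24 [Gen D] {D' : Set G} (hD' : Cfsg.IsThreeTranspositionClass D') : D' = D := by
  classical
  have hD := hG.lay.tt
  obtain ⟨h3, ⟨x, hx, hcl⟩, -⟩ := hD'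
  obtain ⟨m, h1, hm, hxm⟩ := involution_isProd24 hG (ThreeTransp.sq_one h3 hx) (ThreeTransp.ne_one h3 hx)
  by_cases hm1 : m = 1
  · subst hm1
    have hxD := (isProd1_iff hD).1 hxm
    rw [hcl]
    ext y
    show IsConj x y ↔ _
    rw [isConj_iff]
    exact ⟨fun ⟨g, hg⟩ => hg ▸ conj_mem hD g hxD, fun hy => hG.lay.one x hxD y hy⟩
  exfalso
  haveI := gen_loc24 hG
  haveI := loc_finite hD d
  haveI := loc_finite hG.loc.lay.tt q
  haveI := gen_loc hG.loc
  obtain ⟨r, hr⟩ := loc_nonempty hG.loc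
  obtain ⟨A, B, C, E', hA, hB, hC, hE, ⟨nAB, nrA, nrB, nrC, nrE, nCE⟩, hAB, hAC, hBC, hEA, hEB, hEC, hrA, hrB, hrC,
    hrE⟩ := exists_bad_pair hG.loc.loc hr
  obtain ⟨g, hg⟩ := hG.loc.step.iso q hG.loc.mem
  obtain ⟨A1, mA, rfl⟩ := hg.surj hA
  obtain ⟨B1, mB, rfl⟩ := hg.surj hB
  obtain ⟨C1, mC, rfl⟩ := hg.surj hC
  obtain ⟨E1, mE, rfl⟩ := hg.surj hE
  obtain ⟨R1, mR, rfl⟩ := hg.surj hr
  obtain ⟨f, hf⟩ := hG.step.iso d hG.mem
  obtain ⟨a, ma, rfl⟩ := hf.surj mA.1
  obtain ⟨b, mb, rfl⟩ := hf.surj mB.1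
  obtain ⟨c, mc, rfl⟩ := hf.surj mC.1
  obtain ⟨e, me, rfl⟩ := hf.surj mE.1
  obtain ⟨r1, mr, rfl⟩ := hf.surj mR.1
  have K : ∀ {u v : G} (hu : u ∈ nb D d) (hv : v ∈ nb D d), f u ∈ nb (locSet D d) q → f v ∈ nb (locSet D d) q →
      (Commute (g (f u)) (g (f v)) ↔ Commute u v) := fun {u v} hu hv h h' => by
    rw [hg.comm _ h _ h', hf.comm u hu v hv]
  have hab := (K ma mb mA mB).1 hAB
  have hac : ¬ Commute a c := fun h => hAC ((K ma mc mA mC).2 h)
  have hbc : ¬ Commute b c := fun h => hBC ((K mb mc mB mC).2 h)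
  have hea := (K me ma mE mA).1 hEA
  have heb := (K me mb mE mB).1 hEB
  have hec := (K me mc mE mC).1 hEC
  have hra := (K mr ma mR mA).1 hrA
  have hrb := (K mr mb mR mB).1 hrB
  have hrc := (K mr mc mR mC).1 hrC
  have hre := (K mr me mR mE).1 hrE
  have nab : a ≠ b := fun h => nAB (by rw [h])
  have nce : c ≠ e := fun h => nCE (by rw [h])
  have nra : r1 ≠ a := fun h => nrA (by rw [h])
  have nrb : r1 ≠ b := fun h => nrB (by rw [h])
  have nrc : r1 ≠ c := fun h => nrC (by rw [h])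
  have nre : r1 ≠ e := fun h => nrE (by rw [h])
  have ha := ma.1; have hb := mb.1; have hc := mc.1; have he := me.1
  have hdD := hG.mem
  have hin : ∀ u, IsProd D m u → u ∈ D' := fun u hu => by
    rw [hcl]
    exact isProd_conj24 hG h1 hm hxm hu
  obtain ⟨hb2, hb3⟩ := bad_product_gen hD hG.lay.tf ha hb hc he hab nab hac hbc hea heb hec
  have fin : ∀ u v, IsProd D m u → IsProd D m v → u * v = (a * b) * (c * e) → False := fun u v hu hv huv => by
    rcases h3.2 _ (hin u hu) _ (hin v hv) with h | h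
    · exact hb2 (huv ▸ h)
    · exact hb3 (huv ▸ h)
  obtain rfl | rfl | rfl : m = 2 ∨ m = 3 ∨ m = 4 := by omega
  · exact fin (a * b) (c * e)
      ⟨[a, b], by simp [nab], rfl, by simp [ha, hb], by simp [hab, hab.symm, Commute.refl], by simp⟩
      ⟨[c, e], by simp [nce], rfl, by simp [hc, he], by simp [hec, hec.symm, Commute.refl], by simp⟩ rfl
  · refine fin (d * (a * b)) (d * (c * e))
      ⟨[d, a, b], by simp [nab, ma.2.1.symm, mb.2.1.symm], rfl, by simp [hdD, ha, hb],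
        by simp [hab, hab.symm, ma.2.2, ma.2.2.symm, mb.2.2, mb.2.2.symm, Commute.refl], by simp⟩
      ⟨[d, c, e], by simp [nce, mc.2.1.symm, me.2.1.symm], rfl, by simp [hdD, hc, he],
        by simp [hec, hec.symm, mc.2.2, mc.2.2.symm, me.2.2, me.2.2.symm, Commute.refl], by simp⟩ ?_
    rw [(ma.2.2.mul_right mb.2.2).eq, show a * b * d * (d * (c * e)) = a * b * (d * d) * (c * e) by group,
      sq hD hdD, mul_one]
  · refine fin (d * r1 * (a * b)) (d * r1 * (c * e))
      ⟨[d, r1, a, b], by simp [nab, nra, nrb, mr.2.1.symm, ma.2.1.symm, mb.2.1.symm], rfl,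
        by simp [hdD, mr.1, ha, hb],
        by simp [hab, hab.symm, hra, hra.symm, hrb, hrb.symm, mr.2.2, mr.2.2.symm, ma.2.2, ma.2.2.symm, mb.2.2,
          mb.2.2.symm, Commute.refl], by simp [mul_assoc]⟩
      ⟨[d, r1, c, e], by simp [nce, nrc, nre, mr.2.1.symm, mc.2.1.symm, me.2.1.symm], rfl,
        by simp [hdD, mr.1, hc, he],
        by simp [hec, hec.symm, hrc, hrc.symm, hre, hre.symm, mr.2.2, mr.2.2.symm, mc.2.2, mc.2.2.symm, me.2.2,
          me.2.2.symm, Commute.refl], by simp [mul_assoc]⟩ ?_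
    have cab : Commute (d * r1) (a * b) :=
      ((ma.2.2.mul_right mb.2.2).mul_left (hra.mul_right hrb))
    have sdr : d * r1 * (d * r1) = 1 := by
      rw [mr.2.2.symm.mul_mul_mul_comm d r1, sq hD hdD, sq hD mr.1, one_mul]
    rw [cab.eq, mul_assoc (a * b), ← mul_assoc (d * r1) (d * r1), sdr, one_mul]

end Cfsg.Agent.TT95
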