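import Cfsg.Agent.TT95.Kernel
import Cfsg.Agent.TT95.Triples

/-!
Numerical and transitivity properties of the commuting graph of a class of 3-transpositions, as used to
pass from one member of the tower M(22), M(23), M(24) to the next.
-/

set_option autoImplicit false
set_option linter.unusedSectionVars false

namespace Cfsg.Agent.TT95

/-- An induced four-cycle. -/
def Quad {G : Type*} [Group G] (D : Set G) (a b c d : G) : Prop :=
  a ∈ D ∧ c ∈ far D a ∧ b ∈ common D a c ∧ d ∈ common D a c ∧ d ∈ far D b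

/-- All ordered pairs of noncommuting members are conjugate. -/
def TransFar {G : Type*} [Group G] (D : Set G) : Prop :=
  ∀ a b a' b', a ∈ D → b ∈ far D a → a' ∈ D → b' ∈ far D a' →
    ∃ g : G, g * a * g⁻¹ = a' ∧ g * b * g⁻¹ = b'

/-- All induced four-cycles are conjugate. -/
def TransQuads {G : Type*} [Group G] (D : Set G) : Prop :=
  ∀ a b c d a' b' c' d', Quad D a b c d → Quad D a' b' c' d' →
    ∃ g : G, g * a * g⁻¹ = a' ∧ g * b * g⁻¹ = b' ∧ g * c * g⁻¹ = c' ∧ g * d * g⁻¹ = d'

/-- The commuting graph has `n` members, valency `k`, `l` common neighbours on an edge, `s` on a non-edge,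
and `t` is the valency of the graph induced on the latter. -/
structure Lay {G : Type*} [Group G] (D : Set G) (n k l s t : ℕ) : Prop where
  tt : TTSet D
  center : Subgroup.center G = ⊥
  one : OneClass D
  tf : TwinFree D
  conn : Conn D
  nbConn : ∀ a ∈ D, Conn (nb D a)
  farConn : ∀ a ∈ D, Conn (far D a)
  card_D : D.ncard = n
  card_nb : ∀ a ∈ D, (nb D a).ncard = k
  card_edge : ∀ a ∈ D, ∀ b ∈ nb D a, (common D a b).ncard = l
  card_far : ∀ a ∈ D, ∀ d ∈ far D a, (common D a d).ncard = s
  card_deg : ∀ a ∈ D, ∀ d ∈ far D a, ∀ x ∈ common D a d, (common D a d ∩ nb D x).ncard = t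
  pairs : TransPairs D
  farPairs : TransFar D
  dperp : ∀ a ∈ D, ∀ x ∈ far D a, ∀ y ∈ far D a, (∀ b ∈ common D a x, Commute b y) → y = x ∨ y = a * x * a

variable {G : Type*} [Group G] {D : Set G}

theorem mem_nb_comm {a b : G} (ha : a ∈ D) (hb : b ∈ nb D a) : a ∈ nb D b :=
  ⟨ha, hb.2.1.symm, hb.2.2.symm⟩

theorem mem_far_comm {a b : G} (ha : a ∈ D) (hb : b ∈ far D a) : a ∈ far D b :=
  ⟨ha, fun h => hb.2 h.symm⟩

theorem common_symm (D : Set G) (a b : G) : common D a b = common D b a := Set.inter_comm _ _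

theorem mem_nb_or_far {a x : G} (hx : x ∈ D) : x = a ∨ x ∈ nb D a ∨ x ∈ far D a := by
  by_cases h : x = a
  · exact Or.inl h
  by_cases hc : Commute a x
  · exact Or.inr (Or.inl ⟨hx, h, hc⟩)
  · exact Or.inr (Or.inr ⟨hx, hc⟩)

variable {n k l s t : ℕ} (hL : Lay D n k l s t)

include hL

theorem Lay.exists_common_far {a x : G} (ha : a ∈ D) (hx : x ∈ far D a) : ∃ b, b ∈ common D a x :=
  exists_common_path hL.tt ha (hL.conn a ha x hx.1) hx

/-- An element centralising a member and all its neighbours is that member or trivial. -/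
theorem Lay.kernel {a z : G} (ha : a ∈ D) (hza : Commute z a) (hz : ∀ b ∈ nb D a, Commute z b) :
    z = 1 ∨ z = a := by
  have hcen : ∀ w : G, (∀ x ∈ D, Path D a x → Commute w x) → w = 1 := fun w hw => by
    have : w ∈ Subgroup.center G := by
      rw [← centralizer_D_eq_center hL.tt]
      exact Subgroup.mem_centralizer_iff.2 fun x hx => (hw x hx (hL.conn a ha x hx)).eq.symm
    rwa [hL.center, Subgroup.mem_bot] at this
  rcases kernel_path hL.tt ha hza hz (fun x hx y hy _ => hL.dperp a ha x hx y hy)
      (fun x y hx hy _ _ => hL.farConn a ha x hx y hy) with h | h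
  · exact Or.inl (hcen z h)
  · right
    rw [eq_inv_of_mul_eq_one_right (hcen _ h), inv_eq hL.tt ha]

theorem Lay.card_split {a : G} (ha : a ∈ D) (hfin : D.Finite) : n = 1 + k + (far D a).ncard := by
  have e : D = insert a (nb D a ∪ far D a) := by
    ext x
    refine ⟨fun hx => ?_, fun hx => ?_⟩
    · rcases mem_nb_or_far (a := a) hx with h | h | h
      · exact Or.inl h
      · exact Or.inr (Or.inl h)
      · exact Or.inr (Or.inr h)
    · rcases hx with h | h | h
      · exact h ▸ ha
      · exact h.1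
      · exact h.1
  have h1 : a ∉ nb D a ∪ far D a := fun h => h.elim (fun h => h.2.1 rfl) fun h => h.2 (Commute.refl a)
  have h2 : Disjoint (nb D a) (far D a) := Set.disjoint_left.2 fun x hx hy => hy.2 hx.2.2
  have f1 : (nb D a).Finite := hfin.subset fun x h => h.1
  have f2 : (far D a).Finite := hfin.subset fun x h => h.1
  rw [← hL.card_D, ← hL.card_nb a ha]
  conv_lhs => rw [e]
  rw [Set.ncard_insert_of_notMem h1 (f1.union f2), Set.ncard_union_eq h2 f1 f2]
  ring

end Cfsg.Agent.TT95
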