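import Cfsg.Agent.TT95.NormPerm

/-!
Type M(22): subgroups of order five fixing a transposition.
-/

set_option autoImplicit false
set_option linter.unusedSectionVars false

namespace Cfsg.Agent.TT95

open Cfsg.Agent.TT95.U6

/-- The transpositions of the symmetric group of degree five. -/
def swaps5 : Finset (Equiv.Perm (Fin 5)) :=
  ((Finset.univ ×ˢ Finset.univ).filter fun p : Fin 5 × Fin 5 => p.1 < p.2).image fun p => Equiv.swap p.1 p.2

theorem card_swaps5 : swaps5.card = 10 := by decide +kernel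

theorem mem_swaps5 {i j : Fin 5} (h : i ≠ j) : Equiv.swap i j ∈ swaps5 := by
  rw [swaps5, Finset.mem_image]
  rcases lt_or_gt_of_ne h with h' | h'
  · exact ⟨(i, j), by simp [h'], rfl⟩
  · exact ⟨(j, i), by simp [h'], Equiv.swap_comm _ _⟩

theorem of_mem_swaps5 {s : Equiv.Perm (Fin 5)} (h : s ∈ swaps5) : ∃ i j, i ≠ j ∧ Equiv.swap i j = s := by
  rw [swaps5, Finset.mem_image] at h
  obtain ⟨⟨i, j⟩, hp, rfl⟩ := h
  simp only [Finset.mem_filter, Finset.mem_product, Finset.mem_univ, and_self, true_and] at hp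
  exact ⟨i, j, ne_of_lt hp, rfl⟩

theorem swap5_step1 : ∀ s ∈ swaps5, s ≠ Equiv.swap 0 1 → s * Equiv.swap 0 1 = Equiv.swap 0 1 * s →
    ∃ t ∈ [(1 : Equiv.Perm (Fin 5)), Equiv.swap 2 4, Equiv.swap 2 3],
      t * Equiv.swap 0 1 * t⁻¹ = Equiv.swap 0 1 ∧ t * s * t⁻¹ = Equiv.swap 3 4 := by
  decide +kernel

theorem swap5_step2 : ∀ s ∈ swaps5, s * Equiv.swap 0 1 = Equiv.swap 0 1 * s →
    s * Equiv.swap 3 4 ≠ Equiv.swap 3 4 * s →
    ∃ t ∈ [(1 : Equiv.Perm (Fin 5)), Equiv.swap 3 4],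
      t * Equiv.swap 0 1 * t⁻¹ = Equiv.swap 0 1 ∧ t * Equiv.swap 3 4 * t⁻¹ = Equiv.swap 3 4 ∧
        t * s * t⁻¹ = Equiv.swap 2 3 := by
  decide +kernel

theorem swap5_step3 : ∀ s ∈ swaps5, s * Equiv.swap 0 1 ≠ Equiv.swap 0 1 * s →
    s * Equiv.swap 3 4 = Equiv.swap 3 4 * s →
    ∃ t ∈ [(1 : Equiv.Perm (Fin 5)), Equiv.swap 0 1],
      t * Equiv.swap 0 1 * t⁻¹ = Equiv.swap 0 1 ∧ t * Equiv.swap 3 4 * t⁻¹ = Equiv.swap 3 4 ∧
        t * Equiv.swap 2 3 * t⁻¹ = Equiv.swap 2 3 ∧ t * s * t⁻¹ = Equiv.swap 1 2 := by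
  decide +kernel

theorem fix5_isPt : isPt 1645 = true ∧ isPt 2473 = true ∧ isPt 3297 = true := by decide +kernel

variable {G : Type*} [Group G] [Finite G] {D : Set G} (hC : Cfg22 D) [Gen D] (hcore : Core22 G D) {X : Subgroup G}
  (hX : Nat.card X = 5)

include hC hcore hX

theorem five_nb {v : G} (hv : v ∈ D) (hXv : X ≤ Subgroup.centralizer ({v} : Set G)) :
    ∃ b1 b2 b3, ¬ Commute b1 b2 ∧ ¬ Commute b1 b3 ∧ ¬ Commute b2 b3 ∧
      nb D v ∩ fixD D X = {b1, b2, b3} := by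
  obtain ⟨γ, y, hy, hyX⟩ := exists_adapted hC hcore hv (r := 5) (by norm_num) (by decide) (by norm_num) data5 hXv hX
  have hc := fix5_check
  rw [Bool.and_eq_true, Bool.and_eq_true] at hc
  obtain ⟨⟨h1, -⟩, h2⟩ := hc
  have hfix : ∀ x ∈ pts, Nat.beq (pim word5 x) x = inMask (maskOf fix5) x := fun x hx =>
    beq_iff_eq.1 (allP_iff.1 h1 x hx)
  have hne : ∀ p ∈ fix5, ∀ q ∈ fix5, Nat.beq p q = true ∨ orth p q = false := fun p hp q hq => by
    have := allP_iff.1 (allP_iff.1 (of_decide_eq_true h2) p hp) q hq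
    simpa only [Bool.or_eq_true, Bool.not_eq_true'] using this
  obtain ⟨p1, p2, p3⟩ := fix5_isPt
  have hno : ∀ {p q : ℕ}, p ∈ fix5 → q ∈ fix5 → p ≠ q → isPt p = true → isPt q = true → ¬ Commute (γ p) (γ q) := by
    intro p q hp hq hpq ip iq h
    have h1 := (hy.loc.comm p q ip iq).1 h
    rcases hne p hp q hq with e | e
    · exact hpq (Nat.eq_of_beq_eq_true e)
    · rw [h1] at e; exact Bool.noConfusion e
  refine ⟨γ 1645, γ 2473, γ 3297, hno (by simp [fix5]) (by simp [fix5]) (by norm_num) p1 p2,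
    hno (by simp [fix5]) (by simp [fix5]) (by norm_num) p1 p3,
    hno (by simp [fix5]) (by simp [fix5]) (by norm_num) p2 p3, ?_⟩
  have hiff : ∀ p, isPt p = true → (γ p ∈ fixD D X ↔ p ∈ fix5) := by
    intro p hp
    rw [← inMask_maskOf (l := fix5), ← hfix p (mem_pts.2 hp)]
    constructor
    · intro h
      rw [← hyX] at h
      have hcom : Commute (γ p) y := mem_centralizer_zpowers.1 h.2
      obtain ⟨q1, q2⟩ := hy.act p hp
      rw [hcom.symm.eq, mul_inv_cancel_right] at q2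
      rw [← hy.loc.inj p _ hp q1 q2]
      exact Nat.beq_refl p
    · intro h
      refine ⟨(hy.loc.mem p hp).1, ?_⟩
      rw [← hyX]
      refine mem_centralizer_zpowers.2 ?_
      obtain ⟨-, q2⟩ := hy.act p hp
      rw [Nat.eq_of_beq_eq_true h] at q2
      exact (mul_inv_eq_iff_eq_mul.1 q2).symm
  ext x
  constructor
  · rintro ⟨hx, hxX⟩
    obtain ⟨p, hp, rfl⟩ := hy.loc.surj x hx
    have := (hiff p hp).1 hxX
    simp only [fix5, List.mem_cons, List.not_mem_nil, or_false] at this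
    rcases this with rfl | rfl | rfl <;> simp
  · rintro (rfl | rfl | rfl)
    · exact ⟨hy.loc.mem _ p1, (hiff _ p1).2 (by simp [fix5])⟩
    · exact ⟨hy.loc.mem _ p2, (hiff _ p2).2 (by simp [fix5])⟩
    · exact ⟨hy.loc.mem _ p3, (hiff _ p3).2 (by simp [fix5])⟩

omit hcore hX in
theorem five_nb_pairwise {S : Set G} {b1 b2 b3 : G} (h12 : ¬ Commute b1 b2) (h13 : ¬ Commute b1 b3)
    (h23 : ¬ Commute b2 b3) (hS : S = {b1, b2, b3}) : ∀ u ∈ S, ∀ w ∈ S, u ≠ w → ¬ Commute u w := by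
  subst hS
  rintro u (rfl | rfl | rfl) w (rfl | rfl | rfl) hne <;>
    first
      | exact absurd rfl hne
      | assumption
      | (intro h; exact h12 h.symm)
      | (intro h; exact h13 h.symm)
      | (intro h; exact h23 h.symm)

variable {a : G} (ha : a ∈ D) (hXH : X ≤ Subgroup.centralizer ({a} : Set G))

include ha hXH

theorem five_local :
    Nat.card (Subgroup.centralizer ({a} : Set G) ⊓ Subgroup.normalizer (X : Set G) : Subgroup G) = 240 ∧
    Nat.card (Subgroup.centralizer ({a} : Set G) ⊓ Subgroup.centralizer (X : Set G) : Subgroup G) = 60 := by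
  obtain ⟨γ, y, hy, hyX⟩ := exists_adapted hC hcore ha (r := 5) (by norm_num) (by decide) (by norm_num) data5 hXH hX
  obtain ⟨b1, b2, b3, h12, -, -, hset⟩ := five_nb hC hcore hX ha hXH
  have hb1 : b1 ∈ nb D a ∩ fixD D X := by rw [hset]; simp
  have hb2 : b2 ∈ nb D a ∩ fixD D X := by rw [hset]; simp
  set H := Subgroup.centralizer ({a} : Set G) with hH
  obtain ⟨e, -, hNC, hmax⟩ := norm_cent H X (by norm_num : Nat.Prime 5) hX
  have hin := inner_check
  rw [Bool.and_eq_true] at hin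
  have h5 := of_decide_eq_true hin.2
  rw [Bool.and_eq_true] at h5
  obtain ⟨v1, v2⟩ := h5
  obtain ⟨h, hh, hhk⟩ := IsWit.exists_inner hC ha hy (by decide) v1
    (fun x hx => Nat.eq_of_beq_eq_true (allP_iff.1 v2 x hx))
  have he : e = 4 := hmax h y 2 hh hyX hhk (by intro j h0 h1; interval_cases j <;> norm_num)
  obtain ⟨-, n, hn, hn'⟩ := sylow_count H X hXH (by norm_num : Nat.Prime 5) hX
    (by rw [card_centralizer hC ha hcore]; norm_num)
  rw [card_centralizer hC ha hcore, hNC] at hn'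
  have hle : Nat.card (H ⊓ Subgroup.centralizer (X : Set G) : Subgroup G) ≤ 180 := by
    have := IsWit.card_cent_le hC ha hy (dataOK_spec data5).2.2.2.1
      (fun g hg σ hi hσ h1 => sols5_spec hC ha hy.loc hg hi hσ h1)
    rw [← hyX, centralizer_zpowers]
    exact this
  have h3 : 3 ∣ Nat.card (H ⊓ Subgroup.centralizer (X : Set G) : Subgroup G) := by
    have hne : b1 * b2 ≠ 1 := fun e => h12 (by
      rw [eq_inv_of_mul_eq_one_left e, inv_eq hC.tt hb2.1.1])
    haveI := Fact.mk Nat.prime_three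
    rw [← orderOf_eq_prime (ThreeTransp.pow_three_of_not_commute hC.tt.1 hb1.1.1 hb2.1.1 h12) hne]
    refine Subgroup.orderOf_dvd_natCard _ (mul_mem ?_ ?_)
    · exact ⟨Subgroup.mem_centralizer_singleton_iff.2 hb1.1.2.2.symm.eq, hb1.2.2⟩
    · exact ⟨Subgroup.mem_centralizer_singleton_iff.2 hb2.1.2.2.symm.eq, hb2.2.2⟩
  obtain ⟨c', hc⟩ := two_r_dvd hC hcore ha (by decide : Odd 5) hX hXH (comm_of_zpowers hyX)
  rw [hNC]
  rw [← hH] at hc
  generalize Nat.card (H ⊓ Subgroup.centralizer (X : Set G) : Subgroup G) = c at hc hn' hle h3 ⊢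
  subst hc
  subst he
  have hc' : c' ≤ 18 := by omega
  interval_cases c' <;> omega

theorem five_far_pair {b : G} (hb : b ∈ nb D a ∩ fixD D X) :
    ∃ e ∈ far D a ∩ fixD D X, Commute b e ∧ a * e * a ∈ far D a ∩ fixD D X ∧ a * e * a ≠ e ∧
      ∀ x ∈ far D a ∩ fixD D X, Commute b x → x = e ∨ x = a * e * a := by
  have hXb : X ≤ Subgroup.centralizer ({b} : Set G) := le_centralizer_of_fix hb.2.2
  obtain ⟨c1, c2, c3, h12, h13, h23, hset⟩ := five_nb hC hcore hX hb.1.1 hXb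
  have hpw := five_nb_pairwise hC h12 h13 h23 hset
  have hab : a ∈ nb D b ∩ fixD D X := ⟨mem_nb_comm ha hb.1, self_mem_fixD ha hXH⟩
  have hsub : (far D a ∩ fixD D X ∩ {x | Commute b x}) = (nb D b ∩ fixD D X) \ {a} := by
    ext x
    constructor
    · rintro ⟨⟨hxa, hxX⟩, hbx⟩
      exact ⟨⟨⟨hxa.1, fun e => hxa.2 (e ▸ hb.1.2.2), hbx⟩, hxX⟩, fun e => hxa.2 (by rw [Set.mem_singleton_iff.1 e])⟩
    · rintro ⟨hx, hxa⟩
      exact ⟨⟨⟨hx.1.1, fun h => hpw a hab x hx (Ne.symm (by simpa using hxa)) h⟩, hx.2⟩, hx.1.2.2⟩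
  have hcard : (nb D b ∩ fixD D X).ncard = 3 := by
    rw [hset, Set.ncard_insert_of_notMem, Set.ncard_pair (fun e : c2 = c3 => h23 (e ▸ Commute.refl c2))]
    rintro (h | h)
    · exact h12 (h ▸ Commute.refl c1)
    · exact h13 ((Set.mem_singleton_iff.1 h) ▸ Commute.refl c1)
  have h2 : (far D a ∩ fixD D X ∩ {x | Commute b x}).ncard = 2 := by
    rw [hsub, Set.ncard_sdiff_singleton_of_mem hab, hcard]
  obtain ⟨e, he, hbe⟩ : (far D a ∩ fixD D X ∩ {x | Commute b x}).Nonempty :=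
    Set.nonempty_of_ncard_ne_zero (by omega)
  have hae : a * e * a ≠ e := fun h => he.1.2 (by
    show a * e = e * a
    calc a * e = a * e * (a * a) := by rw [sq hC.tt ha, mul_one]
      _ = (a * e * a) * a := by group
      _ = e * a := by rw [h])
  have hae' : a * e * a ∈ far D a ∩ fixD D X := by
    refine ⟨⟨conj_mem' hC.tt he.1.1 ha, fun h => he.1.2 ?_⟩, ?_⟩
    · have := (Commute.conj_iff a).2 h
      rwa [inv_eq hC.tt ha, sq hC.tt ha, one_mul, show a * (a * e * a) * a = (a * a) * e * (a * a) by group,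
        sq hC.tt ha, one_mul, mul_one] at this
    · have := conj_fixD hC (Subgroup.centralizer_le_normalizer _ (self_mem_fixD ha hXH).2) he.2
      rwa [inv_eq hC.tt ha] at this
  refine ⟨e, he, hbe, hae', hae, fun x hx hbx => ?_⟩
  have heq : ({e, a * e * a} : Set G) = far D a ∩ fixD D X ∩ {x | Commute b x} := by
    refine Set.eq_of_subset_of_ncard_le ?_ (by rw [h2, Set.ncard_pair hae.symm])
    rintro x (rfl | rfl)
    · exact ⟨he, hbe⟩
    · exact ⟨hae', (hb.1.2.2.symm.mul_right hbe).mul_right hb.1.2.2.symm⟩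
  have : x ∈ ({e, a * e * a} : Set G) := heq.symm ▸ ⟨hx, hbx⟩
  simpa using this

theorem five_chain :
    ∃ e b1 b3, e ∈ far D a ∩ fixD D X ∧ b1 ∈ nb D a ∩ fixD D X ∧ b3 ∈ nb D a ∩ fixD D X ∧
      ¬ Commute b1 b3 ∧ Commute e b3 ∧ ¬ Commute e b1 ∧ (fixD D X).ncard = 10 := by
  obtain ⟨b1, b2, b3, h12, h13, h23, hset⟩ := five_nb hC hcore hX ha hXH
  have m1 : b1 ∈ nb D a ∩ fixD D X := by rw [hset]; simp
  have m2 : b2 ∈ nb D a ∩ fixD D X := by rw [hset]; simp
  have m3 : b3 ∈ nb D a ∩ fixD D X := by rw [hset]; simp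
  obtain ⟨e1, he1, c1, he1', -, u1⟩ := five_far_pair hC hcore hX ha hXH m1
  obtain ⟨e2, he2, c2, he2', -, u2⟩ := five_far_pair hC hcore hX ha hXH m2
  obtain ⟨e3, he3, c3, he3', hne3, u3⟩ := five_far_pair hC hcore hX ha hXH m3
  set T := far D a ∩ fixD D X with hT
  have hnb3 : (nb D a ∩ fixD D X).ncard = 3 := by
    rw [hset, Set.ncard_insert_of_notMem, Set.ncard_pair (fun e : b2 = b3 => h23 (e ▸ Commute.refl b2))]
    rintro (h | h)
    · exact h12 (h ▸ Commute.refl b1)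
    · exact h13 ((Set.mem_singleton_iff.1 h) ▸ Commute.refl b1)
  have hF : fixD D X = insert a ((nb D a ∩ fixD D X) ∪ T) := by
    ext x
    constructor
    · intro hx
      rcases mem_nb_or_far (a := a) hx.1 with h | h | h
      · exact Or.inl h
      · exact Or.inr (Or.inl ⟨h, hx⟩)
      · exact Or.inr (Or.inr ⟨h, hx⟩)
    · rintro (rfl | h | h)
      · exact self_mem_fixD ha hXH
      · exact h.2
      · exact h.2
  have hcardF : (fixD D X).ncard = 4 + T.ncard := by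
    rw [hF, Set.ncard_insert_of_notMem, Set.ncard_union_eq, hnb3]
    · omega
    · exact Set.disjoint_left.2 fun x hx hy => hy.1.2 hx.1.2.2
    · rintro (h | h)
      · exact h.1.2.1 rfl
      · exact h.1.2 (Commute.refl a)
  have hcount := fixed_mod X (by norm_num : Nat.Prime 5) hX D (fun g _ s hs => conj_mem hC.tt g hs)
  rw [ncard_D hC ha, show D ∩ (Subgroup.centralizer (X : Set G) : Set G) = fixD D X from rfl, hcardF] at hcount
  -- every far member commutes with one of the three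
  have hcov : T ⊆ {e1, a * e1 * a} ∪ {e2, a * e2 * a} ∪ {e3, a * e3 * a} := by
    intro x hx
    obtain ⟨n, hn, hnx⟩ := far_trans hC hcore ha (by norm_num : Nat.Prime 5) (by norm_num) hXH hX he3 hx
    have hn' := Subgroup.mem_inf.1 hn
    have hb : n * b3 * n⁻¹ ∈ nb D a ∩ fixD D X := by
      refine ⟨?_, conj_fixD hC hn'.2 m3.2⟩
      have := (nb_conj hC.tt n a b3).2 m3.1
      rwa [mul_inv_eq_iff_eq_mul.2 (Subgroup.mem_centralizer_singleton_iff.1 hn'.1)] at this
    have hcx : Commute (n * b3 * n⁻¹) x := hnx ▸ (Commute.conj_iff n).2 c3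
    rw [hset] at hb
    rcases hb with h | h | h
    · rw [h] at hcx
      rcases u1 x hx hcx with e | e <;> simp [e]
    · rw [h] at hcx
      rcases u2 x hx hcx with e | e <;> simp [e]
    · rw [Set.mem_singleton_iff.1 h] at hcx
      rcases u3 x hx hcx with e | e <;> simp [e]
  have hpair : ∀ e : G, ({e, a * e * a} : Set G).ncard ≤ 2 := fun e =>
    (Set.ncard_insert_le _ _).trans (by simp)
  have h6 : T.ncard ≤ 6 := (Set.ncard_le_ncard hcov).trans <| (Set.ncard_union_le _ _).trans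
    (Nat.add_le_add ((Set.ncard_union_le _ _).trans (Nat.add_le_add (hpair e1) (hpair e2))) (hpair e3))
  have h2 : 2 ≤ T.ncard := by
    rw [← Set.ncard_pair hne3.symm]
    exact Set.ncard_le_ncard (by rintro x (rfl | rfl); exacts [he3, he3'])
  have hT6 : T.ncard = 6 := by omega
  refine ⟨e3, b1, b3, he3, m1, m3, h13, c3.symm, fun h => ?_, by omega⟩
  have hle : T ⊆ {e1, a * e1 * a} ∪ {e2, a * e2 * a} := by
    intro x hx
    rcases hcov hx with h' | h'
    · exact h'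
    · left
      rcases h' with rfl | rfl
      · simpa using u1 x hx h.symm
      · simpa using u1 _ hx ((m1.1.2.2.symm.mul_right h.symm).mul_right m1.1.2.2.symm)
  have := (Set.ncard_le_ncard hle).trans ((Set.ncard_union_le _ _).trans (Nat.add_le_add (hpair e1) (hpair e2)))
  omega

theorem five_hom :
    ∃ ψ : Equiv.Perm (Fin 5) →* G, Function.Injective ψ ∧ ψ (Equiv.swap 0 1) = a ∧
      ψ.range = Subgroup.closure (fixD D X) ∧ fixD D X = ψ '' (swaps5 : Set (Equiv.Perm (Fin 5))) := by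
  obtain ⟨e, b1, b3, he, m1, m3, h13, ce3, ce1, h10⟩ := five_chain hC hcore hX ha hXH
  obtain ⟨ψ, hψ, hψr⟩ := exists_perm_hom (H := G) 4 ![a, e, b1, b3]
    (by intro i; fin_cases i
        · exact sq hC.tt ha
        · exact sq hC.tt he.1.1
        · exact sq hC.tt m1.1.1
        · exact sq hC.tt m3.1.1)
    (by
      intro i j hij
      fin_cases i <;> fin_cases j <;> simp at hij ⊢
      · exact braid hC.tt ha he.1.1 he.1.2
      · exact braid hC.tt he.1.1 m1.1.1 ce1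
      · exact braid hC.tt m1.1.1 m3.1.1 h13)
    (by
      intro i j hij
      fin_cases i <;> fin_cases j <;> simp at hij ⊢
      · exact m1.1.2.2
      · exact m3.1.2.2
      · exact ce3)
  have s01 : ψ (Equiv.swap 0 1) = a := hψ 0
  have s12 : ψ (Equiv.swap 1 2) = e := hψ 1
  have hinj : Function.Injective ψ := perm_hom_injective (Or.inr rfl) ψ (p := 0) (q := 1) (s := 2) (by decide)
    (by decide) (by decide) (by rw [s01, s12]; exact fun h => he.1.2 (h ▸ Commute.refl a))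
  have hgen : Set.range ![a, e, b1, b3] ⊆ fixD D X := by
    rintro _ ⟨i, rfl⟩
    fin_cases i
    · exact self_mem_fixD ha hXH
    · exact he.2
    · exact m1.2
    · exact m3.2
  have hrC : ψ.range ≤ Subgroup.centralizer (X : Set G) := by
    rw [hψr, Subgroup.closure_le]
    exact fun x hx => (hgen hx).2
  have hsub : ψ '' (swaps5 : Set (Equiv.Perm (Fin 5))) ⊆ fixD D X := by
    rintro _ ⟨s, hs, rfl⟩
    obtain ⟨i, j, hij, rfl⟩ := of_mem_swaps5 hs
    obtain ⟨g, hg⟩ := isConj_iff.1 (Equiv.Perm.isConj_swap (show (0 : Fin 5) ≠ 1 by decide) hij)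
    rw [← hg, map_mul, map_mul, map_inv, s01]
    exact conj_fixD hC (Subgroup.centralizer_le_normalizer _ (hrC ⟨g, rfl⟩)) (self_mem_fixD ha hXH)
  have heq : fixD D X = ψ '' (swaps5 : Set (Equiv.Perm (Fin 5))) := by
    refine (Set.eq_of_subset_of_ncard_le hsub ?_).symm
    rw [h10, Set.ncard_image_of_injective _ hinj, Set.ncard_coe_finset, card_swaps5]
  refine ⟨ψ, hinj, s01, le_antisymm ?_ ?_, heq⟩
  · rw [hψr, Subgroup.closure_le]
    exact fun x hx => Subgroup.subset_closure (hgen hx)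
  · rw [Subgroup.closure_le, heq]
    rintro _ ⟨s, -, rfl⟩
    exact ⟨s, rfl⟩

theorem five_fix : (fixD D X).ncard = 10 := by
  obtain ⟨_, _, _, -, -, -, -, -, -, h⟩ := five_chain hC hcore hX ha hXH
  exact h

theorem five_norm : Nat.card (Subgroup.normalizer (X : Set G)) = 2400 ∧
    Nat.card (Subgroup.centralizer (X : Set G)) = 600 := by
  obtain ⟨ψ, hinj, h01, hr, himg⟩ := five_hom hC hcore hX ha hXH
  have hS : Subgroup.closure (fixD D X) ≤ Subgroup.centralizer (X : Set G) := by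
    rw [Subgroup.closure_le]
    exact fun x hx => hx.2
  have htr : ∀ x ∈ fixD D X, ∃ g ∈ Subgroup.centralizer (X : Set G), g * a * g⁻¹ = x := by
    intro x hx
    rw [himg] at hx
    obtain ⟨s, hs, rfl⟩ := hx
    obtain ⟨i, j, hij, rfl⟩ := of_mem_swaps5 hs
    obtain ⟨g, hg⟩ := isConj_iff.1 (Equiv.Perm.isConj_swap (show (0 : Fin 5) ≠ 1 by decide) hij)
    exact ⟨ψ g, hS (hr ▸ ⟨g, rfl⟩), by rw [← hg, map_mul, map_mul, map_inv, h01]⟩
  obtain ⟨l1, l2⟩ := five_local hC hcore hX ha hXH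
  constructor
  · rw [card_orbit _ a (fixD D X) (fun g hg => conj_fixD hC hg (self_mem_fixD ha hXH))
      (fun x hx => by
        obtain ⟨g, hg, e⟩ := htr x hx
        exact ⟨g, Subgroup.centralizer_le_normalizer _ hg, e⟩), five_fix hC hcore hX ha hXH, l1]
  · rw [card_orbit _ a (fixD D X) (fun g hg => conj_fixD hC (Subgroup.centralizer_le_normalizer _ hg)
      (self_mem_fixD ha hXH)) htr, five_fix hC hcore hX ha hXH, l2]

/-- Every element of the normaliser acts on the fixed transpositions as one of the subgroup they generate. -/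
theorem five_adjust {g : G} (hg : g ∈ Subgroup.normalizer (X : Set G)) :
    ∃ s ∈ Subgroup.closure (fixD D X), s * g ∈ Subgroup.centralizer (fixD D X) := by
  obtain ⟨ψ, hinj, h01, hr, himg⟩ := five_hom hC hcore hX ha hXH
  have hS : Subgroup.closure (fixD D X) ≤ Subgroup.centralizer (X : Set G) := by
    rw [Subgroup.closure_le]
    exact fun x hx => hx.2
  have hψN : ∀ t, ψ t ∈ Subgroup.normalizer (X : Set G) := fun t =>
    Subgroup.centralizer_le_normalizer _ (hS (hr ▸ ⟨t, rfl⟩))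
  have pre : ∀ {w : G}, w ∈ Subgroup.normalizer (X : Set G) → ∀ s ∈ swaps5, ∃ s' ∈ swaps5, ψ s' = w * ψ s * w⁻¹ := by
    intro w hw s hs
    have := conj_fixD hC hw (show ψ s ∈ fixD D X by rw [himg]; exact ⟨s, hs, rfl⟩)
    rw [himg] at this
    exact this
  have hcom : ∀ {w : G} {s t s' t' : Equiv.Perm (Fin 5)}, ψ s' = w * ψ s * w⁻¹ → ψ t' = w * ψ t * w⁻¹ →
      (s' * t' = t' * s' ↔ s * t = t * s) := by
    intro w s t s' t' h1 h2
    rw [← hinj.eq_iff, map_mul, map_mul, h1, h2, ← hinj.eq_iff (a := s * t), map_mul, map_mul]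
    exact Commute.conj_iff w
  have comp : ∀ {w : G} {t s s' : Equiv.Perm (Fin 5)} {u : Equiv.Perm (Fin 5)}, ψ s' = w * ψ s * w⁻¹ →
      t * s' * t⁻¹ = u → ψ t * w * ψ s * (ψ t * w)⁻¹ = ψ u := by
    intro w t s s' u h1 h2
    rw [← h2, map_mul, map_mul, map_inv, h1]; group
  have hin : ∀ t, ψ t ∈ Subgroup.closure (fixD D X) := fun t => hr ▸ ⟨t, rfl⟩
  have m01 := mem_swaps5 (show (0 : Fin 5) ≠ 1 by decide)
  have m34 := mem_swaps5 (show (3 : Fin 5) ≠ 4 by decide)
  have m23 := mem_swaps5 (show (2 : Fin 5) ≠ 3 by decide)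
  have m12 := mem_swaps5 (show (1 : Fin 5) ≠ 2 by decide)
  -- move a
  obtain ⟨a', ha', ea'⟩ := pre hg _ m01
  obtain ⟨i, j, hij, rfl⟩ := of_mem_swaps5 ha'
  obtain ⟨t0, ht0⟩ := isConj_iff.1 (Equiv.Perm.isConj_swap hij (show (0 : Fin 5) ≠ 1 by decide))
  set g1 := ψ t0 * g with hg1
  have g1N : g1 ∈ Subgroup.normalizer (X : Set G) := mul_mem (hψN t0) hg
  have f1 : g1 * ψ (Equiv.swap 0 1) * g1⁻¹ = ψ (Equiv.swap 0 1) := comp ea' ht0
  -- move the member at (3 4)
  obtain ⟨s, hs, es⟩ := pre g1N _ m34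
  have hsne : s ≠ Equiv.swap 0 1 := by
    intro e
    rw [e] at es
    have := hinj (mul_left_cancel (mul_right_cancel (f1.trans es)))
    exact absurd this (by decide)
  have hsc := (hcom es f1.symm).2 (by decide)
  obtain ⟨t1, -, t1a, t1s⟩ := swap5_step1 s hs hsne hsc
  set g2 := ψ t1 * g1 with hg2
  have g2N : g2 ∈ Subgroup.normalizer (X : Set G) := mul_mem (hψN t1) g1N
  have f2 : g2 * ψ (Equiv.swap 0 1) * g2⁻¹ = ψ (Equiv.swap 0 1) := comp f1.symm t1a
  have f2' : g2 * ψ (Equiv.swap 3 4) * g2⁻¹ = ψ (Equiv.swap 3 4) := comp es t1s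
  -- move the member at (2 3)
  obtain ⟨s, hs, es⟩ := pre g2N _ m23
  obtain ⟨t2, -, t2a, t2b, t2s⟩ := swap5_step2 s hs ((hcom es f2.symm).2 (by decide))
    (fun h => absurd ((hcom es f2'.symm).1 h) (by decide))
  set g3 := ψ t2 * g2 with hg3
  have g3N : g3 ∈ Subgroup.normalizer (X : Set G) := mul_mem (hψN t2) g2N
  have f3 : g3 * ψ (Equiv.swap 0 1) * g3⁻¹ = ψ (Equiv.swap 0 1) := comp f2.symm t2a
  have f3' : g3 * ψ (Equiv.swap 3 4) * g3⁻¹ = ψ (Equiv.swap 3 4) := comp f2'.symm t2b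
  have f3'' : g3 * ψ (Equiv.swap 2 3) * g3⁻¹ = ψ (Equiv.swap 2 3) := comp es t2s
  -- move the member at (1 2)
  obtain ⟨s, hs, es⟩ := pre g3N _ m12
  obtain ⟨t3, -, t3a, t3b, t3c, t3s⟩ := swap5_step3 s hs (fun h => absurd ((hcom es f3.symm).1 h) (by decide))
    ((hcom es f3'.symm).2 (by decide))
  refine ⟨ψ t3 * ψ t2 * ψ t1 * ψ t0, mul_mem (mul_mem (mul_mem (hin t3) (hin t2)) (hin t1)) (hin t0), ?_⟩
  rw [show ψ t3 * ψ t2 * ψ t1 * ψ t0 * g = ψ t3 * g3 by rw [hg3, hg2, hg1]; group]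
  set g4 := ψ t3 * g3 with hg4
  have q1 : g4 * ψ (Equiv.swap 0 1) * g4⁻¹ = ψ (Equiv.swap 0 1) := comp f3.symm t3a
  have q2 : g4 * ψ (Equiv.swap 1 2) * g4⁻¹ = ψ (Equiv.swap 1 2) := comp es t3s
  have q3 : g4 * ψ (Equiv.swap 2 3) * g4⁻¹ = ψ (Equiv.swap 2 3) := comp f3''.symm t3c
  have q4 : g4 * ψ (Equiv.swap 3 4) * g4⁻¹ = ψ (Equiv.swap 3 4) := comp f3'.symm t3b
  have hfix : ∀ t, g4 * ψ t * g4⁻¹ = ψ t := by
    have hall : ∀ t ∈ (⊤ : Subgroup (Equiv.Perm (Fin 5))), g4 * ψ t * g4⁻¹ = ψ t := by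
      obtain ⟨cs, hcs⟩ := S2530.result 4
      rw [← cs.subgroup_closure_range_simple]
      intro t ht
      induction ht using Subgroup.closure_induction with
      | mem x hx =>
        obtain ⟨i, rfl⟩ := hx
        rw [hcs i]
        fin_cases i
        · exact q1
        · exact q2
        · exact q3
        · exact q4
      | one => simp
      | mul x y _ _ hx hy =>
        rw [map_mul, show g4 * (ψ x * ψ y) * g4⁻¹ = g4 * ψ x * g4⁻¹ * (g4 * ψ y * g4⁻¹) by group, hx, hy]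
      | inv x _ hx =>
        rw [map_inv, show g4 * (ψ x)⁻¹ * g4⁻¹ = (g4 * ψ x * g4⁻¹)⁻¹ by group, hx]
    exact fun t => hall t trivial
  rw [Subgroup.mem_centralizer_iff, himg]
  rintro _ ⟨t, -, rfl⟩
  exact (mul_inv_eq_iff_eq_mul.1 (hfix t)).symm

theorem five_structure_of_fix :
    ∃ F : Subgroup G, Nat.card F = 20 ∧ X ≤ F ∧ F ⊓ Subgroup.centralizer (X : Set G) = X ∧
      F ⊓ Subgroup.closure (fixD D X) = ⊥ ∧
      (∀ x ∈ F, ∀ y ∈ Subgroup.closure (fixD D X), x * y = y * x) ∧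
      F ⊔ Subgroup.closure (fixD D X) = Subgroup.normalizer (X : Set G) ∧
      Nonempty (Subgroup.closure (fixD D X) ≃* Equiv.Perm (Fin 5)) := by
  obtain ⟨ψ, hinj, -, hrange, himg⟩ := five_hom hC hcore hX ha hXH
  obtain ⟨hN, hCc⟩ := five_norm hC hcore hX ha hXH
  have hSC : Subgroup.closure (fixD D X) ≤ Subgroup.centralizer (X : Set G) := by
    rw [Subgroup.closure_le]
    exact fun x hx => hx.2
  set S := Subgroup.closure (fixD D X) with hS
  have hScard : Nat.card S = 120 := by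
    rw [← hrange, ← Nat.card_congr (MonoidHom.ofInjective hinj).toEquiv, Nat.card_eq_fintype_card, Fintype.card_perm,
      Fintype.card_fin]
    rfl
  have hS1 : ∀ g ∈ S, g ∈ Subgroup.centralizer (fixD D X) → g = 1 := by
    intro g hg hc
    rw [← centralizer_closure_set, ← hS, ← hrange] at hc
    exact range_center_trivial (Or.inr rfl) hinj (hrange ▸ hg) fun i j _ =>
      (Subgroup.mem_centralizer_iff.1 hc _ ⟨_, rfl⟩).symm
  set N := Subgroup.normalizer (X : Set G) with hNd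
  set K := N ⊓ Subgroup.centralizer (fixD D X) with hK
  have hSN : S ≤ N := hSC.trans (Subgroup.centralizer_le_normalizer _)
  obtain ⟨c1, hsup⟩ := card_split N S K inf_le_left hSN
    (fun g hg => by
      obtain ⟨s, hs, h⟩ := five_adjust hC hcore hX ha hXH hg
      exact ⟨s, hs, Subgroup.mem_inf.2 ⟨mul_mem (hSN hs) hg, h⟩⟩)
    (fun g hg hk => hS1 g hg (Subgroup.mem_inf.1 hk).2)
  obtain ⟨c2, -⟩ := card_split (Subgroup.centralizer (X : Set G)) S (K ⊓ Subgroup.centralizer (X : Set G))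
    inf_le_right hSC
    (fun g hg => by
      obtain ⟨s, hs, h⟩ := five_adjust hC hcore hX ha hXH (Subgroup.centralizer_le_normalizer _ hg)
      exact ⟨s, hs, Subgroup.mem_inf.2 ⟨Subgroup.mem_inf.2 ⟨mul_mem (hSN hs)
        (Subgroup.centralizer_le_normalizer _ hg), h⟩, mul_mem (hSC hs) hg⟩⟩)
    (fun g hg hk => hS1 g hg (Subgroup.mem_inf.1 (Subgroup.mem_inf.1 hk).1).2)
  rw [hN, hScard] at c1
  rw [hCc, hScard] at c2
  have hXK : X ≤ K := le_inf Subgroup.le_normalizer fun x hx =>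
    Subgroup.mem_centralizer_iff.2 fun y hy => (Subgroup.mem_centralizer_iff.1 hy.2 x hx).symm
  have hXC : X ≤ Subgroup.centralizer (X : Set G) := fun x hx =>
    Subgroup.mem_centralizer_iff.2 fun y hy => comm_of_prime_card (by norm_num : Nat.Prime 5) hX y hy x hx
  refine ⟨K, by omega, hXK, ?_, ?_, ?_, hsup, ?_⟩
  · exact (Subgroup.eq_of_le_of_card_ge (le_inf hXK hXC) (by rw [hX]; omega)).symm
  · rw [eq_bot_iff]
    intro g hg
    exact Subgroup.mem_bot.2 (hS1 g hg.2 (Subgroup.mem_inf.1 hg.1).2)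
  · intro x hx y hy
    have h := (Subgroup.mem_inf.1 hx).2
    rw [← centralizer_closure_set] at h
    exact (Subgroup.mem_centralizer_iff.1 h y hy).symm
  · exact ⟨((MulEquiv.subgroupCongr hrange).symm.trans (MonoidHom.ofInjective hinj).symm)⟩

end Cfsg.Agent.TT95
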