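import Cfsg.Agent.TT95.NormInvol
import Cfsg.Agent.TT95.NormFive

/-!
Type M(22): every subgroup of order five fixes a transposition.
-/

set_option autoImplicit false
set_option linter.unusedSectionVars false

namespace Cfsg.Agent.TT95

open Cfsg.Agent.TT95.U6

variable {G : Type*} [Group G] [Finite G] {D : Set G} (hC : Cfg22 D) [Gen D] (hcore : Core22 G D)

include hC hcore

theorem fixed_ncard_five {z : G} (hz : orderOf z = 5) (hv : ∃ v ∈ D, Commute z v) :
    {x : G | x ∈ D ∧ Commute z x}.ncard = 10 := by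
  obtain ⟨v, hv, hzv⟩ := hv
  have h := five_fix hC hcore (X := Subgroup.zpowers z) (by rw [Nat.card_zpowers, hz]) hv
    (Subgroup.zpowers_le.2 (Subgroup.mem_centralizer_singleton_iff.2 hzv.eq))
  rw [← h]
  congr 1
  ext x
  simp only [fixD, Set.mem_setOf_eq, Set.mem_inter_iff, SetLike.mem_coe, mem_centralizer_zpowers]
  exact ⟨fun h => ⟨h.1, h.2.symm⟩, fun h => ⟨h.1, h.2.symm⟩⟩

theorem five_pair :
    ∃ y s t : G, orderOf y = 5 ∧ orderOf s = 5 ∧ Commute y s ∧
      Disjoint (Subgroup.zpowers y) (Subgroup.zpowers s) ∧ (∃ v ∈ D, Commute y v) ∧ (∃ v ∈ D, Commute s v) ∧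
      Commute t y ∧ t * s * t⁻¹ = s ^ 2 := by
  obtain ⟨-, d, hd, -⟩ := id hcore
  obtain ⟨γ, hγ⟩ := hC.loc d hd
  have hy := isWit_yEl hC hd hγ (r := 5) (by norm_num) (by decide) data5
  set y := yEl γ word5 5 with hy0
  set X := Subgroup.zpowers y with hX0
  have hX : Nat.card X = 5 := by rw [hX0, Nat.card_zpowers, hy.order]
  have hyd : Commute y d := (commute_closure_nb hC.tt hy.mem).symm
  have hXH : X ≤ Subgroup.centralizer ({d} : Set G) :=
    Subgroup.zpowers_le.2 (Subgroup.mem_centralizer_singleton_iff.2 hyd.eq)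
  obtain ⟨ψ, hinj, -, hr, -⟩ := five_hom hC hcore hX hd hXH
  obtain ⟨K, hK, hXK, -, hdis, hcomm, -, -⟩ := five_structure_of_fix hC hcore hX hd hXH
  haveI := Fact.mk Nat.prime_two
  obtain ⟨u, hu⟩ := exists_prime_orderOf_dvd_card' (G := K) 2 (by rw [hK]; norm_num)
  have hu2 : (u : G) * u = 1 := by
    rw [← pow_two, ← hu, ← Subgroup.orderOf_coe]
    exact pow_orderOf_eq_one _
  have hu1 : (u : G) ≠ 1 := fun e => by
    rw [← Subgroup.orderOf_coe, e, orderOf_one] at hu
    omega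
  set c : Equiv.Perm (Fin 5) := finRotate 5 with hc
  set t : Equiv.Perm (Fin 5) := Equiv.swap 1 2 * Equiv.swap 2 4 * Equiv.swap 4 3 with ht
  have hct : t * c * t⁻¹ = c ^ 2 ∧ c ^ 5 = 1 ∧ c ≠ 1 := by
    rw [hc, ht]; decide +kernel
  haveI := Fact.mk (show Nat.Prime 5 by norm_num)
  have hs : orderOf (ψ c) = 5 := by
    refine orderOf_eq_prime (by rw [← map_pow, hct.2.1, map_one]) fun e => hct.2.2 (hinj (by rw [e, map_one]))
  have hmem : ∀ p, ψ p ∈ Subgroup.closure (fixD D X) := fun p => hr ▸ ⟨p, rfl⟩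
  refine ⟨y, ψ c, ψ t, hy.order, hs, hcomm y (hXK (Subgroup.mem_zpowers y)) _ (hmem c), ?_, ⟨d, hd, hyd⟩,
    fix_of_commute_involution hC hcore (by norm_num : Nat.Prime 5) le_rfl hs hu2 hu1
      (hcomm u u.2 _ (hmem c)).symm,
    (hcomm y (hXK (Subgroup.mem_zpowers y)) _ (hmem t)).symm, by rw [← map_inv, ← map_mul, ← map_mul, hct.1, map_pow]⟩
  rw [Subgroup.disjoint_def]
  intro x h1 h2
  have : x ∈ K ⊓ Subgroup.closure (fixD D X) := ⟨hXK h1, Subgroup.zpowers_le.2 (hmem c) h2⟩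
  rw [hdis] at this
  exact Subgroup.mem_bot.1 this

theorem five_fix_of_sylow {y s t : G} (hy : orderOf y = 5) (hs : orderOf s = 5) (hys : Commute y s)
    (hdis : Disjoint (Subgroup.zpowers y) (Subgroup.zpowers s)) (hyv : ∃ v ∈ D, Commute y v)
    (hsv : ∃ v ∈ D, Commute s v) (hty : Commute t y) (hts : t * s * t⁻¹ = s ^ 2) :
    ∃ E : Subgroup G, Nat.card E = 25 ∧ ∀ z ∈ E, ∃ v ∈ D, Commute z v := by
  classical
  have hcomm : ∀ (u : Subgroup.zpowers y) (v : Subgroup.zpowers s), Commute (u : G) v := by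
    rintro ⟨u, hu⟩ ⟨v, hv⟩
    obtain ⟨i, rfl⟩ := Subgroup.mem_zpowers_iff.1 hu
    obtain ⟨j, rfl⟩ := Subgroup.mem_zpowers_iff.1 hv
    exact hys.zpow_zpow i j
  set f : Subgroup.zpowers y × Subgroup.zpowers s →* G :=
    (Subgroup.zpowers y).subtype.noncommCoprod (Subgroup.zpowers s).subtype hcomm with hf
  have hfval : ∀ m, f m = (m.1 : G) * m.2 := fun _ => rfl
  have hinj : Function.Injective f := by
    rw [injective_iff_map_eq_one]
    rintro ⟨u, v⟩ h
    have h' : (u : G) * v = 1 := h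
    have hu : (u : G) = 1 := Subgroup.disjoint_def.1 hdis u.2 (by
      rw [eq_inv_of_mul_eq_one_left h']; exact inv_mem v.2)
    rw [hu, one_mul] at h'
    exact Prod.ext (Subtype.ext hu) (Subtype.ext h')
  set Fx : G → Prop := fun z => ∃ v ∈ D, Commute z v with hFx
  have hpow : ∀ z : G, Fx z → ∀ n : ℕ, Fx (z ^ n) := fun z ⟨v, hv, h⟩ n => ⟨v, hv, h.pow_left n⟩
  have hconj : ∀ z : G, Fx z → ∀ g : G, Fx (g * z * g⁻¹) := fun z ⟨v, hv, h⟩ g =>
    ⟨_, conj_mem hC.tt g hv, (Commute.conj_iff g).2 h⟩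
  have hall : ∀ {z : G}, orderOf z = 5 → Fx z → ∀ x ∈ Subgroup.zpowers z, Fx x := by
    intro z _ hz x hx
    obtain ⟨n, rfl⟩ := (mem_powers_iff_mem_zpowers (x := z)).2 hx
    exact hpow z hz n
  by_cases hmix : Fx (y * s)
  · refine ⟨f.range, by rw [← Nat.card_congr (MonoidHom.ofInjective hinj).toEquiv, Nat.card_prod,
      Nat.card_zpowers, Nat.card_zpowers, hy, hs], ?_⟩
    rintro _ ⟨⟨⟨u, hu⟩, ⟨v, hv⟩⟩, rfl⟩
    obtain ⟨i, rfl⟩ := (mem_powers_iff_mem_zpowers (x := y)).2 hu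
    obtain ⟨j, rfl⟩ := (mem_powers_iff_mem_zpowers (x := s)).2 hv
    show Fx (y ^ i * s ^ j)
    have hone : ∀ k : ℕ, Fx (y * s ^ (2 ^ k)) := by
      intro k
      induction k with
      | zero => simpa using hmix
      | succ k ih =>
        have := hconj _ ih t
        rwa [show t * (y * s ^ (2 ^ k)) * t⁻¹ = (t * y * t⁻¹) * (t * s * t⁻¹) ^ (2 ^ k) by
          rw [conj_pow]; group, hts, hty.eq, mul_inv_cancel_right, ← pow_mul, ← pow_succ'] at this
    rw [← pow_mod_orderOf y i, ← pow_mod_orderOf s j, hy, hs]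
    have key : ∀ p < 5, ∀ q < 5, p = 0 ∨ q = 0 ∨ ∃ k < 4, p * 2 ^ k % 5 = q := by decide
    rcases key (i % 5) (Nat.mod_lt _ (by norm_num)) (j % 5) (Nat.mod_lt _ (by norm_num)) with h | h | ⟨k, -, h⟩
    · rw [h, pow_zero, one_mul]; exact hpow _ hsv _
    · rw [h, pow_zero, mul_one]; exact hpow _ hyv _
    · have := hpow _ (hone k) (i % 5)
      rwa [(hys.pow_right _).mul_pow, ← pow_mul, ← pow_mod_orderOf s (2 ^ k * (i % 5)), hs, mul_comm (2 ^ k), h] at this
  exfalso
  letI : MulAction (Subgroup.zpowers y × Subgroup.zpowers s) D :=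
    { smul := fun m x => ⟨f m * x * (f m)⁻¹, conj_mem hC.tt _ x.2⟩
      one_smul := fun x => Subtype.ext (show f 1 * x * (f 1)⁻¹ = (x : G) by simp)
      mul_smul := fun m m' x => Subtype.ext (show f (m * m') * x * (f (m * m'))⁻¹ =
        f m * (f m' * x * (f m')⁻¹) * (f m)⁻¹ by rw [map_mul]; group) }
  letI : Fintype (Subgroup.zpowers y) := Fintype.ofFinite _
  letI : Fintype (Subgroup.zpowers s) := Fintype.ofFinite _
  letI : ∀ m : Subgroup.zpowers y × Subgroup.zpowers s, Fintype (MulAction.fixedBy (D : Set G) m) :=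
    fun m => Fintype.ofFinite _
  letI : Fintype (MulAction.orbitRel.Quotient (Subgroup.zpowers y × Subgroup.zpowers s) (D : Set G)) :=
    Fintype.ofFinite _
  have hburn := MulAction.sum_card_fixedBy_eq_card_orbits_mul_card_group
    (Subgroup.zpowers y × Subgroup.zpowers s) (D : Set G)
  obtain ⟨-, d, hd, -⟩ := id hcore
  have hfix : ∀ m : Subgroup.zpowers y × Subgroup.zpowers s, Fintype.card (MulAction.fixedBy (D : Set G) m) =
      (if m.1 = 1 then 10 else 0) + (if m.2 = 1 then 10 else 0) + (if m = 1 then 3490 else 0) := by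
    intro m
    have e : (Subtype.val '' MulAction.fixedBy (D : Set G) m : Set G) = {x | x ∈ D ∧ Commute (f m) x} := by
      ext x
      constructor
      · rintro ⟨x, hx, rfl⟩
        exact ⟨x.2, mul_inv_eq_iff_eq_mul.1 (congrArg Subtype.val hx : f m * (x : G) * (f m)⁻¹ = x)⟩
      · rintro ⟨hx, hc⟩
        exact ⟨⟨x, hx⟩, Subtype.ext (show f m * x * (f m)⁻¹ = x from mul_inv_eq_iff_eq_mul.2 hc.eq), rfl⟩
    have hcard : Fintype.card (MulAction.fixedBy (D : Set G) m) = {x | x ∈ D ∧ Commute (f m) x}.ncard := by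
      rw [← e, Set.ncard_image_of_injective _ Subtype.val_injective, ← Nat.card_coe_set_eq,
        Nat.card_eq_fintype_card]
    rw [hcard]
    obtain ⟨⟨u, hu⟩, ⟨v, hv⟩⟩ := m
    simp only [hfval, Prod.mk_eq_one, Subgroup.mk_eq_one]
    by_cases h1 : u = 1 <;> by_cases h2 : v = 1
    · subst h1; subst h2
      simp [Set.setOf_mem_eq, ncard_D hC hd]
    · subst h1
      simp only [one_mul, h2, and_false, if_false, if_true]
      have ho : orderOf v = 5 := by
        haveI := Fact.mk (show Nat.Prime 5 by norm_num)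
        obtain ⟨n, rfl⟩ := Subgroup.mem_zpowers_iff.1 hv
        exact orderOf_eq_prime (by rw [← zpow_natCast, ← zpow_mul, mul_comm, zpow_mul, zpow_natCast, ← hs,
          pow_orderOf_eq_one, one_zpow]) h2
      rw [fixed_ncard_five hC hcore ho (hall hs hsv v hv)]
    · subst h2
      simp only [mul_one, h1, false_and, if_false, if_true]
      have ho : orderOf u = 5 := by
        haveI := Fact.mk (show Nat.Prime 5 by norm_num)
        obtain ⟨n, rfl⟩ := Subgroup.mem_zpowers_iff.1 hu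
        exact orderOf_eq_prime (by rw [← zpow_natCast, ← zpow_mul, mul_comm, zpow_mul, zpow_natCast, ← hy,
          pow_orderOf_eq_one, one_zpow]) h1
      rw [fixed_ncard_five hC hcore ho (hall hy hyv u hu)]
    · simp only [h1, h2, and_self, if_false]
      obtain ⟨i, rfl⟩ := (mem_powers_iff_mem_zpowers (x := y)).2 hu
      obtain ⟨j, rfl⟩ := (mem_powers_iff_mem_zpowers (x := s)).2 hv
      rw [Set.ncard_eq_zero, Set.eq_empty_iff_forall_notMem]
      rintro x ⟨hx, hc⟩
      apply hmix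
      have hF : Fx (y ^ i * s ^ j) := ⟨x, hx, hc⟩
      simp only [← pow_mod_orderOf y i, ← pow_mod_orderOf s j, hy, hs] at hF h1 h2
      -- undo the exponents
      have key : ∀ p < 5, ∀ q < 5, p = 0 ∨ q = 0 ∨ ∃ n < 5, ∃ k < 4, p * n % 5 = 1 ∧ q * n * 2 ^ k % 5 = 1 := by
        decide
      rcases key (i % 5) (Nat.mod_lt _ (by norm_num)) (j % 5) (Nat.mod_lt _ (by norm_num)) with
        h | h | ⟨n, -, k, -, hn, hk⟩
      · rw [h, pow_zero] at h1; exact absurd rfl h1
      · rw [h, pow_zero] at h2; exact absurd rfl h2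
      have hG : Fx (y * s ^ (j % 5 * n)) := by
        have := hpow _ hF n
        rwa [(hys.pow_pow _ _).mul_pow, ← pow_mul, ← pow_mul, ← pow_mod_orderOf y (i % 5 * n), hy, hn, pow_one] at this
      have hk' : ∀ k : ℕ, Fx (y * s ^ (j % 5 * n * 2 ^ k)) := by
        intro k
        induction k with
        | zero => simpa using hG
        | succ k ih =>
          have := hconj _ ih t
          rwa [show t * (y * s ^ (j % 5 * n * 2 ^ k)) * t⁻¹ = (t * y * t⁻¹) * (t * s * t⁻¹) ^ (j % 5 * n * 2 ^ k) by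
            rw [conj_pow]; group, hts, hty.eq, mul_inv_cancel_right, ← pow_mul,
            show 2 * (j % 5 * n * 2 ^ k) = j % 5 * n * 2 ^ (k + 1) by ring] at this
      have := hk' k
      rwa [← pow_mod_orderOf s, hs, hk, pow_one] at this
  simp only [hfix, Finset.sum_add_distrib] at hburn
  rw [Finset.sum_ite_eq' Finset.univ 1, if_pos (Finset.mem_univ _)] at hburn
  simp only [Fintype.sum_prod_type] at hburn
  rw [Finset.sum_comm (f := fun (x : Subgroup.zpowers y) (_ : Subgroup.zpowers s) => if x = 1 then 10 else 0)] at hburn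
  simp only [Finset.sum_ite_eq', Finset.mem_univ, if_true, Finset.sum_const, Finset.card_univ, smul_eq_mul,
    Fintype.card_prod] at hburn
  rw [← Nat.card_eq_fintype_card (α := Subgroup.zpowers y), ← Nat.card_eq_fintype_card (α := Subgroup.zpowers s),
    Nat.card_zpowers, Nat.card_zpowers, hy, hs] at hburn
  omega

theorem five_has_fix {X : Subgroup G} (hX : Nat.card X = 5) :
    ∃ v ∈ D, X ≤ Subgroup.centralizer ({v} : Set G) := by
  obtain ⟨y, s, t, h1, h2, h3, h4, h5, h6, h7, h8⟩ := five_pair hC hcore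
  obtain ⟨E, hE, hEfix⟩ := five_fix_of_sylow hC hcore h1 h2 h3 h4 h5 h6 h7 h8
  obtain ⟨-, d, hd, -⟩ := id hcore
  haveI := Fact.mk (show Nat.Prime 5 by norm_num)
  obtain ⟨P, hP⟩ := IsPGroup.exists_le_sylow (p := 5) (P := X) (IsPGroup.of_card (n := 1) (by rw [hX]; norm_num))
  obtain ⟨Q, hQ⟩ := IsPGroup.exists_le_sylow (p := 5) (P := E) (IsPGroup.of_card (n := 2) (by rw [hE]; norm_num))
  have hQE : (Q : Subgroup G) = E := by
    symm
    refine Subgroup.eq_of_le_of_card_ge hQ ?_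
    obtain ⟨n, hn⟩ := IsPGroup.iff_card.1 Q.isPGroup'
    have h3 := Subgroup.card_subgroup_dvd_card (Q : Subgroup G)
    rw [hn, card_group hC hd hcore] at h3
    rw [hn, hE]
    by_contra hlt
    push Not at hlt
    have : 5 ^ 3 ∣ 5 ^ n := pow_dvd_pow 5 (by
      by_contra h
      push Not at h
      interval_cases n <;> omega)
    have := this.trans h3
    omega
  obtain ⟨g, hg⟩ := MulAction.exists_smul_eq G P Q
  haveI : IsCyclic X := isCyclic_of_prime_card hX
  obtain ⟨z, hz⟩ := IsCyclic.exists_generator (α := X)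
  have hzE : g * (z : G) * g⁻¹ ∈ E := by
    rw [← hQE, ← hg]
    exact ⟨z, hP z.2, rfl⟩
  obtain ⟨v, hv, hc⟩ := hEfix _ hzE
  refine ⟨g⁻¹ * v * g, by simpa using conj_mem hC.tt g⁻¹ hv, fun x hx => ?_⟩
  obtain ⟨i, hi⟩ := Subgroup.mem_zpowers_iff.1 (hz ⟨x, hx⟩)
  have hzv : Commute (z : G) (g⁻¹ * v * g) := by
    rw [← Commute.conj_iff g, show g * (g⁻¹ * v * g) * g⁻¹ = v by group]
    exact hc
  rw [Subgroup.mem_centralizer_singleton_iff, show x = ((z ^ i : X) : G) from congrArg Subtype.val hi.symm,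
    Subgroup.coe_zpow]
  exact (hzv.zpow_left i).eq

theorem five_structure {X : Subgroup G} (hX : Nat.card X = 5) :
    ∃ F : Subgroup G, Nat.card F = 20 ∧ X ≤ F ∧ F ⊓ Subgroup.centralizer (X : Set G) = X ∧
      F ⊓ Subgroup.closure (fixD D X) = ⊥ ∧
      (∀ x ∈ F, ∀ y ∈ Subgroup.closure (fixD D X), x * y = y * x) ∧
      F ⊔ Subgroup.closure (fixD D X) = Subgroup.normalizer (X : Set G) ∧
      Nonempty (Subgroup.closure (fixD D X) ≃* Equiv.Perm (Fin 5)) := by
  obtain ⟨v, hv, hXv⟩ := five_has_fix hC hcore hX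
  exact five_structure_of_fix hC hcore hX hv hXv

theorem five_conj (X Y : Subgroup G) (hX : Nat.card X = 5) (hY : Nat.card Y = 5) :
    ∃ g : G, X.map (MulAut.conj g).toMonoidHom = Y := by
  obtain ⟨v, hv, hXv⟩ := five_has_fix hC hcore hX
  obtain ⟨u, hu, hYu⟩ := five_has_fix hC hcore hY
  exact conj_of_fix hC hcore (r := 5) (by norm_num) (by norm_num) hv hXv hX hu hYu hY

end Cfsg.Agent.TT95
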