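import Cfsg.Agent.TT95.NormPerm

/-!
Type M(22): subgroups of order seven.
-/

set_option autoImplicit false
set_option linter.unusedSectionVars false

namespace Cfsg.Agent.TT95

open Cfsg.Agent.TT95.U6

variable {G : Type*} [Group G] [Finite G] {D : Set G} (hC : Cfg22 D) [Gen D] (hcore : Core22 G D) {X : Subgroup G}
  (hX : Nat.card X = 7)

include hC hcore hX

theorem seven_has_fix : ∃ v ∈ D, X ≤ Subgroup.centralizer ({v} : Set G) := by
  obtain ⟨-, d, hd, -⟩ := hcore
  have h := fixed_mod X (by norm_num) hX D (fun g _ s hs => conj_mem hC.tt g hs)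
  rw [ncard_D hC hd] at h
  obtain ⟨v, hv⟩ : (D ∩ (Subgroup.centralizer (X : Set G) : Set G)).Nonempty := by
    apply Set.nonempty_of_ncard_ne_zero
    omega
  exact ⟨v, hv.1, le_centralizer_of_fix hv.2⟩

variable {a : G} (ha : a ∈ D) (hXH : X ≤ Subgroup.centralizer ({a} : Set G))

include ha hXH

theorem seven_local :
    Nat.card (Subgroup.centralizer ({a} : Set G) ⊓ Subgroup.normalizer (X : Set G) : Subgroup G) = 84 ∧
    Nat.card (Subgroup.centralizer ({a} : Set G) ⊓ Subgroup.centralizer (X : Set G) : Subgroup G) = 14 := by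
  obtain ⟨γ, y, hy, hyX⟩ := exists_adapted hC hcore ha (r := 7) (by norm_num) (by decide) (by norm_num) data7 hXH hX
  set H := Subgroup.centralizer ({a} : Set G) with hH
  obtain ⟨e, -, hNC, hmax⟩ := norm_cent H X (by norm_num : Nat.Prime 7) hX
  have hin := inner_check
  simp only [Bool.and_eq_true, allP_iff] at hin
  obtain ⟨⟨v1, v2⟩, -⟩ := hin
  obtain ⟨h, hh, hhk⟩ := IsWit.exists_inner hC ha hy (by decide) (allP_iff.2 v1)
    (fun x hx => Nat.eq_of_beq_eq_true (v2 x hx))
  have he : e = 6 := hmax h y 3 hh hyX hhk (by intro j h0 h1; interval_cases j <;> norm_num)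
  obtain ⟨-, n, hn, hn'⟩ := sylow_count H X hXH (by norm_num : Nat.Prime 7) hX
    (by rw [card_centralizer hC ha hcore]; norm_num)
  rw [card_centralizer hC ha hcore, hNC] at hn'
  have hle : Nat.card (H ⊓ Subgroup.centralizer (X : Set G) : Subgroup G) ≤ 84 := by
    have := IsWit.card_cent_le hC ha hy (dataOK_spec data7).2.2.2.1
      (fun g hg σ hi hσ h1 => sols7_spec hC ha hy.loc hg hi hσ h1)
    rw [← hyX, centralizer_zpowers]
    exact this
  obtain ⟨c', hc⟩ := two_r_dvd hC hcore ha (by decide : Odd 7) hX hXH (comm_of_zpowers hyX)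
  rw [hNC]
  rw [← hH] at hc
  generalize Nat.card (H ⊓ Subgroup.centralizer (X : Set G) : Subgroup G) = c at hc hn' hle ⊢
  subst hc
  subst he
  have hc' : c' ≤ 6 := by omega
  interval_cases c' <;> omega

theorem seven_fix_form : ∃ e ∈ far D a, e ∈ fixD D X ∧ fixD D X = {a, e, a * e * a} ∧ a * e * a ≠ e := by
  have hnb : ∀ v ∈ fixD D X, v = a ∨ v ∈ far D a := by
    intro v hv
    rcases mem_nb_or_far (a := a) hv.1 with h | h | h
    · exact Or.inl h
    · have := four_dvd_of_fix hC ha hXH h hv.2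
      rw [(seven_local hC hcore hX ha hXH).2] at this
      omega
    · exact Or.inr h
  have heq : fixD D X = insert a (far D a ∩ fixD D X) := by
    ext v
    refine ⟨fun hv => (hnb v hv).elim Or.inl fun h => Or.inr ⟨h, hv⟩, ?_⟩
    rintro (rfl | h)
    · exact self_mem_fixD ha hXH
    · exact h.2
  have hcount := fixed_mod X (by norm_num : Nat.Prime 7) hX D (fun g _ s hs => conj_mem hC.tt g hs)
  rw [ncard_D hC ha, show D ∩ (Subgroup.centralizer (X : Set G) : Set G) = fixD D X from rfl, heq,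
    Set.ncard_insert_of_notMem (fun h => h.1.2 (Commute.refl a))] at hcount
  set m := (far D a ∩ fixD D X).ncard with hm
  have hne : (far D a ∩ fixD D X).Nonempty := Set.nonempty_of_ncard_ne_zero (by omega)
  have hdvd := far_orbit_dvd hC hcore ha (by norm_num : Nat.Prime 7) (by norm_num) hXH hX hne
  rw [(seven_local hC hcore hX ha hXH).1, ← hm] at hdvd
  obtain ⟨e, he, heX⟩ := hne
  have hae : a * e * a ≠ e := fun h => he.2 (by
    show a * e = e * a
    calc a * e = a * e * (a * a) := by rw [sq hC.tt ha, mul_one]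
      _ = (a * e * a) * a := by group
      _ = e * a := by rw [h])
  have hae' : a * e * a ∈ far D a ∩ fixD D X := by
    refine ⟨⟨conj_mem' hC.tt he.1 ha, fun h => he.2 ?_⟩, ?_⟩
    · have := (Commute.conj_iff a).2 h
      rwa [inv_eq hC.tt ha, sq hC.tt ha, one_mul, show a * (a * e * a) * a = (a * a) * e * (a * a) by group,
        sq hC.tt ha, one_mul, mul_one] at this
    · have := conj_fixD hC (Subgroup.centralizer_le_normalizer _ (self_mem_fixD ha hXH).2) heX
      rwa [inv_eq hC.tt ha] at this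
  have hm2 : m = 2 := by
    have h1 := Nat.le_of_dvd (by norm_num) hdvd
    obtain ⟨q, hq⟩ : ∃ q, m = 7 * q + 2 := ⟨m / 7, by omega⟩
    rw [hq] at hdvd h1 ⊢
    have : q ≤ 11 := by omega
    interval_cases q <;> omega
  have hpair : ({e, a * e * a} : Set G) = far D a ∩ fixD D X := by
    refine Set.eq_of_subset_of_ncard_le ?_ ?_
    · rintro x (rfl | rfl)
      · exact ⟨he, heX⟩
      · exact hae'
    · rw [Set.ncard_pair hae.symm, ← hm, hm2]
  exact ⟨e, he, heX, by rw [heq, hpair], hae⟩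

theorem seven_data : (fixD D X).ncard = 3 ∧ ∃ e ∈ far D a, e ∈ fixD D X ∧
    ∀ x ∈ fixD D X, ∃ g ∈ Subgroup.closure (fixD D X), g * a * g⁻¹ = x := by
  obtain ⟨e, he, heX, heq, hae⟩ := seven_fix_form hC hcore hX ha hXH
  refine ⟨?_, e, he, heX, ?_⟩
  · rw [heq, Set.ncard_insert_of_notMem, Set.ncard_pair hae.symm]
    rintro (h | h)
    · exact he.2 (by rw [← h])
    · apply he.2
      have : a * a * a = a * (a * e * a) * a := by rw [← Set.mem_singleton_iff.1 h]
      rw [sq hC.tt ha, one_mul, show a * (a * e * a) * a = (a * a) * e * (a * a) by group, sq hC.tt ha, one_mul,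
        mul_one] at this
      rw [← this]
  intro x hx
  have haS : a ∈ Subgroup.closure (fixD D X) := Subgroup.subset_closure (self_mem_fixD ha hXH)
  have heS : e ∈ Subgroup.closure (fixD D X) := Subgroup.subset_closure heX
  rw [heq] at hx
  rcases hx with rfl | rfl | rfl
  · exact ⟨1, one_mem _, by group⟩
  · exact ⟨a * x, mul_mem haS heS, exists_conj_of_not_commute hC.tt ha he.1 he.2⟩
  · refine ⟨a * (a * e), mul_mem haS (mul_mem haS heS), ?_⟩
    rw [show a * (a * e) * a * (a * (a * e))⁻¹ = a * ((a * e) * a * (a * e)⁻¹) * a⁻¹ by group,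
      exists_conj_of_not_commute hC.tt ha he.1 he.2, inv_eq hC.tt ha]

omit hXH in
theorem closure_fix_le : Subgroup.closure (fixD D X) ≤ Subgroup.centralizer (X : Set G) := by
  rw [Subgroup.closure_le]
  exact fun x hx => hx.2

theorem seven_norm : Nat.card (Subgroup.normalizer (X : Set G)) = 252 ∧
    Nat.card (Subgroup.centralizer (X : Set G)) = 42 := by
  obtain ⟨h3, e, -, -, htr⟩ := seven_data hC hcore hX ha hXH
  have hS := closure_fix_le hC hcore hX ha
  obtain ⟨h1, h2⟩ := seven_local hC hcore hX ha hXH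
  constructor
  · rw [card_orbit _ a (fixD D X) (fun g hg => conj_fixD hC hg (self_mem_fixD ha hXH))
      (fun x hx => by
        obtain ⟨g, hg, e⟩ := htr x hx
        exact ⟨g, Subgroup.centralizer_le_normalizer _ (hS hg), e⟩), h3, h1]
  · rw [card_orbit _ a (fixD D X) (fun g hg => conj_fixD hC (Subgroup.centralizer_le_normalizer _ hg)
      (self_mem_fixD ha hXH))
      (fun x hx => by
        obtain ⟨g, hg, e⟩ := htr x hx
        exact ⟨g, hS hg, e⟩), h3, h2]

theorem seven_fix : (fixD D X).ncard = 3 := (seven_data hC hcore hX ha hXH).1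

omit ha hXH in
theorem seven_structure :
    ∃ F : Subgroup G, Nat.card F = 42 ∧ X ≤ F ∧ F ⊓ Subgroup.centralizer (X : Set G) = X ∧
      F ⊓ Subgroup.closure (fixD D X) = ⊥ ∧
      (∀ x ∈ F, ∀ y ∈ Subgroup.closure (fixD D X), x * y = y * x) ∧
      F ⊔ Subgroup.closure (fixD D X) = Subgroup.normalizer (X : Set G) ∧
      Nonempty (Subgroup.closure (fixD D X) ≃* Equiv.Perm (Fin 3)) := by
  obtain ⟨a, ha, hXH⟩ := seven_has_fix hC hcore hX
  obtain ⟨e, he, heX, heq, hae⟩ := seven_fix_form hC hcore hX ha hXH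
  obtain ⟨hN, hCc⟩ := seven_norm hC hcore hX ha hXH
  obtain ⟨-, -, -, -, htr⟩ := seven_data hC hcore hX ha hXH
  have hSC := closure_fix_le hC hcore hX ha
  set S := Subgroup.closure (fixD D X) with hS
  obtain ⟨ψ, hψ, hψr⟩ := exists_perm_hom (H := G) 2 ![a, e]
    (by intro i; fin_cases i
        · exact sq hC.tt ha
        · exact sq hC.tt he.1)
    (by
      intro i j hij
      obtain rfl : i = 0 := Fin.ext (by omega)
      obtain rfl : j = 1 := Fin.ext (by omega)
      exact braid hC.tt ha he.1 he.2)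
    (by intro i j hij; omega)
  have ha1 : ψ (Equiv.swap 0 1) = a := hψ 0
  have he1 : ψ (Equiv.swap 1 2) = e := hψ 1
  have hinj : Function.Injective ψ := perm_hom_injective (Or.inl rfl) ψ (p := 0) (q := 1) (s := 2) (by decide)
    (by decide) (by decide) (by rw [ha1, he1]; exact fun h => he.2 (h ▸ Commute.refl a))
  have hrange : ψ.range = S := by
    refine le_antisymm ?_ ?_
    · rw [hψr, Subgroup.closure_le]
      rintro _ ⟨i, rfl⟩
      fin_cases i
      · exact Subgroup.subset_closure (self_mem_fixD ha hXH)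
      · exact Subgroup.subset_closure heX
    · rw [hS, Subgroup.closure_le, heq]
      rintro x (rfl | rfl | rfl)
      · exact ⟨_, ha1⟩
      · exact ⟨_, he1⟩
      · exact ⟨Equiv.swap 0 1 * Equiv.swap 1 2 * Equiv.swap 0 1, by rw [map_mul, map_mul, ha1, he1]⟩
  have hScard : Nat.card S = 6 := by
    rw [← hrange, ← Nat.card_congr (MonoidHom.ofInjective hinj).toEquiv, Nat.card_eq_fintype_card, Fintype.card_perm,
      Fintype.card_fin]
    rfl
  have hS1 : ∀ g ∈ S, g ∈ Subgroup.centralizer (fixD D X) → g = 1 := by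
    intro g hg hc
    rw [← centralizer_closure_set, ← hS, ← hrange] at hc
    exact range_center_trivial (Or.inl rfl) hinj (hrange ▸ hg) fun i j _ =>
      (Subgroup.mem_centralizer_iff.1 hc _ ⟨_, rfl⟩).symm
  set N := Subgroup.normalizer (X : Set G) with hNd
  set K := N ⊓ Subgroup.centralizer (fixD D X) with hK
  have hgen : ∀ g ∈ N, ∃ s ∈ S, s * g ∈ Subgroup.centralizer (fixD D X) := by
    intro g hg
    obtain ⟨u, hu, eu⟩ := htr _ (conj_fixD hC hg (self_mem_fixD ha hXH))
    set g1 := u⁻¹ * g with hg1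
    have g1N : g1 ∈ N := mul_mem (Subgroup.centralizer_le_normalizer _ (inv_mem (hSC hu))) hg
    have f1 : g1 * a * g1⁻¹ = a := by
      rw [hg1, show u⁻¹ * g * a * (u⁻¹ * g)⁻¹ = u⁻¹ * (g * a * g⁻¹) * u by group, ← eu]; group
    have hfin : ∀ w : G, w * a * w⁻¹ = a → w * e * w⁻¹ = e → w ∈ Subgroup.centralizer (fixD D X) := by
      intro w w1 w2
      rw [Subgroup.mem_centralizer_iff, heq]
      have c1 : Commute w a := mul_inv_eq_iff_eq_mul.1 w1
      have c2 : Commute w e := mul_inv_eq_iff_eq_mul.1 w2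
      rintro x (rfl | rfl | rfl)
      · exact c1.symm.eq
      · exact c2.symm.eq
      · exact ((c1.mul_right c2).mul_right c1).symm.eq
    have hmem := conj_fixD hC g1N heX
    rw [heq] at hmem
    rcases hmem with h | h | h
    · exfalso
      apply he.2
      have : e = a := mul_left_cancel (mul_right_cancel (h.trans f1.symm))
      rw [this]
    · exact ⟨u⁻¹, inv_mem hu, hfin g1 f1 h⟩
    · refine ⟨a * u⁻¹, mul_mem (Subgroup.subset_closure (self_mem_fixD ha hXH)) (inv_mem hu),
        hfin (a * u⁻¹ * g) ?_ ?_⟩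
      · rw [show a * u⁻¹ * g * a * (a * u⁻¹ * g)⁻¹ = a * (g1 * a * g1⁻¹) * a⁻¹ by rw [hg1]; group, f1]
        group
      · rw [show a * u⁻¹ * g * e * (a * u⁻¹ * g)⁻¹ = a * (g1 * e * g1⁻¹) * a⁻¹ by rw [hg1]; group,
          Set.mem_singleton_iff.1 h, inv_eq hC.tt ha,
          show a * (a * e * a) * a = (a * a) * e * (a * a) by group, sq hC.tt ha, one_mul, mul_one]
  have hSN : S ≤ N := hSC.trans (Subgroup.centralizer_le_normalizer _)
  obtain ⟨c1, hsup⟩ := card_split N S K inf_le_left hSN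
    (fun g hg => by
      obtain ⟨s, hs, h⟩ := hgen g hg
      exact ⟨s, hs, Subgroup.mem_inf.2 ⟨mul_mem (hSN hs) hg, h⟩⟩)
    (fun g hg hk => hS1 g hg (Subgroup.mem_inf.1 hk).2)
  obtain ⟨c2, -⟩ := card_split (Subgroup.centralizer (X : Set G)) S (K ⊓ Subgroup.centralizer (X : Set G))
    inf_le_right hSC
    (fun g hg => by
      obtain ⟨s, hs, h⟩ := hgen g (Subgroup.centralizer_le_normalizer _ hg)
      exact ⟨s, hs, Subgroup.mem_inf.2 ⟨Subgroup.mem_inf.2 ⟨mul_mem (hSN hs)
        (Subgroup.centralizer_le_normalizer _ hg), h⟩, mul_mem (hSC hs) hg⟩⟩)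
    (fun g hg hk => hS1 g hg (Subgroup.mem_inf.1 (Subgroup.mem_inf.1 hk).1).2)
  rw [hN, hScard] at c1
  rw [hCc, hScard] at c2
  have hXK : X ≤ K := le_inf Subgroup.le_normalizer fun x hx =>
    Subgroup.mem_centralizer_iff.2 fun y hy => (Subgroup.mem_centralizer_iff.1 hy.2 x hx).symm
  have hXC : X ≤ Subgroup.centralizer (X : Set G) := fun x hx =>
    Subgroup.mem_centralizer_iff.2 fun y hy => comm_of_prime_card (by norm_num : Nat.Prime 7) hX y hy x hx
  refine ⟨K, by omega, hXK, ?_, ?_, ?_, hsup, ?_⟩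
  · exact (Subgroup.eq_of_le_of_card_ge (le_inf hXK hXC) (by rw [hX]; omega)).symm
  · rw [eq_bot_iff]
    intro g hg
    exact Subgroup.mem_bot.2 (hS1 g hg.2 (Subgroup.mem_inf.1 hg.1).2)
  · intro x hx y hy
    have h := (Subgroup.mem_inf.1 hx).2
    rw [← centralizer_closure_set] at h
    exact (Subgroup.mem_centralizer_iff.1 h y hy).symm
  · exact ⟨((MulEquiv.subgroupCongr hrange).symm.trans (MonoidHom.ofInjective hinj).symm)⟩

omit hX ha hXH in
theorem seven_conj (X Y : Subgroup G) (hX : Nat.card X = 7) (hY : Nat.card Y = 7) :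
    ∃ g : G, X.map (MulAut.conj g).toMonoidHom = Y := by
  obtain ⟨v, hv, hXv⟩ := seven_has_fix hC hcore hX
  obtain ⟨u, hu, hYu⟩ := seven_has_fix hC hcore hY
  exact conj_of_fix hC hcore (r := 7) (by norm_num) (by norm_num) hv hXv hX hu hYu hY

end Cfsg.Agent.TT95
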