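import Cfsg.Agent.TT95.NormFix

/-!
Type M(22): subgroups of order eleven.
-/

set_option autoImplicit false
set_option linter.unusedSectionVars false

namespace Cfsg.Agent.TT95

open Cfsg.Agent.TT95.U6

variable {G : Type*} [Group G] [Finite G] {D : Set G} (hC : Cfg22 D) [Gen D] (hcore : Core22 G D) {X : Subgroup G}
  (hX : Nat.card X = 11)

include hC hcore hX

theorem eleven_has_fix : ∃ v ∈ D, X ≤ Subgroup.centralizer ({v} : Set G) := by
  obtain ⟨-, d, hd, -⟩ := hcore
  have h := fixed_mod X (by norm_num) hX D (fun g _ s hs => conj_mem hC.tt g hs)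
  rw [ncard_D hC hd] at h
  obtain ⟨v, hv⟩ : (D ∩ (Subgroup.centralizer (X : Set G) : Set G)).Nonempty := by
    apply Set.nonempty_of_ncard_ne_zero
    omega
  exact ⟨v, hv.1, le_centralizer_of_fix hv.2⟩

variable {a : G} (ha : a ∈ D) (hXH : X ≤ Subgroup.centralizer ({a} : Set G))

include ha hXH

theorem eleven_local :
    Nat.card (Subgroup.centralizer ({a} : Set G) ⊓ Subgroup.normalizer (X : Set G) : Subgroup G) = 110 ∧
    Nat.card (Subgroup.centralizer ({a} : Set G) ⊓ Subgroup.centralizer (X : Set G) : Subgroup G) = 22 := by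
  obtain ⟨γ, y, hy, hyX⟩ := exists_adapted hC hcore ha (r := 11) (by norm_num) (by decide) (by norm_num) data11 hXH hX
  set H := Subgroup.centralizer ({a} : Set G) with hH
  obtain ⟨e, he, hNC, -⟩ := norm_cent H X (by norm_num : Nat.Prime 11) hX
  obtain ⟨-, n, hn, hn'⟩ := sylow_count H X hXH (by norm_num : Nat.Prime 11) hX
    (by rw [card_centralizer hC ha hcore]; norm_num)
  rw [card_centralizer hC ha hcore, hNC] at hn'
  have hle : Nat.card (H ⊓ Subgroup.centralizer (X : Set G) : Subgroup G) ≤ 66 := by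
    have := IsWit.card_cent_le hC ha hy (dataOK_spec data11).2.2.2.1
      (fun g hg σ hi hσ h1 => sols11_spec hC ha hy.loc hg hi hσ h1)
    rw [← hyX, centralizer_zpowers]
    exact this
  obtain ⟨c', hc⟩ := two_r_dvd hC hcore ha (by decide : Odd 11) hX hXH (comm_of_zpowers hyX)
  rw [hNC]
  rw [← hH] at hc
  generalize Nat.card (H ⊓ Subgroup.centralizer (X : Set G) : Subgroup G) = c at hc hn' hle ⊢
  subst hc
  have hc' : c' ≤ 3 := by omega
  have he' : e ≤ 10 := Nat.le_of_dvd (by norm_num) he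
  interval_cases c' <;> interval_cases e <;> omega

theorem eleven_fix : fixD D X = {a} := by
  refine Set.eq_singleton_iff_unique_mem.2 ⟨self_mem_fixD ha hXH, fun v hv => ?_⟩
  by_contra hne
  by_cases hc : Commute a v
  · have := four_dvd_of_fix hC ha hXH ⟨hv.1, hne, hc⟩ hv.2
    rw [(eleven_local hC hcore hX ha hXH).2] at this
    omega
  · have := Subgroup.card_dvd_of_le (le_inf hXH (le_centralizer_of_fix hv.2))
    rw [hX, card_cent_far hC hcore ha ⟨hv.1, hc⟩] at this
    omega

theorem eleven_norm : Nat.card (Subgroup.normalizer (X : Set G)) = 110 ∧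
    Nat.card (Subgroup.centralizer (X : Set G)) = 22 := by
  have hN : Subgroup.normalizer (X : Set G) ≤ Subgroup.centralizer ({a} : Set G) := by
    intro g hg
    have h := conj_fixD hC hg (self_mem_fixD ha hXH)
    rw [eleven_fix hC hcore hX ha hXH] at h
    exact Subgroup.mem_centralizer_singleton_iff.2 (mul_inv_eq_iff_eq_mul.1 h)
  obtain ⟨h1, h2⟩ := eleven_local hC hcore hX ha hXH
  rw [inf_eq_right.2 hN] at h1
  rw [inf_eq_right.2 ((Subgroup.centralizer_le_normalizer _).trans hN)] at h2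
  exact ⟨h1, h2⟩

omit ha hXH in
theorem eleven_structure :
    ∃ (F : Subgroup G) (d : G), d ∈ D ∧ Nat.card F = 55 ∧ X ≤ F ∧
      F ⊓ Subgroup.centralizer (X : Set G) = X ∧ F ⊓ Subgroup.zpowers d = ⊥ ∧
      (∀ x ∈ F, ∀ y ∈ Subgroup.zpowers d, x * y = y * x) ∧
      F ⊔ Subgroup.zpowers d = Subgroup.normalizer (X : Set G) := by
  obtain ⟨a, ha, hXH⟩ := eleven_has_fix hC hcore hX
  obtain ⟨hN, hCc⟩ := eleven_norm hC hcore hX ha hXH
  set N := Subgroup.normalizer (X : Set G) with hNd
  have hNH : ∀ g ∈ N, Commute g a := fun g hg => by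
    have h := conj_fixD hC hg (self_mem_fixD ha hXH)
    rw [eleven_fix hC hcore hX ha hXH] at h
    exact mul_inv_eq_iff_eq_mul.1 h
  have haC : a ∈ Subgroup.centralizer (X : Set G) := (self_mem_fixD ha hXH).2
  have haN : Subgroup.zpowers a ≤ N := Subgroup.zpowers_le.2 (Subgroup.centralizer_le_normalizer _ haC)
  have hA : Nat.card (Subgroup.zpowers a) = 2 := by rw [Nat.card_zpowers, hC.tt.1.1 a ha]
  set A := (Subgroup.zpowers a).subgroupOf N with hAd
  haveI : A.Normal := ⟨fun x hx g => by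
    rw [hAd, Subgroup.mem_subgroupOf] at hx ⊢
    obtain ⟨i, hi⟩ := Subgroup.mem_zpowers_iff.1 hx
    show (g : G) * x * (g : G)⁻¹ ∈ _
    rw [← hi, ((hNH g g.2).zpow_right i).eq, mul_inv_cancel_right]
    exact zpow_mem (Subgroup.mem_zpowers a) i⟩
  have hAc : Nat.card A = 2 := by rw [hAd, Nat.card_congr (Subgroup.subgroupOfEquivOfLe haN).toEquiv, hA]
  have hidx : A.index = 55 := by
    have := A.card_mul_index
    rw [hAc, hN] at this
    omega
  obtain ⟨K, hK⟩ := Subgroup.exists_right_complement'_of_coprime (N := A) (by rw [hAc, hidx]; norm_num)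
  set F := K.map N.subtype with hF
  have hKc : Nat.card K = 55 := by
    have := hK.card_mul
    rw [hAc, hN] at this
    omega
  have hFc : Nat.card F = 55 := by
    rw [hF, ← Nat.card_congr (Subgroup.equivMapOfInjective K N.subtype N.subtype_injective).toEquiv, hKc]
  have hFN : F ≤ N := Subgroup.map_subtype_le K
  have hdis : F ⊓ Subgroup.zpowers a = ⊥ :=
    Subgroup.inf_eq_bot_of_coprime (by rw [hFc, hA]; norm_num)
  have hXN : X ≤ N := Subgroup.le_normalizer
  have hXF : X ≤ F := by
    haveI := Fact.mk (show Nat.Prime 11 by norm_num)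
    obtain ⟨f, hf⟩ := exists_prime_orderOf_dvd_card' (G := F) 11 (by rw [hFc]; norm_num)
    have hsub : Subgroup.zpowers (f : G) ≤ N := Subgroup.zpowers_le.2 (hFN f.2)
    have hc11 : Nat.card (Subgroup.zpowers (f : G)) = 11 := by
      rw [Nat.card_zpowers, Subgroup.orderOf_coe, hf]
    obtain ⟨h, hh, e⟩ := (sylow_count N X hXN (by norm_num : Nat.Prime 11) hX (by rw [hN]; norm_num)).1 _ hsub hc11
    have : X.map (MulAut.conj h).toMonoidHom = X := by
      ext x
      rw [mem_map_conj_iff]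
      have := (Subgroup.mem_normalizer_iff.1 (inv_mem hh) x)
      rw [inv_inv] at this
      exact this.symm
    rw [← this, e]
    exact Subgroup.zpowers_le.2 f.2
  refine ⟨F, a, ha, hFc, hXF, ?_, hdis, ?_, ?_⟩
  · refine le_antisymm ?_ (le_inf hXF fun x hx => Subgroup.mem_centralizer_iff.2 fun y hy => ?_)
    · have h1 := Subgroup.card_dvd_of_le (inf_le_left : F ⊓ Subgroup.centralizer (X : Set G) ≤ F)
      have h2 := Subgroup.card_dvd_of_le (inf_le_right : F ⊓ Subgroup.centralizer (X : Set G) ≤ _)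
      rw [hFc] at h1
      rw [hCc] at h2
      have h3 : Nat.card (F ⊓ Subgroup.centralizer (X : Set G) : Subgroup G) ≤ 11 := by
        have := Nat.dvd_gcd h1 h2
        exact Nat.le_of_dvd (by norm_num) this
      have hXle : X ≤ F ⊓ Subgroup.centralizer (X : Set G) := le_inf hXF fun x hx =>
        Subgroup.mem_centralizer_iff.2 fun y hy =>
          comm_of_prime_card (by norm_num : Nat.Prime 11) hX y hy x hx
      exact (Subgroup.eq_of_le_of_card_ge hXle (by rw [hX]; exact h3)).ge
    · exact comm_of_prime_card (by norm_num : Nat.Prime 11) hX y hy x hx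
  · intro x hx y hy
    obtain ⟨i, rfl⟩ := Subgroup.mem_zpowers_iff.1 hy
    exact ((hNH x (hFN hx)).zpow_right i).eq
  · refine le_antisymm (sup_le hFN haN) fun g hg => ?_
    have : (⟨g, hg⟩ : N) ∈ A ⊔ K := by rw [hK.sup_eq_top]; trivial
    have h2 := Subgroup.mem_map_of_mem N.subtype this
    rw [Subgroup.map_sup, hAd, Subgroup.map_subgroupOf_eq_of_le haN] at h2
    rw [sup_comm]
    exact h2

omit hX ha hXH in
theorem eleven_conj (X Y : Subgroup G) (hX : Nat.card X = 11) (hY : Nat.card Y = 11) :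
    ∃ g : G, X.map (MulAut.conj g).toMonoidHom = Y := by
  obtain ⟨v, hv, hXv⟩ := eleven_has_fix hC hcore hX
  obtain ⟨u, hu, hYu⟩ := eleven_has_fix hC hcore hY
  obtain ⟨g, hg⟩ := hC.one v hv u hu
  have hmap : X.map (MulAut.conj g).toMonoidHom ≤ Subgroup.centralizer ({u} : Set G) := by
    intro x hx
    obtain ⟨x, hx, rfl⟩ := hx
    show g * x * g⁻¹ ∈ _
    rw [Subgroup.mem_centralizer_singleton_iff, ← hg]
    exact ((Commute.conj_iff g).2 (Subgroup.mem_centralizer_singleton_iff.1 (hXv hx))).eq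
  obtain ⟨k, hk⟩ := conj_in_centralizer hC hcore hu (r := 11) (by norm_num) (by norm_num) hmap
    (by rw [Nat.card_congr (Subgroup.equivMapOfInjective X _ (MulAut.conj g).injective).symm.toEquiv, hX]) hYu hY
  refine ⟨k * g, ?_⟩
  rw [← hk, Subgroup.map_map]
  congr 1
  ext z
  show k * g * z * (k * g)⁻¹ = k * (g * z * g⁻¹) * k⁻¹
  group

end Cfsg.Agent.TT95
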