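import Cfsg.Agent.TT95.NormFix

/-!
Homomorphisms from the symmetric groups of degree three and five; orbits of a member.
-/

set_option autoImplicit false
set_option linter.unusedSectionVars false

namespace Cfsg.Agent.TT95

variable {H : Type*} [Group H] {n : ℕ}

theorem swap_adj_ne (ψ : Equiv.Perm (Fin n) →* H) {p q s : Fin n} (hpq : p ≠ q) (hqs : q ≠ s) (hps : p ≠ s)
    (h : ψ (Equiv.swap p q) ≠ ψ (Equiv.swap q s)) :
    ∀ i j k : Fin n, i ≠ j → j ≠ k → i ≠ k → ψ (Equiv.swap i j) ≠ ψ (Equiv.swap j k) := by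
  intro i j k hij hjk hik e
  apply h
  have sq' : ∀ u v : Fin n, ψ (Equiv.swap u v) * ψ (Equiv.swap u v) = 1 := fun u v => by
    rw [← map_mul, Equiv.swap_mul_self, map_one]
  have h1 : ψ (Equiv.swap j i * Equiv.swap j k) = 1 := by
    rw [map_mul, Equiv.swap_comm j i, e, sq']
  have t1 : (Equiv.swap j i * Equiv.swap j k).IsThreeCycle :=
    Equiv.Perm.isThreeCycle_swap_mul_swap_same hij.symm hjk hik
  have t2 : (Equiv.swap q p * Equiv.swap q s).IsThreeCycle :=
    Equiv.Perm.isThreeCycle_swap_mul_swap_same hpq.symm hqs hps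
  obtain ⟨g, hg⟩ := isConj_iff.1 (Equiv.Perm.isConj_iff_cycleType_eq.2 (t1.trans t2.symm))
  have h2 : ψ (Equiv.swap q p * Equiv.swap q s) = 1 := by
    rw [← hg, map_mul, map_mul, h1, mul_one, ← map_mul, mul_inv_cancel, map_one]
  rw [map_mul, Equiv.swap_comm q p] at h2
  calc ψ (Equiv.swap p q) = ψ (Equiv.swap p q) * (ψ (Equiv.swap q s) * ψ (Equiv.swap q s)) := by rw [sq', mul_one]
    _ = ψ (Equiv.swap q s) := by rw [← mul_assoc, h2, one_mul]

theorem eq_one_of_commute_swaps (hn : n = 3 ∨ n = 5) {g : Equiv.Perm (Fin n)}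
    (h : ∀ i j : Fin n, i ≠ j → g * Equiv.swap i j * g⁻¹ = Equiv.swap i j) : g = 1 := by
  ext i
  by_contra hi
  have hgi : g i ≠ i := fun e => hi (by rw [e]; rfl)
  obtain ⟨k, hk1, hk2⟩ : ∃ k, k ≠ i ∧ k ≠ g i := by
    have : ∀ i j : Fin 3, ∃ k, k ≠ i ∧ k ≠ j := by decide
    rcases hn with rfl | rfl
    · exact this i (g i)
    · obtain ⟨m, m1, m2, -⟩ := fifth i (g i) i i
      exact ⟨m, m1, m2⟩
  have := congrArg (fun p : Equiv.Perm (Fin n) => p (g i)) (h i k hk1.symm)
  rw [← Equiv.swap_apply_apply, Equiv.swap_apply_left, Equiv.swap_apply_of_ne_of_ne hgi hk2.symm] at this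
  exact hk1 (g.injective this)

theorem perm_hom_injective (hn : n = 3 ∨ n = 5) (ψ : Equiv.Perm (Fin n) →* H) {p q s : Fin n} (hpq : p ≠ q)
    (hqs : q ≠ s) (hps : p ≠ s) (h : ψ (Equiv.swap p q) ≠ ψ (Equiv.swap q s)) : Function.Injective ψ := by
  refine (injective_iff_map_eq_one ψ).2 fun g hg => eq_one_of_commute_swaps hn fun i j hij => ?_
  refine swap_image_inj hn ψ (swap_adj_ne ψ hpq hqs hps h) _ _ ?_ ⟨i, j, hij, rfl⟩ ?_
  · exact ⟨g i, g j, fun e => hij (g.injective e), (Equiv.swap_apply_apply g i j).symm⟩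
  · rw [map_mul, map_mul, hg, one_mul, map_inv, hg, inv_one, mul_one]

/-- An element of the image commuting with the images of all transpositions is trivial. -/
theorem range_center_trivial (hn : n = 3 ∨ n = 5) {ψ : Equiv.Perm (Fin n) →* H} (hinj : Function.Injective ψ)
    {z : H} (hz : z ∈ ψ.range) (hc : ∀ i j : Fin n, i ≠ j → Commute z (ψ (Equiv.swap i j))) : z = 1 := by
  obtain ⟨g, rfl⟩ := hz
  rw [eq_one_of_commute_swaps hn (g := g) fun i j hij => hinj ?_, map_one]
  rw [map_mul, map_mul, map_inv, (hc i j hij).eq, mul_inv_cancel_right]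

variable {G : Type*} [Group G] [Finite G]

/-- Orbit and stabiliser for a conjugation orbit. -/
theorem card_orbit (M : Subgroup G) (a : G) (O : Set G) (hO : ∀ g ∈ M, g * a * g⁻¹ ∈ O)
    (htrans : ∀ x ∈ O, ∃ g ∈ M, g * a * g⁻¹ = x) :
    Nat.card M = O.ncard * Nat.card (Subgroup.centralizer ({a} : Set G) ⊓ M : Subgroup G) := by
  have hr : Set.range (fun g : M => (g : G) * a * (g : G)⁻¹) = O := by
    ext x
    exact ⟨fun ⟨⟨g, hg⟩, e⟩ => e ▸ hO g hg, fun hx => by
      obtain ⟨g, hg, e⟩ := htrans x hx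
      exact ⟨⟨g, hg⟩, e⟩⟩
  have := card_eq_mul_of_fibres (fun g : M => (g : G) * a * (g : G)⁻¹) ((Subgroup.centralizer {a}).subgroupOf M)
    fun g g' => by rw [Subgroup.mem_subgroupOf]; exact conj_eq_conj_iff
  rw [this, hr, ← Subgroup.inf_subgroupOf_right, Nat.card_congr (Subgroup.subgroupOfEquivOfLe inf_le_right).toEquiv]

theorem centralizer_closure_set (S : Set G) :
    Subgroup.centralizer ((Subgroup.closure S : Subgroup G) : Set G) = Subgroup.centralizer S :=
  Subgroup.centralizer_closure S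

end Cfsg.Agent.TT95

namespace Cfsg.Agent.TT95

/-- Two subgroups of the same prime order fixing transpositions are conjugate. -/
theorem conj_of_fix {G : Type*} [Group G] [Finite G] {D : Set G} (hC : Cfg22 D) [Gen D] (hcore : Core22 G D)
    {r : ℕ} (hr : r.Prime) (h2 : ¬ r ^ 2 ∣ 18393661440) {X Y : Subgroup G} {v u : G} (hv : v ∈ D)
    (hXv : X ≤ Subgroup.centralizer ({v} : Set G)) (hX : Nat.card X = r) (hu : u ∈ D)
    (hYu : Y ≤ Subgroup.centralizer ({u} : Set G)) (hY : Nat.card Y = r) :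
    ∃ g : G, X.map (MulAut.conj g).toMonoidHom = Y := by
  obtain ⟨g, hg⟩ := hC.one v hv u hu
  have hmap : X.map (MulAut.conj g).toMonoidHom ≤ Subgroup.centralizer ({u} : Set G) := by
    intro x hx
    obtain ⟨x, hx, rfl⟩ := hx
    show g * x * g⁻¹ ∈ _
    rw [Subgroup.mem_centralizer_singleton_iff, ← hg]
    exact ((Commute.conj_iff g).2 (Subgroup.mem_centralizer_singleton_iff.1 (hXv hx))).eq
  obtain ⟨k, hk⟩ := conj_in_centralizer hC hcore hu hr h2 hmap
    (by rw [Nat.card_congr (Subgroup.equivMapOfInjective X _ (MulAut.conj g).injective).symm.toEquiv, hX]) hYu hY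
  refine ⟨k * g, ?_⟩
  rw [← hk, Subgroup.map_map]
  congr 1
  ext z
  show k * g * z * (k * g)⁻¹ = k * (g * z * g⁻¹) * k⁻¹
  group

end Cfsg.Agent.TT95
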