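import Cfsg.Agent.TT95.InvolClasses
import Cfsg.Agent.TT95.NormPerm

/-!
Type M(22): elements of order five or more commuting with an involution fix a transposition.
-/

set_option autoImplicit false
set_option linter.unusedSectionVars false

namespace Cfsg.Agent.TT95

variable {G : Type*} [Group G] [Finite G] {D : Set G} (hC : Cfg22 D) [Gen D] (hcore : Core22 G D)

include hC hcore

theorem fix_of_commute_involution {z u : G} {r : ℕ} (hr : r.Prime) (h5 : 5 ≤ r) (hz : orderOf z = r)
    (hu : u * u = 1) (hu1 : u ≠ 1) (hzu : Commute z u) : ∃ v ∈ D, Commute z v := by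
  have hD := hC.tt
  have small : ∀ T : Set G, T.Nonempty → T.ncard ≤ 3 → T ⊆ D → (∀ t ∈ T, z * t * z⁻¹ ∈ T) →
      ∃ v ∈ D, Commute z v := by
    intro T hTne hT hTD hinv
    have h := fixed_mod (Subgroup.zpowers z) hr (by rw [Nat.card_zpowers, hz]) T (fun g hg t ht => by
      obtain ⟨n, rfl⟩ := (mem_powers_iff_mem_zpowers (x := z)).2 hg
      clear hg
      show z ^ n * t * (z ^ n)⁻¹ ∈ T
      induction n with
      | zero => simpa using ht
      | succ n ih =>
        rw [show z ^ (n + 1) * t * (z ^ (n + 1))⁻¹ = z * (z ^ n * t * (z ^ n)⁻¹) * z⁻¹ by rw [pow_succ']; group]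
        exact hinv _ ih)
    have hpos : 0 < T.ncard := hTne.ncard_pos
    rw [Nat.mod_eq_of_lt (show T.ncard < r by omega)] at h
    obtain ⟨v, hv⟩ : (T ∩ (Subgroup.centralizer ((Subgroup.zpowers z : Subgroup G) : Set G) : Set G)).Nonempty := by
      apply Set.nonempty_of_ncard_ne_zero
      intro e
      rw [e] at h
      simp at h
      omega
    exact ⟨v, hTD hv.1, (mem_centralizer_zpowers.1 hv.2).symm⟩
  obtain ⟨m, h1, h3, hm⟩ := involution_isProd hC hcore hu hu1
  have hzu' : z * u * z⁻¹ = u := mul_inv_eq_iff_eq_mul.2 hzu.eq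
  interval_cases m
  · exact ⟨u, (isProd_one hC).1 hm, hzu⟩
  · obtain ⟨p, q, hp, hq, hne, hpq, e⟩ := isProd_two hC hm
    refine small {p, q} ⟨p, Or.inl rfl⟩ ((Set.ncard_insert_le _ _).trans (by simp)) ?_ ?_
    · rintro t (rfl | rfl) <;> assumption
    · have he : p * q = (z * p * z⁻¹) * (z * q * z⁻¹) := by
        rw [show (z * p * z⁻¹) * (z * q * z⁻¹) = z * (p * q) * z⁻¹ by group, e, hzu']
      rcases pair_unique hD hC.tf hp hq (conj_mem hD z hp) (conj_mem hD z hq) hne hpq
        ((Commute.conj_iff z).2 hpq) he with ⟨e1, e2⟩ | ⟨e1, e2⟩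
      · rintro t (rfl | rfl)
        · exact Or.inl e1
        · exact Or.inr e2
      · rintro t (rfl | rfl)
        · exact Or.inr e1
        · exact Or.inl e2
  · obtain ⟨a, b, c, ha, hb, hc, hne, hab, hac, hbc, e⟩ := isProd_three hC hm
    obtain ⟨x, y, w, hx, hy, hw, hxy, hxw, hyw, cxy, cxw, cyw, hxa, hxb, hxc, hprod, huniq⟩ :=
      partner hC ha hb hc hne hab hac hbc
    set A : Set G := {t | t = a ∨ t = b ∨ t = c} with hA
    set B : Set G := {t | t = x ∨ t = y ∨ t = w} with hB
    set f : Set G → Set G := fun S => (fun t => z * t * z⁻¹) '' S with hf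
    have key : ∀ p q s, p ∈ D → q ∈ D → s ∈ D → p ≠ q ∧ p ≠ s ∧ q ≠ s → Commute p q → Commute p s →
        Commute q s → p * q * s = a * b * c →
        f {t | t = p ∨ t = q ∨ t = s} = A ∨ f {t | t = p ∨ t = q ∨ t = s} = B := by
      intro p q s hp hq hs hn c1 c2 c3 hpr
      have him : f {t | t = p ∨ t = q ∨ t = s} =
          {t | t = z * p * z⁻¹ ∨ t = z * q * z⁻¹ ∨ t = z * s * z⁻¹} := by
        ext t
        constructor
        · rintro ⟨t, h | h | h, rfl⟩ <;> subst h
          · exact Or.inl rfl
          · exact Or.inr (Or.inl rfl)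
          · exact Or.inr (Or.inr rfl)
        · rintro (rfl | rfl | rfl)
          · exact ⟨p, Or.inl rfl, rfl⟩
          · exact ⟨q, Or.inr (Or.inl rfl), rfl⟩
          · exact ⟨s, Or.inr (Or.inr rfl), rfl⟩
      have inj : ∀ {u v : G}, z * u * z⁻¹ = z * v * z⁻¹ → u = v := fun h =>
        mul_left_cancel (mul_right_cancel h)
      rw [him]
      refine (huniq _ _ _ (conj_mem hD z hp) (conj_mem hD z hq) (conj_mem hD z hs)
        ⟨fun h => hn.1 (inj h), fun h => hn.2.1 (inj h), fun h => hn.2.2 (inj h)⟩
        ((Commute.conj_iff z).2 c1) ((Commute.conj_iff z).2 c2) ((Commute.conj_iff z).2 c3) ?_).imp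
        (fun h => Set.ext h) (fun h => Set.ext h)
      rw [show z * p * z⁻¹ * (z * q * z⁻¹) * (z * s * z⁻¹) = z * (p * q * s) * z⁻¹ by group, hpr, e, hzu', ← e]
    have fA := key a b c ha hb hc hne hab hac hbc rfl
    have fB := key x y w hx hy hw ⟨hxy, hxw, hyw⟩ cxy cxw cyw hprod.symm
    have hAB : A ≠ B := fun h => by
      have : x ∈ A := h ▸ (Or.inl rfl : x ∈ B)
      rcases this with h | h | h
      · exact hxa h
      · exact hxb h
      · exact hxc h
    have hAA : f A = A := by
      refine fA.resolve_right fun h => hAB ?_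
      have hit : ∀ n, f^[n] A = (fun t => z ^ n * t * (z ^ n)⁻¹) '' A := by
        intro n
        induction n with
        | zero => simp
        | succ n ih =>
          rw [Function.iterate_succ_apply', ih]
          simp only [hf, Set.image_image]
          congr 1
          funext t
          rw [pow_succ']
          group
      have hr1 : f^[r] A = A := by rw [hit, ← hz, pow_orderOf_eq_one]; simp
      rcases fB with hb' | hb'
      · obtain ⟨k, hk⟩ := (hr.eq_two_or_odd'.resolve_left (by omega) : Odd r)
        have h2 : ∀ j, f^[2 * j] A = A := by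
          intro j
          induction j with
          | zero => rfl
          | succ j ih => rw [show 2 * (j + 1) = 2 + 2 * j by ring, Function.iterate_add_apply, ih]; exact
              (congrArg f h).trans hb'
        rw [hk, show 2 * k + 1 = Nat.succ (2 * k) from rfl, Function.iterate_succ_apply', h2, h] at hr1
        exact hr1.symm
      · have h2 : ∀ j, f^[j + 1] A = B := by
          intro j
          induction j with
          | zero => exact h
          | succ j ih => rw [Function.iterate_succ_apply', ih]; exact hb'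
        obtain ⟨k, rfl⟩ : ∃ k, r = k + 1 := ⟨r - 1, by omega⟩
        rw [h2] at hr1
        exact hr1.symm
    refine small A ⟨a, Or.inl rfl⟩ ?_ ?_ fun t ht => hAA ▸ ⟨t, ht, rfl⟩
    · have : A = {a, b, c} := by ext t; simp [hA]
      rw [this]
      exact (Set.ncard_insert_le _ _).trans (by have := Set.ncard_insert_le b ({c} : Set G); simp at this ⊢; omega)
    · rintro t (rfl | rfl | rfl) <;> assumption

end Cfsg.Agent.TT95
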