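import Cfsg.Agent.TT95.NormTrace
import Mathlib.RingTheory.Polynomial.Cyclotomic.Roots
import Mathlib.RingTheory.AdjoinRoot

/-!
Type M(22): no element of order nine has a cube displacing like a free element of order three, since 286 is
no multiple of six.
-/

set_option autoImplicit false
set_option linter.unusedSectionVars false

namespace Cfsg.Agent.TT95

open Polynomial
open scoped Classical

/-- An irreducible annihilating polynomial has degree dividing the dimension. -/
theorem natDegree_dvd_finrank {V : Type*} [AddCommGroup V] [Module ℚ V] (f : Module.End ℚ V) {p : ℚ[X]}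
    (hp : Irreducible p) (hf : aeval f p = 0) : p.natDegree ∣ Module.finrank ℚ V := by
  have := Fact.mk hp
  set φ : AdjoinRoot p →+* Module.End ℚ V := Ideal.Quotient.lift _ (aeval f).toRingHom (fun q hq => by
    obtain ⟨r, rfl⟩ := Ideal.mem_span_singleton'.1 hq
    show aeval f (r * p) = 0
    rw [map_mul, hf, mul_zero]) with hφ
  let _ : Module (AdjoinRoot p) V := Module.compHom V φ
  have : IsScalarTower ℚ (AdjoinRoot p) V := IsScalarTower.of_algebraMap_smul fun q v => by
    show aeval f (Polynomial.C q) v = q • v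
    rw [aeval_C]
    rfl
  refine ⟨Module.finrank (AdjoinRoot p) V, ?_⟩
  rw [← Module.finrank_mul_finrank ℚ (AdjoinRoot p) V, (AdjoinRoot.powerBasis hp.ne_zero).finrank,
    AdjoinRoot.powerBasis_dim]

variable {G : Type*} [Group G] [Finite G] {D : Set G} (hD : TTSet D)

noncomputable local instance instFintypeD' : Fintype D := Fintype.ofFinite D

noncomputable local instance instFintypeSub' (M : Subgroup G) : Fintype M := Fintype.ofFinite M

theorem permM_pow (g : G) : ∀ n : ℕ, permM hD g ^ n = permM hD (g ^ n)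
  | 0 => by rw [pow_zero, pow_zero, permM_one]
  | n + 1 => by rw [pow_succ, permM_pow g n, permM_mul, pow_succ']

include hD

variable (hC : Cfg22 D) [Gen D] {a : G} (ha : a ∈ D)

include hC ha

theorem trace_eM : (eM D).trace = 429 := by
  have := trace_permM_eM hD hC ha 1
  rw [permM_one, one_mul] at this
  have h0 : disp63 D (1 : G) = 0 := by
    rw [disp63, Set.ncard_eq_zero, Set.eq_empty_iff_forall_notMem]
    rintro x ⟨-, hx⟩
    exact hx.2.1 (by group)
  have h1 : {x : G | x ∈ D ∧ Commute (1 : G) x} = D := by ext x; simp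
  rw [h0, h1, ncard_D hC ha] at this
  rw [this]
  norm_num

theorem no_order_nine {g : G} (hg : orderOf g = 9) (hfree : ∀ x ∈ D, ¬ Commute (g ^ 3) x)
    (hdisp : disp63 D (g ^ 3) = 702) (hdisp' : disp63 D (g ^ 6) = 702) : False := by
  set P := permM hD g with hP
  set E := eM D with hE
  set Q := avgM hD (Subgroup.zpowers (g ^ 3)) with hQ
  set M := E - Q * E with hMdef
  have h9 : g ^ 9 = 1 := hg ▸ pow_orderOf_eq_one g
  have hQP : Q * P = P * Q := by
    simp only [hQ, avgM, hP, smul_mul_assoc, mul_smul_comm, Finset.sum_mul, Finset.mul_sum, permM_mul]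
    congr 1
    refine Finset.sum_congr rfl fun x _ => congrArg _ ?_
    obtain ⟨i, hi⟩ := Subgroup.mem_zpowers_iff.1 x.2
    rw [← hi]
    exact ((Commute.self_pow g 3).zpow_right i).eq
  have hsum : (3 : ℚ) • Q = 1 + P ^ 3 + P ^ 6 := by
    have h3 : orderOf (g ^ 3) = 3 := by
      rw [orderOf_pow' g (by norm_num : 3 ≠ 0), hg]
      norm_num
    rw [hQ, avgM, Nat.card_zpowers, h3, smul_smul, show (3 : ℚ) * ((3 : ℕ) : ℚ)⁻¹ = 1 by norm_num, one_smul,
      show (∑ x : Subgroup.zpowers (g ^ 3), permM hD (x : G)) = _ from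
        (Finset.sum_map Finset.univ ⟨Subtype.val, Subtype.val_injective⟩ (fun x => permM hD x)).symm,
      show Finset.univ.map ⟨Subtype.val, Subtype.val_injective⟩ = (Finset.range 3).image fun k => (g ^ 3) ^ k from ?_,
      Finset.sum_image fun i hi j hj e => pow_injOn_Iio_orderOf (by simpa [h3] using hi) (by simpa [h3] using hj) e,
      Finset.sum_range_succ, Finset.sum_range_succ, Finset.sum_range_succ, Finset.sum_range_zero, hP, permM_pow,
      permM_pow]
    · simp [← pow_mul, permM_one]
    · ext x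
      simp only [Finset.mem_map, Finset.mem_univ, true_and, Function.Embedding.coeFn_mk, Finset.mem_image,
        Finset.mem_range]
      constructor
      · rintro ⟨⟨x, hx⟩, rfl⟩
        obtain ⟨n, rfl⟩ := (mem_powers_iff_mem_zpowers (x := g ^ 3)).2 hx
        exact ⟨n % 3, Nat.mod_lt _ (by norm_num), (congrArg (fun m => (g ^ 3) ^ (n % m)) h3).symm.trans
          (pow_mod_orderOf (g ^ 3) n)⟩
      · rintro ⟨k, -, rfl⟩
        exact ⟨⟨_, pow_mem (Subgroup.mem_zpowers _) k⟩, rfl⟩
  have hPE : P * E = E * P := permM_comm_eM hD g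
  have hQE : Q * E = E * Q := avgM_comm hD _
  have hQQ : Q * Q = Q := avgM_sq hD _
  have hEE : E * E = E := eM_sq hD hC ha
  have hQEE : Q * E * E = Q * E := by rw [mul_assoc, hEE]
  have hM : M * M = M := by
    rw [hMdef, sub_mul, mul_sub, mul_sub, hEE, ← mul_assoc E, ← hQE, hQEE,
      avg_eM_sq hD hC ha (Subgroup.zpowers (g ^ 3))]
    abel
  obtain ⟨n, hn, hn'⟩ := exists_trace_natCast hM
  -- the trace
  have hf0 : ∀ k, k = 3 ∨ k = 6 → {x : G | x ∈ D ∧ Commute (g ^ k) x}.ncard = 0 := by
    intro k hk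
    rw [Set.ncard_eq_zero, Set.eq_empty_iff_forall_notMem]
    rintro x ⟨hx, hc⟩
    rcases hk with rfl | rfl
    · exact hfree x hx hc
    · refine hfree x hx ?_
      have := hc.pow_left 2
      rw [← pow_mul, show 6 * 2 = 9 + 3 by rfl, pow_add, h9, one_mul] at this
      exact this
  have hn286 : n = 286 := by
    have t3 := trace_permM_eM hD hC ha (g ^ 3)
    rw [hdisp, hf0 3 (Or.inl rfl)] at t3
    have t6 := trace_permM_eM hD hC ha (g ^ 6)
    rw [hdisp', hf0 6 (Or.inr rfl)] at t6
    have e : (3 : ℚ) * (Q * E).trace = 429 := by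
      rw [← smul_eq_mul, ← Matrix.trace_smul, ← smul_mul_assoc, hsum, hP, permM_pow, permM_pow, add_mul, add_mul,
        one_mul, Matrix.trace_add, Matrix.trace_add, t3, t6, hE, trace_eM hD hC ha]
      norm_num
    have : (n : ℚ) = 286 := by
      rw [← hn, hMdef, Matrix.trace_sub, hE, trace_eM hD hC ha]
      linarith
    exact_mod_cast this
  -- the action on the moved part
  have hPM : P * M = M * P := by
    rw [hMdef, mul_sub, sub_mul, hPE, ← mul_assoc, ← hQP, mul_assoc, hPE, mul_assoc]
  have hkill : (P ^ 6 + P ^ 3 + 1) * M = 0 := by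
    rw [show P ^ 6 + P ^ 3 + 1 = (3 : ℚ) • Q by rw [hsum]; abel, smul_mul_assoc, hMdef, mul_sub, ← mul_assoc,
      hQQ, sub_self, smul_zero]
  set W := LinearMap.range (Matrix.toLin' M) with hW
  have hmaps : ∀ x ∈ W, Matrix.toLin' P x ∈ W := by
    rintro _ ⟨z, rfl⟩
    exact ⟨Matrix.toLin' P z, by rw [← Matrix.toLin'_mul_apply, ← hPM, Matrix.toLin'_mul_apply]⟩
  set f := (Matrix.toLin' P).restrict hmaps with hf
  have hiter : ∀ (k : ℕ) (x : W), (((f ^ k) x : W) : D → ℚ) = Matrix.toLin' (P ^ k) x := by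
    intro k
    induction k with
    | zero => intro x; simp
    | succ k ih =>
      intro x
      rw [pow_succ', Module.End.mul_apply, pow_succ', Matrix.toLin'_mul_apply, ← ih x]
      rfl
  have hcyc : cyclotomic 9 ℚ = X ^ 6 + X ^ 3 + 1 := by
    rw [show (9 : ℕ) = 3 ^ (1 + 1) by rfl, cyclotomic_prime_pow_eq_geom_sum (by norm_num : Nat.Prime 3)]
    simp only [Finset.sum_range_succ, Finset.sum_range_zero]
    ring
  have hzero : aeval f (cyclotomic 9 ℚ) = 0 := by
    rw [hcyc, map_add, map_add, map_pow, map_pow, aeval_X, map_one]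
    refine LinearMap.ext fun x => Subtype.ext ?_
    obtain ⟨z, hz⟩ := x.2
    simp only [LinearMap.add_apply, Submodule.coe_add, Module.End.one_apply, hiter, LinearMap.zero_apply,
      Submodule.coe_zero]
    rw [← hz, ← Matrix.toLin'_mul_apply, ← Matrix.toLin'_mul_apply, ← LinearMap.add_apply, ← map_add,
      ← LinearMap.add_apply, ← map_add, show P ^ 6 * M + P ^ 3 * M + M = 0 by
        rw [← hkill, add_mul, add_mul, one_mul]]
    simp
  have h6 := natDegree_dvd_finrank f (cyclotomic.irreducible_rat (by norm_num : 0 < 9)) hzero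
  rw [natDegree_cyclotomic, ← hn', hn286] at h6
  exact absurd h6 (by decide)

end Cfsg.Agent.TT95
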