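import Cfsg.Agent.TT95.NormFix
import Cfsg.Agent.Lib.CharInd.Char
import Cfsg.Agent.Lib.CharCore.Linear
import Cfsg.Agent.Lib.CharClifford.Central
import Cfsg.Agent.Lib.CharInd.Basic

/-!
Type M(22): a self-conjugate element of order thirteen with centraliser of order 39 would give an irreducible
character of a degree that the order forbids.
-/

set_option autoImplicit false
set_option linter.unusedSectionVars false

namespace Cfsg.Agent.TT95

open scoped Classical ComplexConjugate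

/-- Two coefficient vectors of norm three with the trivial coordinate in common. -/
theorem norm_three_split {ι : Type*} [Fintype ι] (i₀ : ι) (m d : ι → ℕ) (k : ι → ℤ) (hd₀ : d i₀ = 1) (hm₀ : m i₀ = 1)
    (hk₀ : k i₀ = 1) (hdpos : ∀ i, 0 < d i) (hm : ∑ i, m i * m i = 3) (hk : ∑ i, k i * k i = 3)
    (hmk : ∑ i, (m i : ℤ) * k i = 0) (hmd : ∑ i, m i * d i = 3510) (hkd : ∑ i, k i * (d i : ℤ) = 0) :
    ∃ A B C, d A + d B = 3509 ∧ d C + 1 = d A := by
  have hm1 : ∀ i, m i = 0 ∨ m i = 1 := fun i => by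
    have := Finset.single_le_sum (f := fun i => m i * m i) (fun _ _ => Nat.zero_le _) (Finset.mem_univ i)
    rw [hm] at this
    rcases Nat.lt_or_ge (m i) 2 with h | h
    · omega
    · nlinarith
  have hk1 : ∀ i, k i = 0 ∨ k i = 1 ∨ k i = -1 := fun i => by
    have := Finset.single_le_sum (f := fun i => k i * k i) (fun _ _ => mul_self_nonneg _) (Finset.mem_univ i)
    rw [hk] at this
    rcases le_or_gt (k i) 1 with h | h
    · rcases le_or_gt (-1) (k i) with h' | h'
      · omega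
      · nlinarith
    · nlinarith
  set S := Finset.univ.filter fun i => m i = 1 with hS
  set T := Finset.univ.filter fun i => k i ≠ 0 with hT
  have hSc : S.card = 3 := by
    rw [Finset.card_filter, ← hm]
    exact Finset.sum_congr rfl fun i _ => by rcases hm1 i with h | h <;> simp [h]
  have hTc : T.card = 3 := by
    have e : ((T.card : ℕ) : ℤ) = 3 := by
      rw [Finset.card_filter, Nat.cast_sum, ← hk]
      exact Finset.sum_congr rfl fun i _ => by rcases hk1 i with h | h | h <;> simp [h]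
    exact_mod_cast e
  have hi₀ : i₀ ∈ S := by simp [hS, hm₀]
  have hi₀' : i₀ ∈ T := by simp [hT, hk₀]
  obtain ⟨A, B, hAB, hSe⟩ : ∃ A B, A ≠ B ∧ S.erase i₀ = {A, B} := Finset.card_eq_two.1 (by
    rw [Finset.card_erase_of_mem hi₀, hSc])
  have hS3 : ∀ f : ι → ℤ, ∑ i, (m i : ℤ) * f i = f i₀ + f A + f B := by
    intro f
    rw [add_assoc, ← Finset.sum_pair hAB (f := f), ← hSe, Finset.add_sum_erase S f hi₀, Finset.sum_filter]
    exact Finset.sum_congr rfl fun i _ => by rcases hm1 i with h | h <;> simp [h]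
  have h1 := hS3 k
  rw [hmk, hk₀] at h1
  have h2 := hS3 fun i => (d i : ℤ)
  have h2' : (∑ i, (m i : ℤ) * (d i : ℤ)) = 3510 := by exact_mod_cast hmd
  rw [h2', hd₀] at h2
  have key : ∀ A B, A ∈ S.erase i₀ → B ∈ S.erase i₀ → k A = -1 → k B = 0 → d A + d B = 3509 →
      ∃ A B C, d A + d B = 3509 ∧ d C + 1 = d A := by
    intro A B hA hB kA kB hsum
    have hAT : A ∈ T.erase i₀ := Finset.mem_erase.2 ⟨(Finset.mem_erase.1 hA).1, by simp [hT, kA]⟩
    obtain ⟨C, hC⟩ : ∃ C, (T.erase i₀).erase A = {C} := Finset.card_eq_one.1 (by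
      rw [Finset.card_erase_of_mem hAT, Finset.card_erase_of_mem hi₀', hTc])
    refine ⟨A, B, C, hsum, ?_⟩
    have hT3 : ∑ i, k i * (d i : ℤ) = k i₀ * d i₀ + (k A * d A + k C * d C) := by
      have hCs : k C * (d C : ℤ) = ∑ i ∈ (T.erase i₀).erase A, k i * (d i : ℤ) := by rw [hC, Finset.sum_singleton]
      rw [hCs, Finset.add_sum_erase _ (fun i => k i * (d i : ℤ)) hAT,
        Finset.add_sum_erase _ (fun i => k i * (d i : ℤ)) hi₀', Finset.sum_filter]
      exact Finset.sum_congr rfl fun i _ => by rcases hk1 i with h | h | h <;> simp [h]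
    rw [hkd, hk₀, hd₀, kA] at hT3
    have := hdpos A
    have := hdpos C
    rcases hk1 C with h | h | h <;> rw [h] at hT3 <;> push_cast at hT3
    · exfalso
      have hCm : C ∈ (T.erase i₀).erase A := by rw [hC]; exact Finset.mem_singleton_self C
      exact (Finset.mem_filter.1 (Finset.mem_erase.1 (Finset.mem_erase.1 hCm).2).2).2 h
    · omega
    · omega
  have mA : A ∈ S.erase i₀ := by simp [hSe]
  have mB : B ∈ S.erase i₀ := by simp [hSe]
  rcases hk1 A with hA | hA | hA <;> rcases hk1 B with hB | hB | hB <;> rw [hA, hB] at h1 <;>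
    first
    | omega
    | exact key A B mA mB hA hB (by omega)
    | exact key B A mB mA hB hA (by omega)

theorem degree_check :
    ((List.range 3510).all fun A => !(Nat.beq (64561751654400 % A) 0 && Nat.beq (64561751654400 % (A - 1)) 0 &&
      Nat.beq (64561751654400 % (3509 - A)) 0)) = true := by
  decide +kernel

variable {G : Type*} [Group G] [Finite G] {D : Set G} (hC : Cfg22 D) [Gen D] (hcore : Core22 G D)

include hC hcore

theorem sum_cent_inf {a : G} (ha : a ∈ D) :
    ∑ᶠ v ∈ D, Nat.card (Subgroup.centralizer ({a} : Set G) ⊓ Subgroup.centralizer {v} : Subgroup G) =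
      3 * Nat.card (Subgroup.centralizer ({a} : Set G)) := by
  set H := Subgroup.centralizer ({a} : Set G) with hH
  have hfix : ∀ {g : G}, g ∈ H → g * a * g⁻¹ = a := fun h =>
    mul_inv_eq_iff_eq_mul.2 (Subgroup.mem_centralizer_singleton_iff.1 h)
  have orb : ∀ S : Set G, (∀ g ∈ H, ∀ x ∈ S, g * x * g⁻¹ ∈ S) → (∀ x ∈ S, ∀ y ∈ S, ∃ g ∈ H, g * x * g⁻¹ = y) →
      S.Nonempty → ∑ᶠ v ∈ S, Nat.card (H ⊓ Subgroup.centralizer {v} : Subgroup G) = Nat.card H := by
    intro S hinv htr hne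
    have hv : ∀ v ∈ S, S.ncard * Nat.card (H ⊓ Subgroup.centralizer {v} : Subgroup G) = Nat.card H := by
      intro v hv
      have hr : Set.range (fun g : H => (g : G) * v * (g : G)⁻¹) = S := by
        ext x
        refine ⟨fun ⟨⟨g, hg⟩, e⟩ => e ▸ hinv g hg v hv, fun hx => ?_⟩
        obtain ⟨g, hg, e⟩ := htr v hv x hx
        exact ⟨⟨g, hg⟩, e⟩
      have := card_eq_mul_of_fibres (fun g : H => (g : G) * v * (g : G)⁻¹) ((Subgroup.centralizer {v}).subgroupOf H)
        fun g g' => by rw [Subgroup.mem_subgroupOf]; exact conj_eq_conj_iff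
      rw [hr, ← Subgroup.inf_subgroupOf_left,
        Nat.card_congr (Subgroup.subgroupOfEquivOfLe inf_le_left).toEquiv] at this
      exact this.symm
    obtain ⟨v₀, hv₀⟩ := hne
    rw [finsum_mem_congr rfl (g := fun _ => Nat.card (H ⊓ Subgroup.centralizer {v₀} : Subgroup G)) fun v hv' =>
      Nat.eq_of_mul_eq_mul_left ((Set.ncard_pos (Set.toFinite S)).2 ⟨v₀, hv₀⟩) ((hv v hv').trans (hv v₀ hv₀).symm)]
    rw [finsum_mem_eq_finite_toFinset_sum _ (Set.toFinite S), Finset.sum_const, smul_eq_mul,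
      ← Set.ncard_eq_toFinset_card S (Set.toFinite S), hv v₀ hv₀]
  have hsplit : D = {a} ∪ nb D a ∪ far D a := by
    ext x
    constructor
    · intro hx
      rcases mem_nb_or_far (a := a) hx with h | h | h
      · exact Or.inl (Or.inl h)
      · exact Or.inl (Or.inr h)
      · exact Or.inr h
    · rintro ((rfl | h) | h)
      · exact ha
      · exact h.1
      · exact h.1
  have d1 : Disjoint ({a} : Set G) (nb D a) := Set.disjoint_singleton_left.2 fun h => h.2.1 rfl
  have d2 : Disjoint ({a} ∪ nb D a) (far D a) := by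
    rw [Set.disjoint_left]
    rintro x (rfl | h) hx
    · exact hx.2 (Commute.refl x)
    · exact hx.2 h.2.2
  rw [hsplit, finsum_mem_union d2 (Set.toFinite _) (Set.toFinite _),
    finsum_mem_union d1 (Set.toFinite _) (Set.toFinite _)]
  have e1 := orb {a} (fun g hg x hx => by rw [Set.mem_singleton_iff.1 hx]; exact hfix hg)
    (fun x hx y hy => ⟨1, one_mem _, by simp [Set.mem_singleton_iff.1 hx, Set.mem_singleton_iff.1 hy]⟩) ⟨a, rfl⟩
  have e2 := orb (nb D a) (fun g hg x hx => hfix hg ▸ (nb_conj hC.tt g a x).2 hx)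
    (fun x hx y hy => by
      obtain ⟨g, g1, g2⟩ := transPairs22 hC a x a y ha hx.1 ha hy.1 hx.2.1.symm hy.2.1.symm hx.2.2 hy.2.2
      exact ⟨g, Subgroup.mem_centralizer_singleton_iff.2 (mul_inv_eq_iff_eq_mul.1 g1), g2⟩)
    (Set.nonempty_of_ncard_ne_zero (by rw [ncard_nb hC ha]; omega))
  have e3 := orb (far D a) (fun g hg x hx => ⟨conj_mem hC.tt g hx.1, fun h => hx.2 (by
      rw [← hfix hg] at h
      exact (Commute.conj_iff g).1 h)⟩)
    (fun x hx y hy => by
      obtain ⟨g, g1, g2⟩ := transFar22 hC a x a y ha hx ha hy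
      exact ⟨g, Subgroup.mem_centralizer_singleton_iff.2 (mul_inv_eq_iff_eq_mul.1 g1), g2⟩)
    (Set.nonempty_of_ncard_ne_zero (by
      have := Lay.card_split (lay22 hC ha) ha (Set.toFinite D)
      omega))
  rw [e1, e2, e3]
  ring

theorem no_index_two {z u t : G} (hz : orderOf z = 13) (hu : orderOf u = 39)
    (hcent : Subgroup.zpowers u = Subgroup.centralizer ({z} : Set G))
    (hN : ∀ g ∈ Subgroup.normalizer ((Subgroup.zpowers z : Subgroup G) : Set G),
      g ∈ Subgroup.centralizer ({z} : Set G) ∨ t⁻¹ * g ∈ Subgroup.centralizer ({z} : Set G))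
    (ht : t * z * t⁻¹ = z⁻¹) (hfree : ∀ v ∈ D, ¬ Commute z v) : False := by
  obtain ⟨-, a, ha, -⟩ := id hcore
  letI : Fintype G := Fintype.ofFinite G
  set C := Subgroup.zpowers u with hCdef
  have hCc : Nat.card C = 39 := by rw [hCdef, Nat.card_zpowers, hu]
  have hzC : z ∈ C := by rw [hcent]; exact Subgroup.mem_centralizer_singleton_iff.2 rfl
  -- the thirteen part
  have hsub : ∀ c ∈ C, c ^ 13 = 1 → c ∈ Subgroup.zpowers z := by
    intro c hc h13
    obtain ⟨i, rfl⟩ := (mem_powers_iff_mem_zpowers (x := u)).2 hc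
    obtain ⟨l, hl⟩ := (mem_powers_iff_mem_zpowers (x := u)).2 hzC
    simp only at h13 hl
    have h3 : u ^ 3 ∈ Subgroup.zpowers z := by
      have hle : Subgroup.zpowers z ≤ Subgroup.zpowers (u ^ 3) := by
        have h39 : 39 ∣ l * 13 := by
          rw [← hu]
          exact orderOf_dvd_of_pow_eq_one (by rw [pow_mul, hl, ← hz, pow_orderOf_eq_one])
        obtain ⟨q, hq⟩ : 3 ∣ l := by omega
        rw [Subgroup.zpowers_le, ← hl, hq, pow_mul]
        exact pow_mem (Subgroup.mem_zpowers _) q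
      rw [Subgroup.eq_of_le_of_card_ge hle (by
        rw [Nat.card_zpowers, Nat.card_zpowers, hz, orderOf_pow' u (by norm_num : 3 ≠ 0), hu]; decide)]
      exact Subgroup.mem_zpowers _
    have h39 : 39 ∣ i * 13 := by
      rw [← hu]
      exact orderOf_dvd_of_pow_eq_one (by rw [pow_mul, h13])
    obtain ⟨q, rfl⟩ : 3 ∣ i := by omega
    simpa [pow_mul] using pow_mem h3 q
  have h27 : ∀ c ∈ C, c ^ 27 ∈ Subgroup.zpowers z := by
    intro c hc
    refine hsub _ (pow_mem hc _) ?_
    obtain ⟨i, rfl⟩ := (mem_powers_iff_mem_zpowers (x := u)).2 hc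
    show ((u ^ i) ^ 27) ^ 13 = 1
    rw [← pow_mul, ← pow_mul, show i * (27 * 13) = 39 * (9 * i) by ring, pow_mul, ← hu, pow_orderOf_eq_one, one_pow]
  -- the linear character
  set ζ : ℂ := Complex.exp (2 * Real.pi * Complex.I / (13 : ℕ)) with hζ
  have hζp : IsPrimitiveRoot ζ 13 := Complex.isPrimitiveRoot_exp 13 (by norm_num)
  set ζu : ℂˣ := (hζp.isUnit (by norm_num)).unit with hζu
  have hζo : orderOf ζu = 13 := by
    rw [← orderOf_units, IsUnit.unit_spec]
    exact hζp.eq_orderOf.symm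
  have hgen : ∀ c : C, c ∈ Subgroup.zpowers (⟨u, Subgroup.mem_zpowers u⟩ : C) := by
    rintro ⟨c, hc⟩
    obtain ⟨i, rfl⟩ := Subgroup.mem_zpowers_iff.1 hc
    exact ⟨i, rfl⟩
  set lam : C →* ℂˣ := monoidHomOfForallMemZpowers hgen (g' := ζu) (by
    rw [hζo, Subgroup.orderOf_mk, hu]; norm_num) with hlam
  have hlu : lam ⟨u, Subgroup.mem_zpowers u⟩ = ζu := monoidHomOfForallMemZpowers_apply_gen _ _
  have hker : ∀ c : C, (lam c = 1 ↔ ((c : G) ^ 27 = 1)) := by
    rintro ⟨c, hc⟩
    obtain ⟨i, rfl⟩ := (mem_powers_iff_mem_zpowers (x := u)).2 hc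
    show lam ⟨u ^ i, hc⟩ = 1 ↔ (u ^ i) ^ 27 = 1
    rw [show (⟨u ^ i, hc⟩ : C) = ⟨u, Subgroup.mem_zpowers u⟩ ^ i from rfl, map_pow, hlu,
      ← orderOf_dvd_iff_pow_eq_one, hζo, ← pow_mul, ← orderOf_dvd_iff_pow_eq_one, hu]
    omega
  set φ : C → ℂ := (fun _ => (1 : ℂ)) - fun c => ((lam c : ℂˣ) : ℂ) with hφ
  have hφ0 : ∀ c : C, φ c ≠ 0 → (c : G) ^ 27 ≠ 1 := fun c h e => h (by
    show (1 : ℂ) - (lam c : ℂˣ) = 0
    rw [(hker c).2 e, Units.val_one, sub_self])
  -- an element of the support moves the normalizer only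
  have hti : ∀ (c : C) (x : G), φ c ≠ 0 → x⁻¹ * c * x ∈ C →
      x ∈ Subgroup.normalizer ((Subgroup.zpowers z : Subgroup G) : Set G) := by
    intro c x hc hx
    have : Fact (Nat.Prime 13) := ⟨by norm_num⟩
    have hgenz : Subgroup.zpowers ((c : G) ^ 27) = Subgroup.zpowers z := by
      refine Subgroup.eq_of_le_of_card_ge (Subgroup.zpowers_le.2 (h27 _ c.2)) ?_
      rw [Nat.card_zpowers, Nat.card_zpowers, hz]
      have h : orderOf ((c : G) ^ 27) ∣ 13 := hz ▸ orderOf_dvd_of_mem_zpowers (h27 _ c.2)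
      rcases (Nat.dvd_prime (by norm_num)).1 h with h | h
      · exact absurd (orderOf_eq_one_iff.1 h) (hφ0 c hc)
      · exact h.ge
    have h1 : x⁻¹ * (c : G) ^ 27 * x ∈ Subgroup.zpowers z := by
      have := h27 _ hx
      rwa [show (x⁻¹ * (c : G) * x) ^ 27 = x⁻¹ * (c : G) ^ 27 * x by
        simpa using conj_pow (a := x⁻¹) (b := (c : G)) (i := 27)] at this
    have hmap : (Subgroup.zpowers z).map (MulAut.conj x⁻¹).toMonoidHom = Subgroup.zpowers z := by
      refine Subgroup.eq_of_le_of_card_ge ?_ (by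
        rw [Nat.card_congr (Subgroup.equivMapOfInjective _ _ (MulAut.conj x⁻¹).injective).symm.toEquiv])
      rw [← hgenz, MonoidHom.map_zpowers, Subgroup.zpowers_le, hgenz]
      simpa using h1
    have : x⁻¹ ∈ Subgroup.normalizer ((Subgroup.zpowers z : Subgroup G) : Set G) := by
      rw [Subgroup.mem_normalizer_iff]
      intro h
      conv_rhs => rw [← hmap, mem_map_conj_iff]
      group
    simpa using inv_mem this
  set θ : G → ℂ := Cfsg.indFun C φ with hθ
  have htz : ∀ y ∈ Subgroup.zpowers z, t⁻¹ * y * t = y⁻¹ := by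
    intro y hy
    obtain ⟨i, rfl⟩ := Subgroup.mem_zpowers_iff.1 hy
    have h : t⁻¹ * z * t = z⁻¹ := by
      calc t⁻¹ * z * t = t⁻¹ * (t * z * t⁻¹)⁻¹ * t := by rw [ht, inv_inv]
        _ = z⁻¹ := by group
    have := conj_zpow (a := t⁻¹) (b := z) (i := i)
    rw [inv_inv, h] at this
    rw [← this, inv_zpow]
  have htN : t ∈ Subgroup.normalizer ((Subgroup.zpowers z : Subgroup G) : Set G) := by
    rw [Subgroup.mem_normalizer_iff]
    intro h
    constructor
    · intro hh
      obtain ⟨i, rfl⟩ := Subgroup.mem_zpowers_iff.1 hh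
      rw [← conj_zpow, ht]
      exact zpow_mem (inv_mem (Subgroup.mem_zpowers z)) i
    · intro hh
      have := htz _ hh
      rw [show t⁻¹ * (t * h * t⁻¹) * t = h by group] at this
      rw [this]
      exact inv_mem hh
  have htC : ∀ c ∈ C, t⁻¹ * c * t ∈ C := by
    intro c hc
    rw [hcent] at hc ⊢
    refine Subgroup.mem_centralizer_singleton_iff.2 ?_
    have h2 : t * z * t⁻¹ * c = c * (t * z * t⁻¹) := by
      rw [ht]
      exact (Commute.inv_left (Subgroup.mem_centralizer_singleton_iff.1 hc : Commute c z).symm).eq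
    calc t⁻¹ * c * t * z = t⁻¹ * (c * (t * z * t⁻¹)) * t := by group
      _ = t⁻¹ * (t * z * t⁻¹ * c) * t := by rw [h2]
      _ = z * (t⁻¹ * c * t) := by group
  have htnC : t ∉ C := by
    intro h
    rw [hcent, Subgroup.mem_centralizer_singleton_iff] at h
    rw [h, mul_inv_cancel_right] at ht
    have := pow_orderOf_eq_one z
    rw [hz, show (13 : ℕ) = 2 * 6 + 1 by rfl, pow_succ, pow_mul, pow_two,
      mul_eq_one_iff_eq_inv.2 ht, one_pow, one_mul] at this
    rw [this, orderOf_one] at hz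
    omega
  have hlt : ∀ c : C, lam ⟨t⁻¹ * c * t, htC c c.2⟩ = (lam c)⁻¹ := by
    intro c
    have h : (t⁻¹ * (c : G) * t * c) ^ 27 = 1 := by
      have hcomm : Commute (t⁻¹ * (c : G) * t) c := by
        obtain ⟨i, hi⟩ := Subgroup.mem_zpowers_iff.1 (htC c c.2)
        obtain ⟨j, hj⟩ := Subgroup.mem_zpowers_iff.1 c.2
        rw [← hi, ← hj]
        exact (Commute.refl u).zpow_zpow i j
      rw [hcomm.mul_pow, show (t⁻¹ * (c : G) * t) ^ 27 = t⁻¹ * (c : G) ^ 27 * t by
        simpa using conj_pow (a := t⁻¹) (b := (c : G)) (i := 27), htz _ (h27 _ c.2), inv_mul_cancel]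
    rw [← mul_eq_one_iff_eq_inv, ← map_mul]
    exact (hker _).2 h
  have hθC : ∀ c : C, φ c ≠ 0 → θ c = 2 - (lam c : ℂˣ) - ((lam c)⁻¹ : ℂˣ) := by
    intro c hc
    rw [hθ, CharInd.indFun_apply, hCc]
    have key : ∀ x : G, Cfsg.extendByZero C φ (x⁻¹ * c * x) =
        (if x ∈ C then φ c else 0) + (if t⁻¹ * x ∈ C then φ ⟨t⁻¹ * c * t, htC c c.2⟩ else 0) := by
      intro x
      have comm : ∀ p q : G, p ∈ C → q ∈ C → p⁻¹ * q * p = q := by
        intro p q hp hq
        obtain ⟨i, rfl⟩ := Subgroup.mem_zpowers_iff.1 hp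
        obtain ⟨j, rfl⟩ := Subgroup.mem_zpowers_iff.1 hq
        group
      by_cases h1 : x ∈ C
      · have h2 : t⁻¹ * x ∉ C := fun h => htnC (by simpa using mul_mem h1 (inv_mem h))
        rw [if_pos h1, if_neg h2, add_zero, comm x c h1 c.2, CharInd.extendByZero_coe]
      by_cases h2 : t⁻¹ * x ∈ C
      · rw [if_neg h1, if_pos h2, zero_add,
          show x⁻¹ * (c : G) * x = (t⁻¹ * x)⁻¹ * (t⁻¹ * c * t) * (t⁻¹ * x) by group, comm _ _ h2 (htC c c.2),
          CharInd.extendByZero_mem φ (htC c c.2)]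
      rw [if_neg h1, if_neg h2, add_zero, CharInd.extendByZero_notMem]
      intro h3
      rcases hN x (hti c x hc h3) with h | h
      · exact h1 (hcent ▸ h)
      · exact h2 (hcent ▸ h)
    have c1 : (Finset.univ.filter fun x : G => x ∈ C).card = 39 := by
      rw [← hCc, ← Fintype.card_subtype, ← Nat.card_eq_fintype_card]
    have c2 : (Finset.univ.filter fun x : G => t⁻¹ * x ∈ C).card = 39 := by
      rw [← c1]
      exact Finset.card_bij (fun x _ => t⁻¹ * x) (fun x hx => by simpa using hx)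
        (fun x _ y _ e => mul_left_cancel e) (fun y hy => ⟨t * y, by simpa using hy, by group⟩)
    simp only [key, Finset.sum_add_distrib, ← Finset.sum_filter, Finset.sum_const, nsmul_eq_mul, c1, c2]
    show ((39 : ℕ) : ℂ)⁻¹ * (((39 : ℕ) : ℂ) * (1 - (lam c : ℂˣ)) +
      ((39 : ℕ) : ℂ) * (1 - (lam ⟨t⁻¹ * c * t, htC c c.2⟩ : ℂˣ))) = _
    rw [hlt c]
    push_cast
    ring
  -- inner products
  have hcf : Cfsg.IsClassFunction G θ := CharInd.isClassFunction_indFun _ _
  have hone : Cfsg.IsClassFunction G (1 : G → ℂ) := fun _ _ => rfl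
  have hnorm1 : ∀ f : C →* ℂˣ, f ≠ 1 → ∑ c : C, ((f c : ℂˣ) : ℂ) = 0 := fun f hf =>
    sum_hom_units_eq_zero ((Units.coeHom ℂ).comp f) fun e => hf (MonoidHom.ext fun c => Units.ext (DFunLike.congr_fun e c))
  have hlne : ∀ n : ℤ, ¬ (13 : ℤ) ∣ n → (lam ^ n : C →* ℂˣ) ≠ 1 := by
    intro n hn e
    have := DFunLike.congr_fun e ⟨u, Subgroup.mem_zpowers u⟩
    rw [MonoidHom.zpow_apply, hlu, MonoidHom.one_apply, ← orderOf_dvd_iff_zpow_eq_one, hζo] at this
    exact hn this
  have hs : ∀ n : ℤ, ¬ (13 : ℤ) ∣ n → ∑ c : C, ((lam c : ℂˣ) : ℂ) ^ n = 0 := by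
    intro n hn
    rw [← hnorm1 _ (hlne n hn)]
    exact Finset.sum_congr rfl fun c _ => by rw [MonoidHom.zpow_apply, Units.val_zpow_eq_zpow_val]
  have hsumφ : ∑ c : C, φ c = 39 := by
    simp only [hφ, Pi.sub_apply, Finset.sum_sub_distrib, Finset.sum_const, Finset.card_univ, ← Nat.card_eq_fintype_card,
      hCc, nsmul_eq_mul, mul_one]
    rw [show ∑ c : C, ((lam c : ℂˣ) : ℂ) = 0 by simpa using hs 1 (by decide)]
    norm_num
  have I1 : Cfsg.classInner θ (1 : G → ℂ) = 1 := by
    rw [hθ, CharInd.classInner_indFun_left C φ hone]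
    simp only [Cfsg.classInner, Pi.one_apply, map_one, mul_one, hsumφ, hCc]
    norm_num
  have hconj : ∀ c : C, conj ((lam c : ℂˣ) : ℂ) = (((lam c)⁻¹ : ℂˣ) : ℂ) := by
    intro c
    have h13 : ((lam c : ℂˣ) : ℂ) ^ 13 = 1 := by
      obtain ⟨i, hi⟩ := Subgroup.mem_zpowers_iff.1 (hgen c)
      rw [← hi, map_zpow, hlu, ← Units.val_pow_eq_pow_val, ← zpow_natCast, ← zpow_mul, mul_comm, zpow_mul,
        zpow_natCast, ← hζo, pow_orderOf_eq_one, one_zpow, Units.val_one]
    rw [Units.val_inv_eq_inv_val, Complex.inv_eq_conj (Complex.norm_eq_one_of_pow_eq_one h13 (by norm_num))]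
  have I2 : Cfsg.classInner θ θ = 3 := by
    rw [show Cfsg.classInner θ θ = Cfsg.classInner (Cfsg.indFun C φ) θ from rfl,
      CharInd.classInner_indFun_left C φ hcf]
    have key : ∀ c : C, φ c * conj (θ (c : G)) = 3 - 3 * ((lam c : ℂˣ) : ℂ) ^ (1 : ℤ) -
        ((lam c : ℂˣ) : ℂ) ^ (-1 : ℤ) + ((lam c : ℂˣ) : ℂ) ^ (2 : ℤ) := by
      intro c
      have hl : ((lam c : ℂˣ) : ℂ) ≠ 0 := Units.ne_zero _
      by_cases hc : φ c = 0
      · have e : ((lam c : ℂˣ) : ℂ) = 1 := (sub_eq_zero.1 hc).symm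
        rw [hc, zero_mul, e]
        norm_num
      · rw [hθC c hc, map_sub, map_sub, map_ofNat, hconj c, ← hconj c, Complex.conj_conj, hconj c,
          Units.val_inv_eq_inv_val, zpow_one, zpow_neg_one, zpow_two]
        show (1 - ((lam c : ℂˣ) : ℂ)) * _ = _
        field_simp
        ring
    simp only [Cfsg.classInner, key, Finset.sum_add_distrib, Finset.sum_sub_distrib, ← Finset.mul_sum, Finset.sum_const,
      hs 1 (by decide), hs (-1) (by decide), hs 2 (by decide), Finset.card_univ, ← Nat.card_eq_fintype_card, hCc]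
    norm_num
  -- the permutation character
  set H := Subgroup.centralizer ({a} : Set G) with hH
  set π : G → ℂ := Cfsg.indFun H (fun _ => (1 : ℂ)) with hπ
  have hπc : Cfsg.IsClassFunction G π := CharInd.isClassFunction_indFun _ _
  have hπ0 : ∀ c : C, φ c ≠ 0 → π c = 0 := by
    intro c hc
    rw [hπ]
    refine CharInd.indFun_eq_zero_of_forall_notMem _ _ fun x hx => ?_
    have hcv : Commute (c : G) (x * a * x⁻¹) := by
      have := (Commute.conj_iff x).2 (show Commute (x⁻¹ * (c : G) * x) a from Subgroup.mem_centralizer_singleton_iff.1 hx)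
      rwa [show x * (x⁻¹ * (c : G) * x) * x⁻¹ = (c : G) by group] at this
    have hne := hφ0 c hc
    have : Fact (Nat.Prime 13) := ⟨by norm_num⟩
    have hzmem : z ∈ Subgroup.zpowers ((c : G) ^ 27) := by
      rw [Subgroup.eq_of_le_of_card_ge (Subgroup.zpowers_le.2 (h27 _ c.2)) (by
        rw [Nat.card_zpowers, Nat.card_zpowers, hz]
        rcases (Nat.dvd_prime (by norm_num)).1 (hz ▸ orderOf_dvd_of_mem_zpowers (h27 _ c.2) :
          orderOf ((c : G) ^ 27) ∣ 13) with h | h
        · exact absurd (orderOf_eq_one_iff.1 h) hne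
        · exact h.ge)]
      exact Subgroup.mem_zpowers z
    obtain ⟨i, hi⟩ := Subgroup.mem_zpowers_iff.1 hzmem
    exact hfree _ (conj_mem hC.tt x ha) (hi ▸ (hcv.pow_left 27).zpow_left i)
  have I3 : Cfsg.classInner θ π = 0 := by
    rw [hθ, CharInd.classInner_indFun_left C φ hπc]
    have key : ∀ c : C, φ c * conj (π (c : G)) = 0 := fun c => by
      by_cases hc : φ c = 0
      · rw [hc, zero_mul]
      · rw [hπ0 c hc, map_zero, mul_zero]
    simp [Cfsg.classInner, key]
  have hHne : (Nat.card H : ℂ) ≠ 0 := CharInd.natCard_subgroup_ne_zero H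
  have I4 : Cfsg.classInner π (1 : G → ℂ) = 1 := by
    rw [hπ, CharInd.classInner_indFun_left H _ hone]
    simp [Cfsg.classInner, Finset.card_univ, ← Nat.card_eq_fintype_card, inv_mul_cancel₀ hHne]
  have I5 : Cfsg.classInner π π = 3 := by
    rw [show Cfsg.classInner π π = Cfsg.classInner (Cfsg.indFun H fun _ => (1 : ℂ)) π from rfl,
      CharInd.classInner_indFun_left H _ hπc]
    have hval : ∀ h : H, (1 : ℂ) * conj (π (h : G)) = (Nat.card H : ℂ)⁻¹ *
        ((Finset.univ.filter fun x : G => x⁻¹ * h * x ∈ H).card : ℂ) := by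
      intro h
      rw [one_mul, hπ, CharInd.indFun_apply, map_mul, map_inv₀, map_natCast, map_sum]
      congr 1
      rw [Finset.natCast_card_filter]
      refine Finset.sum_congr rfl fun x _ => ?_
      by_cases hx : x⁻¹ * (h : G) * x ∈ H
      · rw [CharInd.extendByZero_mem _ hx, if_pos hx, map_one]
      · rw [CharInd.extendByZero_notMem _ hx, if_neg hx, map_zero]
    have hcount : ∑ h : H, (Finset.univ.filter fun x : G => x⁻¹ * h * x ∈ H).card = 3 * Nat.card H * Nat.card H := by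
      have e : ∀ (h : H) (x : G), x⁻¹ * (h : G) * x ∈ H ↔ (h : G) ∈ H ⊓ Subgroup.centralizer {x * a * x⁻¹} := by
        intro h x
        rw [Subgroup.mem_inf]
        simp only [Subgroup.mem_centralizer_singleton_iff]
        show x⁻¹ * (h : G) * x ∈ Subgroup.centralizer ({a} : Set G) ↔ _
        rw [Subgroup.mem_centralizer_singleton_iff]
        constructor
        · intro hx
          refine ⟨h.2, ?_⟩
          calc (h : G) * (x * a * x⁻¹) = x * (x⁻¹ * h * x * a) * x⁻¹ := by group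
            _ = x * (a * (x⁻¹ * h * x)) * x⁻¹ := by rw [hx]
            _ = x * a * x⁻¹ * h := by group
        · rintro ⟨-, hx⟩
          calc x⁻¹ * h * x * a = x⁻¹ * (h * (x * a * x⁻¹)) * x := by group
            _ = x⁻¹ * (x * a * x⁻¹ * h) * x := by rw [hx]
            _ = a * (x⁻¹ * h * x) := by group
      simp only [Finset.card_filter, e]
      rw [Finset.sum_comm]
      have f1 : ∀ x : G, ∑ h : H, (if (h : G) ∈ H ⊓ Subgroup.centralizer {x * a * x⁻¹} then 1 else 0) =
          Nat.card (H ⊓ Subgroup.centralizer {x * a * x⁻¹} : Subgroup G) := by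
        intro x
        rw [← Finset.card_filter, ← Nat.card_congr (Subgroup.subgroupOfEquivOfLe
          (inf_le_left : H ⊓ Subgroup.centralizer {x * a * x⁻¹} ≤ H)).toEquiv, Nat.card_eq_fintype_card,
          Fintype.card_subtype]
        congr 1
      simp only [f1]
      rw [← Finset.sum_fiberwise_of_maps_to (t := (Set.toFinite D).toFinset) (g := fun x => x * a * x⁻¹)
        (fun x _ => by simpa using conj_mem hC.tt x ha)]
      have f2 : ∀ v ∈ (Set.toFinite D).toFinset, ∑ x ∈ Finset.univ.filter (fun x : G => x * a * x⁻¹ = v),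
          Nat.card (H ⊓ Subgroup.centralizer {x * a * x⁻¹} : Subgroup G) =
          Nat.card H * Nat.card (H ⊓ Subgroup.centralizer {v} : Subgroup G) := by
        intro v hv
        rw [Finset.sum_congr rfl (fun x hx => by rw [(Finset.mem_filter.1 hx).2]), Finset.sum_const, smul_eq_mul]
        congr 1
        obtain ⟨g, hg⟩ := hC.one a ha v ((Set.toFinite D).mem_toFinset.1 hv)
        rw [← Nat.card_eq_finsetCard]
        refine Nat.card_congr
          { toFun := fun x => ⟨g⁻¹ * x.1, ?_⟩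
            invFun := fun h => ⟨g * h.1, ?_⟩
            left_inv := fun x => Subtype.ext (by simp)
            right_inv := fun h => Subtype.ext (by simp) }
        · exact conj_eq_conj_iff.1 (hg.trans (Finset.mem_filter.1 x.2).2.symm)
        · refine Finset.mem_filter.2 ⟨Finset.mem_univ _, ?_⟩
          rw [← hg]
          exact (conj_eq_conj_iff.2 (show g⁻¹ * (g * h.1) ∈ H by simpa using h.2)).symm
      rw [Finset.sum_congr rfl f2, ← Finset.mul_sum, ← finsum_mem_eq_finite_toFinset_sum _ (Set.toFinite D),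
        sum_cent_inf hC hcore ha]
      ring
    simp only [Cfsg.classInner, hval, ← Finset.mul_sum, ← Nat.cast_sum, hcount]
    push_cast
    field_simp
  -- decompositions
  have cone : Cfsg.IsCharacter G (1 : G → ℂ) := CharCore.isCharacter_one
  have hcπ : Cfsg.IsCharacter G π := CharInd.isCharacter_indFun H CharCore.isCharacter_one
  set π₁ := Cfsg.indFun C (fun _ => (1 : ℂ)) with hπ1
  set π₂ := Cfsg.indFun C (fun c => ((lam c : ℂˣ) : ℂ)) with hπ2
  have h1c : Cfsg.IsCharacter G π₁ := CharInd.isCharacter_indFun C CharCore.isCharacter_one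
  have h2c : Cfsg.IsCharacter G π₂ :=
    CharInd.isCharacter_indFun C (CharCore.IsIrrCharacter.isCharacter (CharCore.isIrrCharacter_hom lam))
  have hθd : θ = π₁ - π₂ := by
    rw [hθ, hφ]
    exact CharInd.indFun_sub C _ _
  choose m hm using fun ψ : Cfsg.IrrCharacter G =>
    CharCore.IsCharacter.exists_classInner_irr_eq_natCast hcπ ψ
  choose k1 hk1 using fun ψ : Cfsg.IrrCharacter G =>
    CharCore.IsCharacter.exists_classInner_irr_eq_natCast h1c ψ
  choose k2 hk2 using fun ψ : Cfsg.IrrCharacter G =>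
    CharCore.IsCharacter.exists_classInner_irr_eq_natCast h2c ψ
  choose d hdpos hddvd hd using fun ψ : Cfsg.IrrCharacter G => CharClifford.exists_degree_dvd_card ψ.2
  have eπ : π = ∑ ψ : Cfsg.IrrCharacter G, (m ψ : ℂ) • (ψ : G → ℂ) := by
    conv_lhs => rw [CharCore.IsCharacter.eq_sum_classInner hcπ]
    exact Finset.sum_congr rfl fun ψ _ => by rw [hm]
  have eθ : θ = ∑ ψ : Cfsg.IrrCharacter G, (((k1 ψ : ℤ) - k2 ψ : ℤ) : ℂ) • (ψ : G → ℂ) := by
    rw [hθd]
    conv_lhs => rw [CharCore.IsCharacter.eq_sum_classInner h1c, CharCore.IsCharacter.eq_sum_classInner h2c]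
    rw [← Finset.sum_sub_distrib]
    exact Finset.sum_congr rfl fun ψ _ => by rw [hk1, hk2, ← sub_smul]; push_cast; rfl
  set i₀ : Cfsg.IrrCharacter G := ⟨1, CharCore.isIrrCharacter_one⟩ with hi₀
  set k : Cfsg.IrrCharacter G → ℤ := fun ψ => (k1 ψ : ℤ) - k2 ψ with hk
  have eπ' : π = ∑ ψ : Cfsg.IrrCharacter G, ((m ψ : ℤ) : ℂ) • (ψ : G → ℂ) := by rw [eπ]; norm_num
  have eθ' : θ = ∑ ψ : Cfsg.IrrCharacter G, (k ψ : ℂ) • (ψ : G → ℂ) := eθ
  have hinner : ∀ (p q : Cfsg.IrrCharacter G → ℤ),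
      Cfsg.classInner (∑ ψ, (p ψ : ℂ) • (ψ : G → ℂ)) (∑ ψ, (q ψ : ℂ) • (ψ : G → ℂ)) =
        ((∑ ψ, p ψ * q ψ : ℤ) : ℂ) := by
    intro p q
    rw [CharCore.classInner_sum_sum, Int.cast_sum]
    exact Finset.sum_congr rfl fun ψ _ => by rw [map_intCast, Int.cast_mul]
  have J1 : ∑ ψ, (m ψ : ℤ) * m ψ = 3 := by
    have h := I5; rw [eπ', hinner] at h; exact_mod_cast h
  have J2 : ∑ ψ, k ψ * k ψ = 3 := by
    have h := I2; rw [eθ', hinner] at h; exact_mod_cast h
  have J3 : ∑ ψ, (m ψ : ℤ) * k ψ = 0 := by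
    have h := I3; rw [eθ', eπ', hinner] at h
    have h' : ∑ ψ, k ψ * (m ψ : ℤ) = 0 := by exact_mod_cast h
    simpa [mul_comm] using h'
  have J4 : m i₀ = 1 := by
    have h := hm i₀
    rw [show ((i₀ : G → ℂ)) = 1 from rfl, I4] at h
    exact_mod_cast h.symm
  have J5 : k i₀ = 1 := by
    have h : Cfsg.classInner θ (i₀ : G → ℂ) = (k i₀ : ℂ) := by rw [eθ', CharCore.classInner_sum_all]
    rw [show ((i₀ : G → ℂ)) = 1 from rfl, I1] at h
    exact_mod_cast h.symm
  have hd0 : d i₀ = 1 := by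
    have h := hd i₀
    rw [show ((i₀ : G → ℂ)) = 1 from rfl, Pi.one_apply] at h
    exact_mod_cast h.symm
  have hπ1v : π 1 = 3510 := by
    rw [hπ, CharInd.indFun_apply]
    simp only [mul_one, inv_mul_cancel]
    rw [show Cfsg.extendByZero H (fun _ => (1 : ℂ)) 1 = 1 from CharInd.extendByZero_mem _ (one_mem H),
      Finset.sum_const, Finset.card_univ, ← Nat.card_eq_fintype_card, card_group hC ha hcore,
      card_centralizer hC ha hcore]
    norm_num
  have hθ1v : θ 1 = 0 := by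
    rw [hθ, CharInd.indFun_apply]
    simp only [mul_one, inv_mul_cancel]
    rw [CharInd.extendByZero_mem _ (one_mem C)]
    simp [hφ, show lam ⟨1, one_mem C⟩ = 1 from map_one lam]
  have hev : ∀ p : Cfsg.IrrCharacter G → ℤ,
      (∑ ψ, (p ψ : ℂ) • (ψ : G → ℂ)) 1 = ((∑ ψ, p ψ * (d ψ : ℤ) : ℤ) : ℂ) := by
    intro p
    rw [Finset.sum_apply, Int.cast_sum]
    exact Finset.sum_congr rfl fun ψ _ => by rw [Pi.smul_apply, smul_eq_mul, hd]; push_cast; rfl
  have J6 : ∑ ψ, (m ψ : ℤ) * (d ψ : ℤ) = 3510 := by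
    have h := congrFun eπ' 1
    rw [hπ1v, hev] at h
    exact_mod_cast h.symm
  have J7 : ∑ ψ, k ψ * (d ψ : ℤ) = 0 := by
    have h := congrFun eθ' 1
    rw [hθ1v, hev] at h
    exact_mod_cast h.symm
  obtain ⟨A, B, Cc, hAB, hCA⟩ := norm_three_split i₀ m d k hd0 J4 J5 hdpos (by exact_mod_cast J1) J2 J3
    (by exact_mod_cast J6) J7
  have hG : Nat.card G = 64561751654400 := by rw [card_group hC ha hcore]
  have hchk := List.all_eq_true.1 degree_check (d A) (List.mem_range.2 (by omega))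
  have dd : ∀ {x y : ℕ}, x ∣ Nat.card G → x = y → Nat.beq (64561751654400 % y) 0 = true := fun h e => by
    rw [← e, ← hG, Nat.dvd_iff_mod_eq_zero.1 h]; exact Nat.beq_refl 0
  rw [dd (hddvd A) rfl, dd (hddvd Cc) (by omega : d Cc = d A - 1), dd (hddvd B) (by omega : d B = 3509 - d A)] at hchk
  exact absurd hchk (by decide)

end Cfsg.Agent.TT95
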