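import Cfsg.Agent.TT95.NormOrder3Fix
import Cfsg.Agent.TT95.NormOrderNine
import Cfsg.Agent.TT95.NormThirteenChar
import Cfsg.Agent.TT95.NormInvol
import Cfsg.Agent.TT95.NormEleven
import Cfsg.Agent.TT95.NormSeven
import Cfsg.Agent.TT95.NormFiveConj

/-!
Type M(22): subgroups of order thirteen.
-/

set_option autoImplicit false
set_option linter.unusedSectionVars false

namespace Cfsg.Agent.TT95

variable {G : Type*} [Group G] [Finite G] {D : Set G} (hC : Cfg22 D) [Gen D] (hcore : Core22 G D)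

include hC hcore

theorem thirteen_free {z : G} (hz : orderOf z = 13) : ∀ v ∈ D, ¬ Commute z v := fun v hv h => by
  have := Subgroup.orderOf_dvd_natCard _ (Subgroup.mem_centralizer_singleton_iff.2 h.eq :
    z ∈ Subgroup.centralizer ({v} : Set G))
  rw [hz, card_centralizer hC hv hcore] at this
  omega

theorem thirteen_disp {z w : G} (hz : orderOf z = 13) (hw : orderOf w = 3) (hzw : Commute z w) :
    (∀ x ∈ D, ¬ Commute w x) ∧ disp63 D w = 702 := by
  have hD := hC.tt
  obtain ⟨-, a, ha, -⟩ := id hcore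
  have hfree : ∀ x ∈ D, ¬ Commute w x := fun x hx h => no_z_of_fix hC hcore hw hz hzw hx h
  refine ⟨hfree, ?_⟩
  obtain ⟨m, hm, hodd, hform⟩ := disp_form hD hC ha hw hfree
  set S := {x : G | x ∈ D ∧ x ∈ nb D (w * x * w⁻¹)} with hS
  have hinv : ∀ g ∈ Subgroup.zpowers z, ∀ x ∈ S, g * x * g⁻¹ ∈ S := by
    intro g hg x hx
    obtain ⟨i, rfl⟩ := Subgroup.mem_zpowers_iff.1 hg
    refine ⟨conj_mem hD _ hx.1, ?_⟩
    rw [show w * (z ^ i * x * (z ^ i)⁻¹) * w⁻¹ = (w * z ^ i) * x * (w * z ^ i)⁻¹ by group,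
      ← (hzw.zpow_left i).eq,
      show z ^ i * w * x * (z ^ i * w)⁻¹ = z ^ i * (w * x * w⁻¹) * (z ^ i)⁻¹ by group]
    exact (nb_conj hD _ _ _).2 hx.2
  have h13 := fixed_mod (Subgroup.zpowers z) (by norm_num : Nat.Prime 13) (by rw [Nat.card_zpowers, hz]) S hinv
  rw [show S ∩ (Subgroup.centralizer ((Subgroup.zpowers z : Subgroup G) : Set G) : Set G) = (∅ : Set G) from
    Set.eq_empty_iff_forall_notMem.2 fun x hx =>
      thirteen_free hC hcore hz x hx.1.1 (mem_centralizer_zpowers.1 hx.2).symm, Set.ncard_empty] at h13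
  have hd : disp63 D w % 13 = 0 := by rw [disp63, ← hS]; omega
  have hle : disp63 D w ≤ 3510 := by
    rw [disp63, ← ncard_D hC ha]
    exact Set.ncard_le_ncard (fun x hx => hx.1)
  rcases (show disp63 D w = 702 ∨ disp63 D w = 3510 by obtain ⟨k, rfl⟩ := hodd; omega) with h | h
  · exact h
  exfalso
  have hall : ∀ x ∈ D, x ∈ nb D (w * x * w⁻¹) := by
    intro x hx
    have : S = D := Set.eq_of_subset_of_ncard_le (fun x hx => hx.1) (by rw [ncard_D hC ha, ← h]; rfl)
    rw [← this] at hx
    exact hx.2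
  have hall' : ∀ x ∈ D, Commute x (w⁻¹ * x * w) := by
    intro x hx
    have h1 := hall _ (show w⁻¹ * x * w ∈ D by simpa using conj_mem hD w⁻¹ hx)
    rw [show w * (w⁻¹ * x * w) * w⁻¹ = x by group] at h1
    exact h1.2.2
  set c := w⁻¹ * a * w with hc
  set b := w * a * w⁻¹ with hb
  have hcD : c ∈ D := by simpa [hc] using conj_mem hD w⁻¹ ha
  have hca : a ∈ nb D c := by
    refine ⟨ha, fun e => ?_, (hall' a ha).symm⟩
    have := hall c hcD
    rw [show w * c * w⁻¹ = a by rw [hc]; group] at this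
    exact this.2.1 e.symm
  have hba : b ∈ nb D a := ⟨conj_mem hD _ ha, (hall a ha).2.1.symm, (hall a ha).2.2.symm⟩
  have hcb : b ∈ nb D c := by
    refine ⟨conj_mem hD _ ha, fun e => ?_, ?_⟩
    · refine hfree a ha ?_
      have h2 : w * w * a = a * (w * w) := by
        calc w * w * a = w * (w * a * w⁻¹) * w := by group
          _ = w * c * w := by rw [show w * a * w⁻¹ = c from e]
          _ = a * (w * w) := by rw [hc]; group
      have hw3 := pow_orderOf_eq_one w
      rw [hw, pow_succ, pow_two] at hw3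
      have h3 : Commute (w * w) a := h2
      have := h3.inv_left
      rwa [inv_eq_of_mul_eq_one_right hw3] at this
    · have h2 := hall' b (conj_mem hD _ ha)
      rw [show w⁻¹ * b * w = a by rw [hb]; group] at h2
      have hw3 := pow_orderOf_eq_one w
      rw [hw, pow_succ, pow_two] at hw3
      have h4 := hall' c hcD
      rw [show w⁻¹ * c * w = b by
        rw [hc, hb, show w⁻¹ * (w⁻¹ * a * w) * w = (w * w)⁻¹ * a * (w * w) by group,
          inv_eq_of_mul_eq_one_right hw3, eq_inv_of_mul_eq_one_left hw3]] at h4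
      exact h4
  have key : nb D c \ ({a} ∪ nb D a) ⊆ common D c b := by
    rintro y ⟨hy, hy'⟩
    have hay : ¬ Commute a y := fun e => hy' (Or.inr ⟨hy.1, fun e' => hy' (Or.inl e'), e⟩)
    set p := w⁻¹ * y * w with hp
    have hyp : Commute y p := hall' y hy.1
    have h1 := hall' (a * y * a) (conj_mem' hD hy.1 ha)
    have e1 : w⁻¹ * (a * y * a) * w = c * p * c := by rw [hc, hp]; group
    rw [e1] at h1
    have h2 : Commute (a * y * a) p := by
      have hcy : Commute c y := hy.2.2
      have hccc : c * (a * y * a) * c = a * y * a := by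
        calc c * (a * y * a) * c = (c * a) * y * a * c := by group
          _ = a * c * y * a * c := by rw [hca.2.2.eq]
          _ = a * (c * y) * a * c := by group
          _ = a * (y * c) * a * c := by rw [hcy.eq]
          _ = a * y * (c * a) * c := by group
          _ = a * y * (a * c) * c := by rw [hca.2.2.eq]
          _ = a * y * a * (c * c) := by group
          _ = a * y * a := by rw [sq hD hcD, mul_one]
      have h3 := (Commute.conj_iff c).2 h1
      rw [inv_eq hD hcD, hccc, show c * (c * p * c) * c = c * c * p * (c * c) by group, sq hD hcD, one_mul,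
        mul_one] at h3
      exact h3
    have h5 : Commute a p := by
      have h6 : Commute (y * (a * y * a) * y) p := (hyp.mul_left h2).mul_left hyp
      rwa [show y * (a * y * a) * y = a by
        rw [braid hD ha hy.1 hay, show y * (y * a * y) * y = (y * y) * a * (y * y) by group, sq hD hy.1, one_mul,
          mul_one]] at h6
    have h7 : Commute y b := by
      have := (Commute.conj_iff w).2 h5
      rw [show w * p * w⁻¹ = y by rw [hp]; group] at this
      exact this.symm
    refine ⟨hy, hy.1, fun e => hay ?_, h7.symm⟩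
    rw [e]
    exact hba.2.2
  have hcard := Set.ncard_le_ncard key
  rw [edge22 hC hcD hcb] at hcard
  have h693 := ncard_nb hC hcD
  have hsub : nb D c ⊆ (nb D c \ ({a} ∪ nb D a)) ∪ ({a} ∪ common D c a) := by
    intro y hy
    by_cases h1 : y ∈ ({a} ∪ nb D a : Set G)
    · exact Or.inr (h1.imp_right fun h2 => ⟨hy, h2⟩)
    · exact Or.inl ⟨hy, h1⟩
  have h180 := (Set.ncard_le_ncard hsub).trans ((Set.ncard_union_le _ _).trans
    (Nat.add_le_add_left (Set.ncard_union_le _ _) _))
  rw [h693, edge22 hC hcD hca, Set.ncard_singleton] at h180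
  omega

variable {X : Subgroup G} (hX : Nat.card X = 13)

include hX

theorem thirteen_gen : ∃ z, orderOf z = 13 ∧ Subgroup.zpowers z = X := by
  haveI := Fact.mk (show Nat.Prime 13 by norm_num)
  obtain ⟨⟨z, hzX⟩, hz⟩ := (isCyclic_of_prime_card hX).exists_ofOrder_eq_natCard
  rw [hX, Subgroup.orderOf_mk] at hz
  exact ⟨z, hz, Subgroup.eq_of_le_of_card_ge (Subgroup.zpowers_le.2 hzX) (by rw [Nat.card_zpowers, hz, hX])⟩

theorem thirteen_cent_primes {r : ℕ} (hr : r.Prime)
    (hdvd : r ∣ Nat.card (Subgroup.centralizer (X : Set G))) : r = 3 ∨ r = 13 := by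
  obtain ⟨-, a, ha, -⟩ := id hcore
  obtain ⟨z, hz, hzX⟩ := thirteen_gen hC hcore hX
  haveI := Fact.mk hr
  obtain ⟨⟨u, hu⟩, huo⟩ := exists_prime_orderOf_dvd_card' r hdvd
  rw [Subgroup.orderOf_mk] at huo
  have hzu : Commute z u := Subgroup.mem_centralizer_iff.1 hu z (hzX ▸ Subgroup.mem_zpowers z)
  have hzX' : z ∈ Subgroup.centralizer ((Subgroup.zpowers u : Subgroup G) : Set G) :=
    mem_centralizer_zpowers.2 hzu
  have h13 := Subgroup.orderOf_dvd_natCard _ hzX'
  rw [hz] at h13
  have hcard : Nat.card (Subgroup.zpowers u) = r := by rw [Nat.card_zpowers, huo]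
  have hrG : r ∣ Nat.card G := huo ▸ orderOf_dvd_natCard u
  rw [card_group hC ha hcore, show 3510 * 18393661440 = 2 ^ 17 * 3 ^ 9 * 5 ^ 2 * 7 * 11 * 13 by norm_num] at hrG
  simp only [Nat.Prime.dvd_mul hr] at hrG
  rcases hrG with ((((h | h) | h) | h) | h) | h
  · exfalso
    have h2 := (Nat.prime_dvd_prime_iff_eq hr Nat.prime_two).1 (hr.dvd_of_dvd_pow h)
    subst h2
    have huu : u * u = 1 := by
      have := pow_orderOf_eq_one u
      rwa [huo, pow_two] at this
    have hu1 : u ≠ 1 := fun e => by rw [e, orderOf_one] at huo; omega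
    obtain ⟨v, hv, hzv⟩ := fix_of_commute_involution hC hcore (by norm_num : Nat.Prime 13) (by norm_num) hz huu hu1 hzu
    exact thirteen_free hC hcore hz v hv hzv
  · exact Or.inl ((Nat.prime_dvd_prime_iff_eq hr Nat.prime_three).1 (hr.dvd_of_dvd_pow h))
  · exfalso
    have h2 := (Nat.prime_dvd_prime_iff_eq hr Nat.prime_five).1 (hr.dvd_of_dvd_pow h)
    subst h2
    obtain ⟨v, hv, hvX⟩ := five_has_fix hC hcore hcard
    rw [(five_norm hC hcore hcard hv hvX).2] at h13
    omega
  · exfalso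
    have h2 := (Nat.prime_dvd_prime_iff_eq hr (by norm_num : Nat.Prime 7)).1 h
    subst h2
    obtain ⟨v, hv, hvX⟩ := seven_has_fix hC hcore hcard
    rw [(seven_norm hC hcore hcard hv hvX).2] at h13
    omega
  · exfalso
    have h2 := (Nat.prime_dvd_prime_iff_eq hr (by norm_num : Nat.Prime 11)).1 h
    subst h2
    obtain ⟨v, hv, hvX⟩ := eleven_has_fix hC hcore hcard
    rw [(eleven_norm hC hcore hcard hv hvX).2] at h13
    omega
  · exact Or.inr ((Nat.prime_dvd_prime_iff_eq hr (by norm_num : Nat.Prime 13)).1 h)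

theorem thirteen_cent_card :
    Nat.card (Subgroup.centralizer (X : Set G)) = 13 ∨ Nat.card (Subgroup.centralizer (X : Set G)) = 39 := by
  obtain ⟨-, a, ha, -⟩ := id hcore
  obtain ⟨z, hz, hzX⟩ := thirteen_gen hC hcore hX
  have hD := hC.tt
  set C := Subgroup.centralizer (X : Set G) with hCdef
  have hXC : X ≤ C := fun x hx => Subgroup.mem_centralizer_iff.2 fun y hy => comm_of_zpowers hzX y hy x hx
  have hcG : Nat.card C ∣ 3 ^ 9 * 13 := by
    have hG := Subgroup.card_subgroup_dvd_card C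
    rw [card_group hC ha hcore, show 3510 * 18393661440 = (2 ^ 17 * 5 ^ 2 * 7 * 11) * (3 ^ 9 * 13) by norm_num] at hG
    refine Nat.Coprime.dvd_of_dvd_mul_left ?_ hG
    refine Nat.coprime_of_dvd fun r hr h1 h2 => ?_
    rcases thirteen_cent_primes hC hcore hX hr h1 with rfl | rfl <;> revert h2 <;> norm_num
  obtain ⟨c', hc'⟩ := hX ▸ Subgroup.card_dvd_of_le hXC
  have hc3 : c' ∣ 3 ^ 9 := by
    rw [hc', mul_comm] at hcG
    exact Nat.dvd_of_mul_dvd_mul_right (by norm_num) hcG
  obtain ⟨j, -, rfl⟩ := (Nat.dvd_prime_pow Nat.prime_three).1 hc3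
  haveI := Fact.mk Nat.prime_three
  obtain ⟨P, hP⟩ := Sylow.exists_subgroup_card_pow_prime 3 (G := C) (n := j) (by rw [hc']; exact dvd_mul_left _ _)
  set K := P.map C.subtype with hK
  have hKC : K ≤ C := Subgroup.map_subtype_le _
  have hKc : Nat.card K = 3 ^ j := by
    rw [hK, ← Nat.card_congr (Subgroup.equivMapOfInjective _ _ C.subtype_injective).toEquiv, hP]
  have hzw : ∀ w ∈ C, Commute z w := fun w hw => Subgroup.mem_centralizer_iff.1 hw z (hzX ▸ Subgroup.mem_zpowers z)
  have hfr : ∀ g ∈ K, g ≠ 1 → disp63 D g = 702 ∧ ∀ x ∈ D, ¬ Commute g x := by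
    intro g hg hg1
    have ho : orderOf g ∣ 3 ^ j := hKc ▸ Subgroup.orderOf_dvd_natCard _ hg
    obtain ⟨i, -, hi⟩ := (Nat.dvd_prime_pow Nat.prime_three).1 ho
    rcases i with _ | _ | i
    · exact absurd (orderOf_eq_one_iff.1 hi) hg1
    · obtain ⟨h1, h2⟩ := thirteen_disp hC hcore hz (by simpa using hi) (hzw g (hKC hg))
      exact ⟨h2, h1⟩
    · exfalso
      have h9 : orderOf (g ^ 3 ^ i) = 9 := by
        rw [orderOf_pow' g (by positivity), hi, Nat.gcd_eq_right (pow_dvd_pow 3 (by omega)),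
          Nat.pow_div (by omega) (by norm_num), show i + 1 + 1 - i = 2 by omega]
        all_goals rfl
      have h3 : orderOf ((g ^ 3 ^ i) ^ 3) = 3 := by
        rw [orderOf_pow' _ (by norm_num : 3 ≠ 0), h9]; rfl
      have h6 : orderOf ((g ^ 3 ^ i) ^ 6) = 3 := by
        rw [orderOf_pow' _ (by norm_num : 6 ≠ 0), h9]; rfl
      have hC' : Commute z (g ^ 3 ^ i) := (hzw g (hKC hg)).pow_right _
      obtain ⟨f1, d1⟩ := thirteen_disp hC hcore hz h3 (hC'.pow_right _)
      obtain ⟨-, d2⟩ := thirteen_disp hC hcore hz h6 (hC'.pow_right _)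
      exact no_order_nine hD hC ha h9 f1 d1 d2
  have h429 := dvd_of_free hD hC ha K hfr
  rw [hKc] at h429
  rcases j with _ | _ | j
  · exact Or.inl (by rw [hc', pow_zero, mul_one])
  · exact Or.inr (by rw [hc']; rfl)
  · exfalso
    have := (pow_dvd_pow 3 (show 2 ≤ j + 2 by omega)).trans h429
    omega

theorem thirteen_norm : Nat.card (Subgroup.normalizer (X : Set G)) = 78 ∧
    Subgroup.centralizer (X : Set G) = X := by
  obtain ⟨-, a, ha, -⟩ := id hcore
  haveI := Fact.mk (show Nat.Prime 13 by norm_num)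
  obtain ⟨z, hz, hzX⟩ := thirteen_gen hC hcore hX
  obtain ⟨e, he, hNC, -⟩ := norm_cent ⊤ X (by norm_num : Nat.Prime 13) hX
  have hG : Nat.card (⊤ : Subgroup G) = 64561751654400 := by rw [Subgroup.card_top, card_group hC ha hcore]
  obtain ⟨-, n, hn, hn'⟩ := sylow_count ⊤ X le_top (by norm_num : Nat.Prime 13) hX (by rw [hG]; norm_num)
  simp only [top_inf_eq] at hn' hNC
  rw [hG, hNC] at hn'
  rcases thirteen_cent_card hC hcore hX with hc | hc <;> rw [hc] at hn' hNC
  · have : e = 6 := by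
      have : e ≤ 12 := Nat.le_of_dvd (by norm_num) he
      interval_cases e <;> omega
    subst this
    refine ⟨by rw [hNC], (Subgroup.eq_of_le_of_card_ge
      (fun x hx => Subgroup.mem_centralizer_iff.2 fun y hy => comm_of_zpowers hzX y hy x hx) (by rw [hX, hc])).symm⟩
  exfalso
  have he2 : e = 2 := by
    have : e ≤ 12 := Nat.le_of_dvd (by norm_num) he
    interval_cases e <;> omega
  subst he2
  set C := Subgroup.centralizer (X : Set G) with hCdef
  set N := Subgroup.normalizer (X : Set G) with hNdef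
  have hCN : C ≤ N := Subgroup.centralizer_le_normalizer _
  have hidx : (C.subgroupOf N).index = 2 := by
    have h := Subgroup.card_mul_index (C.subgroupOf N)
    rw [Nat.card_congr (Subgroup.subgroupOfEquivOfLe hCN).toEquiv, hNC, hc] at h
    omega
  obtain ⟨⟨t, htN⟩, htC⟩ : ∃ t : N, t ∉ C.subgroupOf N := by
    by_contra h
    push Not at h
    rw [(Subgroup.eq_top_iff' _).2 h, Subgroup.index_top] at hidx
    omega
  rw [Subgroup.mem_subgroupOf] at htC
  have htz : t * z * t⁻¹ ∈ Subgroup.zpowers z := by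
    rw [hzX]
    exact (Subgroup.mem_normalizer_iff.1 htN z).1 (hzX ▸ Subgroup.mem_zpowers z)
  obtain ⟨k, hk⟩ := (mem_powers_iff_mem_zpowers (x := z)).2 htz
  simp only at hk
  have ht2 : t * t ∈ C := Subgroup.mem_subgroupOf.1
    (Subgroup.mul_self_mem_of_index_two hidx (⟨t, htN⟩ : N))
  have hcz : ∀ g, g ∈ C ↔ Commute g z := fun g => by
    rw [hCdef, ← hzX, centralizer_zpowers, Subgroup.mem_centralizer_singleton_iff]
    rfl
  have hkk : z ^ (k * k) = z := by
    calc z ^ (k * k) = (z ^ k) ^ k := pow_mul z k k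
      _ = (t * z * t⁻¹) ^ k := by rw [hk]
      _ = t * z ^ k * t⁻¹ := conj_pow
      _ = t * t * z * (t * t)⁻¹ := by rw [hk]; group
      _ = z := by rw [((hcz _).1 ht2).eq, mul_inv_cancel_right]
  have hk1 : ¬ z ^ k = z := fun h => htC ((hcz t).2 (by
    rw [h] at hk
    exact mul_inv_eq_iff_eq_mul.1 hk.symm))
  have hzk : z ^ k = z⁻¹ := by
    have hm : (k * k) % 13 = 1 := by
      have h1 : z ^ (k * k) = z ^ 1 := by rw [hkk, pow_one]
      rw [pow_eq_pow_iff_modEq, hz] at h1
      exact h1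
    rw [Nat.mul_mod] at hm
    have h12 : k % 13 = 12 := by
      have : k % 13 < 13 := Nat.mod_lt _ (by norm_num)
      interval_cases h : k % 13
      case «1» => exact absurd (by rw [← pow_mod_orderOf, hz, h, pow_one]) hk1
      all_goals omega
    refine eq_inv_of_mul_eq_one_left ?_
    rw [← pow_succ, ← pow_mod_orderOf, hz, show (k + 1) % 13 = 0 by omega, pow_zero]
  rw [hzk] at hk
  haveI : Fact (Nat.Prime 3) := ⟨Nat.prime_three⟩
  obtain ⟨⟨w, hwC⟩, hwo⟩ := exists_prime_orderOf_dvd_card' 3 (show 3 ∣ Nat.card C by rw [hc]; norm_num)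
  rw [Subgroup.orderOf_mk] at hwo
  have hzw : Commute z w := ((hcz w).1 hwC).symm
  have huo : orderOf (z * w) = 39 := by
    rw [hzw.orderOf_mul_eq_mul_orderOf_of_coprime (by rw [hz, hwo]; decide), hz, hwo]
  have hcent : Subgroup.zpowers (z * w) = Subgroup.centralizer ({z} : Set G) := by
    rw [← centralizer_zpowers, hzX]
    exact Subgroup.eq_of_le_of_card_ge (Subgroup.zpowers_le.2 (mul_mem ((hcz z).2 (Commute.refl z)) hwC))
      (by rw [Nat.card_zpowers, huo, ← hCdef, hc])
  refine no_index_two hC hcore hz huo hcent (fun g hg => ?_) hk.symm (thirteen_free hC hcore hz)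
  rw [hzX] at hg
  rw [← centralizer_zpowers, hzX, ← hCdef]
  by_cases hgC : g ∈ C
  · exact Or.inl hgC
  right
  have h := (Subgroup.mul_mem_iff_of_index_two hidx (a := (⟨t, htN⟩ : N)⁻¹) (b := ⟨g, hg⟩)).2
    (by simp [Subgroup.mem_subgroupOf, htC, hgC])
  simpa [Subgroup.mem_subgroupOf] using h

theorem thirteen_fix : fixD D X = ∅ := by
  obtain ⟨z, hz, hzX⟩ := thirteen_gen hC hcore hX
  refine Set.eq_empty_iff_forall_notMem.2 fun v hv => thirteen_free hC hcore hz v hv.1 ?_
  exact Subgroup.mem_centralizer_iff.1 hv.2 z (hzX ▸ Subgroup.mem_zpowers z)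

theorem thirteen_conj {Y : Subgroup G} (hY : Nat.card Y = 13) :
    ∃ g : G, X.map (MulAut.conj g).toMonoidHom = Y := by
  obtain ⟨-, a, ha, -⟩ := id hcore
  obtain ⟨g, -, e⟩ := (sylow_count ⊤ X le_top (by norm_num : Nat.Prime 13) hX (by
    rw [Subgroup.card_top, card_group hC ha hcore]; norm_num)).1 Y le_top hY
  exact ⟨g, e⟩

end Cfsg.Agent.TT95
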