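import Cfsg.Agent.TT95.Octad

/-!
Type M(24): commuting octads meet evenly.
-/

set_option autoImplicit false
set_option linter.unusedSectionVars false

namespace Cfsg.Agent.TT95

variable {G : Type*} [Group G] [Finite G] [DecidableEq G] {D : Set G} {d : G}
  {q : ModCenter (Subgroup.closure (nb D d))} (hG : Cfg24 D d q)

include hG

/-- What commutes with five members of an octad commutes with all. -/
theorem oct_commute_rest {O P : Finset G} (hO : IsOct D O) (hP : P.card = 5) (h : P ⊆ O) {y : G} (hy : y ∈ D)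
    (hc : ∀ x ∈ P, Commute y x) : ∀ x ∈ O, Commute y x := by
  have hD := hG.lay.tt
  obtain ⟨u, v, w, uv, uw, vw, hu⟩ := Finset.card_eq_three.1
    (by rw [Finset.card_sdiff_of_subset h, hO.card, hP] : (O \ P).card = 3)
  have hOP : ∀ r, r ∈ O ↔ r ∈ P ∨ (r = u ∨ r = v ∨ r = w) := fun r => by
    have : r ∈ O \ P ↔ r ∈ ({u, v, w} : Finset G) := by rw [hu]
    simp only [Finset.mem_sdiff, Finset.mem_insert, Finset.mem_singleton] at this
    have := @h r
    tauto
  have nx : ∀ r, r = u ∨ r = v ∨ r = w → r ∉ P := fun r hr => by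
    have : r ∈ O \ P := by rw [hu]; simpa using hr
    exact (Finset.mem_sdiff.1 this).2
  obtain ⟨-, -, m1, c1, p1⟩ : IsRel D 8 (P.toList ++ [u, v, w]) := by
    refine hO.rel (List.nodup_append.2 ⟨P.nodup_toList, by simp [uv, uw, vw], ?_⟩) ?_
    · rintro r hr s hs rfl
      exact nx r (by simpa using hs) (Finset.mem_toList.1 hr)
    · ext r
      simp [hOP r]; tauto
  rw [List.prod_append] at p1
  have hk : Commute y (u * v * w) := by
    have e : u * v * w = (P.toList.prod)⁻¹ := by
      rw [eq_inv_iff_mul_eq_one]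
      refine mul_eq_one_comm.1 ?_
      simpa [mul_assoc] using p1
    rw [e]
    exact (Commute.list_prod_right _ _ fun x hx => hc x (Finset.mem_toList.1 hx)).inv_right
  obtain ⟨k1, k2, k3⟩ := (ThreeTransp.centralize_three hD.1 (m1 u (by simp)) (m1 v (by simp)) (m1 w (by simp)) hy
    uv uw vw (c1 u (by simp) v (by simp)) (c1 u (by simp) w (by simp)) (c1 v (by simp) w (by simp))).1 hk
  intro x hx
  rcases (hOP x).1 hx with h' | rfl | rfl | rfl
  · exact hc x h'
  all_goals assumption

/-- Commuting octads meet evenly. -/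
theorem oct_even {O X : Finset G} (hO : IsOct D O) (hX : IsOct D X)
    (hcm : ∀ o ∈ O, ∀ x ∈ X, Commute o x) : Even (X \ O).card := by
  have hD := hG.lay.tt
  by_cases hne : (X \ O) = ∅
  · rw [hne]; simp
  obtain ⟨c0, hc0⟩ := Finset.nonempty_iff_ne_empty.2 hne
  obtain ⟨hOD, -⟩ := hO.cl
  obtain ⟨hXD, hXc⟩ := hX.cl
  have hper : ∀ z ∈ X \ O, z ∈ perp D ↑O := fun z hz => by
    obtain ⟨h1, h2⟩ := Finset.mem_sdiff.1 hz
    exact ⟨hXD z h1, h2, fun o ho => hcm o ho z h1⟩
  obtain ⟨htr, hfour, u, hu, v, hv, huv⟩ := oct_perp hG hO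
  have hc0p := hper c0 hc0
  obtain ⟨y, hy, hyc⟩ : ∃ y ∈ perp D ↑O, ¬ Commute y c0 := by
    by_contra hh
    push Not at hh
    exact huv (htr u hu c0 hc0p v hv (hh u hu) (hh v hv).symm)
  have key : ∀ l : List G, (∀ z ∈ l, z ∈ X \ O) →
      l.prod * y * l.prod⁻¹ ∈ perp D ↑O ∧ ¬ Commute (l.prod * y * l.prod⁻¹) c0 ∧
        (Commute (l.prod * y * l.prod⁻¹) y ↔ Even l.length) := by
    intro l
    induction l with
    | nil => exact fun _ => by simpa using ⟨hy, hyc⟩
    | cons z l ih =>
      intro hl
      obtain ⟨hwp, hwc, hiff⟩ := ih fun x hx => hl x (List.mem_cons_of_mem _ hx)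
      have hz := hper z (hl z List.mem_cons_self)
      have hzc : Commute z c0 := hXc z (Finset.mem_sdiff.1 (hl z List.mem_cons_self)).1 c0 (Finset.mem_sdiff.1 hc0).1
      have hzd := hz.1
      set w := l.prod * y * l.prod⁻¹ with hw
      have e : (z :: l).prod * y * (z :: l).prod⁻¹ = z * w * z := by
        rw [List.prod_cons, hw, mul_inv_rev, inv_eq hD hzd]; group
      rw [e]
      have hwz : ¬ Commute w z := fun h => hwc (htr w hwp z hz c0 hc0p h hzc)
      have hmem : z * w * z ∈ D := conj_mem' hD hwp.1 hzd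
      have hnot : ¬ Commute (z * w * z) z := fun h => hwz (by
        have := (Commute.conj_iff z).2 h
        rwa [inv_eq hD hzd, show z * (z * w * z) * z = (z * z) * w * (z * z) by group, sq hD hzd, one_mul, mul_one,
          one_mul] at this)
      have hperp : z * w * z ∈ perp D ↑O := by
        refine ⟨hmem, fun h => hnot ?_, fun o ho => ((hz.2.2 o ho).mul_right (hwp.2.2 o ho)).mul_right (hz.2.2 o ho)⟩
        exact hz.2.2 _ h
      have hnc : ¬ Commute (z * w * z) c0 := fun h => hnot (htr _ hperp c0 hc0p z hz h hzc.symm)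
      have hnw : ¬ Commute (z * w * z) w := fun h => by
        have hb : z * w * z = w * z * w := braid hD hzd hwp.1 fun c => hwz c.symm
        rw [hb] at h
        have := (Commute.conj_iff w).2 h
        rw [inv_eq hD hwp.1, show w * (w * z * w) * w = (w * w) * z * (w * w) by group, sq hD hwp.1, one_mul,
          mul_one, one_mul] at this
        exact hwz this.symm
      refine ⟨hperp, hnc, ?_⟩
      rw [List.length_cons, Nat.even_add_one, ← hiff]
      constructor
      · intro h h'
        exact hnw (htr _ hperp y hy w hwp h h'.symm)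
      · intro h
        have hzy : ¬ Commute z y := fun h' => hyc (htr y hy z hz c0 hc0p h'.symm hzc)
        rcases hfour z hz y hy w hwp (z * w * z) hperp hzy (fun c => hwz c.symm) (fun c => h c.symm) with r | r | r
        · exact absurd r hnot
        · exact r
        · exact absurd r hnw
  set l1 := (X \ O).toList with hl1
  set l2 := (X ∩ O).toList with hl2
  obtain ⟨-, -, hm, hc, hp⟩ : IsRel D 8 (l2 ++ l1) := by
    refine hX.rel (List.nodup_append.2 ⟨Finset.nodup_toList _, Finset.nodup_toList _, ?_⟩) ?_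
    · rintro r hr s hs rfl
      exact (Finset.mem_sdiff.1 (Finset.mem_toList.1 hs)).2 (Finset.mem_inter.1 (Finset.mem_toList.1 hr)).2
    · ext r
      simp [hl1, hl2]; tauto
  rw [List.prod_append] at hp
  have hyO : Commute y l2.prod := Commute.list_prod_right _ _ fun x hx =>
    (hy.2.2 x (Finset.mem_inter.1 (Finset.mem_toList.1 hx)).2).symm
  have e1 : l1.prod = l2.prod⁻¹ := eq_inv_of_mul_eq_one_right hp
  obtain ⟨-, -, hiff⟩ := key l1 fun z hz => Finset.mem_toList.1 hz
  rw [← Finset.length_toList, ← hiff]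
  rw [e1, inv_inv, (hyO.inv_right.symm).eq, mul_assoc, inv_mul_cancel, mul_one]

end Cfsg.Agent.TT95
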