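import Cfsg.Agent.TT95.Invol24
import Cfsg.Agent.TT95.Layer24
import Cfsg.Agent.TT95.Orders23
import Cfsg.Agent.TT95.OctEven

/-!
Type M(24): the centraliser of two commuting transpositions.
-/

set_option autoImplicit false
set_option linter.style.haveILetI false
set_option linter.unusedSectionVars false

namespace Cfsg.Agent.TT95


variable {G : Type*} [Group G] [Finite G] {D : Set G} {d : G} {q : ModCenter (Subgroup.closure (nb D d))}
  (hG : Cfg24 D d q) {a b : G} (ha : a ∈ D) (hb : b ∈ nb D a)

include hG ha hb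

/-- The first transposition is a product of seven common neighbours. -/
theorem exists_seven_common : ∃ l : List G, l.length = 7 ∧ (∀ x ∈ l, x ∈ common D a b) ∧ l.prod = a := by
  classical
  have hD := hG.lay.tt
  obtain ⟨O, hO, -⟩ := exists_odd_class hG
  obtain ⟨-, -, y, hy, -⟩ := oct_perp hG hO
  obtain ⟨l, hr, el⟩ := hO
  obtain ⟨hnd, hlen, hmem, hcm, hprod⟩ := hr
  match l, hlen with
  | a0 :: rest, hlen =>
    have hin : ∀ x ∈ a0 :: rest, x ∈ O := fun x hx => by rw [← el, List.mem_toFinset]; exact hx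
    have ha0 : a0 ∈ D := hmem a0 List.mem_cons_self
    have e0 : rest.prod = a0 := by
      rw [List.prod_cons] at hprod
      rw [eq_inv_of_mul_eq_one_right hprod, inv_eq hD ha0]
    have hrest : ∀ x ∈ rest, x ∈ common D a0 y := fun x hx =>
      ⟨⟨hmem x (List.mem_cons_of_mem _ hx), fun e => (List.nodup_cons.1 hnd).1 (e ▸ hx),
          hcm a0 List.mem_cons_self x (List.mem_cons_of_mem _ hx)⟩,
        ⟨hmem x (List.mem_cons_of_mem _ hx), fun e => hy.2.1 (e ▸ hin x (List.mem_cons_of_mem _ hx)),
          (hy.2.2 x (hin x (List.mem_cons_of_mem _ hx))).symm⟩⟩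
    obtain ⟨g, g1, g2⟩ := hG.lay.pairs a0 y a b ha0 hy.1 ha hb.1
      (fun e => hy.2.1 (e ▸ hin a0 List.mem_cons_self)) hb.2.1.symm (hy.2.2 a0 (hin a0 List.mem_cons_self)) hb.2.2
    refine ⟨rest.map (MulAut.conj g), by simpa using hlen, fun x hx => ?_, ?_⟩
    · obtain ⟨u, hu, rfl⟩ := List.mem_map.1 hx
      rw [← g1, ← g2]
      exact ⟨(nb_conj hD g a0 u).2 (hrest u hu).1, (nb_conj hD g y u).2 (hrest u hu).2⟩
    · rw [← map_list_prod, e0]; exact g1

theorem fst_mem_common24 : a ∈ Subgroup.closure (common D a b) := by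
  obtain ⟨l, -, hl, hp⟩ := exists_seven_common hG ha hb
  have h : l.prod ∈ Subgroup.closure (common D a b) := list_prod_mem fun x hx => Subgroup.subset_closure (hl x hx)
  exact (congrArg (· ∈ Subgroup.closure (common D a b)) hp).mp h

theorem snd_mem_common24 : b ∈ Subgroup.closure (common D a b) := by
  have := fst_mem_common24 hG hb.1 (mem_nb_comm ha hb)
  rwa [common_symm] at this

/-- The centraliser of a commuting pair is generated by their common neighbours. -/
theorem centralizer_pair24 [Gen D] :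
    Subgroup.centralizer ({a, b} : Set G) = Subgroup.closure (common D a b) := by
  have hD := hG.lay.tt
  haveI := gen_loc24 hG
  haveI := loc_finite hD d
  refine le_antisymm (fun g hg => ?_) fun g hg => ?_
  · have hga : Commute g a := (Subgroup.mem_centralizer_iff.1 hg a (Or.inl rfl)).symm
    have hgb : Commute g b := (Subgroup.mem_centralizer_iff.1 hg b (Or.inr rfl)).symm
    have hgH : g ∈ Subgroup.closure (nb D a) := by
      rw [← centralizer24 hG ha]; exact Subgroup.mem_centralizer_singleton_iff.2 hga.eq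
    obtain ⟨f, hf⟩ := hG.step.iso a ha
    obtain ⟨p, -, hpx⟩ := hf.act_up hD hG.loc.lay.tt subset_rfl hgH
    have hpb : Commute p (f b) := by
      have := hpx b hb
      rw [hgb.eq, mul_inv_cancel_right] at this
      exact mul_inv_eq_iff_eq_mul.1 this.symm
    have hmem : p ∈ Subgroup.centralizer ({f b} : Set _) := Subgroup.mem_centralizer_singleton_iff.2 hpb.eq
    rw [loc_cent24 hG _ (hf.mem hb), ← hf.image_nb hb] at hmem
    obtain ⟨k, hk, hkx⟩ := hf.act_down hD hG.loc.lay.tt Set.inter_subset_left hmem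
    have hkH : k ∈ Subgroup.closure (nb D a) := Subgroup.closure_mono Set.inter_subset_left hk
    have huH : k⁻¹ * g ∈ Subgroup.closure (nb D a) := mul_mem (inv_mem hkH) hgH
    have hfix : ∀ x ∈ nb D a, Commute (k⁻¹ * g) x := by
      intro x hx
      have e := hf.inj (conj_mem_nb hD hgH hx) (conj_mem_nb hD hkH hx) ((hpx x hx).trans (hkx x hx).symm)
      refine mul_inv_eq_iff_eq_mul.1 ?_
      rw [show k⁻¹ * g * x * (k⁻¹ * g)⁻¹ = k⁻¹ * (g * x * g⁻¹) * k by group, e]
      group
    rw [show g = k * (k⁻¹ * g) by group]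
    refine mul_mem hk ?_
    rcases hG.lay.kernel ha (commute_closure_nb hD huH).symm hfix with e | e
    · rw [e]; exact one_mem _
    · rw [e]; exact fst_mem_common24 hG ha hb
  · refine Subgroup.mem_centralizer_iff.2 ?_
    rintro x (rfl | rfl)
    · exact (commute_closure_nb hD (Subgroup.closure_mono Set.inter_subset_left hg)).eq
    · exact (commute_closure_nb hD (Subgroup.closure_mono Set.inter_subset_right hg)).eq

/-- The four group on the pair. -/
theorem mem_pair_cases {z : G} :
    z ∈ ({1, a, b, a * b} : Set G) → z ∈ Subgroup.closure (common D a b) ∧ ∀ w ∈ Subgroup.closure (common D a b), Commute z w := by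
  have hD := hG.lay.tt
  have hA : ∀ w ∈ Subgroup.closure (common D a b), Commute a w := fun w hw =>
    commute_closure_nb hD (Subgroup.closure_mono Set.inter_subset_left hw)
  have hB : ∀ w ∈ Subgroup.closure (common D a b), Commute b w := fun w hw =>
    commute_closure_nb hD (Subgroup.closure_mono Set.inter_subset_right hw)
  rintro (rfl | rfl | rfl | rfl)
  exacts [⟨one_mem _, fun w _ => Commute.one_left w⟩, ⟨fst_mem_common24 hG ha hb, hA⟩,
    ⟨snd_mem_common24 hG ha hb, hB⟩,
    ⟨mul_mem (fst_mem_common24 hG ha hb) (snd_mem_common24 hG ha hb), fun w hw => (hA w hw).mul_left (hB w hw)⟩]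

/-- The centraliser of the pair covers the group of type M(22) with the four group as kernel. -/
theorem exists_pairHom [Gen D] : ∃ χ : Subgroup.closure (common D a b) →* ModCenter (Subgroup.closure (nb (locSet D d) q)),
    Function.Surjective χ ∧ ∀ z : Subgroup.closure (common D a b), χ z = 1 ↔ (z : G) ∈ ({1, a, b, a * b} : Set G) := by
  have hD := hG.lay.tt
  haveI := gen_loc24 hG
  haveI := loc_finite hD d
  have hE := hG.loc.lay.tt
  haveI := loc_finite hE q
  have hE2 := hG.loc.loc.tt
  obtain ⟨f, hf⟩ := hG.step.iso a ha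
  obtain ⟨φ, hφ, -, hφ1⟩ := hf.exists_hom hD hE hG.loc.lay.center
  have hbE := hf.mem hb
  obtain ⟨g, hg⟩ := hG.loc.step.iso (f b) hbE
  obtain ⟨ψ, hψ, -, hψ1⟩ := hg.exists_hom hE hE2 hG.loc.loc.center
  have hLH : Subgroup.closure (common D a b) ≤ Subgroup.closure (nb D a) := Subgroup.closure_mono Set.inter_subset_left
  have hrange : ∀ z : Subgroup.closure (common D a b), φ (Subgroup.inclusion hLH z) ∈ Subgroup.closure (nb (locSet D d) (f b)) := by
    rintro ⟨z, hz⟩
    induction hz using Subgroup.closure_induction with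
    | mem x hx => exact (hφ x hx.1).symm ▸ Subgroup.subset_closure ((hf.mem_nb_iff hb hx.1).2 hx.2)
    | one => exact (map_one φ).symm ▸ one_mem _
    | mul u v hu hv iu iv =>
      rw [show (⟨u * v, mul_mem hu hv⟩ : Subgroup.closure (common D a b)) = ⟨u, hu⟩ * ⟨v, hv⟩ from rfl, map_mul, map_mul]
      exact mul_mem iu iv
    | inv u hu iu =>
      rw [show (⟨u⁻¹, inv_mem hu⟩ : Subgroup.closure (common D a b)) = (⟨u, hu⟩ : Subgroup.closure (common D a b))⁻¹ from rfl,
        map_inv, map_inv]
      exact inv_mem iu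
  set χ := ψ.comp ((φ.comp (Subgroup.inclusion hLH)).codRestrict _ hrange) with hχ
  refine ⟨χ, ?_, fun z => ?_⟩
  · rw [← MonoidHom.range_eq_top, eq_top_iff, ← loc_closure hE q, Subgroup.closure_le]
    intro e he
    obtain ⟨p, hp, rfl⟩ := hg.surj he
    obtain ⟨x, hx, rfl⟩ : p ∈ f '' common D a b := by rw [hf.image_nb hb]; exact hp
    refine ⟨⟨x, Subgroup.subset_closure hx⟩, ?_⟩
    rw [← hψ _ hp]
    exact congrArg ψ (Subtype.ext (hφ x hx.1))
  · set w := φ (Subgroup.inclusion hLH z) with hw
    have hbH : b ∈ Subgroup.closure (nb D a) := Subgroup.subset_closure hb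
    have hfix : ∀ u : Subgroup.closure (nb D a), φ u = 1 → (u : G) = 1 ∨ (u : G) = a := fun u hu =>
      hG.lay.kernel ha (commute_closure_nb hD u.2).symm ((hφ1 u).1 hu)
    constructor
    · intro h
      have hcom := (hψ1 ⟨w, hrange z⟩).1 h
      rcases hG.loc.lay.kernel hbE (commute_closure_nb hE (hrange z)).symm hcom with e | e
      · rcases hfix _ e with e' | e'
        · exact Or.inl e'
        · exact Or.inr (Or.inl e')
      · rcases hfix (Subgroup.inclusion hLH z * ⟨b, hbH⟩⁻¹) (by
            rw [map_mul, map_inv, ← hw, hφ b hb, show w = f b from e, mul_inv_cancel]) with e' | e'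
        · exact Or.inr (Or.inr (Or.inl (mul_inv_eq_one.1 e')))
        · exact Or.inr (Or.inr (Or.inr (mul_inv_eq_iff_eq_mul.1 e')))
    · intro h
      refine (hψ1 ⟨w, hrange z⟩).2 fun p hp => ?_
      obtain ⟨x, hx, rfl⟩ : p ∈ f '' common D a b := by rw [hf.image_nb hb]; exact hp
      have hc := (mem_pair_cases hG ha hb h).2 x (Subgroup.subset_closure hx)
      have hc' : Commute (Subgroup.inclusion hLH z) (⟨x, Subgroup.subset_closure hx.1⟩ : Subgroup.closure (nb D a)) :=
        Subtype.ext hc.eq
      have := hc'.map φ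
      rwa [hφ x hx.1] at this

/-- Transpositions commuting with both are conjugate under the centraliser of both. -/
theorem common_trans24 {x y : G} (hx : x ∈ common D a b) (hy : y ∈ common D a b) :
    ∃ g ∈ Subgroup.centralizer ({a, b} : Set G), g * x * g⁻¹ = y := by
  obtain ⟨g, g1, g2, g3⟩ := transTriples24 hG a b x a b y ha hb.1 hx.1.1 ha hb.1 hy.1.1
    ⟨hb.2.1.symm, hx.1.2.1.symm, hx.2.2.1.symm⟩ ⟨hb.2.1.symm, hy.1.2.1.symm, hy.2.2.1.symm⟩
    hb.2.2 hx.1.2.2 hx.2.2.2 hb.2.2 hy.1.2.2 hy.2.2.2
  refine ⟨g, Subgroup.mem_centralizer_iff.2 ?_, g3⟩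
  rintro u (rfl | rfl)
  · exact (mul_inv_eq_iff_eq_mul.1 g1).symm
  · exact (mul_inv_eq_iff_eq_mul.1 g2).symm

/-- The product of the pair lies in the derived subgroup of their centraliser. -/
theorem prod_mem_derived [Gen D] : ∀ h : a * b ∈ Subgroup.closure (common D a b),
    (⟨a * b, h⟩ : Subgroup.closure (common D a b)) ∈ commutator (Subgroup.closure (common D a b)) := by
  have hD := hG.lay.tt
  intro hj
  set L := Subgroup.closure (common D a b) with hL
  set π := (Abelianization.of : L →* Abelianization L) with hπ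
  obtain ⟨l, hlen, hl, hp⟩ := exists_seven_common hG ha hb
  obtain ⟨l', hlen', hl', hp'⟩ := exists_seven_common hG hb.1 (mem_nb_comm ha hb)
  rw [common_symm] at hl'
  obtain ⟨c, hc⟩ : ∃ c, c ∈ common D a b := by
    match l, hlen with
    | x :: _, _ => exact ⟨x, hl x List.mem_cons_self⟩
  set t := π ⟨c, Subgroup.subset_closure hc⟩ with ht
  have hall : ∀ (x : G) (hx : x ∈ common D a b), π ⟨x, Subgroup.subset_closure hx⟩ = t := by
    intro x hx
    obtain ⟨g, hg, e⟩ := common_trans24 hG ha hb hx hc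
    rw [centralizer_pair24 hG ha hb] at hg
    rw [ht, show (⟨c, Subgroup.subset_closure hc⟩ : L) =
        ⟨g, hg⟩ * ⟨x, Subgroup.subset_closure hx⟩ * (⟨g, hg⟩ : L)⁻¹ from Subtype.ext e.symm,
      map_mul, map_mul, map_inv, mul_comm (π ⟨g, hg⟩), mul_assoc, mul_inv_cancel, mul_one]
  have hprod : ∀ (l : List G), (∀ y ∈ l, y ∈ common D a b) → ∀ hm : l.prod ∈ L, π ⟨l.prod, hm⟩ = t ^ l.length := by
    intro l
    induction l with
    | nil =>
      intro _ hm
      rw [show (⟨([] : List G).prod, hm⟩ : L) = 1 from Subtype.ext rfl, map_one, List.length_nil, pow_zero]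
    | cons x l ih =>
      intro hl hm
      have hm' : l.prod ∈ L := list_prod_mem fun y hy => Subgroup.subset_closure (hl y (List.mem_cons_of_mem _ hy))
      rw [show (⟨(x :: l).prod, hm⟩ : L) = ⟨x, Subgroup.subset_closure (hl x List.mem_cons_self)⟩ * ⟨l.prod, hm'⟩
          from Subtype.ext List.prod_cons, map_mul, hall x (hl x List.mem_cons_self),
        ih (fun y hy => hl y (List.mem_cons_of_mem _ hy)) hm', List.length_cons, pow_succ']
  have t2 : t * t = 1 := by
    rw [ht, ← map_mul, show (⟨c, Subgroup.subset_closure hc⟩ : L) * ⟨c, Subgroup.subset_closure hc⟩ = 1 from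
      Subtype.ext (sq hD hc.1.1), map_one]
  have hall' : ∀ y ∈ l ++ l', y ∈ common D a b := fun y hy => (List.mem_append.1 hy).elim (hl y) (hl' y)
  have hm : (l ++ l').prod ∈ L := list_prod_mem fun y hy => Subgroup.subset_closure (hall' y hy)
  have e : (⟨a * b, hj⟩ : L) = ⟨(l ++ l').prod, hm⟩ := Subtype.ext (by
    show a * b = (l ++ l').prod
    rw [List.prod_append, hp, hp'])
  rw [← Abelianization.ker_of, MonoidHom.mem_ker, e]
  refine (hprod _ hall' hm).trans ?_
  rw [List.length_append, hlen, hlen', show 7 + 7 = 2 * 7 from rfl, pow_mul, pow_two, t2, one_pow]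

end Cfsg.Agent.TT95
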