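import Mathlib
import Cfsg.Agent.S2530

/-!
Generalities for normalisers of subgroups of prime order: Sylow counts inside a subgroup, fixed points,
splittings, and homomorphisms from small symmetric groups.
-/

set_option autoImplicit false

namespace Cfsg.Agent.TT95

variable {G : Type*} [Group G] [Finite G]

theorem mem_map_conj_iff {X : Subgroup G} {h x : G} :
    x ∈ X.map (MulAut.conj h).toMonoidHom ↔ h⁻¹ * x * h ∈ X := by
  constructor
  · rintro ⟨y, hy, rfl⟩
    show h⁻¹ * (h * y * h⁻¹) * h ∈ X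
    simpa [mul_assoc] using hy
  · intro hx
    exact ⟨h⁻¹ * x * h, hx, by show h * (h⁻¹ * x * h) * h⁻¹ = x; group⟩

/-- In a subgroup whose order has a prime exactly once, the subgroups of that order are conjugate and
their number is one modulo the prime. -/
theorem sylow_count (H X : Subgroup G) (hXH : X ≤ H) {r : ℕ} (hr : r.Prime) (hX : Nat.card X = r)
    (h2 : ¬ r ^ 2 ∣ Nat.card H) :
    (∀ Y : Subgroup G, Y ≤ H → Nat.card Y = r → ∃ h ∈ H, X.map (MulAut.conj h).toMonoidHom = Y) ∧
      ∃ n, n % r = 1 ∧ Nat.card H = n * Nat.card (H ⊓ Subgroup.normalizer (X : Set G) : Subgroup G) := by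
  haveI := Fact.mk hr
  have hcard : ∀ Y : Subgroup G, Y ≤ H → Nat.card Y = r → Nat.card (Y.subgroupOf H) = r ^ (Nat.card H).factorization r := by
    intro Y hY hc
    rw [Nat.card_congr (Subgroup.subgroupOfEquivOfLe hY).toEquiv, hc]
    have h1 : r ∣ Nat.card H := hc ▸ Subgroup.card_dvd_of_le hY
    have : (Nat.card H).factorization r = 1 := by
      have a1 := (hr.dvd_iff_one_le_factorization Nat.card_pos.ne').1 h1
      by_contra hne
      apply h2
      exact (hr.pow_dvd_iff_le_factorization Nat.card_pos.ne').2 (by omega)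
    rw [this, pow_one]
  set P : Sylow r H := Sylow.ofCard (X.subgroupOf H) (hcard X hXH hX) with hP
  have hPX : (P : Subgroup H) = X.subgroupOf H := by rw [hP, Sylow.coe_ofCard]
  refine ⟨fun Y hY hc => ?_, Nat.card (Sylow r H), (show _ % r = 1 % r from card_sylow_modEq_one r H).trans (Nat.mod_eq_of_lt hr.one_lt), ?_⟩
  · obtain ⟨h, hh⟩ := MulAction.exists_smul_eq H P (Sylow.ofCard (Y.subgroupOf H) (hcard Y hY hc))
    refine ⟨h, h.2, ?_⟩
    have e := congrArg (fun Q : Sylow r H => (Q : Subgroup H)) hh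
    simp only [Sylow.smul_def, Sylow.pointwise_smul_def, Sylow.coe_subgroup_smul, Sylow.coe_ofCard] at e
    rw [hPX] at e
    ext x
    rw [mem_map_conj_iff]
    constructor
    · intro hx
      have hxH : x ∈ H := by
        have := hXH hx
        have h3 := mul_mem (mul_mem h.2 this) (inv_mem h.2)
        rwa [show (h : G) * ((h : G)⁻¹ * x * h) * (h : G)⁻¹ = x by group] at h3
      have : (⟨x, hxH⟩ : H) ∈ Y.subgroupOf H := by
        rw [← e]
        refine ⟨⟨(h : G)⁻¹ * x * h, hXH hx⟩, hx, Subtype.ext ?_⟩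
        show (h : G) * ((h : G)⁻¹ * x * h) * (h : G)⁻¹ = x
        group
      exact this
    · intro hx
      have : (⟨x, hY hx⟩ : H) ∈ Y.subgroupOf H := hx
      rw [← e] at this
      obtain ⟨z, hz, ez⟩ := this
      have ez' : (h : G) * z * (h : G)⁻¹ = x := congrArg Subtype.val ez
      rw [← ez', show (h : G)⁻¹ * ((h : G) * z * (h : G)⁻¹) * h = z by group]
      exact hz
  · rw [Sylow.card_eq_index_normalizer P,
      show Subgroup.normalizer (P : Set H) = Subgroup.normalizer ((X.subgroupOf H : Subgroup H) : Set H) by rw [← hPX]; rfl]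
    have hN : Subgroup.normalizer ((X.subgroupOf H : Subgroup H) : Set H) =
        (H ⊓ Subgroup.normalizer (X : Set G)).subgroupOf H := by
      ext h
      simp only [Subgroup.mem_normalizer_iff, Subgroup.mem_subgroupOf, Subgroup.mem_inf, h.2, true_and,
        SetLike.mem_coe]
      constructor
      · intro hh x
        constructor
        · intro hx
          exact (hh ⟨x, hXH hx⟩).1 hx
        · intro hx
          have hxH : x ∈ H := by
            have := hXH hx
            have h3 := mul_mem (mul_mem (inv_mem h.2) this) h.2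
            rwa [show (h : G)⁻¹ * ((h : G) * x * (h : G)⁻¹) * h = x by group] at h3
          exact (hh ⟨x, hxH⟩).2 hx
      · exact fun hh x => hh x
    rw [hN, ← Nat.card_congr (Subgroup.subgroupOfEquivOfLe (inf_le_left :
      H ⊓ Subgroup.normalizer (X : Set G) ≤ H)).toEquiv]
    exact (Subgroup.index_mul_card _).symm

theorem centralizer_zpowers (y : G) :
    Subgroup.centralizer ((Subgroup.zpowers y : Subgroup G) : Set G) = Subgroup.centralizer {y} := by
  rw [Subgroup.zpowers_eq_closure, Subgroup.centralizer_closure]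

theorem mem_centralizer_zpowers {y g : G} :
    g ∈ Subgroup.centralizer ((Subgroup.zpowers y : Subgroup G) : Set G) ↔ Commute g y := by
  rw [centralizer_zpowers, Subgroup.mem_centralizer_singleton_iff]
  rfl

theorem comm_of_prime_card {X : Subgroup G} {r : ℕ} (hr : r.Prime) (hX : Nat.card X = r) :
    ∀ x ∈ X, ∀ z ∈ X, x * z = z * x := by
  haveI := Fact.mk hr
  haveI : IsCyclic X := isCyclic_of_prime_card hX
  obtain ⟨g, hg⟩ := IsCyclic.exists_generator (α := X)
  intro x hx z hz
  obtain ⟨i, hi⟩ := Subgroup.mem_zpowers_iff.1 (hg ⟨x, hx⟩)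
  obtain ⟨j, hj⟩ := Subgroup.mem_zpowers_iff.1 (hg ⟨z, hz⟩)
  rw [show x = ((g ^ i : X) : G) from congrArg Subtype.val hi.symm,
    show z = ((g ^ j : X) : G) from congrArg Subtype.val hj.symm, ← Subgroup.coe_mul, ← Subgroup.coe_mul,
    (Commute.zpow_zpow (Commute.refl g) i j).eq]

/-- Normaliser over centraliser for a subgroup of prime order. -/
theorem norm_cent (H X : Subgroup G) {r : ℕ} (hr : r.Prime) (hX : Nat.card X = r) :
    ∃ e, e ∣ r - 1 ∧ Nat.card (H ⊓ Subgroup.normalizer (X : Set G) : Subgroup G) =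
        e * Nat.card (H ⊓ Subgroup.centralizer (X : Set G) : Subgroup G) ∧
      ∀ (h y : G) (k : ℕ), h ∈ H → Subgroup.zpowers y = X → h * y * h⁻¹ = y ^ k →
        (∀ j, 0 < j → j < r - 1 → k ^ j % r ≠ 1) → e = r - 1 := by
  haveI := Fact.mk hr
  haveI hcyc : IsCyclic X := isCyclic_of_prime_card hX
  set N : Subgroup G := H ⊓ Subgroup.normalizer (X : Set G) with hN
  set φ : N →* MulAut X := X.normalizerMonoidHom.comp (Subgroup.inclusion inf_le_right) with hφ
  have hker : φ.ker = (H ⊓ Subgroup.centralizer (X : Set G)).subgroupOf N := by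
    ext g
    rw [MonoidHom.mem_ker, Subgroup.mem_subgroupOf, Subgroup.mem_inf, Subgroup.mem_centralizer_iff]
    constructor
    · intro h
      refine ⟨g.2.1, fun x hx => ?_⟩
      have := congrArg (fun f : MulAut X => ((f ⟨x, hx⟩ : X) : G)) h
      have e : (g : G) * x * (g : G)⁻¹ = x := this
      exact ((mul_inv_eq_iff_eq_mul.1 e)).symm
    · rintro ⟨-, h⟩
      ext x
      show (g : G) * x * (g : G)⁻¹ = x
      rw [← h x x.2, mul_inv_cancel_right]
  refine ⟨Nat.card φ.range, ?_, ?_, ?_⟩
  · have := Subgroup.card_subgroup_dvd_card φ.range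
    rwa [IsCyclic.card_mulAut, hX, Nat.totient_prime hr] at this
  · rw [← Nat.card_congr (Subgroup.subgroupOfEquivOfLe (show H ⊓ Subgroup.centralizer (X : Set G) ≤ N from
      inf_le_inf_left _ (Subgroup.centralizer_le_normalizer _))).toEquiv, ← hker,
      ← Subgroup.index_ker φ, Subgroup.index_mul_card]
  · intro h y k hh hy hk hprim
    have hyX : y ∈ X := hy ▸ Subgroup.mem_zpowers y
    have hmap : ∀ x ∈ X, h * x * h⁻¹ ∈ X := by
      intro x hx
      rw [← hy] at hx ⊢
      obtain ⟨n, rfl⟩ := Subgroup.mem_zpowers_iff.1 hx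
      rw [← conj_zpow, hk]
      exact zpow_mem (pow_mem (Subgroup.mem_zpowers y) k) n
    have hn : h ∈ N := by
      refine ⟨hh, Subgroup.mem_normalizer_iff.2 fun x => ⟨hmap x, fun hx => ?_⟩⟩
      set ψ : X → X := fun x => ⟨h * x * h⁻¹, hmap x x.2⟩ with hψ
      have hinj : Function.Injective ψ := fun u v e =>
        Subtype.ext (mul_left_cancel (mul_right_cancel (congrArg Subtype.val e)))
      obtain ⟨u, hu⟩ := (Finite.injective_iff_surjective.1 hinj) ⟨_, hx⟩
      have := mul_left_cancel (mul_right_cancel (congrArg Subtype.val hu))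
      rw [← this]
      exact u.2
    have hiter : ∀ j : ℕ, ((φ ⟨h, hn⟩ ^ j) ⟨y, hyX⟩ : X) = (⟨y, hyX⟩ : X) ^ (k ^ j) := by
      intro j
      induction j with
      | zero => simp
      | succ j ih =>
        rw [pow_succ', MulAut.mul_apply, ih, map_pow, pow_succ' k, pow_mul]
        congr 1
        refine Subtype.ext ?_
        show h * y * h⁻¹ = _
        rw [hk, Subgroup.coe_pow]
    have hord : orderOf y = r := by rw [← Nat.card_zpowers, hy, hX]
    refine le_antisymm ?_ ?_
    · refine Nat.le_of_dvd (by have := hr.two_le; omega) ?_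
      have := Subgroup.card_subgroup_dvd_card φ.range
      rwa [IsCyclic.card_mulAut, hX, Nat.totient_prime hr] at this
    · by_contra hlt
      push Not at hlt
      set j := orderOf (φ ⟨h, hn⟩) with hj
      have h1 : j ∣ Nat.card φ.range := by
        have := orderOf_dvd_natCard (⟨φ ⟨h, hn⟩, ⟨_, rfl⟩⟩ : φ.range)
        rwa [← Subgroup.orderOf_coe] at this
      have h0 : 0 < j := orderOf_pos _
      have hjr : j < r - 1 := lt_of_le_of_lt (Nat.le_of_dvd Nat.card_pos h1) hlt
      have h3 := hiter j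
      rw [pow_orderOf_eq_one, MulAut.one_apply] at h3
      have h4 : y ^ (k ^ j) = y ^ 1 := by rw [pow_one]; exact (congrArg Subtype.val h3).symm
      rw [pow_eq_pow_iff_modEq, hord] at h4
      exact hprim j h0 hjr ((show _ % r = 1 % r from h4).trans (Nat.mod_eq_of_lt hr.one_lt))

/-- Fixed points of a subgroup of prime order on an invariant set. -/
theorem fixed_mod (X : Subgroup G) {r : ℕ} (hr : r.Prime) (hX : Nat.card X = r) (S : Set G)
    (hS : ∀ g ∈ X, ∀ s ∈ S, g * s * g⁻¹ ∈ S) :
    (S ∩ (Subgroup.centralizer (X : Set G) : Set G)).ncard % r = S.ncard % r := by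
  haveI := Fact.mk hr
  letI : MulAction X S :=
    { smul := fun g s => ⟨(g : G) * s * (g : G)⁻¹, hS g g.2 s s.2⟩
      one_smul := fun s => Subtype.ext (show ((1 : X) : G) * s * ((1 : X) : G)⁻¹ = s by simp)
      mul_smul := fun g g' s => Subtype.ext (show ((g * g' : X) : G) * s * ((g * g' : X) : G)⁻¹ =
        (g : G) * ((g' : G) * s * (g' : G)⁻¹) * (g : G)⁻¹ by rw [Subgroup.coe_mul]; group) }
  have hp : IsPGroup r X := IsPGroup.of_card (n := 1) (by rw [hX, pow_one])
  have h := hp.card_modEq_card_fixedPoints S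
  rw [Nat.card_coe_set_eq] at h
  have h' : S.ncard % r = _ := h
  rw [h']
  congr 1
  have e : (Subtype.val '' (MulAction.fixedPoints X S) : Set G) = S ∩ (Subgroup.centralizer (X : Set G) : Set G) := by
    ext s
    constructor
    · rintro ⟨s, hs, rfl⟩
      refine ⟨s.2, Subgroup.mem_centralizer_iff.2 fun g hg => ?_⟩
      exact mul_inv_eq_iff_eq_mul.1 (congrArg Subtype.val (hs ⟨g, hg⟩) : g * (s : G) * g⁻¹ = s)
    · rintro ⟨hs, hc⟩
      refine ⟨⟨s, hs⟩, fun g => Subtype.ext ?_, rfl⟩
      show (g : G) * s * (g : G)⁻¹ = s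
      rw [Subgroup.mem_centralizer_iff.1 hc g g.2, mul_inv_cancel_right]
  rw [← e, Set.ncard_image_of_injective _ Subtype.val_injective, Nat.card_coe_set_eq]

/-- Products of a subgroup centralising a set and one that suffices to move the set. -/
theorem card_split (N S K : Subgroup G) (hKN : K ≤ N) (hSN : S ≤ N)
    (hgen : ∀ g ∈ N, ∃ s ∈ S, s * g ∈ K) (hdis : ∀ g ∈ S, g ∈ K → g = 1) :
    Nat.card N = Nat.card K * Nat.card S ∧ K ⊔ S = N := by
  set f : K × S → N := fun p => ⟨(p.2 : G) * p.1, mul_mem (hSN p.2.2) (hKN p.1.2)⟩ with hf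
  have hb : Function.Bijective f := by
    constructor
    · rintro ⟨k, s⟩ ⟨k', s'⟩ e
      have e' : (s : G) * k = (s' : G) * k' := congrArg Subtype.val e
      have h1 : (s' : G)⁻¹ * s = (k' : G) * (k : G)⁻¹ := by
        rw [inv_mul_eq_iff_eq_mul, ← mul_assoc, ← e', mul_inv_cancel_right]
      have h2 := hdis _ (mul_mem (inv_mem s'.2) s.2) (h1 ▸ mul_mem k'.2 (inv_mem k.2))
      have hs : s = s' := Subtype.ext (inv_mul_eq_one.1 h2).symm
      subst hs
      exact Prod.ext (Subtype.ext (mul_left_cancel e')) rfl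
    · rintro ⟨g, hg⟩
      obtain ⟨s, hs, hsg⟩ := hgen g hg
      exact ⟨⟨⟨_, hsg⟩, ⟨s⁻¹, inv_mem hs⟩⟩, Subtype.ext (by show s⁻¹ * (s * g) = g; group)⟩
  refine ⟨?_, le_antisymm (sup_le hKN hSN) fun g hg => ?_⟩
  · rw [← Nat.card_congr (Equiv.ofBijective f hb), Nat.card_prod]
  · obtain ⟨s, hs, hsg⟩ := hgen g hg
    rw [show g = s⁻¹ * (s * g) by group]
    exact mul_mem (Subgroup.mem_sup_right (inv_mem hs)) (Subgroup.mem_sup_left hsg)

/-- A homomorphism from a symmetric group given on adjacent transpositions. -/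
theorem exists_perm_hom {H : Type*} [Group H] (n : ℕ) (f : Fin n → H)
    (hsq : ∀ i, f i * f i = 1)
    (hadj : ∀ i j : Fin n, (i : ℕ) + 1 = j → f i * f j * f i = f j * f i * f j)
    (hfar : ∀ i j : Fin n, (i : ℕ) + 2 ≤ j → Commute (f i) (f j)) :
    ∃ ψ : Equiv.Perm (Fin (n + 1)) →* H, (∀ i : Fin n, ψ (Equiv.swap i.castSucc i.succ) = f i) ∧
      ψ.range = Subgroup.closure (Set.range f) := by
  obtain ⟨cs, hcs⟩ := S2530.result n
  have hinv : ∀ i, (f i)⁻¹ = f i := fun i => inv_eq_of_mul_eq_one_right (hsq i)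
  have key : ∀ i j : Fin n, (i : ℕ) + 1 = j → (f i * f j) ^ 3 = 1 := by
    intro i j h
    calc (f i * f j) ^ 3 = f i * f j * f i * (f j * f i * f j) := by simp only [pow_succ, pow_zero, one_mul, mul_assoc]
      _ = f i * f j * f i * (f i * f j * f i)  := by rw [hadj i j h]
      _ = f i * f j * (f i * f i) * (f j * f i) := by simp only [mul_assoc]
      _ = f i * (f j * f j) * f i := by rw [hsq, mul_one]; simp only [mul_assoc]
      _ = 1 := by rw [hsq, mul_one, hsq]
  have hl : (CoxeterMatrix.A n).IsLiftable f := by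
    intro i j
    show (f i * f j) ^ (if _ then _ else _) = 1
    by_cases hij : i = j
    · subst hij; rw [if_pos rfl, pow_one, hsq]
    have hij' : (i : ℕ) ≠ j := fun h => hij (Fin.ext h)
    rw [if_neg hij]
    by_cases h : (j : ℕ) + 1 = i ∨ (i : ℕ) + 1 = j
    · rw [if_pos h]
      rcases h with h | h
      · have := key j i h
        rw [show f i * f j = (f j * f i)⁻¹ by rw [mul_inv_rev, hinv, hinv], inv_pow, this, inv_one]
      · exact key i j h
    · rw [if_neg h]
      obtain ⟨h1, h2⟩ := not_or.mp h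
      have hc : Commute (f i) (f j) := by
        rcases Nat.lt_or_ge (i : ℕ) j with h' | h'
        · exact hfar i j (by omega)
        · exact (hfar j i (by omega)).symm
      rw [hc.mul_pow, sq, sq, hsq, hsq, one_mul]
  refine ⟨cs.lift ⟨f, hl⟩, fun i => ?_, ?_⟩
  · rw [← hcs i]
    exact cs.lift_apply_simple hl i
  · rw [MonoidHom.range_eq_map (cs.lift ⟨f, hl⟩), ← cs.subgroup_closure_range_simple,
      MonoidHom.map_closure, ← Set.range_comp]
    congr 1
    exact congrArg Set.range (funext fun i => cs.lift_apply_simple hl i)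

theorem fifth : ∀ i j k l : Fin 5, ∃ m, m ≠ i ∧ m ≠ j ∧ m ≠ k ∧ m ≠ l := by decide

/-- Such a homomorphism on three or five letters separates the transpositions as soon as two adjacent ones
have different images. -/
theorem swap_image_inj {H : Type*} [Group H] {n : ℕ} (hn : n = 3 ∨ n = 5) (ψ : Equiv.Perm (Fin n) →* H)
    (h : ∀ i j k : Fin n, i ≠ j → j ≠ k → i ≠ k → ψ (Equiv.swap i j) ≠ ψ (Equiv.swap j k)) :
    ∀ s t : Equiv.Perm (Fin n), s.IsSwap → t.IsSwap → ψ s = ψ t → s = t := by
  rintro s t ⟨i, j, hij, rfl⟩ ⟨k, l, hkl, rfl⟩ e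
  by_contra hne
  by_cases h1 : i = k
  · subst h1
    exact h j i l hij.symm hkl (fun e' => hne (by rw [e'])) (by rw [Equiv.swap_comm]; exact e)
  by_cases h2 : i = l
  · subst h2
    exact h j i k hij.symm (Ne.symm hkl) (fun e' => hne (by rw [e', Equiv.swap_comm]))
      (by rw [Equiv.swap_comm, e, Equiv.swap_comm])
  by_cases h3 : j = k
  · subst h3
    exact h i j l hij hkl h2 e
  by_cases h4 : j = l
  · subst h4
    exact h i j k hij (Ne.symm hkl) h1 (by rw [e, Equiv.swap_comm])
  have hm : ∃ m, m ≠ i ∧ m ≠ j ∧ m ≠ k ∧ m ≠ l := by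
    rcases hn with rfl | rfl
    · exfalso
      rw [Fin.ext_iff] at h1 h2 h3 h4
      have := Fin.val_ne_of_ne hij
      have := Fin.val_ne_of_ne hkl
      omega
    · exact fifth i j k l
  obtain ⟨m, mi, mj, mk, ml⟩ := hm
  have e2 : ψ (Equiv.swap k m * Equiv.swap i j * (Equiv.swap k m)⁻¹) =
      ψ (Equiv.swap k m * Equiv.swap k l * (Equiv.swap k m)⁻¹) := by
    simp only [map_mul, e]
  rw [← Equiv.swap_apply_apply, ← Equiv.swap_apply_apply, Equiv.swap_apply_left,
    Equiv.swap_apply_of_ne_of_ne h1 mi.symm, Equiv.swap_apply_of_ne_of_ne h3 mj.symm,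
    Equiv.swap_apply_of_ne_of_ne hkl.symm ml.symm] at e2
  exact h k l m hkl ml.symm mk.symm (by rw [← e, e2, Equiv.swap_comm])

end Cfsg.Agent.TT95
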