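import Cfsg.Agent.TT95.Relations

/-!
Groups of type M(22): normalised local models, connectedness, and the elements centralising a
transposition with its neighbours.
-/

set_option autoImplicit false
set_option linter.unusedSectionVars false

namespace Cfsg.Agent.TT95

open Cfsg.Agent.TT95.U6

/-- The standing hypotheses for type M(22). -/
structure Cfg22 {G : Type*} [Group G] (D : Set G) : Prop where
  tt : TTSet D
  center : Subgroup.center G = ⊥
  one : OneClass D
  tf : TwinFree D
  conn : ∀ a ∈ D, ∀ b ∈ D, Relation.ReflTransGen (fun x y => x ∈ D ∧ y ∈ D ∧ Commute x y) a b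
  loc : ∀ a ∈ D, ∃ γ, IsLocal D a γ
  noRel5 : NoRel D 5

theorem cfg22_of_type {G : Type*} [Group G] [Finite G] {D : Set G} (hD : Cfsg.IsThreeTranspositionGroup D)
    (hprim : Cfsg.IsPrimitiveUnderConj D) (h22 : Cfsg.IsOfTypeM22 G D) : Cfg22 D := by
  replace hD := TTSet.of_group hD
  have hcore := core22_of_type h22
  obtain ⟨h1, h2⟩ := oneClass_twinFree_of_core22 hD hcore
  refine ⟨hD, h22.1, h1, h2, ?_, fun a ha => exists_isLocal hD hcore ha, noRel_five_of_core22 hD hcore⟩
  set R : G → G → Prop := fun x y => x ∈ D ∧ y ∈ D ∧ Commute x y with hR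
  have hsymm : ∀ x y, Relation.ReflTransGen R x y → Relation.ReflTransGen R y x := by
    intro x y h
    induction h with
    | refl => exact .refl
    | @tail u v _ e ih => exact (Relation.ReflTransGen.single (show R v u from ⟨e.2.1, e.1, e.2.2.symm⟩)).trans ih
  intro a ha b hb
  set B : Set G := {x | x ∈ D ∧ Relation.ReflTransGen R a x} with hB
  have hmap : ∀ (g x y : G), Relation.ReflTransGen R x y →
      Relation.ReflTransGen R (g * x * g⁻¹) (g * y * g⁻¹) := fun g x y h =>
    h.lift (fun w => g * w * g⁻¹) fun u v e => ⟨conj_mem hD g e.1, conj_mem hD g e.2.1, (Commute.conj_iff g).2 e.2.2⟩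
  have hblock : ∀ g : G, (fun x => g * x * g⁻¹) '' B = B ∨ Disjoint ((fun x => g * x * g⁻¹) '' B) B := by
    intro g
    by_cases hdis : Disjoint ((fun x => g * x * g⁻¹) '' B) B
    · exact Or.inr hdis
    left
    obtain ⟨_, ⟨x, hx, rfl⟩, hx'⟩ := Set.not_disjoint_iff.1 hdis
    ext y
    constructor
    · rintro ⟨w, hw, rfl⟩
      exact ⟨conj_mem hD g hw.1, hx'.2.trans (hmap g x w ((hsymm _ _ hx.2).trans hw.2))⟩
    · intro hy
      refine ⟨g⁻¹ * y * g, ⟨by simpa using conj_mem hD g⁻¹ hy.1, ?_⟩, by group⟩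
      have := hmap g⁻¹ _ _ ((hsymm _ _ hx'.2).trans hy.2)
      rw [show g⁻¹ * (g * x * g⁻¹) * g⁻¹⁻¹ = x by group, inv_inv] at this
      exact hx.2.trans this
  rcases hprim.2.2 B (fun x hx => hx.1) hblock with hs | hs
  · obtain ⟨γ, hγ⟩ := exists_isLocal hD hcore ha
    obtain ⟨h1', h2', h3'⟩ := hγ.mem e1 base_isPt.1
    exact absurd (hs ⟨h1', .single ⟨ha, h1', h3'⟩⟩ ⟨ha, .refl⟩) h2'
  · have : b ∈ B := hs.symm ▸ hb
    exact this.2

variable {G : Type*} [Group G] {D : Set G} (hC : Cfg22 D)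

include hC

theorem IsLocal.exists_conj {a : G} {γ : ℕ → G} (hγ : IsLocal D a γ) {P : ℕ → Bool} {s x : ℕ}
    (hs : isPt s = true) (hr : Reach P s x) :
    isPt x = true ∧ ∃ g ∈ Subgroup.closure (γ '' {e | isPt e = true ∧ P e = true}),
      g * γ s * g⁻¹ = γ x := by
  induction hr with
  | base => exact ⟨hs, 1, one_mem _, by simp⟩
  | @step e y he hP _ ih =>
    obtain ⟨hy, g, hg, hgy⟩ := ih
    refine ⟨hγ.isPt_tv e y he hy, γ e * g, mul_mem (Subgroup.subset_closure ⟨e, ⟨he, hP⟩, rfl⟩) hg, ?_⟩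
    rw [← hγ.conj e y he hy, ← hgy]
    group

theorem IsLocal.fix {a : G} {γ : ℕ → G} (hγ : IsLocal D a γ) {P : ℕ → Bool} {g : G}
    (hg : g ∈ Subgroup.closure (γ '' {e | isPt e = true ∧ P e = true})) :
    g * a * g⁻¹ = a ∧ ∀ p, isPt p = true → (∀ e, isPt e = true → P e = true → orth e p = true) →
      g * γ p * g⁻¹ = γ p := by
  refine ⟨conj_fix_of_mem hC.tt (Subgroup.closure_mono ?_ hg), fun p hp hP => ?_⟩
  · rintro _ ⟨e, ⟨he, -⟩, rfl⟩
    exact hγ.mem e he
  · have hle : Subgroup.closure (γ '' {e | isPt e = true ∧ P e = true}) ≤ Subgroup.centralizer {γ p} := by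
      rw [Subgroup.closure_le]
      rintro _ ⟨e, ⟨he, hPe⟩, rfl⟩
      exact Subgroup.mem_centralizer_singleton_iff.2 ((hγ.comm e p he hp).2 (hP e he hPe)).eq
    rw [mul_inv_eq_iff_eq_mul]
    exact Subgroup.mem_centralizer_singleton_iff.1 (hle hg)

theorem local_one {a b : G} (ha : a ∈ D) (hb : b ∈ nb D a) : ∃ γ, IsLocal D a γ ∧ γ e1 = b := by
  obtain ⟨γ, hγ⟩ := hC.loc a ha
  obtain ⟨p, hp, rfl⟩ := hγ.surj b hb
  obtain ⟨-, g, hg, e⟩ := IsLocal.exists_conj hC hγ base_isPt.1 (orbit_points (mem_pts.2 hp))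
  exact ⟨_, (IsLocal.fix hC hγ hg).1 ▸ hγ.conjugate hC.tt g, e⟩

theorem local_two {a b c : G} (ha : a ∈ D) (hb : b ∈ nb D a) (hc : c ∈ nb D a) (hne : c ≠ b)
    (hbc : Commute b c) : ∃ γ, IsLocal D a γ ∧ γ e1 = b ∧ γ e2 = c := by
  obtain ⟨γ, hγ, rfl⟩ := local_one hC ha hb
  obtain ⟨p, hp, rfl⟩ := hγ.surj c hc
  have h1 : orth p e1 = true := (hγ.comm p e1 hp base_isPt.1).1 hbc.symm
  have h2 : p ≠ e1 := fun e => hne (by rw [e])
  obtain ⟨-, g, hg, e⟩ := IsLocal.exists_conj hC hγ base_isPt.2.1 (orbit_perp (mem_pts.2 hp) h1 h2)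
  obtain ⟨f1, f2⟩ := IsLocal.fix hC hγ hg
  exact ⟨_, f1 ▸ hγ.conjugate hC.tt g, f2 e1 base_isPt.1 (fun _ _ h => h), e⟩

theorem local_nonperp {a b c : G} (ha : a ∈ D) (hb : b ∈ nb D a) (hc : c ∈ nb D a)
    (hbc : ¬ Commute b c) : ∃ γ, IsLocal D a γ ∧ γ e1 = b ∧ γ f1 = c := by
  obtain ⟨γ, hγ, rfl⟩ := local_one hC ha hb
  obtain ⟨p, hp, rfl⟩ := hγ.surj c hc
  have h1 : orth p e1 = false := Bool.eq_false_iff.2 fun h => hbc ((hγ.comm p e1 hp base_isPt.1).2 h).symm
  obtain ⟨-, g, hg, e⟩ := IsLocal.exists_conj hC hγ base_isPt.2.2.2.1 (orbit_nonperp (mem_pts.2 hp) h1)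
  obtain ⟨q1, q2⟩ := IsLocal.fix hC hγ hg
  exact ⟨_, q1 ▸ hγ.conjugate hC.tt g, q2 e1 base_isPt.1 (fun _ _ h => h), e⟩

/-- Two different members have a common neighbour. -/
theorem exists_common {a y : G} (ha : a ∈ D) (hy : y ∈ D) (hay : ¬ Commute a y) :
    ∃ b, b ∈ nb D a ∧ Commute b y ∧ b ≠ y := by
  have key : ∀ y, Relation.ReflTransGen (fun u v => u ∈ D ∧ v ∈ D ∧ Commute u v) a y →
      Commute a y ∨ ∃ b, b ∈ nb D a ∧ Commute b y ∧ b ≠ y := by
    intro y h
    induction h with
    | refl => exact Or.inl (Commute.refl _)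
    | @tail y y' _ hyy ih =>
      obtain ⟨hyD, hyD', hc⟩ := hyy
      by_cases h0 : Commute a y'
      · exact Or.inl h0
      right
      rcases ih with h1 | ⟨b, hb, hby, -⟩
      · exact ⟨y, ⟨hyD, fun e => h0 (e ▸ hc), h1⟩, hc, fun e => h0 (e ▸ h1)⟩
      by_cases h2 : Commute a y
      · exact ⟨y, ⟨hyD, fun e => h0 (e ▸ hc), h2⟩, hc, fun e => h0 (e ▸ h2)⟩
      by_cases h3 : Commute b y'
      · exact ⟨b, hb, h3, fun e => h0 (e ▸ hb.2.2)⟩
      have hmem : ∀ {u v : G}, u ∈ D → v ∈ D → u * v * u ∈ D := fun {u v} hu hv => conj_mem' hC.tt hv hu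
      have hbr : ∀ {u v : G}, u ∈ D → v ∈ D → ¬ Commute u v → u * (v * u * v) * u = v := by
        intro u v hu hv huv
        rw [← braid hC.tt hu hv huv, show u * (u * v * u) * u = (u * u) * v * (u * u) by group, sq hC.tt hu,
          one_mul, mul_one]
      set m := y' * b * y' with hm
      have hmD : m ∈ D := hmem hyD' hb.1
      have cym : Commute y m := by
        rw [hm]
        exact (hc.mul_right hby.symm).mul_right hc
      have hay' : Commute (a * y' * a) m := by
        have hgood : Commute (y' * (a * y' * a) * y') (y' * m * y') := by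
          rw [hbr hyD' ha (fun e => h0 e.symm), hm,
            show y' * (y' * b * y') * y' = (y' * y') * b * (y' * y') by group, sq hC.tt hyD', one_mul, mul_one]
          exact hb.2.2
        have e := inv_eq hC.tt hyD'
        have := (Commute.conj_iff y').2 hgood
        rw [e] at this
        rwa [show y' * (y' * (a * y' * a) * y') * y' = (y' * y') * (a * y' * a) * (y' * y') by group,
          show y' * (y' * m * y') * y' = (y' * y') * m * (y' * y') by group, sq hC.tt hyD', one_mul, mul_one,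
          one_mul, mul_one] at this
      set w := y * a * m * a * y with hw
      have hwD : w ∈ D := by
        rw [hw, show y * a * m * a * y = y * (a * m * a) * y by group]
        exact hmem hyD (hmem ha hmD)
      have einv : (y * a)⁻¹ = a * y := by rw [mul_inv_rev, inv_eq hC.tt ha, inv_eq hC.tt hyD]
      have wy : Commute w y' := by
        have := (Commute.conj_iff (y * a)).2 hay'.symm
        rw [einv] at this
        rw [show y * a * (a * y' * a) * (a * y) = y * ((a * a) * y' * (a * a)) * y by group, sq hC.tt ha, one_mul,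
          mul_one, show y * y' * y = y' by rw [hc.eq, mul_assoc, sq hC.tt hyD, mul_one]] at this
        rwa [show y * a * m * (a * y) = w by rw [hw]; group] at this
      have wa : Commute w a := by
        have := (Commute.conj_iff (y * a)).2 cym.symm
        rw [einv] at this
        rw [show y * a * y * (a * y) = y * (a * y * a) * y by group, hbr hyD ha (fun e => h2 e.symm)] at this
        rwa [show y * a * m * (a * y) = w by rw [hw]; group] at this
      exact ⟨w, ⟨hwD, fun e => h0 (e ▸ wy), wa.symm⟩, wy, fun e => h0 (e ▸ wa.symm)⟩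
  exact (key y (hC.conn a ha y hy)).resolve_left hay

/-- An element centralising a member and all its neighbours is that member or trivial. -/
theorem kernel_lemma {a z : G} (ha : a ∈ D) (hza : Commute z a) (hz : ∀ b ∈ nb D a, Commute z b) :
    z = 1 ∨ z = a := by
  have hD := hC.tt
  set Fix : G → Prop := fun x => z * x * z⁻¹ = x with hFix
  set R : G → G → Prop := fun x x' => x ∈ D ∧ x' ∈ D ∧ ¬ Commute a x ∧ ¬ Commute a x' ∧ Commute x x' with hR
  have hdi : ∀ x ∈ D, ¬ Commute a x → z * x * z⁻¹ = x ∨ z * x * z⁻¹ = a * x * a := by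
    intro x hx hax
    obtain ⟨b, hb, hbx, hne⟩ := exists_common hC ha hx hax
    obtain ⟨γ, hγ, g1, g2⟩ := local_nonperp hC hb.1 (c := x) ⟨ha, hb.2.1.symm, hb.2.2.symm⟩
      ⟨hx, hne.symm, hbx⟩ hax
    have hzb : z * b * z⁻¹ = b := by rw [(hz b hb).eq, mul_inv_cancel_right]
    have hya : ¬ Commute a (z * x * z⁻¹) := by
      intro h
      apply hax
      have e : z * a * z⁻¹ = a := by rw [hza.eq, mul_inv_cancel_right]
      rw [← e] at h
      exact (Commute.conj_iff z).1 h
    have hy : z * x * z⁻¹ ∈ nb D b := by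
      refine ⟨conj_mem hD z hx, fun e => hne (mul_left_cancel (mul_right_cancel (hzb.trans e.symm))), ?_⟩
      rw [← hzb]
      exact (Commute.conj_iff z).2 hbx
    obtain ⟨q, hq, hqy⟩ := hγ.surj _ hy
    have hall := allP_iff.1 nonperp_pair_determined.1 q (mem_pts.2 hq)
    have hstar : ∀ t ∈ [e2, e3, f2, f3], (orth t e1 && orth t f1) = true :=
      allP_iff.1 nonperp_pair_determined.2.1
    simp only [Bool.or_eq_true, Bool.not_eq_true'] at hall
    rcases hall with ((h | h) | h) | h
    · exfalso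
      apply hya
      rw [← hqy, ← g1]
      exact ((hγ.comm q e1 hq base_isPt.1).2 h).symm
    · left
      rw [← hqy, Nat.eq_of_beq_eq_true h, g2]
    · right
      rw [← hqy, Nat.eq_of_beq_eq_true h, ← nonperp_pair_determined.2.2, ← hγ.conj e1 f1 base_isPt.1
        base_isPt.2.2.2.1, g1, g2, inv_eq hD ha]
    · exfalso
      rw [Bool.eq_false_iff] at h
      apply h
      rw [allP_iff]
      intro t ht
      have htp : isPt t = true := by
        have hb := base_isPt
        simp only [List.mem_cons, List.not_mem_nil, or_false] at ht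
        rcases ht with rfl | rfl | rfl | rfl
        · exact hb.2.1
        · exact hb.2.2.1
        · exact hb.2.2.2.2.1
        · exact hb.2.2.2.2.2
      have h12 := hstar t ht
      rw [Bool.and_eq_true] at h12
      obtain ⟨t1, t2⟩ := h12
      rw [← hγ.comm t q htp hq, hqy]
      have htD := hγ.mem t htp
      have hta : Commute (γ t) a := g1 ▸ (hγ.comm t e1 htp base_isPt.1).2 t1
      have htx : Commute (γ t) x := g2 ▸ (hγ.comm t f1 htp base_isPt.2.2.2.1).2 t2
      have htne : γ t ≠ a := fun e => hax (e ▸ htx)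
      have e : z * γ t * z⁻¹ = γ t := by
        rw [(hz _ ⟨htD.1, htne, hta.symm⟩).eq, mul_inv_cancel_right]
      rw [← e]
      exact (Commute.conj_iff z).2 htx
  have hRiff : ∀ x x', R x x' → (Fix x ↔ Fix x') := by
    have key : ∀ x x', R x x' → Fix x → Fix x' := by
      rintro x x' ⟨hx, hx', hax, hax', hc⟩ h
      rcases hdi x' hx' hax' with h' | h'
      · exact h'
      exfalso
      have hc2 := (Commute.conj_iff z).2 hc
      rw [show z * x * z⁻¹ = x from h, h'] at hc2
      have e : x' * (a * x' * a) * x' = a := by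
        rw [braid hD ha hx' hax', show x' * (x' * a * x') * x' = (x' * x') * a * (x' * x') by group,
          sq hD hx', one_mul, mul_one]
      apply hax
      have := (hc.mul_right hc2).mul_right hc
      rw [e] at this
      exact this.symm
    exact fun x x' h => ⟨key x x' h, key x' x ⟨h.2.1, h.1, h.2.2.2.1, h.2.2.1, h.2.2.2.2.symm⟩⟩
  have hchain : ∀ x x', Relation.ReflTransGen R x x' → (Fix x ↔ Fix x') := by
    intro x x' h
    induction h with
    | refl => exact Iff.rfl
    | tail _ h ih => exact ih.trans (hRiff _ _ h)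
  -- the neighbours in A of a fixed neighbour of a form a connected graph
  have hone : ∀ b ∈ nb D a, ∀ x x', x ∈ nb D b → x' ∈ nb D b → ¬ Commute a x → ¬ Commute a x' →
      (Fix x ↔ Fix x') := by
    intro b hb x x' hx hx' hax hax'
    obtain ⟨γ, hγ, g1⟩ := local_one hC hb.1 (b := a) ⟨ha, hb.2.1.symm, hb.2.2.symm⟩
    obtain ⟨p, hp, rfl⟩ := hγ.surj x hx
    obtain ⟨p', hp', rfl⟩ := hγ.surj x' hx'
    have hclose : ∀ (L : List (ℕ × ℕ)) (seen : ℕ), graphOK L seen = true →
        allP (fun u => isPt u.1) L = true →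
        (∀ u, inMask seen u = true → isPt u = true ∧ orth u e1 = false ∧ (Fix (γ u) ↔ Fix (γ f1))) →
        ∀ u ∈ L.map Prod.fst, (Fix (γ u) ↔ Fix (γ f1)) := by
      intro L
      induction L with
      | nil => simp
      | cons u L ih =>
        intro seen hok hpt hs v hv
        have he : graphOK (u :: L) seen =
            (inMask seen u.2 && orth u.2 u.1 && !orth u.1 e1 && graphOK L (addMask seen u.1)) := rfl
        have he' : allP (fun u => isPt u.1) (u :: L) = (isPt u.1 && allP (fun u => isPt u.1) L) := rfl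
        rw [he] at hok
        rw [he'] at hpt
        simp only [Bool.and_eq_true, Bool.not_eq_true'] at hok hpt
        obtain ⟨⟨⟨k1, k2⟩, k3⟩, k4⟩ := hok
        obtain ⟨m1, m2, m3⟩ := hs _ k1
        have hu : Fix (γ u.1) ↔ Fix (γ f1) := by
          refine Iff.trans (hRiff _ _ ⟨(hγ.mem _ hpt.1).1, (hγ.mem _ m1).1, ?_, ?_, ?_⟩) m3
          · rw [← g1, hγ.comm e1 u.1 base_isPt.1 hpt.1]
            intro h
            exact absurd ((hγ.comm u.1 e1 hpt.1 base_isPt.1).1 ((hγ.comm e1 u.1 base_isPt.1 hpt.1).2 h).symm)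
              (by rw [k3]; simp)
          · rw [← g1]
            intro h
            exact absurd ((hγ.comm u.2 e1 m1 base_isPt.1).1 h.symm) (by rw [m2]; simp)
          · exact ((hγ.comm u.2 u.1 m1 hpt.1).2 k2).symm
        rcases List.mem_cons.1 hv with rfl | hv
        · exact hu
        · refine ih _ k4 hpt.2 (fun w hw => ?_) v hv
          rw [inMask_addMask, Bool.or_eq_true, decide_eq_true_eq] at hw
          rcases hw with hw | rfl
          · exact hs w hw
          · exact ⟨hpt.1, k3, hu⟩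
    have hseen : ∀ u, inMask (maskOf [f1]) u = true →
        isPt u = true ∧ orth u e1 = false ∧ (Fix (γ u) ↔ Fix (γ f1)) := by
      intro u hu
      rw [inMask_maskOf, List.mem_singleton] at hu
      subst hu
      exact ⟨base_isPt.2.2.2.1, by decide +kernel, Iff.rfl⟩
    have hall : ∀ q, isPt q = true → orth q e1 = false → (Fix (γ q) ↔ Fix (γ f1)) := by
      intro q hq hne
      have := allP_iff.1 graph_connected.2 q (mem_pts.2 hq)
      rw [hne, Bool.false_or, inMask_maskOf, List.mem_cons] at this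
      rcases this with rfl | h
      · exact Iff.rfl
      · exact hclose _ _ graph_connected.1 (by decide +kernel) hseen q h
    have hnp : ∀ q, isPt q = true → ¬ Commute a (γ q) → orth q e1 = false := fun q hq h =>
      Bool.eq_false_iff.2 fun e => h (g1 ▸ ((hγ.comm q e1 hq base_isPt.1).2 e).symm)
    exact (hall p hp (hnp p hp hax)).trans (hall p' hp' (hnp p' hp' hax')).symm
  have hadj : ∀ b ∈ nb D a, ∀ b' ∈ nb D a, Commute b b' → ∀ x x', x ∈ nb D b → x' ∈ nb D b' →
      ¬ Commute a x → ¬ Commute a x' → (Fix x ↔ Fix x') := by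
    intro b hb b' hb' hc x x' hx hx' hax hax'
    by_cases hbb : b' = b
    · subst hbb
      exact hone b' hb' x x' hx hx' hax hax'
    obtain ⟨γ, hγ, g1, g2⟩ := local_two hC hb.1 (b := a) (c := b') ⟨ha, hb.2.1.symm, hb.2.2.symm⟩
      ⟨hb'.1, hbb, hc⟩ hb'.2.1 hb'.2.2
    have hf := hγ.mem f1 base_isPt.2.2.2.1
    have h12 : orth f1 e1 = false ∧ orth f1 e2 = true ∧ f1 ≠ e2 := by decide +kernel
    have hna : ¬ Commute a (γ f1) := fun h => by
      have := (hγ.comm f1 e1 base_isPt.2.2.2.1 base_isPt.1).1 (g1.symm ▸ h.symm)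
      rw [h12.1] at this
      exact Bool.false_ne_true this
    have hfb' : γ f1 ∈ nb D b' :=
      ⟨hf.1, fun e => h12.2.2 (hγ.inj f1 e2 base_isPt.2.2.2.1 base_isPt.2.1 (e.trans g2.symm)),
        g2 ▸ ((hγ.comm f1 e2 base_isPt.2.2.2.1 base_isPt.2.1).2 h12.2.1).symm⟩
    exact (hone b hb x _ hx hf hax hna).trans (hone b' hb' _ x' hfb' hx' hna hax')
  have hallA : ∀ x ∈ D, ∀ x' ∈ D, ¬ Commute a x → ¬ Commute a x' → (Fix x ↔ Fix x') := by
    intro x hx x' hx' hax hax'
    obtain ⟨b, hb, hbx, hne⟩ := exists_common hC ha hx hax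
    obtain ⟨b', hb', hbx', hne'⟩ := exists_common hC ha hx' hax'
    have hxb : x ∈ nb D b := ⟨hx, hne.symm, hbx⟩
    have hxb' : x' ∈ nb D b' := ⟨hx', hne'.symm, hbx'⟩
    by_cases hc : Commute b b'
    · exact hadj b hb b' hb' hc x x' hxb hxb' hax hax'
    obtain ⟨γ, hγ, g1, g2⟩ := local_nonperp hC ha hb hb' hc
    have h12 : orth e1 e2 = true ∧ orth e2 f1 = true ∧ e2 ≠ e1 := by decide +kernel
    have hmid := hγ.mem e2 base_isPt.2.1
    have cbm : Commute b (γ e2) := g1 ▸ (hγ.comm e1 e2 base_isPt.1 base_isPt.2.1).2 h12.1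
    have cmb : Commute (γ e2) b' := g2 ▸ (hγ.comm e2 f1 base_isPt.2.1 base_isPt.2.2.2.1).2 h12.2.1
    obtain ⟨δ, hδ, d1⟩ := local_one hC hmid.1 (b := a) ⟨ha, hmid.2.1.symm, hmid.2.2.symm⟩
    have hw := hδ.mem f1 base_isPt.2.2.2.1
    have hwa : ¬ Commute a (δ f1) := fun h => by
      have := (hδ.comm f1 e1 base_isPt.2.2.2.1 base_isPt.1).1 (d1.symm ▸ h.symm)
      rw [show orth f1 e1 = false by decide +kernel] at this
      exact Bool.false_ne_true this
    exact (hadj b hb _ hmid cbm x _ hxb hw hax hwa).trans (hadj _ hmid b' hb' cmb _ x' hw hxb' hwa hax')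
  have hgen : ∀ w : G, Commute w a → (∀ b ∈ nb D a, Commute w b) →
      (∀ x ∈ D, ¬ Commute a x → Commute w x) → w = 1 := by
    intro w h1 h2 h3
    have : w ∈ Subgroup.center G := by
      rw [← centralizer_D_eq_center hD]
      refine Subgroup.mem_centralizer_iff.2 fun x hx => ?_
      by_cases hax : Commute a x
      · by_cases hxa : x = a
        · subst hxa; exact h1.eq.symm
        · exact (h2 x ⟨hx, hxa, hax⟩).eq.symm
      · exact (h3 x hx hax).eq.symm
    rwa [hC.center, Subgroup.mem_bot] at this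
  by_cases hF : ∃ x ∈ D, ¬ Commute a x ∧ Fix x
  · left
    obtain ⟨x0, hx0, h0, hf⟩ := hF
    refine hgen z hza hz fun x hx hax => ?_
    exact mul_inv_eq_iff_eq_mul.1 ((hallA x0 hx0 x hx h0 hax).1 hf)
  · right
    push Not at hF
    have : a * z = 1 := by
      refine hgen _ ((Commute.refl a).mul_left hza) (fun b hb => hb.2.2.mul_left (hz b hb)) fun x hx hax => ?_
      have h := (hdi x hx hax).resolve_left (hF x hx hax)
      have e : z * x = a * x * a * z := mul_inv_eq_iff_eq_mul.1 h
      show a * z * x = x * (a * z)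
      rw [mul_assoc, e, show a * (a * x * a * z) = (a * a) * x * (a * z) by group, sq hD ha, one_mul]
    rw [eq_inv_of_mul_eq_one_right this, inv_eq hD ha]

end Cfsg.Agent.TT95
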