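import Cfsg.Agent.TT95.InvolDecomp

/-!
Type M(22): the classes of involutions.
-/

set_option autoImplicit false
set_option linter.unusedSectionVars false

namespace Cfsg.Agent.TT95

open Cfsg.Agent.TT95.U6

/-- `x` is the product of `m` different pairwise commuting members of `D`. -/
def IsProd {G : Type*} [Group G] (D : Set G) (m : ℕ) (x : G) : Prop :=
  ∃ l : List G, l.Nodup ∧ l.length = m ∧ (∀ a ∈ l, a ∈ D) ∧ (∀ a ∈ l, ∀ b ∈ l, Commute a b) ∧ l.prod = x

variable {G : Type*} [Group G] [Finite G] {D : Set G} (hC : Cfg22 D) [Gen D]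

include hC

theorem no_pair {p q s : G} (hp : p ∈ D) (hq : q ∈ D) (hs : s ∈ D) (hpq : p ≠ q) (hc : Commute p q) :
    p * q ≠ s := by
  intro e
  have hD := hC.tt
  obtain ⟨γ, hγ, g1⟩ := local_one hC hq (b := p) ⟨hp, hpq, hc.symm⟩
  obtain ⟨hx, -, hqx⟩ := hγ.mem f1 base_isPt.2.2.2.1
  set x := γ f1 with hxdef
  have hpx : ¬ Commute p x := fun h => by
    rw [← g1] at h
    exact absurd ((hγ.comm e1 f1 base_isPt.1 base_isPt.2.2.2.1).1 h) (by decide +kernel)
  have hsx : ¬ Commute s x := fun h => hpx (by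
    have : p = s * q := by rw [← e, mul_assoc, sq hD hq, mul_one]
    rw [this]; exact h.mul_left hqx)
  have h1 : s * x * s = p * x * p := by
    calc s * x * s = p * (q * x) * (p * q) := by rw [← e]; group
      _ = p * (x * q) * (q * p) := by rw [hqx.eq, hc.eq]
      _ = p * x * (q * q) * p := by group
      _ = _ := by rw [sq hD hq, mul_one]
  have h2 : x * s * x = x * p * x * q := by
    calc x * s * x = x * p * (q * x) := by rw [← e]; group
      _ = _ := by rw [hqx.eq]; group
  rw [braid hD hs hx hsx, h2, braid hD hp hx hpx] at h1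
  exact ne_one hD hq (mul_eq_left.1 h1)

theorem exists_reduced (n : ℕ) : ∀ l : List G, l.length ≤ n → (∀ a ∈ l, a ∈ D) →
    (∀ a ∈ l, ∀ b ∈ l, Commute a b) → ∃ m, m ≤ 3 ∧ IsProd D m l.prod := by
  classical
  induction n with
  | zero =>
    intro l hl _ _
    obtain rfl := List.length_eq_zero_iff.1 (Nat.le_zero.1 hl)
    exact ⟨0, by norm_num, [], by simp⟩
  | succ n ih =>
    intro l hl hmem hcm
    by_cases hnd : l.Nodup
    · by_cases h3 : l.length ≤ 3
      · exact ⟨_, h3, l, hnd, rfl, hmem, hcm, rfl⟩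
      match l, h3 with
      | a :: b :: c :: d :: rest, _ =>
        have hsub : ∀ x ∈ [a, b, c, d], x ∈ a :: b :: c :: d :: rest := fun x hx => by
          simp only [List.mem_cons, List.not_mem_nil, or_false] at hx ⊢; tauto
        have hnd4 : [a, b, c, d].Nodup := hnd.sublist (by simp [List.cons_sublist_cons])
        obtain ⟨t, ht, htD, htP, htprod⟩ := reduce_four hC (hmem a (hsub a (by simp))) (hmem b (hsub b (by simp)))
          (hmem c (hsub c (by simp))) (hmem d (hsub d (by simp))) hnd4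
          (fun u hu v hv => hcm u (hsub u hu) v (hsub v hv))
        have hrest : ∀ y ∈ rest, y ∈ a :: b :: c :: d :: rest := fun y hy => by simp [hy]
        have htr : ∀ u ∈ t, ∀ y ∈ rest, Commute y u := fun u hu y hy =>
          htP u hu y (hmem y (hrest y hy)) fun x hx => hcm y (hrest y hy) x (hsub x hx)
        have htt : ∀ u ∈ t, ∀ v ∈ t, Commute u v := by
          intro u hu v hv
          refine htP v hv u (htD u hu) fun x hx => (htP u hu x (hmem x (hsub x hx)) fun x' hx' => ?_).symm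
          exact hcm x (hsub x hx) x' (hsub x' hx')
        have he : (a :: b :: c :: d :: rest).prod = (t ++ rest).prod := by
          rw [List.prod_append, htprod]; simp [mul_assoc]
        rw [he]
        refine ih (t ++ rest) ?_ ?_ ?_
        · simp at hl ⊢; omega
        · intro u hu
          rcases List.mem_append.1 hu with h | h
          · exact htD u h
          · exact hmem u (hrest u h)
        · intro u hu v hv
          rcases List.mem_append.1 hu with h | h <;> rcases List.mem_append.1 hv with h' | h'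
          · exact htt u h v h'
          · exact (htr u h v h').symm
          · exact htr v h' u h
          · exact hcm u (hrest u h) v (hrest v h')
      | [], h => simp at h
      | [_], h => simp at h
      | [_, _], h => simp at h
      | [_, _, _], h => simp at h
    · obtain ⟨a, ha⟩ : ∃ a, 2 ≤ l.count a := by
        obtain ⟨a, ha⟩ : ∃ a, ¬ l.count a ≤ 1 := by simpa [List.nodup_iff_count_le_one] using hnd
        exact ⟨a, by omega⟩
      have ha1 : a ∈ l := List.count_pos_iff.1 (by omega)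
      have ha2 : a ∈ l.erase a := List.count_pos_iff.1 (by rw [List.count_erase_self]; omega)
      have hperm : l.Perm (a :: a :: (l.erase a).erase a) :=
        (List.perm_cons_erase ha1).trans ((List.perm_cons_erase ha2).cons a)
      have hpw : l.Pairwise Commute := List.pairwise_of_forall_mem_list fun u hu v hv => hcm u hu v hv
      rw [hperm.prod_eq' hpw, List.prod_cons, List.prod_cons, ← mul_assoc, sq hC.tt (hmem a ha1), one_mul]
      refine ih _ ?_ (fun u hu => hmem u (List.mem_of_mem_erase (List.mem_of_mem_erase hu)))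
        (fun u hu v hv => hcm u (List.mem_of_mem_erase (List.mem_of_mem_erase hu)) v
          (List.mem_of_mem_erase (List.mem_of_mem_erase hv)))
      have := hperm.length_eq
      simp at this
      omega

theorem isProd_one {x : G} : IsProd D 1 x ↔ x ∈ D := by
  constructor
  · rintro ⟨l, -, hl, hm, -, rfl⟩
    match l, hl with
    | [a], _ => simpa using hm a (by simp)
  · exact fun h => ⟨[x], by simp [h, Commute.refl]⟩

theorem isProd_two {x : G} (h : IsProd D 2 x) :
    ∃ a b, a ∈ D ∧ b ∈ D ∧ a ≠ b ∧ Commute a b ∧ a * b = x := by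
  obtain ⟨l, hn, hl, hm, hc, rfl⟩ := h
  match l, hl with
  | [a, b], _ => exact ⟨a, b, hm a (by simp), hm b (by simp), by simpa using hn, hc a (by simp) b (by simp), by simp⟩

theorem isProd_three {x : G} (h : IsProd D 3 x) :
    ∃ a b c, a ∈ D ∧ b ∈ D ∧ c ∈ D ∧ (a ≠ b ∧ a ≠ c ∧ b ≠ c) ∧ Commute a b ∧ Commute a c ∧ Commute b c ∧
      a * b * c = x := by
  obtain ⟨l, hn, hl, hm, hc, rfl⟩ := h
  match l, hl with
  | [a, b, c], _ =>
    simp only [List.nodup_cons, List.mem_cons, List.not_mem_nil, or_false, not_or] at hn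
    exact ⟨a, b, c, hm a (by simp), hm b (by simp), hm c (by simp), ⟨hn.1.1, hn.1.2, hn.2.1⟩,
      hc a (by simp) b (by simp), hc a (by simp) c (by simp), hc b (by simp) c (by simp), by simp [mul_assoc]⟩

theorem isProd_sq {m : ℕ} {x : G} (h : IsProd D m x) : x * x = 1 := by
  obtain ⟨l, -, -, hm, hc, rfl⟩ := h
  induction l with
  | nil => simp
  | cons a l ih =>
    have hal : Commute a l.prod :=
      Commute.list_prod_right _ _ fun b hb => hc a List.mem_cons_self b (List.mem_cons_of_mem _ hb)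
    have hl := ih (fun b hb => hm b (List.mem_cons_of_mem _ hb))
      (fun u hu v hv => hc u (List.mem_cons_of_mem _ hu) v (List.mem_cons_of_mem _ hv))
    rw [List.prod_cons, show a * l.prod * (a * l.prod) = a * (l.prod * a) * l.prod by group, ← hal.eq,
      show a * (a * l.prod) * l.prod = a * a * (l.prod * l.prod) by group, sq hC.tt (hm a List.mem_cons_self),
      one_mul, hl]

theorem isProd_ne_one {m : ℕ} {x : G} (h1 : 1 ≤ m) (h3 : m ≤ 3) (h : IsProd D m x) : x ≠ 1 := by
  intro e
  subst e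
  interval_cases m
  · exact ne_one hC.tt ((isProd_one hC).1 h) rfl
  · obtain ⟨a, b, ha, hb, hne, -, e⟩ := isProd_two hC h
    exact hne (by rw [eq_inv_of_mul_eq_one_left e, inv_eq hC.tt hb])
  · obtain ⟨a, b, c, ha, hb, hc, hne, hab, -, -, e⟩ := isProd_three hC h
    exact no_pair hC ha hb hc hne.1 hab (by rw [eq_inv_of_mul_eq_one_left e, inv_eq hC.tt hc])

theorem two_ne_three {x : G} (h2 : IsProd D 2 x) (h3 : IsProd D 3 x) : False := by
  have hD := hC.tt
  obtain ⟨a, b, ha, hb, hab', hab, e2⟩ := isProd_two hC h2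
  obtain ⟨p, q, r, hp, hq, hr, hne, hpq, hpr, hqr, e3⟩ := isProd_three hC h3
  have hca : Commute a x ∧ Commute b x := by
    rw [← e2]; exact ⟨(Commute.refl a).mul_right hab, hab.symm.mul_right (Commute.refl b)⟩
  rw [← e3] at hca
  obtain ⟨a1, a2, a3⟩ := (ThreeTransp.centralize_three hD.1 hp hq hr ha hne.1 hne.2.1 hne.2.2 hpq hpr hqr).1 hca.1
  obtain ⟨b1, b2, b3⟩ := (ThreeTransp.centralize_three hD.1 hp hq hr hb hne.1 hne.2.1 hne.2.2 hpq hpr hqr).1 hca.2
  have e : a * b = p * q * r := by rw [e2, e3]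
  by_cases hin : a = p ∨ a = q ∨ a = r
  · -- b is a product of two
    have eb : b = a * (p * q * r) := by rw [← e, ← mul_assoc, sq hD ha, one_mul]
    rcases hin with h | h | h <;> subst h
    · rw [← mul_assoc, ← mul_assoc, sq hD ha, one_mul] at eb
      exact no_pair hC hq hr hb hne.2.2 hqr eb.symm
    · rw [← mul_assoc, ← mul_assoc, ← hpq.eq, mul_assoc p a a, sq hD ha, mul_one] at eb
      exact no_pair hC hp hr hb hne.2.1 hpr eb.symm
    · rw [(hpr.mul_left hqr).eq, ← mul_assoc, sq hD ha, one_mul] at eb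
      exact no_pair hC hp hq hb hne.1 hpq eb.symm
  by_cases hin' : b = p ∨ b = q ∨ b = r
  · have ea : a = p * q * r * b := by rw [← e, mul_assoc, sq hD hb, mul_one]
    rcases hin' with h | h | h <;> subst h
    · rw [mul_assoc b q r, (hpq.mul_right hpr).eq, mul_assoc (q * r), sq hD hb, mul_one] at ea
      exact no_pair hC hq hr ha hne.2.2 hqr ea.symm
    · rw [mul_assoc p b r, hqr.eq, ← mul_assoc, mul_assoc (p * r), sq hD hb, mul_one] at ea
      exact no_pair hC hp hr ha hne.2.1 hpr ea.symm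
    · rw [mul_assoc _ b b, sq hD hb, mul_one] at ea
      exact no_pair hC hp hq ha hne.1 hpq ea.symm
  simp only [not_or] at hin hin'
  refine hC.noRel5 [a, b, p, q, r] ?_ rfl ?_ ?_ ?_
  · simp [hab', hne.1, hne.2.1, hne.2.2, hin.1, hin.2.1, hin.2.2, hin'.1, hin'.2.1, hin'.2.2]
  · simp [ha, hb, hp, hq, hr]
  · intro u hu v hv
    simp only [List.mem_cons, List.not_mem_nil, or_false] at hu hv
    rcases hu with rfl | rfl | rfl | rfl | rfl <;> rcases hv with rfl | rfl | rfl | rfl | rfl <;>
      first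
        | exact Commute.refl _
        | assumption
        | (apply Commute.symm; assumption)
  · simp only [List.prod_cons, List.prod_nil, mul_one]
    rw [show a * (b * (p * (q * r))) = a * b * (p * q * r) by group, ← e]
    calc a * b * (a * b) = a * (b * a) * b := by group
      _ = 1 := by rw [← hab.eq, ← mul_assoc, sq hD ha, one_mul, sq hD hb]

/-- Every involution is a product of at most three commuting transpositions. -/
theorem involution_isProd (hcore : Core22 G D) {g : G} (hg : g * g = 1) (h1 : g ≠ 1) :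
    ∃ m, 1 ≤ m ∧ m ≤ 3 ∧ IsProd D m g := by
  classical
  have hD := hC.tt
  obtain ⟨a, ha, hga⟩ := involution_fixes hC hcore hg
  set H := Subgroup.closure (nb D a) with hH
  have hgH : g ∈ H := by
    rw [hH, ← centralizer_eq hC ha, Subgroup.mem_centralizer_singleton_iff]
    exact hga.eq
  have hU := isU6_loc hC hcore ha
  obtain ⟨γ, hγ⟩ := hC.loc a ha
  have hne : (locSet D a).Nonempty :=
    ⟨_, mkNb_mem hD (hγ.mem e1 base_isPt.1) (mkNb_ne_one hD hC.one hC.tf ha _)⟩
  set x : ModCenter H := QuotientGroup.mk ⟨g, hgH⟩ with hx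
  have hxx : x * x = 1 := by
    rw [hx, ← QuotientGroup.mk_mul, show (⟨g, hgH⟩ : H) * ⟨g, hgH⟩ = 1 from Subtype.ext hg, QuotientGroup.mk_one]
  obtain ⟨l, hl, hlp, hlprod⟩ := hU.involution_prod hne (loc_invariant hD a) (loc_threeTransp hD a) hxx
  have hex : ∀ q : ModCenter H, ∃ y : G, q ∈ locSet D a → ∃ hy : y ∈ nb D a, mkNb hy = q := by
    intro q
    by_cases hq : q ∈ locSet D a
    · obtain ⟨y, hy, e, -⟩ := exists_of_mem_locSet hD hq
      exact ⟨y, fun _ => ⟨hy, e⟩⟩
    · exact ⟨1, fun h => absurd h hq⟩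
  choose lift hlift using hex
  set t := l.map lift with ht
  have htnb : ∀ y ∈ t, y ∈ nb D a := by
    intro y hy
    obtain ⟨q, hq, rfl⟩ := List.mem_map.1 hy
    exact (hlift q (hl q hq)).1
  have hcomm : ∀ y ∈ t, ∀ y' ∈ t, Commute y y' := by
    intro y hy y' hy'
    obtain ⟨q, hq, rfl⟩ := List.mem_map.1 hy
    obtain ⟨q', hq', rfl⟩ := List.mem_map.1 hy'
    obtain ⟨m1, e1'⟩ := hlift q (hl q hq)
    obtain ⟨m2, e2'⟩ := hlift q' (hl q' hq')
    refine commute_of_mkNb hD m1 m2 ?_
    rw [e1', e2']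
    exact List.Pairwise.forall_of_forall (R := Commute) (fun u _ => Commute.refl u) hlp hq hq'
  have htH : t.prod ∈ H := list_prod_mem fun y hy => Subgroup.subset_closure (htnb y hy)
  have himg : (QuotientGroup.mk (⟨t.prod, htH⟩ : H) : ModCenter H) = x := by
    rw [← hlprod]
    have key : ∀ (s : List (ModCenter H)), (∀ q ∈ s, q ∈ locSet D a) → ∀ hs : (s.map lift).prod ∈ H,
        (QuotientGroup.mk (⟨(s.map lift).prod, hs⟩ : H) : ModCenter H) = s.prod := by
      intro s
      induction s with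
      | nil => intro _ _; rfl
      | cons q s ih =>
        intro hs hp
        obtain ⟨m1, e1'⟩ := hlift q (hs q List.mem_cons_self)
        have hp' : (s.map lift).prod ∈ H := list_prod_mem fun y hy => by
          obtain ⟨q', hq', rfl⟩ := List.mem_map.1 hy
          exact Subgroup.subset_closure (hlift q' (hs q' (List.mem_cons_of_mem _ hq'))).1
        rw [List.prod_cons, ← ih (fun q' hq' => hs q' (List.mem_cons_of_mem _ hq')) hp']
        refine Eq.trans ?_ (congrArg (· * _) e1')
        rw [mkNb, ← QuotientGroup.mk_mul]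
        exact congrArg _ (Subtype.ext (by simp))
    exact key l hl htH
  have hz : (⟨t.prod, htH⟩ : H)⁻¹ * ⟨g, hgH⟩ ∈ Subgroup.center H := QuotientGroup.eq.1 himg
  rw [center_loc hC ha, Subgroup.mem_subgroupOf] at hz
  have hcase : t.prod⁻¹ * g = 1 ∨ t.prod⁻¹ * g = a := by
    obtain ⟨n, hn⟩ := Subgroup.mem_zpowers_iff.1 hz
    rcases Int.even_or_odd n with ⟨k, rfl⟩ | ⟨k, rfl⟩
    · left
      simp only [Subgroup.coe_mul, Subgroup.coe_inv] at hn
      rw [← hn, show k + k = 2 * k by ring, zpow_mul, zpow_two, sq hD ha, one_zpow]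
    · right
      simp only [Subgroup.coe_mul, Subgroup.coe_inv] at hn
      rw [← hn, zpow_add, zpow_mul, zpow_two, sq hD ha, one_zpow, one_mul, zpow_one]
  obtain ⟨u, hu, huc, hup⟩ : ∃ u : List G, (∀ y ∈ u, y ∈ D) ∧ (∀ y ∈ u, ∀ y' ∈ u, Commute y y') ∧ u.prod = g := by
    rcases hcase with e | e
    · exact ⟨t, fun y hy => (htnb y hy).1, hcomm, inv_mul_eq_one.1 e⟩
    · refine ⟨a :: t, ?_, ?_, ?_⟩
      · intro y hy
        rcases List.mem_cons.1 hy with rfl | hy
        · exact ha
        · exact (htnb y hy).1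
      · intro y hy y' hy'
        rcases List.mem_cons.1 hy with rfl | hy <;> rcases List.mem_cons.1 hy' with rfl | hy'
        · exact Commute.refl _
        · exact (htnb y' hy').2.2
        · exact (htnb y hy).2.2.symm
        · exact hcomm y hy y' hy'
      · rw [List.prod_cons, (Commute.list_prod_right t a fun y hy => (htnb y hy).2.2).eq, ← e, mul_inv_cancel_left]
  obtain ⟨m, hm, hmp⟩ := exists_reduced hC u.length u le_rfl hu huc
  rw [hup] at hmp
  refine ⟨m, Nat.one_le_iff_ne_zero.2 fun e => h1 ?_, hm, hmp⟩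
  obtain ⟨s, -, hs, -, -, rfl⟩ := hmp
  rw [e, List.length_eq_zero_iff] at hs
  simp [hs]

theorem exists_isProd {m : ℕ} (h1 : 1 ≤ m) (h3 : m ≤ 3) {a : G} (ha : a ∈ D) : ∃ x, IsProd D m x := by
  obtain ⟨γ, hγ⟩ := hC.loc a ha
  have hb := hγ.mem e1 base_isPt.1
  have hc := hγ.mem e2 base_isPt.2.1
  have hbc : Commute (γ e1) (γ e2) := (hγ.comm _ _ base_isPt.1 base_isPt.2.1).2 (by decide +kernel)
  have hne : γ e1 ≠ γ e2 := fun e => by simpa [e1, e2] using hγ.inj _ _ base_isPt.1 base_isPt.2.1 e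
  interval_cases m
  · exact ⟨a, (isProd_one hC).2 ha⟩
  · exact ⟨_, [a, γ e1], by simp [hb.2.1.symm], rfl, by simp [ha, hb.1], by
      simp [hb.2.2, hb.2.2.symm], rfl⟩
  · exact ⟨_, [a, γ e1, γ e2], by simp [hb.2.1.symm, hc.2.1.symm, hne], rfl, by simp [ha, hb.1, hc.1], by
      simp [hb.2.2, hb.2.2.symm, hc.2.2, hc.2.2.symm, hbc, hbc.symm], rfl⟩

theorem isProd_conj {m : ℕ} {x y : G} (h1 : 1 ≤ m) (h3 : m ≤ 3) (hx : IsProd D m x) (hy : IsProd D m y) :
    IsConj x y := by
  interval_cases m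
  · exact isConj_iff.2 (hC.one x ((isProd_one hC).1 hx) y ((isProd_one hC).1 hy))
  · obtain ⟨a, b, ha, hb, hne, hab, rfl⟩ := isProd_two hC hx
    obtain ⟨a', b', ha', hb', hne', hab', rfl⟩ := isProd_two hC hy
    obtain ⟨g, hg⟩ := hC.one a ha a' ha'
    obtain ⟨γ, hγ⟩ := hC.loc a' ha'
    have hgb : g * b * g⁻¹ ∈ nb D a' := hg ▸ (nb_conj hC.tt g a b).2 ⟨hb, hne.symm, hab⟩
    obtain ⟨h, hh, e1'⟩ := trans_one hC ha' hγ hgb
    obtain ⟨k, hk, e2'⟩ := trans_one hC ha' hγ (b := b') ⟨hb', hne'.symm, hab'⟩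
    refine isConj_iff.2 ⟨k * h⁻¹ * g, ?_⟩
    calc k * h⁻¹ * g * (a * b) * (k * h⁻¹ * g)⁻¹
        = k * (h⁻¹ * (g * a * g⁻¹) * h⁻¹⁻¹) * k⁻¹ * (k * (h⁻¹ * (g * b * g⁻¹) * h) * k⁻¹) := by group
      _ = a' * b' := by
        rw [hg, conj_fix_of_mem hC.tt (inv_mem hh), conj_fix_of_mem hC.tt hk, ← e1', ← e2']; group
  · obtain ⟨a, b, c, ha, hb, hc, hne, hab, hac, hbc, rfl⟩ := isProd_three hC hx
    obtain ⟨a', b', c', ha', hb', hc', hne', hab', hac', hbc', rfl⟩ := isProd_three hC hy
    obtain ⟨g, g1, g2, g3⟩ := transTriples22 hC a b c a' b' c' ha hb hc ha' hb' hc' hne hne' hab hac hbc hab'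
      hac' hbc'
    exact isConj_iff.2 ⟨g, by rw [← g1, ← g2, ← g3]; group⟩

theorem isProd_unique {m m' : ℕ} {x : G} (h1 : 1 ≤ m) (h3 : m ≤ 3) (h1' : 1 ≤ m') (h3' : m' ≤ 3)
    (h : IsProd D m x) (h' : IsProd D m' x) : m = m' := by
  have h12 : ∀ {y}, IsProd D 1 y → ¬ IsProd D 2 y := fun {y} h h' => by
    obtain ⟨a, b, ha, hb, hne, hab, e⟩ := isProd_two hC h'
    exact no_pair hC ha hb ((isProd_one hC).1 h) hne hab e
  have h13 : ∀ {y}, IsProd D 1 y → ¬ IsProd D 3 y := fun {y} h h' => by
    obtain ⟨a, b, c, ha, hb, hc, hne, hab, hac, hbc, e⟩ := isProd_three hC h'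
    exact mul_three_notMem hC.tt hC.tf ha hb hc hne.1 hne.2.1 hne.2.2 hab hac hbc (e ▸ (isProd_one hC).1 h)
  interval_cases m <;> interval_cases m' <;>
    first
      | rfl
      | exact absurd h' (h12 h) | exact absurd h (h12 h')
      | exact absurd h' (h13 h) | exact absurd h (h13 h')
      | exact (two_ne_three hC h h').elim | exact (two_ne_three hC h' h).elim

end Cfsg.Agent.TT95
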