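import Cfsg.Agent.TT95.Tower24
import Cfsg.Agent.TT95.Invol23

/-!
Type M(24): octads, that is eight commuting transpositions with product one; the one through five given
transpositions, and the three cliques on their common neighbours.
-/

set_option autoImplicit false
set_option linter.unusedSectionVars false

namespace Cfsg.Agent.TT95

open Cfsg.Agent.TT95.U6

variable {G : Type*} [Group G] {D : Set G}

/-- The members outside `S` commuting with all of it. -/
def perp (D S : Set G) : Set G := {y | y ∈ D ∧ y ∉ S ∧ ∀ x ∈ S, Commute x y}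

/-- A list of `n` different commuting members with product one. -/
def IsRel (D : Set G) (n : ℕ) (l : List G) : Prop :=
  l.Nodup ∧ l.length = n ∧ (∀ x ∈ l, x ∈ D) ∧ (∀ x ∈ l, ∀ y ∈ l, Commute x y) ∧ l.prod = 1

theorem IsRel.perm {n : ℕ} {l l' : List G} (h : IsRel D n l) (e : l.Perm l') : IsRel D n l' := by
  obtain ⟨h1, h2, h3, h4, h5⟩ := h
  refine ⟨e.nodup_iff.1 h1, e.length_eq.symm.trans h2, fun x hx => h3 x (e.mem_iff.2 hx),
    fun x hx y hy => h4 x (e.mem_iff.2 hx) y (e.mem_iff.2 hy), ?_⟩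
  rw [← e.prod_eq' (List.pairwise_of_forall_mem_list h4), h5]

/-- An octad. -/
def IsOct [DecidableEq G] (D : Set G) (O : Finset G) : Prop := ∃ l, IsRel D 8 l ∧ l.toFinset = O

theorem IsOct.rel [DecidableEq G] {O : Finset G} (h : IsOct D O) {l : List G} (hl : l.Nodup)
    (he : l.toFinset = O) : IsRel D 8 l := by
  obtain ⟨l', h', e'⟩ := h
  exact h'.perm (List.perm_of_nodup_nodup_toFinset_eq h'.1 hl (e'.trans he.symm))

theorem IsOct.card [DecidableEq G] {O : Finset G} (h : IsOct D O) : O.card = 8 := by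
  obtain ⟨l, h', rfl⟩ := h
  rw [List.toFinset_card_of_nodup h'.1, h'.2.1]

theorem IsOct.cl [DecidableEq G] {O : Finset G} (h : IsOct D O) :
    (∀ x ∈ O, x ∈ D) ∧ ∀ x ∈ O, ∀ y ∈ O, Commute x y := by
  obtain ⟨l, ⟨-, -, h1, h2, -⟩, rfl⟩ := h
  exact ⟨fun x hx => h1 x (List.mem_toFinset.1 hx),
    fun x hx y hy => h2 x (List.mem_toFinset.1 hx) y (List.mem_toFinset.1 hy)⟩

section Iso

variable {K : Type*} [Group K] {E : Set K} {a : G} {f : G → K} (hf : Iso D a E f)

include hf

theorem Iso.image_perp {S : Set G} (hS : S ⊆ nb D a) :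
    perp D (insert a S) ⊆ nb D a ∧ f '' perp D (insert a S) = perp E (f '' S) := by
  have hsub : perp D (insert a S) ⊆ nb D a := fun y hy =>
    ⟨hy.1, fun e => hy.2.1 (e ▸ Or.inl rfl), hy.2.2 a (Or.inl rfl)⟩
  refine ⟨hsub, ?_⟩
  ext z
  constructor
  · rintro ⟨y, hy, rfl⟩
    refine ⟨hf.mem (hsub hy), fun ⟨x, hx, e⟩ => hy.2.1 (Or.inr (hf.inj (hS hx) (hsub hy) e ▸ hx)), ?_⟩
    rintro _ ⟨x, hx, rfl⟩
    exact (hf.comm x (hS hx) y (hsub hy)).2 (hy.2.2 x (Or.inr hx))
  · intro hz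
    obtain ⟨y, hy, rfl⟩ := hf.surj hz.1
    refine ⟨y, ⟨hy.1, fun h => h.elim hy.2.1 fun h => hz.2.1 ⟨y, h, rfl⟩, ?_⟩, rfl⟩
    rintro x (rfl | hx)
    · exact hy.2.2
    · exact (hf.comm x (hS hx) y hy).1 (hz.2.2 _ ⟨x, hx, rfl⟩)

theorem Iso.ncard_perp {S : Set G} (hS : S ⊆ nb D a) :
    (perp D (insert a S)).ncard = (perp E (f '' S)).ncard := by
  obtain ⟨h1, h2⟩ := hf.image_perp hS
  rw [← h2, hf.ncard_image h1]

/-- A relation among images gives one with `a` in front, if there is none as long upstairs. -/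
theorem Iso.rel_cons (hD : TTSet D) (hE : TTSet E) (hZ : Subgroup.center K = ⊥) (ha : a ∈ D)
    (hker : ∀ z, Commute z a → (∀ b ∈ nb D a, Commute z b) → z = 1 ∨ z = a) {n : ℕ} (hno : NoRel D n)
    {l : List G} (hl : ∀ y ∈ l, y ∈ nb D a) (h : IsRel E n (l.map f)) : IsRel D (n + 1) (a :: l) := by
  obtain ⟨h1, h2, -, h4, h5⟩ := h
  have hnd : l.Nodup := List.Nodup.of_map f h1
  have hlen : l.length = n := by simpa using h2
  have hcm : ∀ x ∈ l, ∀ y ∈ l, Commute x y := fun x hx y hy =>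
    (hf.comm x (hl x hx) y (hl y hy)).1 (h4 _ (List.mem_map_of_mem hx) _ (List.mem_map_of_mem hy))
  have hp : l.prod = a := (hker _ (Commute.list_prod_left _ _ fun y hy => (hl y hy).2.2.symm)
    ((hf.list_central hD hE hZ hl).2 h5)).resolve_left
      (hno l hnd hlen (fun y hy => (hl y hy).1) hcm)
  refine ⟨List.nodup_cons.2 ⟨fun h => (hl a h).2.1 rfl, hnd⟩, by rw [List.length_cons, hlen], ?_, ?_, ?_⟩
  · intro x hx
    exact (List.mem_cons.1 hx).elim (fun e => e ▸ ha) fun h => (hl x h).1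
  · intro x hx y hy
    rcases List.mem_cons.1 hx with ex | hx' <;> rcases List.mem_cons.1 hy with ey | hy'
    · rw [ex, ey]
    · rw [ex]; exact (hl y hy').2.2
    · rw [ey]; exact (hl x hx').2.2.symm
    · exact hcm x hx' y hy'
  · rw [List.prod_cons, hp, sq hD ha]

theorem Iso.map_nb_list {l : List G} (hl : ∀ y ∈ l, y ∈ nb D a) (hnd : l.Nodup)
    (hcm : ∀ x ∈ l, ∀ y ∈ l, Commute x y) :
    (l.map f).Nodup ∧ (∀ x ∈ l.map f, x ∈ E) ∧ ∀ x ∈ l.map f, ∀ y ∈ l.map f, Commute x y := by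
  refine ⟨hnd.map_on fun u hu v hv e => hf.inj (hl u hu) (hl v hv) e, ?_, ?_⟩
  · intro x hx
    obtain ⟨u, hu, rfl⟩ := List.mem_map.1 hx
    exact hf.mem (hl u hu)
  · intro x hx y hy
    obtain ⟨u, hu, rfl⟩ := List.mem_map.1 hx
    obtain ⟨v, hv, rfl⟩ := List.mem_map.1 hy
    exact (hf.comm u (hl u hu) v (hl v hv)).2 (hcm u hu v hv)

end Iso

/-- Six with trivial product through three given points of a group of type M(22). -/
theorem six22 {K : Type*} [Group K] [Finite K] {E : Set K} (hC : Cfg22 E) {b c e : K} (hnd : [b, c, e].Nodup)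
    (hm : ∀ u ∈ [b, c, e], u ∈ E) (hcm : ∀ u ∈ [b, c, e], ∀ v ∈ [b, c, e], Commute u v) :
    ∃ x y z, IsRel E 6 [b, c, e, x, y, z] := by
  simp only [List.nodup_cons, List.mem_cons, List.not_mem_nil, or_false, not_or] at hnd
  obtain ⟨⟨n1, n2⟩, n3, -⟩ := hnd
  have hb := hm b (by simp)
  have hc := hm c (by simp)
  have he := hm e (by simp)
  have c1 := hcm b (by simp) c (by simp)
  have c2 := hcm b (by simp) e (by simp)
  have c3 := hcm c (by simp) e (by simp)
  obtain ⟨x, y, z, hx, hy, hz, xy, xz, yz, cxy, cxz, cyz, x1, x2, x3, hprod, -⟩ :=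
    partner hC hb hc he ⟨n1, n2, n3⟩ c1 c2 c3
  rcases triple_cases hC.tt hC.tf hb hc he hx hy hz ⟨n1, n2, n3⟩ ⟨xy, xz, yz⟩ c1 c2 c3 cxy cxz cyz hprod
    with h | ⟨h6, h6', h6''⟩
  · exfalso
    rcases (h x).2 (Or.inl rfl) with r | r | r
    · exact x1 r
    · exact x2 r
    · exact x3 r
  exact ⟨x, y, z, h6, rfl, by simp [hb, hc, he, hx, hy, hz], h6', h6''⟩

/-- Seven with trivial product through four given points of a group of type M(23). -/
theorem seven23 [Finite G] {d : G} (hG : Cfg23 D d) {a b c e : G} (hnd : [a, b, c, e].Nodup)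
    (hm : ∀ u ∈ [a, b, c, e], u ∈ D) (hcm : ∀ u ∈ [a, b, c, e], ∀ v ∈ [a, b, c, e], Commute u v) :
    ∃ x y z, IsRel D 7 [a, b, c, e, x, y, z] := by
  have hD := hG.lay.tt
  haveI := loc_finite hD d
  have ha := hm a (by simp)
  obtain ⟨f, hf⟩ := hG.step.iso a ha
  obtain ⟨na, hnd'⟩ := List.nodup_cons.1 hnd
  have hl : ∀ u ∈ [b, c, e], u ∈ nb D a := fun u hu =>
    ⟨hm u (List.mem_cons_of_mem _ hu), fun h => na (h ▸ hu), hcm a (by simp) u (List.mem_cons_of_mem _ hu)⟩
  obtain ⟨i1, i2, i3⟩ := hf.map_nb_list hl hnd' fun x hx y hy =>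
    hcm x (List.mem_cons_of_mem _ hx) y (List.mem_cons_of_mem _ hy)
  obtain ⟨x', y', z', h6⟩ := six22 hG.loc i1 i2 i3
  obtain ⟨x, hx, rfl⟩ := hf.surj (h6.2.2.1 x' (by simp))
  obtain ⟨y, hy, rfl⟩ := hf.surj (h6.2.2.1 y' (by simp))
  obtain ⟨z, hz, rfl⟩ := hf.surj (h6.2.2.1 z' (by simp))
  refine ⟨x, y, z, hf.rel_cons hD hG.loc.tt hG.loc.center ha (fun _ => hG.lay.kernel ha) (noRel6 hG) ?_ h6⟩
  intro u hu
  simp only [List.mem_cons, List.not_mem_nil, or_false] at hu
  rcases hu with rfl | rfl | rfl | rfl | rfl | rfl <;> first | assumption | exact hl _ (by simp)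

variable [Finite G] {d : G} {q : ModCenter (Subgroup.closure (nb D d))} (hG : Cfg24 D d q)

include hG

theorem noRel6_24 : NoRel D 6 := by
  haveI := loc_finite hG.lay.tt d
  exact noRel_succ hG.lay.tt hG.lay.one hG.lay.tf hG.mem (noRel5_23 hG.loc)

/-- An octad through five given commuting transpositions. -/
theorem octad_through {a b c e h : G} (hnd : [a, b, c, e, h].Nodup) (hm : ∀ u ∈ [a, b, c, e, h], u ∈ D)
    (hcm : ∀ u ∈ [a, b, c, e, h], ∀ v ∈ [a, b, c, e, h], Commute u v) :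
    ∃ x y z, IsRel D 8 [a, b, c, e, h, x, y, z] := by
  have hD := hG.lay.tt
  haveI := loc_finite hD d
  have ha := hm a (by simp)
  obtain ⟨f, hf⟩ := hG.step.iso a ha
  obtain ⟨na, hnd'⟩ := List.nodup_cons.1 hnd
  have hl : ∀ u ∈ [b, c, e, h], u ∈ nb D a := fun u hu =>
    ⟨hm u (List.mem_cons_of_mem _ hu), fun h => na (h ▸ hu), hcm a (by simp) u (List.mem_cons_of_mem _ hu)⟩
  obtain ⟨i1, i2, i3⟩ := hf.map_nb_list hl hnd' fun x hx y hy =>
    hcm x (List.mem_cons_of_mem _ hx) y (List.mem_cons_of_mem _ hy)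
  obtain ⟨x', y', z', h7⟩ := seven23 hG.loc i1 i2 i3
  obtain ⟨x, hx, rfl⟩ := hf.surj (h7.2.2.1 x' (by simp))
  obtain ⟨y, hy, rfl⟩ := hf.surj (h7.2.2.1 y' (by simp))
  obtain ⟨z, hz, rfl⟩ := hf.surj (h7.2.2.1 z' (by simp))
  refine ⟨x, y, z, hf.rel_cons hD hG.loc.lay.tt hG.loc.lay.center ha (fun _ => hG.lay.kernel ha) (noRel7 hG) ?_ h7⟩
  intro u hu
  simp only [List.mem_cons, List.not_mem_nil, or_false] at hu
  rcases hu with rfl | rfl | rfl | rfl | rfl | rfl | rfl <;> first | assumption | exact hl _ (by simp)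

variable [DecidableEq G]

theorem exists_oct {P : Finset G} (hP : P.card = 5) (hm : ∀ u ∈ P, u ∈ D)
    (hcm : ∀ u ∈ P, ∀ v ∈ P, Commute u v) : ∃ O, IsOct D O ∧ P ⊆ O := by
  have hnd := P.nodup_toList
  have hlen := P.length_toList
  rw [hP] at hlen
  have hmem : ∀ u, u ∈ P.toList ↔ u ∈ P := fun u => Finset.mem_toList
  match hl : P.toList, hlen with
  | [a, b, c, e, h], _ =>
    rw [hl] at hnd hmem
    obtain ⟨x, y, z, hr⟩ := octad_through hG hnd (fun u hu => hm u ((hmem u).1 hu))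
      (fun u hu v hv => hcm u ((hmem u).1 hu) v ((hmem v).1 hv))
    refine ⟨_, ⟨_, hr, rfl⟩, fun u hu => ?_⟩
    have := (hmem u).2 hu
    simp only [List.mem_cons, List.not_mem_nil, or_false] at this
    simp only [List.mem_toFinset, List.mem_cons, List.not_mem_nil, or_false]
    tauto

/-- Octads with five members in common are equal. -/
theorem oct_unique {O O' P : Finset G} (hO : IsOct D O) (hO' : IsOct D O') (hP : P.card = 5) (h : P ⊆ O)
    (h' : P ⊆ O') : O = O' := by
  have hD := hG.lay.tt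
  obtain ⟨x, y, z, xy, xz, yz, hx⟩ := Finset.card_eq_three.1
    (by rw [Finset.card_sdiff_of_subset h, hO.card, hP] : (O \ P).card = 3)
  obtain ⟨u, v, w, uv, uw, vw, hu⟩ := Finset.card_eq_three.1
    (by rw [Finset.card_sdiff_of_subset h', hO'.card, hP] : (O' \ P).card = 3)
  have hOP : ∀ r, r ∈ O ↔ r ∈ P ∨ (r = x ∨ r = y ∨ r = z) := fun r => by
    have : r ∈ O \ P ↔ r ∈ ({x, y, z} : Finset G) := by rw [hx]
    simp only [Finset.mem_sdiff, Finset.mem_insert, Finset.mem_singleton] at this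
    have := @h r
    tauto
  have hOP' : ∀ r, r ∈ O' ↔ r ∈ P ∨ (r = u ∨ r = v ∨ r = w) := fun r => by
    have : r ∈ O' \ P ↔ r ∈ ({u, v, w} : Finset G) := by rw [hu]
    simp only [Finset.mem_sdiff, Finset.mem_insert, Finset.mem_singleton] at this
    have := @h' r
    tauto
  have nx : ∀ r, r = x ∨ r = y ∨ r = z → r ∉ P := fun r hr => by
    have : r ∈ O \ P := by rw [hx]; simpa using hr
    exact (Finset.mem_sdiff.1 this).2
  have nu : ∀ r, r = u ∨ r = v ∨ r = w → r ∉ P := fun r hr => by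
    have : r ∈ O' \ P := by rw [hu]; simpa using hr
    exact (Finset.mem_sdiff.1 this).2
  have r1 : IsRel D 8 (P.toList ++ [x, y, z]) := by
    refine hO.rel (List.nodup_append.2 ⟨P.nodup_toList, by simp [xy, xz, yz], ?_⟩) ?_
    · rintro r hr s hs rfl
      exact nx r (by simpa using hs) (Finset.mem_toList.1 hr)
    · ext r
      simp [hOP r]; tauto
  have r2 : IsRel D 8 (P.toList ++ [u, v, w]) := by
    refine hO'.rel (List.nodup_append.2 ⟨P.nodup_toList, by simp [uv, uw, vw], ?_⟩) ?_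
    · rintro r hr s hs rfl
      exact nu r (by simpa using hs) (Finset.mem_toList.1 hr)
    · ext r
      simp [hOP' r]; tauto
  obtain ⟨-, -, m1, c1, p1⟩ := r1
  obtain ⟨-, -, m2, c2, p2⟩ := r2
  rw [List.prod_append] at p1 p2
  have e : x * y * z = u * v * w := by
    have := mul_left_cancel (p1.trans p2.symm)
    simpa [mul_assoc] using this
  rcases triple_cases hD hG.lay.tf (m1 x (by simp)) (m1 y (by simp)) (m1 z (by simp)) (m2 u (by simp))
      (m2 v (by simp)) (m2 w (by simp)) ⟨xy, xz, yz⟩ ⟨uv, uw, vw⟩ (c1 x (by simp) y (by simp))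
      (c1 x (by simp) z (by simp)) (c1 y (by simp) z (by simp)) (c2 u (by simp) v (by simp))
      (c2 u (by simp) w (by simp)) (c2 v (by simp) w (by simp)) e with h3 | ⟨g1, g2, g3⟩
  · ext r
    rw [hOP r, hOP' r, h3 r]
  · refine absurd g3 (noRel6_24 hG _ g1 rfl ?_ g2)
    intro r hr
    simp only [List.mem_cons, List.not_mem_nil, or_false] at hr
    rcases hr with rfl | rfl | rfl | rfl | rfl | rfl <;> first | (apply m1; simp; done) | (apply m2; simp)

omit hG in
theorem p48_check :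
    (let P := pts.filter fun p => !(line12.contains p) && allP (fun l => orth l p) line12
     (allP (fun p => orth p 16 || orth p 1024 || orth p 1040) P &&
      allP (fun p => allP (fun r => !orth p r || allP (fun s => !orth r s || orth p s) P) P) P &&
      (P.contains 16 && P.contains 1024 && !orth 16 1024))) = true := by
  decide +kernel

/-- The common neighbours of an octad form three cliques. -/
theorem oct_perp {O : Finset G} (hO : IsOct D O) :
    (∀ x ∈ perp D ↑O, ∀ y ∈ perp D ↑O, ∀ z ∈ perp D ↑O, Commute x y → Commute y z → Commute x z) ∧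
    (∀ x ∈ perp D ↑O, ∀ y ∈ perp D ↑O, ∀ z ∈ perp D ↑O, ∀ w ∈ perp D ↑O, ¬ Commute x y → ¬ Commute x z →
      ¬ Commute y z → Commute w x ∨ Commute w y ∨ Commute w z) ∧
    ∃ y ∈ perp D ↑O, ∃ z ∈ perp D ↑O, ¬ Commute y z := by
  classical
  have hD := hG.lay.tt
  haveI := loc_finite hD d
  haveI := loc_finite hG.loc.lay.tt q
  obtain ⟨hOD, hOc⟩ := hO.cl
  obtain ⟨l₀, hr₀, e₀⟩ := hO
  match l₀, hr₀.2.1 with
  | [a, b, c, p1, p2, r1, r2, r3], _ =>
    have hnd := hr₀.1
    have hmO : ∀ u, u ∈ O ↔ u ∈ [a, b, c, p1, p2, r1, r2, r3] := fun u => by rw [← e₀, List.mem_toFinset]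
    simp only [List.nodup_cons, List.mem_cons, List.not_mem_nil, or_false, not_or] at hnd
    have hnbO : ∀ {u v : G}, u ∈ O → v ∈ O → v ≠ u → v ∈ nb D u := fun hu hv hne =>
      ⟨hOD _ hv, hne, hOc _ hu _ hv⟩
    have ma : a ∈ O := (hmO a).2 (by simp)
    have mb : b ∈ O := (hmO b).2 (by simp)
    have mc : c ∈ O := (hmO c).2 (by simp)
    have m1 : p1 ∈ O := (hmO p1).2 (by simp)
    have m2 : p2 ∈ O := (hmO p2).2 (by simp)
    have hb := hnbO ma mb (Ne.symm hnd.1.1)
    have hc := hnbO ma mc (Ne.symm hnd.1.2.1)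
    have h1 := hnbO ma m1 (Ne.symm hnd.1.2.2.1)
    have h2 := hnbO ma m2 (Ne.symm hnd.1.2.2.2.1)
    obtain ⟨f, hf⟩ := hG.step.iso a (hOD a ma)
    obtain ⟨g, hg⟩ := hG.loc.step.iso (f b) (hf.mem hb)
    have kc := (hf.mem_nb_iff hb hc).2 (hnbO mb mc (Ne.symm hnd.2.1.1))
    have k1 := (hf.mem_nb_iff hb h1).2 (hnbO mb m1 (Ne.symm hnd.2.1.2.1))
    have k2 := (hf.mem_nb_iff hb h2).2 (hnbO mb m2 (Ne.symm hnd.2.1.2.2.1))
    have t1 := (hg.mem_nb_iff kc k1).2 ((hf.mem_nb_iff hc h1).2 (hnbO mc m1 (Ne.symm hnd.2.2.1.1)))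
    have t2 := (hg.mem_nb_iff kc k2).2 ((hf.mem_nb_iff hc h2).2 (hnbO mc m2 (Ne.symm hnd.2.2.1.2.1)))
    have t21 : g (f p2) ≠ g (f p1) := fun e => hnd.2.2.2.1.1 (hf.inj h2 h1 (hg.inj k2 k1 e)).symm
    have t12 : Commute (g (f p1)) (g (f p2)) :=
      (hg.comm _ k1 _ k2).2 ((hf.comm _ h1 _ h2).2 (hOc _ m1 _ m2))
    obtain ⟨γ, hγ, g1, g2⟩ := local_two hG.loc.loc (hg.mem kc) t1 t2 t21 t12
    -- the octad made from the line through the images of `p1` and `p2`
    set Q := g (f c) with hQ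
    have hQm := hg.mem kc
    have hline := line_prod hG.loc.loc hQm hγ
    have hlmem : ∀ p ∈ line12, γ p ∈ nb _ Q := fun p hp => hγ.mem p (isPt_of_mem_line12 hp)
    choose u hu hue using fun p (hp : p ∈ line12) => hg.surj (hlmem p hp).1
    choose v hv hve using fun p (hp : p ∈ line12) => hf.surj (hu p hp).1
    set L := line12.attach.map fun p => v p.1 p.2 with hL
    have hLmap : (L.map f).map g = line12.map γ := by
      rw [hL, List.map_map, List.map_map]
      conv_rhs => rw [← List.attach_map_subtype_val line12, List.map_map]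
      exact List.map_congr_left fun p _ => by simp [hve, hue]
    have six : IsRel (locSet (locSet D d) q) 6 ((f c :: L.map f).map g) := by
      rw [List.map_cons, hLmap]
      refine ⟨List.nodup_cons.2 ⟨fun h => ?_, ?_⟩, by simp [line12], ?_, ?_, ?_⟩
      · obtain ⟨p, hp, e⟩ := List.mem_map.1 h
        exact (hlmem p hp).2.1 e
      · exact (List.Nodup.map_on (fun p hp p' hp' e =>
          hγ.inj p p' (isPt_of_mem_line12 hp) (isPt_of_mem_line12 hp') e) (by decide))
      · intro x hx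
        rcases List.mem_cons.1 hx with ex | hx
        · exact ex ▸ hQm
        · obtain ⟨p, hp, rfl⟩ := List.mem_map.1 hx
          exact (hlmem p hp).1
      · intro x hx y hy
        rcases List.mem_cons.1 hx with ex | hx' <;> rcases List.mem_cons.1 hy with ey | hy'
        · rw [ex, ey]
        · obtain ⟨p, hp, rfl⟩ := List.mem_map.1 hy'
          exact ex ▸ (hlmem p hp).2.2
        · obtain ⟨p, hp, rfl⟩ := List.mem_map.1 hx'
          exact ey ▸ (hlmem p hp).2.2.symm
        · obtain ⟨p, hp, rfl⟩ := List.mem_map.1 hx'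
          obtain ⟨p', hp', rfl⟩ := List.mem_map.1 hy'
          exact (hγ.comm p p' (isPt_of_mem_line12 hp) (isPt_of_mem_line12 hp')).2 (line12_orth hp hp')
      · have e : (line12.map γ).prod = γ 1 * γ 4 * γ 5 * γ 9 * γ 13 := by simp [line12, mul_assoc]
        rw [List.prod_cons, e, hline, sq hG.loc.loc.tt hQm]
    have seven : IsRel (locSet D d) 7 ((b :: c :: L).map f) := by
      rw [List.map_cons]
      refine hg.rel_cons hG.loc.lay.tt hG.loc.loc.tt hG.loc.loc.center (hf.mem hb)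
        (fun _ => hG.loc.lay.kernel (hf.mem hb)) (noRel6 hG.loc) ?_ six
      intro x hx
      rw [List.map_cons] at hx
      rcases List.mem_cons.1 hx with ex | hx
      · exact ex ▸ kc
      · obtain ⟨w, hw, rfl⟩ := List.mem_map.1 hx
        obtain ⟨p, -, rfl⟩ := List.mem_map.1 hw
        rw [hve]
        exact hu p.1 p.2
    have hLnb : ∀ x ∈ L, x ∈ nb D a := by
      intro x hx
      obtain ⟨p, -, rfl⟩ := List.mem_map.1 hx
      exact hv p.1 p.2
    have eight : IsRel D 8 (a :: b :: c :: L) := by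
      refine hf.rel_cons hD hG.loc.lay.tt hG.loc.lay.center (hOD a ma) (fun _ => hG.lay.kernel (hOD a ma))
        (noRel7 hG) ?_ seven
      intro x hx
      rcases List.mem_cons.1 hx with ex | hx
      · exact ex ▸ hb
      rcases List.mem_cons.1 hx with ex | hx
      · exact ex ▸ hc
      exact hLnb x hx
    have hp1L : p1 ∈ L := by
      have h14 : (1 : ℕ) ∈ line12 := by simp [line12]
      refine List.mem_map.2 ⟨⟨1, h14⟩, List.mem_attach _ _, ?_⟩
      refine hf.inj (hv 1 h14) h1 ?_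
      rw [hve]
      refine hg.inj (hu 1 h14) k1 ?_
      rw [hue]
      exact g1
    have hp2L : p2 ∈ L := by
      have h14 : (4 : ℕ) ∈ line12 := by simp [line12]
      refine List.mem_map.2 ⟨⟨4, h14⟩, List.mem_attach _ _, ?_⟩
      refine hf.inj (hv 4 h14) h2 ?_
      rw [hve]
      refine hg.inj (hu 4 h14) k2 ?_
      rw [hue]
      exact g2
    have hOeq : O = (a :: b :: c :: L).toFinset := by
      refine oct_unique hG ⟨_, hr₀, e₀⟩ ⟨_, eight, rfl⟩ (P := [a, b, c, p1, p2].toFinset) ?_ ?_ ?_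
      · rw [List.toFinset_card_of_nodup (hr₀.1.sublist (by simp [List.cons_sublist_cons]))]
        rfl
      · intro w hw
        simp only [List.mem_toFinset, List.mem_cons, List.not_mem_nil, or_false] at hw
        rcases hw with rfl | rfl | rfl | rfl | rfl <;> assumption
      · intro w hw
        simp only [List.mem_toFinset, List.mem_cons, List.not_mem_nil, or_false] at hw ⊢
        rcases hw with rfl | rfl | rfl | rfl | rfl <;> tauto
    -- transport of the common neighbours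
    set X := perp D ↑O
    have hOset : (↑O : Set G) = insert a (insert b (insert c {x | x ∈ L})) := by
      ext w
      simp [hOeq]
    have hS1 : insert b (insert c {x | x ∈ L}) ⊆ nb D a :=
      Set.insert_subset hb (Set.insert_subset hc fun x hx => hLnb x hx)
    obtain ⟨s1, e1⟩ := hf.image_perp hS1
    rw [← hOset, Set.image_insert_eq] at e1
    rw [← hOset] at s1
    have hS2 : f '' insert c {x | x ∈ L} ⊆ nb (locSet D d) (f b) := by
      rintro _ ⟨x, hx, rfl⟩
      rcases hx with ex | hx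
      · exact ex ▸ kc
      · obtain ⟨p, -, rfl⟩ := List.mem_map.1 hx
        rw [hve]
        exact hu p.1 p.2
    obtain ⟨s2, e2⟩ := hg.image_perp hS2
    have himg : g '' (f '' insert c {x | x ∈ L}) = insert Q (γ '' {p | p ∈ line12}) := by
      rw [Set.image_insert_eq, Set.image_insert_eq]
      congr 1
      ext w
      have hm : w ∈ (L.map f).map g ↔ w ∈ line12.map γ := by rw [hLmap]
      simpa using hm
    rw [himg] at e2
    have hco : ∀ x ∈ X, ∀ x' ∈ X, (Commute (g (f x)) (g (f x')) ↔ Commute x x') := fun x hx x' hx' => by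
      rw [hg.comm _ (s2 (e1 ▸ ⟨x, hx, rfl⟩)) _ (s2 (e1 ▸ ⟨x', hx', rfl⟩)), hf.comm x (s1 hx) x' (s1 hx')]
    set P := pts.filter fun p => !(line12.contains p) && allP (fun l => orth l p) line12 with hPdef
    have hPiff : ∀ p, p ∈ P ↔ isPt p = true ∧ p ∉ line12 ∧ ∀ l ∈ line12, orth l p = true := by
      intro p
      simp only [hPdef, List.mem_filter, mem_pts, Bool.and_eq_true, Bool.not_eq_true', List.contains_iff_mem,
        decide_eq_false_iff_not, allP_iff, ← Bool.not_eq_true]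
    have hlab : ∀ x ∈ X, ∃ p ∈ P, γ p = g (f x) := by
      intro x hx
      have hm : g (f x) ∈ perp (locSet (locSet D d) q) (insert Q (γ '' {p | p ∈ line12})) :=
        e2 ▸ ⟨f x, e1 ▸ ⟨x, hx, rfl⟩, rfl⟩
      obtain ⟨h1, h2, h3⟩ := hm
      obtain ⟨p, hp, e⟩ := hγ.surj (g (f x)) ⟨h1, fun e => h2 (e ▸ Or.inl rfl), h3 Q (Or.inl rfl)⟩
      refine ⟨p, (hPiff p).2 ⟨hp, fun hl => h2 (Or.inr ⟨p, hl, e⟩), fun l hl => ?_⟩, e⟩
      exact (hγ.comm l p (isPt_of_mem_line12 hl) hp).1 (e ▸ h3 _ (Or.inr ⟨l, hl, rfl⟩))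
    have hsur : ∀ p ∈ P, ∃ x ∈ X, γ p = g (f x) := by
      intro p hp
      obtain ⟨hp1, hp2, hp3⟩ := (hPiff p).1 hp
      have hm : γ p ∈ perp (locSet (locSet D d) q) (insert Q (γ '' {p | p ∈ line12})) := by
        refine ⟨(hγ.mem p hp1).1, fun h => ?_, ?_⟩
        · rcases h with e | ⟨l, hl, e⟩
          · exact (hγ.mem p hp1).2.1 e
          · exact hp2 (hγ.inj l p (isPt_of_mem_line12 hl) hp1 e ▸ hl)
        · rintro w (rfl | ⟨l, hl, rfl⟩)
          · exact (hγ.mem p hp1).2.2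
          · exact (hγ.comm l p (isPt_of_mem_line12 hl) hp1).2 (hp3 l hl)
      rw [← e2, ← e1] at hm
      obtain ⟨_, ⟨x, hx, rfl⟩, e⟩ := hm
      exact ⟨x, hx, e.symm⟩
    have hiff : ∀ x ∈ X, ∀ x' ∈ X, ∀ p ∈ P, ∀ p' ∈ P, γ p = g (f x) → γ p' = g (f x') →
        (Commute x x' ↔ orth p p' = true) := fun x hx x' hx' p hp p' hp' e e' => by
      rw [← hco x hx x' hx', ← e, ← e', hγ.comm p p' ((hPiff p).1 hp).1 ((hPiff p').1 hp').1]
    have hchk := p48_check
    simp only [← hPdef, Bool.and_eq_true, allP_iff, Bool.or_eq_true, Bool.not_eq_true', List.contains_iff_mem,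
      decide_eq_true_eq] at hchk
    obtain ⟨⟨hrep, htr⟩, ⟨h16, h1024⟩, hnor⟩ := hchk
    have htrans : ∀ x ∈ X, ∀ y ∈ X, ∀ z ∈ X, Commute x y → Commute y z → Commute x z := by
      intro x hx y hy z hz hxy hyz
      obtain ⟨p, hp, e⟩ := hlab x hx
      obtain ⟨r, hr, e'⟩ := hlab y hy
      obtain ⟨s, hs, e''⟩ := hlab z hz
      refine (hiff x hx z hz p hp s hs e e'').2 ?_
      rcases htr p hp r hr with h | h
      · rw [(hiff x hx y hy p hp r hr e e').1 hxy] at h; simp at h
      rcases h s hs with h | h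
      · rw [(hiff y hy z hz r hr s hs e' e'').1 hyz] at h; simp at h
      · exact h
    refine ⟨htrans, ?_, ?_⟩
    · intro x hx y hy z hz w hw nxy nxz nyz
      have h1040 : (1040 : ℕ) ∈ P := by
        rw [hPiff]; decide +kernel
      obtain ⟨r1, hr1, E1⟩ := hsur 16 h16
      obtain ⟨r2, hr2, E2⟩ := hsur 1024 h1024
      obtain ⟨r3, hr3, E3⟩ := hsur 1040 h1040
      have cls : ∀ v ∈ X, Commute v r1 ∨ Commute v r2 ∨ Commute v r3 := fun v hv => by
        obtain ⟨p, hp, e⟩ := hlab v hv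
        rcases hrep p hp with (h | h) | h
        · exact Or.inl ((hiff v hv r1 hr1 p hp 16 h16 e E1).2 h)
        · exact Or.inr (Or.inl ((hiff v hv r2 hr2 p hp 1024 h1024 e E2).2 h))
        · exact Or.inr (Or.inr ((hiff v hv r3 hr3 p hp 1040 h1040 e E3).2 h))
      have same : ∀ v ∈ X, ∀ v' ∈ X, ∀ r ∈ X, Commute v r → Commute v' r → Commute v v' :=
        fun v hv v' hv' r hr h h' => htrans v hv r hr v' hv' h h'.symm
      rcases cls x hx with a1 | a1 | a1 <;> rcases cls y hy with b1 | b1 | b1 <;>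
        rcases cls z hz with c1 | c1 | c1 <;> rcases cls w hw with w1 | w1 | w1 <;>
        first
          | exact Or.inl (same w hw x hx _ (by assumption) w1 a1)
          | exact Or.inr (Or.inl (same w hw y hy _ (by assumption) w1 b1))
          | exact Or.inr (Or.inr (same w hw z hz _ (by assumption) w1 c1))
          | exact absurd (same x hx y hy _ (by assumption) a1 b1) nxy
          | exact absurd (same x hx z hz _ (by assumption) a1 c1) nxz
          | exact absurd (same y hy z hz _ (by assumption) b1 c1) nyz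
    · obtain ⟨y, hy, ey⟩ := hsur 16 h16
      obtain ⟨z, hz, ez⟩ := hsur 1024 h1024
      exact ⟨y, hy, z, hz, fun h => Bool.false_ne_true
        (hnor.symm.trans ((hiff y hy z hz 16 h16 1024 h1024 ey ez).1 h))⟩

end Cfsg.Agent.TT95
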