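import Cfsg.Agent.TT95.U6Rigid

/-!
Finite facts for the stabiliser of a frame of the point model.
-/

set_option autoImplicit false

namespace Cfsg.Agent.TT95.U6

/-- The point of each hyperoval on the line through 5 and e₃, and the point it cuts on the line e₁ e₃. -/
def hPt (i : ℕ) : ℕ := [21, 37, 53].getD i 0

def qPt (i : ℕ) : ℕ := [17, 33, 49].getD i 0

theorem cand_frame : allP (fun k => cand k (frame.getD k 0)) (List.range 6) = true := by decide +kernel

theorem frame_gen :
    allP (fun k => allP (fun j => allP (fun e => !frameGen k e || orth e (frame.getD j 0)) pts) (List.range k))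
      (List.range 6) = true := by
  decide +kernel

theorem hPt_check :
    allP (fun i => (hyperovals.getD i []).elem (hPt i) && allP (fun t =>
      allP (fun z => !(orth z 5 && orth z e3) || orth z t) pts == Nat.beq t (hPt i))
      (hyperovals.getD i [])) [0, 1, 2] = true := by
  decide +kernel

theorem qPt_check :
    allP (fun i => inMask (maskOf plane123) (qPt i) && allP (fun t =>
      allP (fun z => (!(orth z e1 && orth z e3) || orth z t) && (!(orth z e2 && orth z (hPt i)) || orth z t)) pts
        == Nat.beq t (qPt i)) plane123) [0, 1, 2] = true := by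
  decide +kernel

theorem refMap_nine :
    allP (fun i => allP (fun k => Nat.beq (refMap i (detBase.getD k 0)) (detBase.getD k 0) &&
        Nat.beq (refMap (i + 3) (detBase.getD k 0)) (detBase.getD k 0)) (List.range 7) &&
      Nat.beq (refMap i (detBase.getD 7 0)) (qPt i) && Nat.beq (refMap (i + 3) (detBase.getD 7 0)) (qPt i) &&
      Nat.beq (refMap i (detBase.getD 8 0)) 9 && Nat.beq (refMap (i + 3) (detBase.getD 8 0)) 13) [0, 1, 2] = true := by
  decide +kernel

theorem hyper_mem : allP (fun l => allP (fun t => isPt t && inMask (maskOf planeRest) t) l) hyperovals = true ∧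
    allP (fun t => inMask (maskOf plane123) t || !inMask (maskOf planeRest) t) pts = true := by
  decide +kernel

theorem five_pts : isPt 5 = true ∧ isPt 9 = true ∧ isPt 13 = true ∧
    allP (fun k => Nat.beq (detBase.getD k 0) ([1, 64, 4, 256, 16, 1024, 5].getD k 0)) (List.range 7) = true := by
  decide +kernel

theorem planeRest_spec :
    allP (fun t => !inMask (maskOf plane123) t || inMask (maskOf planeRest) t || Nat.beq t e1 || Nat.beq t e2 ||
      Nat.beq t e3) pts = true := by
  decide +kernel

/-- An arc completing the triangle is one of the three hyperovals, in any order. -/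
theorem hyper_of_arc {x y z : ℕ} (hx : x ∈ planeRest) (hy : y ∈ planeRest) (hz : z ∈ planeRest)
    (hne : x ≠ y ∧ x ≠ z ∧ y ≠ z)
    (harc : ∀ p ∈ lineReps, cntP (inMask p.2) [1, 4, 16, x, y, z] ≤ 2) :
    ∃ i ∈ ([0, 1, 2] : List ℕ), ∀ t, t ∈ hyperovals.getD i [] ↔ (t = x ∨ t = y ∨ t = z) := by
  have main : ∀ u v w, u ∈ planeRest → v ∈ planeRest → w ∈ planeRest → u < v → v < w →
      (∀ p ∈ lineReps, cntP (inMask p.2) [1, 4, 16, u, v, w] ≤ 2) →
      ∃ i ∈ ([0, 1, 2] : List ℕ), hyperovals.getD i [] = [u, v, w] := by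
    intro u v w hu hv hw h1 h2 h3
    have h := allP_iff.1 (allP_iff.1 hyperovals_complete u hu) v hv
    rw [Bool.or_eq_true, Bool.not_eq_true'] at h
    have hb1 : Nat.blt u v = true := Nat.ble_eq_true_of_le h1
    have hb2 : Nat.blt v w = true := Nat.ble_eq_true_of_le h2
    have h' := allP_iff.1 (h.resolve_left (by rw [hb1]; simp)) w hw
    simp only [Bool.or_eq_true, Bool.not_eq_true', List.elem_eq_mem, decide_eq_true_eq] at h'
    rcases h' with (h' | h') | h'
    · rw [hb2] at h'; simp at h'
    · exfalso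
      rw [Bool.eq_false_iff] at h'
      exact h' (allP_iff.2 fun p hp => Nat.ble_eq_true_of_le (h3 p hp))
    · simp only [hyperovals, List.mem_cons, List.not_mem_nil, or_false] at h'
      rcases h' with e | e | e
      · exact ⟨0, by simp, e.symm⟩
      · exact ⟨1, by simp, e.symm⟩
      · exact ⟨2, by simp, e.symm⟩
  have hperm : ∀ {u v w : ℕ}, [1, 4, 16, u, v, w].Perm [1, 4, 16, x, y, z] →
      ∀ p ∈ lineReps, cntP (inMask p.2) [1, 4, 16, u, v, w] ≤ 2 := fun h p hp => by
    have := harc p hp
    rw [cntP_eq] at this ⊢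
    rwa [h.countP_eq]
  obtain ⟨u, v, w, h1, h2, hP⟩ : ∃ u v w, u < v ∧ v < w ∧ [u, v, w].Perm [x, y, z] := by
    rcases lt_or_gt_of_ne hne.1 with a1 | a1 <;> rcases lt_or_gt_of_ne hne.2.1 with a2 | a2 <;>
      rcases lt_or_gt_of_ne hne.2.2 with a3 | a3
    · exact ⟨x, y, z, a1, a3, List.Perm.refl _⟩
    · exact ⟨x, z, y, a2, a3, (List.Perm.swap y z []).cons x⟩
    · omega
    · exact ⟨z, x, y, a2, a1, ((List.Perm.swap x z [y]).trans ((List.Perm.swap y z []).cons x))⟩
    · exact ⟨y, x, z, a1, a2, List.Perm.swap x y [z]⟩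
    · omega
    · exact ⟨y, z, x, a3, a2, ((List.Perm.swap x z []).cons y).trans (List.Perm.swap x y [z])⟩
    · exact ⟨z, y, x, a3, a1, ((List.Perm.swap y z [x]).trans (((List.Perm.swap x z []).cons y).trans
        (List.Perm.swap x y [z])))⟩
  have hmem : ∀ t ∈ [u, v, w], t ∈ planeRest := fun t ht => by
    have := hP.mem_iff.1 ht
    simp only [List.mem_cons, List.not_mem_nil, or_false] at this
    rcases this with rfl | rfl | rfl <;> assumption
  obtain ⟨i, hi, e⟩ := main u v w (hmem u (by simp)) (hmem v (by simp)) (hmem w (by simp)) h1 h2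
    (hperm (((hP.cons 16).cons 4).cons 1))
  refine ⟨i, hi, fun t => ?_⟩
  rw [e, hP.mem_iff]
  simp

end Cfsg.Agent.TT95.U6
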