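import Cfsg.Agent.TT95.Swap
import Cfsg.Agent.TT95.U6Frame

/-!
Type M(22): the centraliser of a transposition is, up to at most one further coset, generated by the
transpositions commuting with it.
-/

set_option autoImplicit false
set_option linter.unusedSectionVars false

namespace Cfsg.Agent.TT95

open Cfsg.Agent.TT95.U6

theorem frame_isPt {k : ℕ} (hk : k < 6) : isPt (frame.getD k 0) = true := by
  have h := base_isPt
  match k, hk with
  | 0, _ => exact h.1
  | 1, _ => exact h.2.2.2.1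
  | 2, _ => exact h.2.1
  | 3, _ => exact h.2.2.2.2.1
  | 4, _ => exact h.2.2.1
  | 5, _ => exact h.2.2.2.2.2

variable {G : Type*} [Group G] {D : Set G}

/-- `σ` is the permutation of points induced by `g`. -/
def Induces (γ : ℕ → G) (g : G) (σ : ℕ → ℕ) : Prop :=
  ∀ p, isPt p = true → isPt (σ p) = true ∧ γ (σ p) = g * γ p * g⁻¹

/-- The elements centralising `a` and fixing the frame together with e₁ + e₂. -/
def Resid (a : G) (γ : ℕ → G) (g : G) : Prop :=
  Commute g a ∧ (∀ k < 6, g * γ (frame.getD k 0) * g⁻¹ = γ (frame.getD k 0)) ∧ g * γ 5 * g⁻¹ = γ 5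

variable (hC : Cfg22 D) {a : G} (ha : a ∈ D) {γ : ℕ → G} (hγ : IsLocal D a γ)

include hC ha hγ

theorem conj_eq_self {g : G} (hg : Commute g a) : g * a * g⁻¹ = a := by rw [hg.eq, mul_inv_cancel_right]

theorem exists_induces {g : G} (hg : Commute g a) : ∃ σ, Induces γ g σ := by
  have hex : ∀ p, ∃ q, isPt p = true → isPt q = true ∧ γ q = g * γ p * g⁻¹ := by
    intro p
    by_cases hp : isPt p = true
    · have hm : g * γ p * g⁻¹ ∈ nb D a := by
        have := (nb_conj hC.tt g a (γ p)).2 (hγ.mem p hp)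
        rwa [conj_eq_self hC ha hγ hg] at this
      obtain ⟨q, hq, e⟩ := hγ.surj _ hm
      exact ⟨q, fun _ => ⟨hq, e⟩⟩
    · exact ⟨0, fun h => absurd h hp⟩
  choose σ hσ using hex
  exact ⟨σ, hσ⟩

theorem induces_orth {g : G} {σ : ℕ → ℕ} (hσ : Induces γ g σ) {x y : ℕ} (hx : isPt x = true)
    (hy : isPt y = true) : orth (σ x) (σ y) = orth x y := by
  obtain ⟨x1, x2⟩ := hσ x hx
  obtain ⟨y1, y2⟩ := hσ y hy
  rw [Bool.eq_iff_iff, ← hγ.comm _ _ x1 y1, ← hγ.comm x y hx hy, x2, y2, Commute.conj_iff]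

theorem induces_eq {g : G} {σ : ℕ → ℕ} (hσ : Induces γ g σ) {x y : ℕ} (hx : isPt x = true)
    (hy : isPt y = true) (e : g * γ x * g⁻¹ = γ y) : σ x = y :=
  hγ.inj _ _ (hσ x hx).1 hy ((hσ x hx).2.trans e)

theorem induces_inj {g : G} {σ : ℕ → ℕ} (hσ : Induces γ g σ) {x y : ℕ} (hx : isPt x = true)
    (hy : isPt y = true) (e : σ x = σ y) : x = y :=
  hγ.inj x y hx hy (mul_left_cancel (mul_right_cancel ((hσ x hx).2.symm.trans ((congrArg γ e).trans (hσ y hy).2))))

theorem self_mem : a ∈ Subgroup.closure (nb D a) := by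
  have h := line_prod hC ha hγ
  obtain ⟨q1, q4, q5, q9, q13⟩ := five_isPt
  have hm : ∀ p, isPt p = true → γ p ∈ Subgroup.closure (nb D a) := fun p hp =>
    Subgroup.subset_closure (hγ.mem p hp)
  have := mul_mem (mul_mem (mul_mem (mul_mem (hm 1 q1) (hm 4 q4)) (hm 5 q5)) (hm 9 q9)) (hm 13 q13)
  rwa [h] at this

theorem mem_of_induces_id {g : G} (hg : Commute g a) {σ : ℕ → ℕ} (hσ : Induces γ g σ)
    (hid : ∀ x, isPt x = true → σ x = x) : g ∈ Subgroup.closure (nb D a) := by
  have hall : ∀ b ∈ nb D a, Commute g b := by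
    intro b hb
    obtain ⟨p, hp, rfl⟩ := hγ.surj b hb
    have h := (hσ p hp).2
    rw [hid p hp] at h
    exact (eq_mul_inv_iff_mul_eq.1 h).symm
  rcases kernel_lemma hC ha hg hall with rfl | rfl
  · exact one_mem _
  · exact self_mem hC ha hγ

theorem frame_reduce {g : G} (hg : Commute g a) :
    ∃ h ∈ Subgroup.closure (nb D a), Commute (h * g) a ∧
      (g * γ e1 * g⁻¹ = γ e1 →
        h ∈ Subgroup.closure (γ '' {e | isPt e = true ∧ orth e e1 = true})) ∧
      ∀ k < 6, (h * g) * γ (frame.getD k 0) * (h * g)⁻¹ = γ (frame.getD k 0) := by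
  have key : ∀ n ≤ 6, ∃ h ∈ Subgroup.closure (nb D a),
      (g * γ e1 * g⁻¹ = γ e1 →
        h ∈ Subgroup.closure (γ '' {e | isPt e = true ∧ orth e e1 = true})) ∧
      ∀ k < n, (h * g) * γ (frame.getD k 0) * (h * g)⁻¹ = γ (frame.getD k 0) := by
    intro n hn
    induction n with
    | zero => exact ⟨1, one_mem _, fun _ => one_mem _, fun k hk => absurd hk (Nat.not_lt_zero k)⟩
    | succ n ih =>
      obtain ⟨h, hh, hN, hfix⟩ := ih (by omega)
      by_cases hgood : (h * g) * γ (frame.getD n 0) * (h * g)⁻¹ = γ (frame.getD n 0)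
      · refine ⟨h, hh, hN, fun j hj => ?_⟩
        rcases Nat.lt_succ_iff_lt_or_eq.1 hj with hj' | rfl
        · exact hfix j hj'
        · exact hgood
      have hc : Commute (h * g) a := (commute_closure_nb hC.tt hh).symm.mul_left hg
      obtain ⟨σ, hσ⟩ := exists_induces hC ha hγ hc
      have hfn : isPt (frame.getD n 0) = true := frame_isPt (by omega)
      obtain ⟨hx, ex⟩ := hσ _ hfn
      have hfx : ∀ j < n, orth (σ (frame.getD n 0)) (frame.getD j 0) =
          orth (frame.getD n 0) (frame.getD j 0) := by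
        intro j hj
        have hfj : isPt (frame.getD j 0) = true := frame_isPt (by omega)
        conv_lhs => rw [← induces_eq hC ha hγ hσ hfj hfj (hfix j hj)]
        exact induces_orth hC ha hγ hσ hfn hfj
      have hcand : cand n (σ (frame.getD n 0)) = true := by
        have h0 := allP_iff.1 cand_frame n (List.mem_range.2 (by omega))
        rcases n with _ | _ | _ | _ | _ | _ | n
        · rfl
        all_goals first
          | omega
          | (simp only [frame, List.getD_cons_zero, List.getD_cons_succ] at hfx h0 ⊢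
             try have g0 := hfx 0 (by omega)
             try have g1 := hfx 1 (by omega)
             try have g2 := hfx 2 (by omega)
             try have g3 := hfx 3 (by omega)
             try have g4 := hfx 4 (by omega)
             simp only [List.getD_cons_zero, List.getD_cons_succ] at *
             simp_all [cand])
      obtain ⟨-, k, hk, ek⟩ := IsLocal.exists_conj hC hγ hfn (orbit_chain n (by omega) (mem_pts.2 hx) hcand)
      obtain ⟨-, hkfix⟩ := IsLocal.fix hC hγ hk
      have hkH : k ∈ Subgroup.closure (nb D a) := by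
        refine Subgroup.closure_mono ?_ hk
        rintro _ ⟨e, ⟨he, -⟩, rfl⟩
        exact hγ.mem e he
      refine ⟨k⁻¹ * h, mul_mem (inv_mem hkH) hh, fun hg1 => mul_mem (inv_mem ?_) (hN hg1), fun j hj => ?_⟩
      · rcases Nat.eq_zero_or_pos n with rfl | hpos
        · refine absurd ?_ hgood
          have h1 := hN hg1
          have hfix1 : h * γ e1 * h⁻¹ = γ e1 :=
            (IsLocal.fix hC hγ (P := fun e => orth e e1) h1).2 e1 base_isPt.1 (fun _ _ h => h)
          show (h * g) * γ e1 * (h * g)⁻¹ = γ e1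
          rw [show h * g * γ e1 * (h * g)⁻¹ = h * (g * γ e1 * g⁻¹) * h⁻¹ by group, hg1, hfix1]
        · refine Subgroup.closure_mono ?_ hk
          rintro _ ⟨e, ⟨he, hP⟩, rfl⟩
          refine ⟨e, ⟨he, ?_⟩, rfl⟩
          have := allP_iff.1 (allP_iff.1 (allP_iff.1 frame_gen n (List.mem_range.2 (by omega))) 0
            (List.mem_range.2 hpos)) e (mem_pts.2 he)
          rw [hP] at this
          simpa [frame] using this
      rw [show k⁻¹ * h * g * γ (frame.getD j 0) * (k⁻¹ * h * g)⁻¹ =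
        k⁻¹ * ((h * g) * γ (frame.getD j 0) * (h * g)⁻¹) * k by group]
      rcases Nat.lt_succ_iff_lt_or_eq.1 hj with hj' | rfl
      · rw [hfix j hj']
        have hfj : isPt (frame.getD j 0) = true := frame_isPt (by omega)
        have hgen := allP_iff.1 (allP_iff.1 frame_gen n (List.mem_range.2 (by omega))) j (List.mem_range.2 hj')
        have hfj' := hkfix _ hfj (fun e he hP => by
          have := allP_iff.1 hgen e (mem_pts.2 he)
          rw [hP] at this
          simpa using this)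
        nth_rewrite 1 [← hfj']
        group
      · rw [← ex, ← ek]
        group
  obtain ⟨h, hh, hN, hfix⟩ := key 6 le_rfl
  exact ⟨h, hh, (commute_closure_nb hC.tt hh).symm.mul_left hg, hN, hfix⟩

theorem torus_elem : ∃ t ∈ Subgroup.closure (nb D a), ∀ p, isPt p = true →
    isPt (torus p) = true ∧ t * γ p * t⁻¹ = γ (torus p) := by
  have key : ∀ W : List ℕ, allP isPt W = true → ∃ t ∈ Subgroup.closure (nb D a), ∀ p, isPt p = true →
      isPt (W.foldr tv p) = true ∧ t * γ p * t⁻¹ = γ (W.foldr tv p) := by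
    intro W hW
    induction W with
    | nil => exact ⟨1, one_mem _, fun p hp => ⟨hp, by simp⟩⟩
    | cons e W ih =>
      rw [allP_iff] at hW
      obtain ⟨t, ht, hp⟩ := ih (allP_iff.2 fun x hx => hW x (List.mem_cons_of_mem _ hx))
      have he := hW e List.mem_cons_self
      refine ⟨γ e * t, mul_mem (Subgroup.subset_closure (hγ.mem e he)) ht, fun p hpp => ?_⟩
      obtain ⟨h1, h2⟩ := hp p hpp
      refine ⟨hγ.isPt_tv _ _ he h1, ?_⟩
      rw [List.foldr_cons, ← hγ.conj _ _ he h1, ← h2]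
      group
  exact key torusWord torus_spec.1

theorem reduce_to_resid {g : G} (hg : Commute g a) :
    ∃ u v : G, u ∈ Subgroup.closure (nb D a) ∧ v ∈ Subgroup.closure (nb D a) ∧ Resid a γ (u * v * g) ∧
      (g * γ e1 * g⁻¹ = γ e1 → v ∈ Subgroup.closure (γ '' {e | isPt e = true ∧ orth e e1 = true})) ∧
      u * γ e1 * u⁻¹ = γ e1 ∧ ∀ p, isPt p = true → (u * u * u) * γ p * (u * u * u)⁻¹ = γ p := by
  obtain ⟨h, hh, hc, hN, hfix⟩ := frame_reduce hC ha hγ hg
  obtain ⟨σ, hσ⟩ := exists_induces hC ha hγ hc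
  obtain ⟨q5, q9, q13, -⟩ := five_pts
  obtain ⟨t, ht, htp⟩ := torus_elem hC ha hγ
  obtain ⟨h5, e5⟩ := hσ 5 q5
  have hs : ∀ k < 6, σ (frame.getD k 0) = frame.getD k 0 := fun k hk =>
    induces_eq hC ha hγ hσ (frame_isPt hk) (frame_isPt hk) (hfix k hk)
  have hT : ∀ k < 6, t * γ (frame.getD k 0) * t⁻¹ = γ (frame.getD k 0) := fun k hk => by
    have := (htp _ (frame_isPt hk)).2
    rwa [Nat.eq_of_beq_eq_true (allP_iff.1 torus_spec.2.1 _ (by
      rw [List.getD_eq_getElem _ _ (show k < frame.length from hk)]; exact List.getElem_mem _))] at this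
  have hres := allP_iff.1 frame_residual
  have h55 := hres 5 (mem_pts.2 q5)
  have hself := hres (σ 5) (mem_pts.2 h5)
  rw [beq_iff_eq] at hself h55
  rw [inMask_maskOf.2 (by simp : (5 : ℕ) ∈ [5, 9, 13])] at h55
  simp only [Bool.and_eq_true, Bool.not_eq_true'] at h55
  obtain ⟨⟨⟨⟨⟨o1, o2⟩, o3⟩, o4⟩, n1⟩, n2⟩ := h55
  have b1 := hs 0 (by norm_num); have b2 := hs 2 (by norm_num); have b3 := hs 4 (by norm_num)
  have b6 := hs 5 (by norm_num)
  simp only [frame, List.getD_cons_zero, List.getD_cons_succ] at b1 b2 b3 b6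
  have p1 : orth (σ 5) e1 = true := by
    rw [← b1, induces_orth hC ha hγ hσ q5 base_isPt.1]; exact o1
  have p2 : orth (σ 5) e2 = true := by
    rw [← b2, induces_orth hC ha hγ hσ q5 base_isPt.2.1]; exact o2
  have p3 : orth (σ 5) e3 = true := by
    rw [← b3, induces_orth hC ha hγ hσ q5 base_isPt.2.2.1]; exact o3
  have p4 : orth (σ 5) f3 = true := by
    rw [← b6, induces_orth hC ha hγ hσ q5 base_isPt.2.2.2.2.2]; exact o4
  have m1 : Nat.beq (σ 5) e1 = false := Bool.eq_false_iff.2 fun e => by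
    have := induces_inj hC ha hγ hσ q5 base_isPt.1 ((Nat.eq_of_beq_eq_true e).trans b1.symm)
    simp [e1] at this
  have m2 : Nat.beq (σ 5) e2 = false := Bool.eq_false_iff.2 fun e => by
    have := induces_inj hC ha hγ hσ q5 base_isPt.2.1 ((Nat.eq_of_beq_eq_true e).trans b2.symm)
    simp [e2] at this
  rw [p1, p2, p3, p4, m1, m2, eq_comm] at hself
  simp only [Bool.and_self, Bool.not_false, inMask_maskOf, List.mem_cons, List.not_mem_nil, or_false] at hself
  have hcase : ∀ u ∈ Subgroup.closure (nb D a), (∀ k < 6, u * γ (frame.getD k 0) * u⁻¹ = γ (frame.getD k 0)) →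
      (∀ p, isPt p = true → (u * u * u) * γ p * (u * u * u)⁻¹ = γ p) →
      u * γ (σ 5) * u⁻¹ = γ 5 → ∃ u v : G, u ∈ Subgroup.closure (nb D a) ∧ v ∈ Subgroup.closure (nb D a) ∧
        Resid a γ (u * v * g) ∧
        (g * γ e1 * g⁻¹ = γ e1 → v ∈ Subgroup.closure (γ '' {e | isPt e = true ∧ orth e e1 = true})) ∧
        u * γ e1 * u⁻¹ = γ e1 ∧ ∀ p, isPt p = true → (u * u * u) * γ p * (u * u * u)⁻¹ = γ p := by
    intro u hu hu1 hu3 hu2
    refine ⟨u, h, hu, hh, ⟨?_, fun k hk => ?_, ?_⟩, hN, hu1 0 (by norm_num), hu3⟩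
    · rw [mul_assoc]; exact (commute_closure_nb hC.tt hu).symm.mul_left hc
    · rw [show u * h * g * γ (frame.getD k 0) * (u * h * g)⁻¹ =
        u * ((h * g) * γ (frame.getD k 0) * (h * g)⁻¹) * u⁻¹ by group, hfix k hk, hu1 k hk]
    · rw [show u * h * g * γ 5 * (u * h * g)⁻¹ = u * ((h * g) * γ 5 * (h * g)⁻¹) * u⁻¹ by group, ← e5, hu2]
  have t5 : t * γ 5 * t⁻¹ = γ 9 := by rw [(htp 5 q5).2, torus_spec.2.2.1]
  have t9 : t * γ 9 * t⁻¹ = γ 13 := by rw [(htp 9 q9).2, torus_spec.2.2.2.1]
  have t13 : t * γ 13 * t⁻¹ = γ 5 := by rw [(htp 13 q13).2, torus_spec.2.2.2.2]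
  have t3 : ∀ p, isPt p = true → (t * t * t) * γ p * (t * t * t)⁻¹ = γ p := by
    intro p hp
    obtain ⟨i1, j1⟩ := htp p hp
    obtain ⟨i2, j2⟩ := htp _ i1
    obtain ⟨-, j3⟩ := htp _ i2
    rw [Nat.eq_of_beq_eq_true (allP_iff.1 torus_cube p (mem_pts.2 hp))] at j3
    rw [← j2, ← j1] at j3
    rw [show t * t * t * γ p * (t * t * t)⁻¹ = t * (t * (t * γ p * t⁻¹) * t⁻¹) * t⁻¹ by group]
    exact j3
  rcases hself with e | e | e
  · exact hcase 1 (one_mem _) (fun k _ => by simp) (fun p _ => by simp) (by rw [e]; simp)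
  · refine hcase (t * t) (mul_mem ht ht) (fun k hk => ?_) (fun p hp => ?_) ?_
    · rw [show t * t * γ (frame.getD k 0) * (t * t)⁻¹ = t * (t * γ (frame.getD k 0) * t⁻¹) * t⁻¹ by group,
        hT k hk, hT k hk]
    · rw [show t * t * (t * t) * (t * t) * γ p * (t * t * (t * t) * (t * t))⁻¹ =
        (t * t * t) * ((t * t * t) * γ p * (t * t * t)⁻¹) * (t * t * t)⁻¹ by group, t3 p hp, t3 p hp]
    · rw [e, show t * t * γ 9 * (t * t)⁻¹ = t * (t * γ 9 * t⁻¹) * t⁻¹ by group, t9, t13]
  · exact hcase t ht hT t3 (by rw [e, t13])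

/-- Six pairwise commuting members with trivial product: whoever commutes with three commutes with all. -/
theorem six_rule {l : List G} (hl : l.Nodup) (hlen : l.length = 6) (hD : ∀ x ∈ l, x ∈ D)
    (hcm : ∀ x ∈ l, ∀ y ∈ l, Commute x y) (hprod : l.prod = 1) {d : G} (hd : d ∈ D) (p : G → Bool)
    (hp : ∀ x ∈ l, p x = true ↔ Commute d x) (h3 : 3 ≤ l.countP p) : ∀ x ∈ l, Commute d x := by
  have hperm := List.filter_append_perm p l
  have hpr : (l.filter p).prod * (l.filter fun x => !p x).prod = 1 := by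
    rw [← List.prod_append, hperm.prod_eq' (List.pairwise_of_forall_mem_list fun x hx y hy =>
      hcm x (hperm.mem_iff.1 hx) y (hperm.mem_iff.1 hy)), hprod]
  have h1 : Commute d (l.filter p).prod := by
    refine Commute.list_prod_right _ _ fun x hx => ?_
    rw [List.mem_filter] at hx
    exact (hp x hx.1).1 hx.2
  have h2 : Commute d (l.filter fun x => !p x).prod := by
    rw [eq_inv_of_mul_eq_one_right hpr]
    exact h1.inv_right
  have hlen' : (l.filter fun x => !p x).length ≤ 3 := by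
    have := hperm.length_eq
    rw [List.length_append, hlen, ← List.countP_eq_length_filter] at this
    omega
  have hndm : (l.filter fun x => !p x).Nodup := hl.filter _
  have hsub : ∀ x ∈ l.filter (fun x => !p x), x ∈ l := fun x hx => (List.mem_filter.1 hx).1
  have hall : ∀ x ∈ l.filter (fun x => !p x), Commute d x := by
    generalize hm : l.filter (fun x => !p x) = m at h2 hlen' hndm hsub
    match m, hlen' with
    | [], _ => simp
    | [u], _ => simpa using h2
    | [u, v], _ =>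
      simp only [List.prod_cons, List.prod_nil, mul_one] at h2
      have hne : u ≠ v := by intro e; simp [e] at hndm
      have := (ThreeTransp.centralize_two hC.tt.1 (hD u (hsub u (by simp))) (hD v (hsub v (by simp))) hd hne
        (hcm u (hsub u (by simp)) v (hsub v (by simp)))).1 h2
      simpa using this
    | [u, v, w], _ =>
      simp only [List.prod_cons, List.prod_nil, mul_one, ← mul_assoc] at h2
      simp only [List.nodup_cons, List.mem_cons, List.not_mem_nil, or_false, not_or] at hndm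
      have := (ThreeTransp.centralize_three hC.tt.1 (hD u (hsub u (by simp))) (hD v (hsub v (by simp)))
        (hD w (hsub w (by simp))) hd hndm.1.1 hndm.1.2 hndm.2.1 (hcm u (hsub u (by simp)) v (hsub v (by simp)))
        (hcm u (hsub u (by simp)) w (hsub w (by simp))) (hcm v (hsub v (by simp)) w (hsub w (by simp)))).1 h2
      simpa using this
  intro x hx
  by_cases hpx : p x = true
  · exact (hp x hx).1 hpx
  · exact hall x (List.mem_filter.2 ⟨hx, by simp [hpx]⟩)

/-- The hyperoval completing the triangle of the frame. -/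
theorem exists_hyper :
    ∃ i ∈ ([0, 1, 2] : List ℕ), ∀ g, Commute g a → (∀ t ∈ [e1, e2, e3], g * γ t * g⁻¹ = γ t) →
      ∀ σ, Induces γ g σ → ∀ t ∈ hyperovals.getD i [], σ t ∈ hyperovals.getD i [] := by
  classical
  obtain ⟨m1, m2, m3, -, -, -⟩ := base_isPt
  have hdist : orth e1 e2 = true ∧ orth e1 e3 = true ∧ orth e2 e3 = true ∧ e1 ≠ e2 ∧ e1 ≠ e3 ∧ e2 ≠ e3 ∧
      e3 ∉ line12 := by decide +kernel
  obtain ⟨o12, o13, o23, d12, d13, d23, -⟩ := hdist
  obtain ⟨hb, hba, hab⟩ := hγ.mem e1 m1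
  obtain ⟨hc, hca, hac⟩ := hγ.mem e2 m2
  obtain ⟨he, hea, hae⟩ := hγ.mem e3 m3
  have hne : γ e1 ≠ γ e2 ∧ γ e1 ≠ γ e3 ∧ γ e2 ≠ γ e3 := ⟨fun h => d12 (hγ.inj _ _ m1 m2 h),
    fun h => d13 (hγ.inj _ _ m1 m3 h), fun h => d23 (hγ.inj _ _ m2 m3 h)⟩
  obtain ⟨c12, c13, c23⟩ : Commute (γ e1) (γ e2) ∧ Commute (γ e1) (γ e3) ∧ Commute (γ e2) (γ e3) :=
    ⟨(hγ.comm _ _ m1 m2).2 o12, (hγ.comm _ _ m1 m3).2 o13, (hγ.comm _ _ m2 m3).2 o23⟩
  obtain ⟨x, y, z, hx, hy, hz, nxy, nxz, nyz, cxy, cxz, cyz, xb, xc, xe, hp, huniq⟩ :=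
    partner hC hb hc he hne c12 c13 c23
  -- six different commuting members
  rcases triple_cases hC.tt hC.tf hb hc he hx hy hz hne ⟨nxy, nxz, nyz⟩ c12 c13 c23 cxy cxz cyz hp with
    hs | ⟨hnd, hcm, hprod⟩
  · exact absurd ((hs x).2 (Or.inl rfl)) (by simp [xb, xc, xe])
  set six := [γ e1, γ e2, γ e3, x, y, z] with hsix
  have hsixD : ∀ u ∈ six, u ∈ D := by
    intro u hu
    simp only [hsix, List.mem_cons, List.not_mem_nil, or_false] at hu
    rcases hu with rfl | rfl | rfl | rfl | rfl | rfl <;> assumption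
  -- none is a
  have hna : ∀ u ∈ [x, y, z], u ≠ a := by
    intro u hu e
    subst e
    have h4 : Commute (γ e1) (γ e2) ∧ orth e1 e2 = true := ⟨c12, o12⟩
    obtain ⟨v, w, e1', hvw, cvw, hvu, hiff⟩ := triple_reorder hC.tt cxy cxz cyz ⟨nxy, nxz, nyz⟩
      (by simpa using hu : u = x ∨ u = y ∨ u = z)
    -- a product of three neighbours lying in one five-relation is impossible
    have hrel : NoRel D 5 := hC.noRel5
    have hvmem : v ∈ six ∧ w ∈ six := by
      constructor <;> simp only [hsix, List.mem_cons, List.not_mem_nil, or_false]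
      · rcases (hiff v).2 (Or.inr (Or.inl rfl)) with r | r | r <;> simp [r]
      · rcases (hiff w).2 (Or.inr (Or.inr rfl)) with r | r | r <;> simp [r]
    have humem : u ∈ six := by
      simp only [hsix, List.mem_cons, List.not_mem_nil, or_false]
      rcases (hiff u).2 (Or.inl rfl) with r | r | r <;> simp [r]
    obtain ⟨pv, hpv, rfl⟩ := hγ.surj v ⟨hsixD v hvmem.1, hvu.1, hcm u humem v hvmem.1⟩
    obtain ⟨pw, hpw, rfl⟩ := hγ.surj w ⟨hsixD w hvmem.2, hvu.2, hcm u humem _ hvmem.2⟩
    -- the five neighbours form a line containing the triangle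
    have hall : allP (fun t => orth e3 t) perp12 = true := by
      rw [allP_iff]
      intro t ht
      have htp := allP_iff.1 perp12_isPt t ht
      have ht12 : (orth t e1 && orth t e2) = true := by
        rw [beq_iff_eq.1 (allP_iff.1 perp12_spec t (mem_pts.2 htp)), inMask_maskOf]
        exact ht
      rw [Bool.and_eq_true] at ht12
      rw [← hγ.comm e3 t m3 htp]
      have hta : Commute (γ t) u := (hγ.mem t htp).2.2.symm
      have k1 : Commute (γ t) (γ e1) := (hγ.comm t e1 htp m1).2 ht12.1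
      have k2 : Commute (γ t) (γ e2) := (hγ.comm t e2 htp m2).2 ht12.2
      have hp' : γ pv * γ pw * γ e3 = u * γ e1 * γ e2 := by
        have h6 : γ e1 * γ e2 * γ e3 = u * (γ pv * γ pw) := hp.trans e1'
        have e3sq := sq hC.tt he
        have hsq : u * u = 1 := sq hC.tt ha
        calc γ pv * γ pw * γ e3 = (u * u) * (γ pv * γ pw) * γ e3 := by rw [hsq, one_mul]
          _ = u * (u * (γ pv * γ pw)) * γ e3 := by group
          _ = u * (γ e1 * γ e2) * (γ e3 * γ e3) := by rw [← h6]; group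
          _ = u * γ e1 * γ e2 := by rw [e3sq, mul_one, mul_assoc]
      have hc3 : Commute (γ t) (γ pv * γ pw * γ e3) := hp' ▸ (hta.mul_right k1).mul_right k2
      have hne3 : γ pv ≠ γ e3 ∧ γ pw ≠ γ e3 := by
        simp only [hsix, List.nodup_cons, List.mem_cons, List.not_mem_nil, or_false, not_or] at hnd
        constructor <;> intro r
        · rcases (hiff (γ pv)).2 (Or.inr (Or.inl rfl)) with q | q | q
          · exact hnd.2.2.1.1 (r ▸ q)
          · exact hnd.2.2.1.2.1 (r ▸ q)
          · exact hnd.2.2.1.2.2 (r ▸ q)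
        · rcases (hiff (γ pw)).2 (Or.inr (Or.inr rfl)) with q | q | q
          · exact hnd.2.2.1.1 (r ▸ q)
          · exact hnd.2.2.1.2.1 (r ▸ q)
          · exact hnd.2.2.1.2.2 (r ▸ q)
      have h3mem : γ e3 ∈ six := by simp [hsix]
      exact ((ThreeTransp.centralize_three hC.tt.1 (hγ.mem pv hpv).1 (hγ.mem pw hpw).1 he (hγ.mem t htp).1 hvw
        hne3.1 hne3.2 cvw (hcm _ hvmem.1 _ h3mem) (hcm _ hvmem.2 _ h3mem)).1 hc3).2.2.symm
    have hl := allP_iff.1 line12_spec.1 e3 (mem_pts.2 m3)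
    rw [hall, show orth e3 e1 = true by decide +kernel, show orth e3 e2 = true by decide +kernel] at hl
    simp only [Bool.and_self, Bool.not_true, Bool.false_or, beq_iff_eq] at hl
    have := inMask_maskOf.1 hl.symm
    simp [line12, e3] at this
  have hloc : ∀ u ∈ [x, y, z], ∃ p, isPt p = true ∧ γ p = u ∧ p ∈ planeRest := by
    intro u hu
    have hu6 : u ∈ six := by
      simp only [hsix, List.mem_cons, List.not_mem_nil, or_false] at hu ⊢
      tauto
    have hcua : Commute a u := by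
      have : Commute a (x * y * z) := hp ▸ (hab.mul_right hac).mul_right hae
      obtain ⟨k1, k2, k3⟩ := (ThreeTransp.centralize_three hC.tt.1 hx hy hz ha nxy nxz nyz cxy cxz cyz).1 this
      simp only [List.mem_cons, List.not_mem_nil, or_false] at hu
      rcases hu with rfl | rfl | rfl <;> assumption
    obtain ⟨p, hp', rfl⟩ := hγ.surj u ⟨hsixD u hu6, hna u hu, hcua⟩
    refine ⟨p, hp', rfl, ?_⟩
    have hs := allP_iff.1 plane123_spec.1 p (mem_pts.2 hp')
    rw [(hγ.comm p e1 hp' m1).1 (hcm _ hu6 _ (by simp [hsix])),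
      (hγ.comm p e2 hp' m2).1 (hcm _ hu6 _ (by simp [hsix])),
      (hγ.comm p e3 hp' m3).1 (hcm _ hu6 _ (by simp [hsix])), beq_iff_eq, eq_comm] at hs
    have hr := allP_iff.1 planeRest_spec p (mem_pts.2 hp')
    simp only [Bool.and_self] at hs
    simp only [Bool.or_eq_true, Bool.not_eq_true', hs, Bool.true_eq_false, false_or, inMask_maskOf] at hr
    simp only [hsix, List.nodup_cons, List.mem_cons, List.not_mem_nil, or_false, not_or] at hnd hu
    rcases hr with ((h | h) | h) | h
    · exact h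
    all_goals
      exfalso
      have hb' : γ p = γ _ := congrArg γ (Nat.eq_of_beq_eq_true h)
      rcases hu with r | r | r <;> rw [r] at hb'
      all_goals
        first
          | exact hnd.1.2.2.1 hb'.symm
          | exact hnd.1.2.2.2.1 hb'.symm
          | exact hnd.1.2.2.2.2 hb'.symm
          | exact hnd.2.1.2.1 hb'.symm
          | exact hnd.2.1.2.2.1 hb'.symm
          | exact hnd.2.1.2.2.2 hb'.symm
          | exact hnd.2.2.1.1 hb'.symm
          | exact hnd.2.2.1.2.1 hb'.symm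
          | exact hnd.2.2.1.2.2 hb'.symm
  obtain ⟨px, hpx, ex, rx⟩ := hloc x (by simp)
  obtain ⟨py, hpy, ey, ry⟩ := hloc y (by simp)
  obtain ⟨pz, hpz, ez, rz⟩ := hloc z (by simp)
  have hmap : six = [e1, e2, e3, px, py, pz].map γ := by simp [hsix, ex, ey, ez]
  have hpl : ∀ t ∈ [e1, e2, e3, px, py, pz], isPt t = true ∧ inMask (maskOf plane123) t = true := by
    have hin : e1 ∈ plane123 ∧ e2 ∈ plane123 ∧ e3 ∈ plane123 := by decide +kernel
    have hsub : ∀ t, isPt t = true → t ∈ planeRest → inMask (maskOf plane123) t = true := fun t ht htr => by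
      have := allP_iff.1 hyper_mem.2 t (mem_pts.2 ht)
      rw [inMask_maskOf.2 htr] at this
      simpa using this
    intro t ht
    simp only [List.mem_cons, List.not_mem_nil, or_false] at ht
    rcases ht with rfl | rfl | rfl | rfl | rfl | rfl
    · exact ⟨m1, inMask_maskOf.2 hin.1⟩
    · exact ⟨m2, inMask_maskOf.2 hin.2.1⟩
    · exact ⟨m3, inMask_maskOf.2 hin.2.2⟩
    · exact ⟨hpx, hsub _ hpx rx⟩
    · exact ⟨hpy, hsub _ hpy ry⟩
    · exact ⟨hpz, hsub _ hpz rz⟩
  have hnd' : [e1, e2, e3, px, py, pz].Nodup := List.Nodup.of_map γ (hmap ▸ hnd)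
  have harc : ∀ p ∈ lineReps, cntP (inMask p.2) [e1, e2, e3, px, py, pz] ≤ 2 := by
    intro p hpm
    by_contra hgt
    have hrep := allP_iff.1 lineReps_spec p hpm
    simp only [Bool.and_eq_true, Bool.not_eq_true', allP_iff, beq_iff_eq] at hrep
    obtain ⟨⟨hr1, hr2⟩, hr3⟩ := hrep
    rw [cntP_eq] at hgt
    set q : G → Bool := fun u => decide (Commute (γ p.1) u) with hq
    have hcount : [e1, e2, e3, px, py, pz].countP (inMask p.2) = six.countP q := by
      rw [hmap, List.countP_map]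
      refine List.countP_congr fun t ht => ?_
      obtain ⟨t1, t2⟩ := hpl t ht
      rw [Function.comp, hq, decide_eq_true_eq, hγ.comm p.1 t hr1 t1, hr3 t (inMask_maskOf.1 t2)]
    have hall := six_rule hC ha hγ hnd rfl hsixD hcm hprod (hγ.mem p.1 hr1).1 q
      (fun u _ => by simp [hq]) (by omega)
    -- six points of the plane orthogonal to a point outside it
    have h5 := allP_iff.1 plane123_perp p.1 (mem_pts.2 hr1)
    rw [hr2, Bool.false_or] at h5
    have h5' := Nat.eq_of_beq_eq_true h5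
    rw [cntP_eq, List.countP_eq_length_filter] at h5'
    have hsub : [e1, e2, e3, px, py, pz] ⊆ plane123.filter fun t => orth p.1 t := fun t ht => by
      obtain ⟨t1, t2⟩ := hpl t ht
      exact List.mem_filter.2 ⟨inMask_maskOf.1 t2,
        (hγ.comm p.1 t hr1 t1).1 (hall (γ t) (by rw [hmap]; exact List.mem_map_of_mem ht))⟩
    have := (List.Nodup.subperm hnd' hsub).length_le
    rw [h5'] at this
    simp at this
  obtain ⟨i, hi, hiff⟩ := hyper_of_arc rx ry rz
    ⟨fun e => nxy (by rw [← ex, ← ey, e]), fun e => nxz (by rw [← ex, ← ez, e]),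
      fun e => nyz (by rw [← ey, ← ez, e])⟩ harc
  refine ⟨i, hi, fun g hg hfix σ hσ t ht => ?_⟩
  have f1 := hfix e1 (by simp)
  have f2 := hfix e2 (by simp)
  have f3' := hfix e3 (by simp)
  have hmul : (g * x * g⁻¹) * (g * y * g⁻¹) * (g * z * g⁻¹) = γ e1 * γ e2 * γ e3 := by
    rw [show (g * x * g⁻¹) * (g * y * g⁻¹) * (g * z * g⁻¹) = g * (x * y * z) * g⁻¹ by group, ← hp,
      show g * (γ e1 * γ e2 * γ e3) * g⁻¹ = (g * γ e1 * g⁻¹) * (g * γ e2 * g⁻¹) * (g * γ e3 * g⁻¹) by group,
      f1, f2, f3']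
  have hn : ∀ {u v : G}, u ≠ v → g * u * g⁻¹ ≠ g * v * g⁻¹ := fun h e => h (mul_left_cancel (mul_right_cancel e))
  rcases huniq _ _ _ (conj_mem hC.tt g hx) (conj_mem hC.tt g hy) (conj_mem hC.tt g hz)
    ⟨hn nxy, hn nxz, hn nyz⟩ ((Commute.conj_iff g).2 cxy) ((Commute.conj_iff g).2 cxz)
    ((Commute.conj_iff g).2 cyz) hmul with hh | hh
  · exfalso
    rcases (hh (γ e1)).2 (Or.inl rfl) with r | r | r
    · exact xb (mul_left_cancel (mul_right_cancel (r.symm.trans f1.symm)))
    · have : y = γ e1 := mul_left_cancel (mul_right_cancel (r.symm.trans f1.symm))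
      simp [hsix, this] at hnd
    · have : z = γ e1 := mul_left_cancel (mul_right_cancel (r.symm.trans f1.symm))
      simp [hsix, this] at hnd
  · have htp : isPt t = true := by
      rcases (hiff t).1 ht with rfl | rfl | rfl <;> assumption
    obtain ⟨ht', et⟩ := hσ t htp
    rw [hiff]
    have : g * γ t * g⁻¹ = x ∨ g * γ t * g⁻¹ = y ∨ g * γ t * g⁻¹ = z := by
      refine (hh _).1 ?_
      rcases (hiff t).1 ht with rfl | rfl | rfl
      · exact Or.inl (by rw [ex])
      · exact Or.inr (Or.inl (by rw [ey]))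
      · exact Or.inr (Or.inr (by rw [ez]))
    rw [← et, ← ex, ← ey, ← ez] at this
    rcases this with r | r | r
    · exact Or.inl (hγ.inj _ _ ht' hpx r)
    · exact Or.inr (Or.inl (hγ.inj _ _ ht' hpy r))
    · exact Or.inr (Or.inr (hγ.inj _ _ ht' hpz r))

/-- The residual stabiliser acts as the identity or as one fixed further map. -/
theorem resid_spec : ∃ i ∈ ([0, 1, 2] : List ℕ), ∀ g, Resid a γ g →
    g ∈ Subgroup.closure (nb D a) ∨ ∃ σ, Induces γ g σ ∧ ∀ x, isPt x = true → σ (refMap i x) = refMap (i + 3) x := by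
  obtain ⟨i, hi, hhyp⟩ := exists_hyper hC ha hγ
  refine ⟨i, hi, fun g hg => ?_⟩
  obtain ⟨hga, hfr, h5⟩ := hg
  obtain ⟨σ, hσ⟩ := exists_induces hC ha hγ hga
  obtain ⟨q5, q9, q13, hbase⟩ := five_pts
  obtain ⟨m1, m2, m3, m4, m5, m6⟩ := base_isPt
  have hs : ∀ k < 6, σ (frame.getD k 0) = frame.getD k 0 := fun k hk =>
    induces_eq hC ha hγ hσ (frame_isPt hk) (frame_isPt hk) (hfr k hk)
  have b1 := hs 0 (by norm_num); have b2 := hs 2 (by norm_num); have b3 := hs 4 (by norm_num)
  have b4 := hs 1 (by norm_num); have b5 := hs 3 (by norm_num); have b6 := hs 5 (by norm_num)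
  simp only [frame, List.getD_cons_zero, List.getD_cons_succ] at b1 b2 b3 b4 b5 b6
  have s5 : σ 5 = 5 := induces_eq hC ha hγ hσ q5 q5 h5
  have hsurj : ∀ y, isPt y = true → ∃ x, isPt x = true ∧ σ x = y := by
    intro y hy
    obtain ⟨x, hx, e⟩ := hγ.surj (g⁻¹ * γ y * g) (by
      have := (nb_conj hC.tt g⁻¹ a (γ y)).2 (hγ.mem y hy)
      rwa [conj_eq_self hC ha hγ hga.inv_left, inv_inv] at this)
    exact ⟨x, hx, induces_eq hC ha hγ hσ hx hy (by rw [e]; group)⟩
  -- collinearity with two fixed points is preserved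
  have hperp : ∀ u v t, isPt u = true → isPt v = true → isPt t = true → σ u = u → σ v = v →
      allP (fun z => !(orth z u && orth z v) || orth z t) pts = true →
      allP (fun z => !(orth z u && orth z v) || orth z (σ t)) pts = true := by
    intro u v t hu hv ht eu ev h
    rw [allP_iff] at h ⊢
    intro z hz
    obtain ⟨w, hw, rfl⟩ := hsurj z (mem_pts.1 hz)
    have h' := h w (mem_pts.2 hw)
    conv_lhs => arg 1; rw [← eu, ← ev]
    rwa [induces_orth hC ha hγ hσ hw hu, induces_orth hC ha hγ hσ hw hv, induces_orth hC ha hγ hσ hw ht]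
  have htri : ∀ t ∈ [e1, e2, e3], g * γ t * g⁻¹ = γ t := by
    intro t ht
    simp only [List.mem_cons, List.not_mem_nil, or_false] at ht
    rcases ht with rfl | rfl | rfl
    · exact hfr 0 (by norm_num)
    · exact hfr 2 (by norm_num)
    · exact hfr 4 (by norm_num)
  have hH := hhyp g hga htri σ hσ
  have hpc := allP_iff.1 hPt_check i hi
  rw [Bool.and_eq_true, allP_iff] at hpc
  obtain ⟨hpm, hpu⟩ := hpc
  have hhm : hPt i ∈ hyperovals.getD i [] := by simpa using hpm
  have hhpt : ∀ t ∈ hyperovals.getD i [], isPt t = true := by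
    intro t ht
    have hl : hyperovals.getD i [] ∈ hyperovals := by
      rw [List.getD_eq_getElem _ _ (show i < hyperovals.length by
        simp only [List.mem_cons, List.not_mem_nil, or_false] at hi
        rcases hi with rfl | rfl | rfl <;> decide)]
      exact List.getElem_mem _
    have := allP_iff.1 (allP_iff.1 hyper_mem.1 _ hl) t ht
    rw [Bool.and_eq_true] at this
    exact this.1
  have hp_pt := hhpt _ hhm
  have e_p : σ (hPt i) = hPt i := by
    have h0 := hpu _ hhm
    rw [beq_iff_eq, Nat.beq_refl] at h0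
    have h1 := hperp 5 e3 (hPt i) q5 m3 hp_pt s5 b3 h0
    have h2 := hpu _ (hH _ hhm)
    rw [h1, beq_iff_eq, eq_comm] at h2
    exact Nat.eq_of_beq_eq_true h2
  have hqc := allP_iff.1 qPt_check i hi
  rw [Bool.and_eq_true, inMask_maskOf] at hqc
  obtain ⟨hqm, hqu⟩ := hqc
  rw [allP_iff] at hqu
  have hq_pt : isPt (qPt i) = true := allP_iff.1 plane123_isPt _ hqm
  have e_q : σ (qPt i) = qPt i := by
    have h0 := hqu _ hqm
    rw [beq_iff_eq, Nat.beq_refl, allP_iff] at h0
    have k1 := hperp e1 e3 (qPt i) m1 m3 hq_pt b1 b3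
      (allP_iff.2 fun z hz => ((Bool.and_eq_true _ _).mp (h0 z hz)).1)
    have k2 := hperp e2 (hPt i) (qPt i) m2 hp_pt hq_pt b2 e_p
      (allP_iff.2 fun z hz => ((Bool.and_eq_true _ _).mp (h0 z hz)).2)
    have hin : σ (qPt i) ∈ plane123 := by
      have hs0 := allP_iff.1 plane123_spec.1 _ (mem_pts.2 hq_pt)
      have hs1 := allP_iff.1 plane123_spec.1 _ (mem_pts.2 (hσ _ hq_pt).1)
      rw [beq_iff_eq, inMask_maskOf.2 hqm] at hs0
      rw [beq_iff_eq, ← b1, ← b2, ← b3, induces_orth hC ha hγ hσ hq_pt m1, induces_orth hC ha hγ hσ hq_pt m2,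
        induces_orth hC ha hγ hσ hq_pt m3, hs0, eq_comm, inMask_maskOf] at hs1
      exact hs1
    have h2 := hqu _ hin
    rw [allP_iff.2 (fun z hz => (Bool.and_eq_true _ _).mpr ⟨allP_iff.1 k1 z hz, allP_iff.1 k2 z hz⟩),
      beq_iff_eq, eq_comm] at h2
    exact Nat.eq_of_beq_eq_true h2
  have h9 : σ 9 = 9 ∨ σ 9 = 13 := by
    have hres := allP_iff.1 frame_residual
    have h99 := hres 9 (mem_pts.2 q9)
    rw [beq_iff_eq, inMask_maskOf.2 (by simp : (9 : ℕ) ∈ [5, 9, 13])] at h99
    simp only [Bool.and_eq_true, Bool.not_eq_true'] at h99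
    obtain ⟨⟨⟨⟨⟨o1, o2⟩, o3⟩, o4⟩, -⟩, -⟩ := h99
    have hs9 := hres (σ 9) (mem_pts.2 (hσ 9 q9).1)
    rw [beq_iff_eq] at hs9
    have p1 : orth (σ 9) e1 = true := by rw [← b1, induces_orth hC ha hγ hσ q9 m1]; exact o1
    have p2 : orth (σ 9) e2 = true := by rw [← b2, induces_orth hC ha hγ hσ q9 m2]; exact o2
    have p3 : orth (σ 9) e3 = true := by rw [← b3, induces_orth hC ha hγ hσ q9 m3]; exact o3
    have p4 : orth (σ 9) f3 = true := by rw [← b6, induces_orth hC ha hγ hσ q9 m6]; exact o4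
    have n1 : Nat.beq (σ 9) e1 = false := Bool.eq_false_iff.2 fun e => by
      have := induces_inj hC ha hγ hσ q9 m1 ((Nat.eq_of_beq_eq_true e).trans b1.symm)
      simp [e1] at this
    have n2 : Nat.beq (σ 9) e2 = false := Bool.eq_false_iff.2 fun e => by
      have := induces_inj hC ha hγ hσ q9 m2 ((Nat.eq_of_beq_eq_true e).trans b2.symm)
      simp [e2] at this
    rw [p1, p2, p3, p4, n1, n2, eq_comm] at hs9
    simp only [Bool.and_self, Bool.not_false, inMask_maskOf, List.mem_cons, List.not_mem_nil, or_false] at hs9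
    rcases hs9 with r | r | r
    · have := induces_inj hC ha hγ hσ q9 q5 (r.trans s5.symm)
      norm_num at this
    · exact Or.inl r
    · exact Or.inr r
  have hlt : i < 3 := by
    simp only [List.mem_cons, List.not_mem_nil, or_false] at hi
    rcases hi with rfl | rfl | rfl <;> norm_num
  have hnine := allP_iff.1 refMap_nine i hi
  simp only [Bool.and_eq_true, allP_iff] at hnine
  obtain ⟨⟨⟨⟨hk7, r7⟩, r7'⟩, r8⟩, r8'⟩ := hnine
  have hσseven : ∀ k < 7, σ (detBase.getD k 0) = detBase.getD k 0 := by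
    intro k hk
    rw [Nat.eq_of_beq_eq_true (allP_iff.1 hbase k (List.mem_range.2 hk))]
    match k, hk with
    | 0, _ => exact b1
    | 1, _ => exact b4
    | 2, _ => exact b2
    | 3, _ => exact b5
    | 4, _ => exact b3
    | 5, _ => exact b6
    | 6, _ => exact s5
  have hP : ∀ x ∈ pts, σ x ∈ pts := fun x hx => mem_pts.2 (hσ x (mem_pts.1 hx)).1
  have hO : ∀ x ∈ pts, ∀ y ∈ pts, orth (σ x) (σ y) = orth x y := fun x hx y hy =>
    induces_orth hC ha hγ hσ (mem_pts.1 hx) (mem_pts.1 hy)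
  have hnine' : ∀ (j : ℕ), (∀ k < 7, refMap j (detBase.getD k 0) = detBase.getD k 0) →
      refMap j (detBase.getD 7 0) = qPt i → σ (refMap i (detBase.getD 8 0)) = refMap j (detBase.getD 8 0) →
      ∀ k < 9, σ (refMap i (detBase.getD k 0)) = refMap j (detBase.getD k 0) := by
    intro j h7 hq h8 k hk
    by_cases hk7' : k < 7
    · rw [Nat.eq_of_beq_eq_true (hk7 k (List.mem_range.2 hk7')).1, h7 k hk7', hσseven k hk7']
    rcases (show k = 7 ∨ k = 8 by omega) with rfl | rfl
    · rw [Nat.eq_of_beq_eq_true r7, hq, e_q]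
    · exact h8
  rcases h9 with h9 | h9
  · left
    refine mem_of_induces_id hC ha hγ hga hσ fun x hx => ?_
    obtain ⟨w, hw, rfl⟩ := refMap_surj (i := i) (by omega) (mem_pts.2 hx)
    exact rigid (by omega) (by omega) σ hP hO (hnine' i
      (fun k hk => Nat.eq_of_beq_eq_true (hk7 k (List.mem_range.2 hk)).1) (Nat.eq_of_beq_eq_true r7)
      (by rw [Nat.eq_of_beq_eq_true r8, h9])) w hw
  · right
    refine ⟨σ, hσ, fun x hx => rigid (by omega) (by omega) σ hP hO (hnine' (i + 3)
      (fun k hk => Nat.eq_of_beq_eq_true (hk7 k (List.mem_range.2 hk)).2) (Nat.eq_of_beq_eq_true r7')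
      (by rw [Nat.eq_of_beq_eq_true r8, Nat.eq_of_beq_eq_true r8', h9])) x (mem_pts.2 hx)⟩

/-- Two elements outside the subgroup generated by the neighbours differ by an element inside it. -/
theorem coset_unique {g g' : G} (hg : Commute g a) (hg' : Commute g' a)
    (hn : g ∉ Subgroup.closure (nb D a)) (hn' : g' ∉ Subgroup.closure (nb D a)) :
    g * g'⁻¹ ∈ Subgroup.closure (nb D a) := by
  obtain ⟨i, hi, hspec⟩ := resid_spec hC ha hγ
  have hlt : i < 6 := by
    simp only [List.mem_cons, List.not_mem_nil, or_false] at hi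
    rcases hi with rfl | rfl | rfl <;> norm_num
  obtain ⟨u, v, hu, hv, hr, -⟩ := reduce_to_resid hC ha hγ hg
  obtain ⟨u', v', hu', hv', hr', -⟩ := reduce_to_resid hC ha hγ hg'
  set h := u * v
  set h' := u' * v'
  have hh : h ∈ Subgroup.closure (nb D a) := mul_mem hu hv
  have hh' : h' ∈ Subgroup.closure (nb D a) := mul_mem hu' hv'
  rcases hspec _ hr with e | ⟨σ, hσ, e⟩
  · exact absurd (by simpa using mul_mem (inv_mem hh) e) hn
  rcases hspec _ hr' with e' | ⟨σ', hσ', e'⟩
  · exact absurd (by simpa using mul_mem (inv_mem hh') e') hn'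
  have hsame : ∀ x, isPt x = true → σ x = σ' x := by
    intro x hx
    obtain ⟨w, hw, rfl⟩ := refMap_surj (i := i) hlt (mem_pts.2 hx)
    rw [e w (mem_pts.1 hw), e' w (mem_pts.1 hw)]
  have hc : Commute ((h * g)⁻¹ * (h' * g')) a := hr.1.inv_left.mul_left hr'.1
  obtain ⟨τ, hτ⟩ := exists_induces hC ha hγ hc
  have hid : ∀ x, isPt x = true → τ x = x := by
    intro x hx
    refine induces_eq hC ha hγ hτ hx hx ?_
    have h1 := (hσ x hx).2
    have h2 := (hσ' x hx).2
    rw [← hsame x hx, h1] at h2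
    calc (h * g)⁻¹ * (h' * g') * γ x * ((h * g)⁻¹ * (h' * g'))⁻¹
        = (h * g)⁻¹ * ((h' * g') * γ x * (h' * g')⁻¹) * (h * g) := by group
      _ = γ x := by rw [← h2]; group
  have hmem := mem_of_induces_id hC ha hγ hc hτ hid
  have hnorm : ∀ u, u ∈ Subgroup.closure (nb D a) → g * u * g⁻¹ ∈ Subgroup.closure (nb D a) := by
    intro u hu
    have hle : Subgroup.closure (nb D a) ≤ (Subgroup.closure (nb D a)).comap (MulAut.conj g).toMonoidHom := by
      rw [Subgroup.closure_le]
      intro y hy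
      have := (nb_conj hC.tt g a y).2 hy
      rw [conj_eq_self hC ha hγ hg] at this
      exact Subgroup.subset_closure this
    exact hle hu
  have h3 := hnorm _ hmem
  rw [show g * ((h * g)⁻¹ * (h' * g')) * g⁻¹ = h⁻¹ * h' * (g' * g⁻¹) by group] at h3
  have h4 : g' * g⁻¹ ∈ Subgroup.closure (nb D a) := by
    have := mul_mem (mul_mem (inv_mem hh') hh) h3
    rwa [show h'⁻¹ * h * (h⁻¹ * h' * (g' * g⁻¹)) = g' * g⁻¹ by group] at this
  simpa using inv_mem h4

end Cfsg.Agent.TT95
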