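import Cfsg.Agent.TT95.Tower23
import Cfsg.Agent.TT95.Stab

/-!
Type M(23): the elements of order three centralising a transposition are generated by its neighbours,
which is read off from the centraliser modulo the transposition.
-/

set_option autoImplicit false
set_option linter.unusedSectionVars false

namespace Cfsg.Agent.TT95

/-- The standing hypotheses move along an injective homomorphism. -/
theorem cfg22_map {K M : Type*} [Group K] [Group M] {E : Set K} (hC : Cfg22 E) (ψ : K →* M)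
    (hψ : Function.Injective ψ) (htt : TTSet (ψ '' E)) (hZ : Subgroup.center M = ⊥) : Cfg22 (ψ '' E) := by
  have hcomm : ∀ x y, Commute (ψ x) (ψ y) ↔ Commute x y := fun x y => commute_map_iff hψ
  have hnb : ∀ a x, ψ x ∈ nb (ψ '' E) (ψ a) ↔ x ∈ nb E a := fun a x => by
    refine ⟨fun ⟨h1, h2, h3⟩ => ⟨(hψ.mem_set_image).1 h1, fun e => h2 (by rw [e]), (hcomm a x).1 h3⟩,
      fun ⟨h1, h2, h3⟩ => ⟨⟨x, h1, rfl⟩, fun e => h2 (hψ e), (hcomm a x).2 h3⟩⟩
  refine ⟨htt, hZ, ?_, ?_, ?_, ?_, ?_⟩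
  · rintro _ ⟨a, ha, rfl⟩ _ ⟨b, hb, rfl⟩
    obtain ⟨g, hg⟩ := hC.one a ha b hb
    exact ⟨ψ g, by rw [← map_inv, ← map_mul, ← map_mul, hg]⟩
  · rintro _ ⟨a, ha, rfl⟩ _ ⟨b, hb, rfl⟩ hs hc
    rw [hC.tf a ha b hb (fun x hx => by rw [← hcomm a x, ← hcomm b x]; exact hs _ ⟨x, hx, rfl⟩) ((hcomm a b).1 hc)]
  · rintro _ ⟨a, ha, rfl⟩ _ ⟨b, hb, rfl⟩
    exact Relation.ReflTransGen.lift ψ (fun u v e => ⟨⟨u, e.1, rfl⟩, ⟨v, e.2.1, rfl⟩, (hcomm u v).2 e.2.2⟩)
      _ _ (hC.conn a ha b hb)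
  · rintro _ ⟨a, ha, rfl⟩
    obtain ⟨γ, hγ⟩ := hC.loc a ha
    refine ⟨fun p => ψ (γ p), fun p hp => (hnb a _).2 (hγ.mem p hp), ?_,
      fun p q hp hq e => hγ.inj p q hp hq (hψ e), fun p q hp hq => (hcomm _ _).trans (hγ.comm p q hp hq),
      hγ.isPt_tv, fun e p he hp => by rw [← map_inv, ← map_mul, ← map_mul, hγ.conj e p he hp], ?_⟩
    · intro y hy
      obtain ⟨y, -, rfl⟩ := hy.1
      obtain ⟨p, hp, rfl⟩ := hγ.surj y ((hnb a y).1 hy)
      exact ⟨p, hp, rfl⟩
    · intro y hy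
      obtain ⟨y, -, rfl⟩ := hy.1
      rw [← map_mul, ← map_mul, ← map_mul, ← map_mul, hcomm]
      exact hγ.line y ((hnb a y).1 hy)
  · intro l hnd hlen hmem hc hprod
    have hrange : ∀ y ∈ l, ∃ x ∈ E, ψ x = y := hmem
    choose g hg using hrange
    refine hC.noRel5 (l.attach.map fun y => g y.1 y.2) ?_ (by simp [hlen]) ?_ ?_ ?_
    · refine List.Nodup.map (fun u v e => Subtype.ext ?_) (List.nodup_attach.2 hnd)
      rw [← (hg u.1 u.2).2, ← (hg v.1 v.2).2, e]
    · intro x hx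
      obtain ⟨y, -, rfl⟩ := List.mem_map.1 hx
      exact (hg y.1 y.2).1
    · intro x hx x' hx'
      obtain ⟨y, -, rfl⟩ := List.mem_map.1 hx
      obtain ⟨y', -, rfl⟩ := List.mem_map.1 hx'
      rw [← hcomm, (hg y.1 y.2).2, (hg y'.1 y'.2).2]
      exact hc _ y.2 _ y'.2
    · refine hψ ?_
      rw [map_one, map_list_prod, List.map_map, ← hprod]
      congr 1
      conv_rhs => rw [← List.attach_map_subtype_val l]
      refine List.map_congr_left fun y _ => ?_
      exact (hg y.1 y.2).2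

variable {G : Type*} [Group G] [Finite G] {D : Set G}

/-- Commuting distinct members multiply outside the class. -/
theorem mul_two_notMem (hD : TTSet D) (htf : TwinFree D) {a x : G} (ha : a ∈ D) (hx : x ∈ nb D a) :
    a * x ∉ D := by
  intro hy
  have hc := hx.2.2
  have e1 : a = x * (a * x) := by rw [← mul_assoc, ← hc.eq, mul_assoc, sq hD hx.1, mul_one]
  have e2 : x = a * (a * x) := by rw [← mul_assoc, sq hD ha, one_mul]
  have n1 : x ≠ a * x := fun e => ne_one hD ha (right_eq_mul.1 e)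
  have n2 : a ≠ a * x := fun e => ne_one hD hx.1 (left_eq_mul.1 e)
  have c1 : Commute x (a * x) := hc.symm.mul_right (Commute.refl x)
  have c2 : Commute a (a * x) := (Commute.refl a).mul_right hc
  refine hx.2.1 (htf x hx.1 a ha (fun z hz => ⟨fun h => ?_, fun h => ?_⟩) hc.symm)
  · have h' : Commute z (a * (a * x)) := e2 ▸ h.symm
    exact ((ThreeTransp.centralize_two hD.1 ha hy hz n2 c2).1 h').1.symm
  · have h' : Commute z (x * (a * x)) := e1 ▸ h.symm
    exact ((ThreeTransp.centralize_two hD.1 hx.1 hy hz n1 c1).1 h').1.symm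

/-- An element of order three centralising a transposition is generated by its neighbours. -/
theorem cube_mem23 {d : G} (hd : d ∈ D) {n k l s t : ℕ} (hL : Lay D n k l s t)
    (hC : Cfg22 (locSet D d)) (hself : d ∈ Subgroup.closure (nb D d)) {g : G} (hg : Commute g d)
    (h3 : g * g * g = 1) : g ∈ Subgroup.closure (nb D d) := by
  have hD := hL.tt
  set H := Subgroup.closure (nb D d) with hH
  set C := Subgroup.centralizer ({d} : Set G) with hCd
  set Z := (Subgroup.zpowers d).subgroupOf C with hZ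
  have hmemC : ∀ {x : G}, Commute x d → x ∈ C := fun h => Subgroup.mem_centralizer_singleton_iff.2 h.eq
  have hofC : ∀ {x : G}, x ∈ C → Commute x d := fun h => Subgroup.mem_centralizer_singleton_iff.1 h
  have hcen : ∀ z ∈ Subgroup.zpowers d, ∀ x ∈ C, Commute z x := by
    rintro z ⟨i, rfl⟩ x hx
    exact ((hofC hx).symm.zpow_left i)
  haveI hZn : Z.Normal := ⟨fun z hz x => by
    have e : x * z = z * x := Subtype.ext (hcen _ hz _ x.2).eq.symm
    rwa [e, mul_inv_cancel_right]⟩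
  have hpow : ∀ {z : G}, z ∈ Subgroup.zpowers d ↔ z = 1 ∨ z = d := by
    intro z
    constructor
    · rintro ⟨i, rfl⟩
      rcases Int.even_or_odd i with ⟨j, rfl⟩ | ⟨j, rfl⟩
      · left; show d ^ (j + j) = 1; rw [← two_mul, zpow_mul, zpow_two, sq hD hd, one_zpow]
      · right; show d ^ (2 * j + 1) = d; rw [zpow_add, zpow_mul, zpow_two, sq hD hd, one_zpow, one_mul, zpow_one]
    · rintro (rfl | rfl)
      · exact one_mem _
      · exact Subgroup.mem_zpowers _
  have hHC : H ≤ C := fun x hx => hmemC (commute_closure_nb hD hx).symm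
  set ι : H →* ↥C ⧸ Z := (QuotientGroup.mk' Z).comp (Subgroup.inclusion hHC) with hι
  have hι1 : ∀ x : H, ι x = 1 ↔ (x : G) = 1 ∨ (x : G) = d := fun x => by
    rw [hι, MonoidHom.comp_apply, QuotientGroup.mk'_apply, QuotientGroup.eq_one_iff, hZ, Subgroup.mem_subgroupOf]
    exact hpow
  have hker : ι.ker = Subgroup.center H := by
    ext x
    rw [MonoidHom.mem_ker, hι1, Subgroup.mem_center_iff]
    constructor
    · rintro (e | e) y
      · rw [show x = 1 from Subtype.ext e, mul_one, one_mul]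
      · exact Subtype.ext (show (y : G) * x = x * y by rw [e]; exact (commute_closure_nb hD y.2).eq.symm)
    · intro hx
      exact hL.kernel hd (hofC (hHC x.2)) fun b hb =>
        (congrArg Subtype.val (hx ⟨b, Subgroup.subset_closure hb⟩)).symm
  set ψ : ModCenter H →* ↥C ⧸ Z := QuotientGroup.lift (Subgroup.center H) ι hker.ge with hψdef
  have hψ : Function.Injective ψ := by
    rw [← MonoidHom.ker_eq_bot_iff, hψdef, QuotientGroup.ker_lift, hker]
    exact QuotientGroup.map_mk'_self _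
  have hψmk : ∀ x (hx : x ∈ nb D d), ψ (mkNb hx) = QuotientGroup.mk ⟨x, hmemC hx.2.2.symm⟩ := fun x hx => rfl
  have hmem : ∀ q, q ∈ ψ '' locSet D d ↔
      ∃ x, ∃ hx : x ∈ nb D d, (QuotientGroup.mk ⟨x, hmemC hx.2.2.symm⟩ : ↥C ⧸ Z) = q := by
    intro q
    constructor
    · rintro ⟨p, hp, rfl⟩
      obtain ⟨x, hx, rfl, -⟩ := exists_of_mem_locSet hD hp
      exact ⟨x, hx, (hψmk x hx).symm⟩
    · rintro ⟨x, hx, rfl⟩
      exact ⟨mkNb hx, mkNb_mem hD hx (mkNb_ne_one hD hL.one hL.tf hd hx), hψmk x hx⟩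
  have hinv : ∀ m, ∀ q ∈ ψ '' locSet D d, m * q * m⁻¹ ∈ ψ '' locSet D d := by
    intro m q hq
    obtain ⟨x, hx, rfl⟩ := (hmem q).1 hq
    obtain ⟨c, rfl⟩ := QuotientGroup.mk_surjective m
    have hc : (c : G) * d * (c : G)⁻¹ = d := by rw [(hofC c.2).eq, mul_inv_cancel_right]
    have hy := (nb_conj hD (c : G) d x).2 hx
    rw [hc] at hy
    exact (hmem _).2 ⟨_, hy, rfl⟩
  have hthree : Cfsg.IsThreeTranspositionSet (ψ '' locSet D d) := by
    obtain ⟨h1, h2⟩ := loc_threeTransp hD d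
    refine ⟨?_, ?_⟩
    · rintro _ ⟨p, hp, rfl⟩
      rw [orderOf_injective ψ hψ]
      exact h1 p hp
    · rintro _ ⟨p, hp, rfl⟩ _ ⟨q, hq, rfl⟩
      rcases h2 p hp q hq with e | e
      · exact Or.inl (by rw [← map_mul, ← map_pow, e, map_one])
      · exact Or.inr (by rw [← map_mul, ← map_pow, e, map_one])
  have htriv : ∀ m : ↥C ⧸ Z, (∀ q ∈ ψ '' locSet D d, Commute m q) → m = 1 := by
    intro m hm
    obtain ⟨c, rfl⟩ := QuotientGroup.mk_surjective m
    have hcd := hofC c.2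
    refine (QuotientGroup.eq_one_iff _).2 (hpow.2 (hL.kernel hd hcd fun x hx => ?_))
    have h := hm _ ((hmem _).2 ⟨x, hx, rfl⟩)
    set X : C := ⟨x, hmemC hx.2.2.symm⟩ with hX
    have h' : (QuotientGroup.mk (X⁻¹ * (c * X * c⁻¹)) : ↥C ⧸ Z) = 1 := by
      rw [QuotientGroup.mk_mul, QuotientGroup.mk_mul, QuotientGroup.mk_mul, QuotientGroup.mk_inv,
        QuotientGroup.mk_inv, h.eq, mul_inv_cancel_right, inv_mul_cancel]
    rw [QuotientGroup.eq_one_iff, hZ, Subgroup.mem_subgroupOf, hpow] at h'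
    rcases h' with e | e
    · refine mul_inv_eq_iff_eq_mul.1 ?_
      have := (inv_mul_eq_one.1 e).symm
      simpa [hX] using this
    · exfalso
      have e' : (c : G) * x * (c : G)⁻¹ = x * d := inv_mul_eq_iff_eq_mul.1 e
      apply mul_two_notMem hD hL.tf hd hx
      rw [hx.2.2.eq, ← e']
      exact conj_mem hD _ hx.1
  have htt : TTSet (ψ '' locSet D d) := by
    refine ⟨hthree, hinv, le_antisymm (fun m hm => ?_) (Subgroup.center_le_centralizer _)⟩
    rw [htriv m fun q hq => (Subgroup.mem_centralizer_iff.1 hm q hq).symm]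
    exact one_mem _
  have hZM : Subgroup.center (↥C ⧸ Z) = ⊥ := by
    refine (Subgroup.eq_bot_iff_forall _).2 fun m hm => htriv m fun q _ => ?_
    exact (Subgroup.mem_center_iff.1 hm q).symm
  have hM := cfg22_map hC ψ hψ htt hZM
  -- the subgroup generated by the neighbours, and that it has at most two cosets
  set N := Subgroup.closure (ψ '' locSet D d) with hN
  have hNH : ∀ c : C, (QuotientGroup.mk c : ↥C ⧸ Z) ∈ N → (c : G) ∈ H := by
    intro c hc
    have hle : N ≤ ψ.range := (Subgroup.closure_le _).2 (Set.image_subset_range _ _)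
    obtain ⟨p, hp⟩ := hle hc
    obtain ⟨x, rfl⟩ := QuotientGroup.mk_surjective p
    have : ((QuotientGroup.mk (Subgroup.inclusion hHC x) : ↥C ⧸ Z)) = QuotientGroup.mk c := hp
    rw [QuotientGroup.eq, hZ, Subgroup.mem_subgroupOf, hpow] at this
    rcases this with e | e
    · have e' : (x : G) = c := inv_mul_eq_one.1 e
      exact e' ▸ x.2
    · have e' : (c : G) = x * d := inv_mul_eq_iff_eq_mul.1 e
      rw [e']
      exact mul_mem x.2 hself
  by_contra hgn
  have hone : ∀ p ∈ ψ '' locSet D d, ∀ q ∈ ψ '' locSet D d, ∃ u ∈ N, u * p * u⁻¹ = q := by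
    rintro _ ⟨p, hp, rfl⟩ _ ⟨q, hq, rfl⟩
    obtain ⟨u, hu⟩ := hC.one p hp q hq
    refine ⟨ψ u, ?_, by rw [← map_inv, ← map_mul, ← map_mul, hu]⟩
    rw [hN, ← MonoidHom.map_closure]
    exact ⟨u, by rw [loc_closure hD d]; trivial, rfl⟩
  set m : ↥C ⧸ Z := QuotientGroup.mk ⟨g, hmemC hg⟩ with hm
  have hm3 : m * m * m = 1 := by
    rw [hm, ← QuotientGroup.mk_mul, ← QuotientGroup.mk_mul]
    exact (congrArg QuotientGroup.mk (Subtype.ext h3)).trans (QuotientGroup.mk_one _)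
  have hmN : m ∉ N := fun h => hgn (hNH _ h)
  obtain ⟨b₀, hb₀⟩ : (ψ '' locSet D d).Nonempty := by
    obtain ⟨x, hx⟩ : (nb D d).Nonempty := by
      rw [Set.nonempty_iff_ne_empty]
      intro e
      have h1 := hself
      rw [hH, e, Subgroup.closure_empty, Subgroup.mem_bot] at h1
      exact ne_one hD hd h1
    exact ⟨_, (hmem _).2 ⟨x, hx, rfl⟩⟩
  obtain ⟨γ, hγ⟩ := hM.loc b₀ hb₀
  obtain ⟨u, hu, hue⟩ := hone _ (htt.2.1 m b₀ hb₀) b₀ hb₀
  obtain ⟨v, hv, hve⟩ := hone _ (htt.2.1 m⁻¹ b₀ hb₀) b₀ hb₀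
  have hL0 : Subgroup.closure (nb (ψ '' locSet D d) b₀) ≤ N := Subgroup.closure_mono fun x h => h.1
  have hfix : ∀ w : ↥C ⧸ Z, w * b₀ * w⁻¹ = b₀ → Commute w b₀ := fun w h => mul_inv_eq_iff_eq_mul.1 h
  have hno : m⁻¹ ∉ N := fun h => hmN (by simpa using inv_mem h)
  have hn1 : u * m ∉ Subgroup.closure (nb (ψ '' locSet D d) b₀) := fun h =>
    hmN (by simpa using mul_mem (inv_mem hu) (hL0 h))
  have hn2 : v * m⁻¹ ∉ Subgroup.closure (nb (ψ '' locSet D d) b₀) := fun h =>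
    hno (by simpa using mul_mem (inv_mem hv) (hL0 h))
  have h := coset_unique hM hb₀ hγ (hfix (u * m) ((by group : u * m * b₀ * (u * m)⁻¹ = u * (m * b₀ * m⁻¹) * u⁻¹).trans hue))
    (hfix (v * m⁻¹) ((by group : v * m⁻¹ * b₀ * (v * m⁻¹)⁻¹ = v * (m⁻¹ * b₀ * m⁻¹⁻¹) * v⁻¹).trans hve))
    hn1 hn2
  have h' : u * (m * m) * v⁻¹ ∈ N := by
    have := hL0 h
    rwa [show u * m * (v * m⁻¹)⁻¹ = u * (m * m) * v⁻¹ by group] at this
  have h'' : m * m ∈ N := by simpa [mul_assoc] using mul_mem (mul_mem (inv_mem hu) h') hv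
  exact hno (by rwa [← eq_inv_of_mul_eq_one_left hm3])

end Cfsg.Agent.TT95
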