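import Cfsg.Prelude.Def_FischerSpaces
import Cfsg.Prelude.Def_Solvable
import Cfsg.Agent.Lib.ThreeTransp.Basic
import Cfsg.Agent.Lib.Thompson.Cores

/-!
3-transposition groups: members with equal commuting sets, relations among few commuting
transpositions, uniqueness of short factorisations.
-/

set_option autoImplicit false

namespace Cfsg.Agent.TT95

variable {G : Type*} [Group G] {D : Set G}

/-- The members of `D` other than `a` commuting with `a`. -/
def nb (D : Set G) (a : G) : Set G := {y | y ∈ D ∧ y ≠ a ∧ Commute a y}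

/-- `a` and `b` commute with the same members of `D`. -/
def SamePerp (D : Set G) (a b : G) : Prop := ∀ x ∈ D, Commute a x ↔ Commute b x

/-- Two members with the same commuting set are equal. -/
def TwinFree (D : Set G) : Prop := ∀ a ∈ D, ∀ b ∈ D, SamePerp D a b → Commute a b → a = b

/-- All members are conjugate. -/
def OneClass (D : Set G) : Prop := ∀ a ∈ D, ∀ b ∈ D, ∃ g : G, g * a * g⁻¹ = b

/-- A conjugation invariant set of 3-transpositions whose centraliser is the centre; generation is
not asked for. -/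
def TTSet (D : Set G) : Prop :=
  Cfsg.IsThreeTranspositionSet D ∧ (∀ g : G, ∀ d ∈ D, g * d * g⁻¹ ∈ D) ∧
    Subgroup.centralizer (D : Set G) = Subgroup.center G

/-- `D` generates the group. -/
class Gen (D : Set G) : Prop where
  gen : Subgroup.closure D = ⊤

theorem TTSet.of_group (hD : Cfsg.IsThreeTranspositionGroup D) : TTSet D :=
  ⟨hD.1, hD.2.1, by rw [← Subgroup.centralizer_closure, hD.2.2, Subgroup.coe_top, Subgroup.centralizer_univ]⟩

theorem Gen.of_group (hD : Cfsg.IsThreeTranspositionGroup D) : Gen D := ⟨hD.2.2⟩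

variable (hD : TTSet D)

include hD

theorem sq {a : G} (ha : a ∈ D) : a * a = 1 := ThreeTransp.sq_one hD.1 ha

theorem inv_eq {a : G} (ha : a ∈ D) : a⁻¹ = a := ThreeTransp.inv_eq hD.1 ha

theorem ne_one {a : G} (ha : a ∈ D) : a ≠ 1 := ThreeTransp.ne_one hD.1 ha

theorem conj_mem (g : G) {a : G} (ha : a ∈ D) : g * a * g⁻¹ ∈ D := hD.2.1 g a ha

theorem conj_mem' {a : G} (ha : a ∈ D) {b : G} (hb : b ∈ D) : b * a * b ∈ D := by
  have := conj_mem hD b ha
  rwa [inv_eq hD hb] at this

theorem braid {a b : G} (ha : a ∈ D) (hb : b ∈ D) (h : ¬ Commute a b) : a * b * a = b * a * b :=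
  ThreeTransp.braid hD.1 ha hb h

theorem conj_fix {a b : G} (ha : a ∈ D) (h : Commute a b) : a * b * a = b :=
  ThreeTransp.conj_eq_of_commute hD.1 ha h

theorem commute_conj_iff {g x y : G} : Commute (g * x * g⁻¹) (g * y * g⁻¹) ↔ Commute x y :=
  Commute.conj_iff g

theorem exists_conj_of_not_commute {a b : G} (ha : a ∈ D) (hb : b ∈ D) (h : ¬ Commute a b) :
    (a * b) * a * (a * b)⁻¹ = b := by
  rw [mul_inv_rev, inv_eq hD ha, inv_eq hD hb,
    show a * b * a * (b * a) = a * (b * a * b) * a by simp only [mul_assoc], ← braid hD ha hb h,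
    show a * (a * b * a) * a = (a * a) * b * (a * a) by simp only [mul_assoc], sq hD ha, one_mul, mul_one]

theorem centralizer_D_eq_center : Subgroup.centralizer (D : Set G) = Subgroup.center G := hD.2.2

theorem nb_conj (g a x : G) : g * x * g⁻¹ ∈ nb D (g * a * g⁻¹) ↔ x ∈ nb D a := by
  refine ⟨fun ⟨h1, h2, h3⟩ => ⟨?_, fun e => h2 (by rw [e]), (Commute.conj_iff g).1 h3⟩,
    fun ⟨h1, h2, h3⟩ => ⟨conj_mem hD g h1, fun e => h2 (by simpa using e), (Commute.conj_iff g).2 h3⟩⟩
  have := conj_mem hD g⁻¹ h1
  simpa [mul_assoc] using this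

theorem nb_conj_image (g a : G) : nb D (g * a * g⁻¹) = (fun x => g * x * g⁻¹) '' nb D a := by
  ext y
  constructor
  · intro hy
    refine ⟨g⁻¹ * y * g, ?_, by group⟩
    rw [← nb_conj hD g]
    simpa [mul_assoc] using hy
  · rintro ⟨x, hx, rfl⟩
    exact (nb_conj hD g a x).2 hx

theorem ncard_nb_conj (g a : G) : (nb D (g * a * g⁻¹)).ncard = (nb D a).ncard := by
  rw [nb_conj_image hD g a, Set.ncard_image_of_injective _ (fun x y h => by simpa using h)]

/-- For two members with the same commuting set, their product respects commutation. -/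
theorem commute_twin_conj {b c x y : G} (hb : b ∈ D) (hc : c ∈ D) (hx : x ∈ D) (hy : y ∈ D)
    (hs : SamePerp D b c) (hxy : Commute x y) : Commute x (b * (c * y * c) * b) := by
  by_cases hby : Commute b y
  · rwa [conj_fix hD hc ((hs y hy).1 hby), conj_fix hD hb hby]
  have hcy : ¬ Commute c y := fun h => hby ((hs y hy).2 h)
  by_cases hbx : Commute b x
  · have hcx : Commute c x := (hs x hx).1 hbx
    have h1 : Commute (c * x * c) (c * y * c) := by
      have := (Commute.conj_iff c).2 hxy
      rwa [inv_eq hD hc] at this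
    rw [conj_fix hD hc hcx] at h1
    have h2 := (Commute.conj_iff b).2 h1
    rwa [inv_eq hD hb, conj_fix hD hb hbx] at h2
  have hcyc : c * y * c ∈ D := conj_mem' hD hy hc
  have hxbx : x * b * x ∈ D := conj_mem' hD hb hx
  set w := y * (x * b * x) * y with hw
  have hwD : w ∈ D := conj_mem' hD hxbx hy
  have hwb : Commute b w := by
    -- both b and w are moved to commuting members by x * y
    have hw' : w = (x * y) * b * (x * y)⁻¹ := by
      rw [hw, mul_inv_rev, inv_eq hD hx, inv_eq hD hy, ← mul_assoc y, ← mul_assoc y]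
      rw [← hxy.eq]
      simp only [mul_assoc]
    rw [hw']
    by_contra hn
    have hyx : Commute y x := hxy.symm
    have hd : (x * y) * b * (x * y)⁻¹ ∈ D := conj_mem hD _ hb
    apply hn
    -- (xy) b (xy) commutes with b
    have e1 : (x * y)⁻¹ = x * y := by rw [mul_inv_rev, inv_eq hD hx, inv_eq hD hy, hyx.eq]
    rw [e1]
    have bx := braid hD hb hx hbx
    have by' := braid hD hb hy hby
    have hcy2 : Commute (b * x * b) (b * y * b) := by
      have := (Commute.conj_iff b).2 hxy
      rwa [inv_eq hD hb] at this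
    rw [bx, by'] at hcy2
    show b * (x * y * b * (x * y)) = x * y * b * (x * y) * b
    have e2 := hcy2.eq
    simp only [mul_assoc] at e2 bx by' ⊢
    calc b * (x * (y * (b * (x * y))))
        = b * (x * (y * (b * (y * x)))) := by rw [hxy.eq]
      _ = b * (x * (b * (y * (b * x)))) := by
          rw [← mul_assoc y b (y * x), ← mul_assoc (y * b) y x, mul_assoc y b y, ← by']
          simp only [mul_assoc]
      _ = x * (b * (x * (y * (b * x)))) := by
          rw [← mul_assoc x b, ← mul_assoc b (x * b), show b * (x * b) = x * (b * x) from bx]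
          simp only [mul_assoc]
      _ = x * (b * (y * (x * (b * x)))) := by rw [← mul_assoc x y, hxy.eq, mul_assoc]
      _ = x * (b * (y * (b * (x * b)))) := by rw [bx]
      _ = x * (y * (b * (y * (x * b)))) := by
          rw [← mul_assoc y b, ← mul_assoc b (y * b), show b * (y * b) = y * (b * y) from by']
          simp only [mul_assoc]
      _ = x * (y * (b * (x * (y * b)))) := by rw [← mul_assoc x y b, hxy.eq, mul_assoc]
  have hwc : Commute c w := (hs w hwD).1 hwb
  have h3 : Commute (x * b * x) (c * y * c) := by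
    have := (Commute.conj_iff y).2 hwc
    rw [inv_eq hD hy, hw,
      show y * (y * (x * b * x) * y) * y = (y * y) * (x * b * x) * (y * y) by simp only [mul_assoc],
      sq hD hy, one_mul, mul_one, ← braid hD hc hy hcy] at this
    exact this.symm
  rw [← braid hD hb hx hbx] at h3
  have h4 := (Commute.conj_iff b).2 h3
  rw [inv_eq hD hb,
    show b * (b * x * b) * b = (b * b) * x * (b * b) by simp only [mul_assoc], sq hD hb, one_mul, mul_one] at h4
  exact h4

theorem twin_conj_mem {b c y : G} (hb : b ∈ D) (hc : c ∈ D) (hy : y ∈ D) : b * (c * y * c) * b ∈ D :=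
  conj_mem' hD (conj_mem' hD hy hc) hb

theorem twin_conj_samePerp {b c x : G} (hb : b ∈ D) (hc : c ∈ D) (hx : x ∈ D) (hs : SamePerp D b c) :
    SamePerp D x (b * (c * x * c) * b) ∧ Commute x (b * (c * x * c) * b) := by
  refine ⟨fun y hy => ⟨fun h => (commute_twin_conj hD hb hc hy hx hs h.symm).symm, fun h => ?_⟩,
    commute_twin_conj hD hb hc hx hx hs (Commute.refl x)⟩
  -- the inverse of the map is the map for the pair (c, b)
  have hs' : SamePerp D c b := fun z hz => (hs z hz).symm
  have := commute_twin_conj hD hc hb hy (twin_conj_mem hD hb hc hx) hs' h.symm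
  rw [show c * (b * (b * (c * x * c) * b) * b) * c = c * ((b * b) * (c * x * c) * (b * b)) * c by
      simp only [mul_assoc], sq hD hb, one_mul, mul_one,
    show c * (c * x * c) * c = (c * c) * x * (c * c) by simp only [mul_assoc], sq hD hc, one_mul, mul_one] at this
  exact this.symm

/-- If the `2`-core is trivial then no two members have the same commuting set. -/
theorem twinFree_of_pCore_eq_bot [Finite G] (h2 : Cfsg.pCore 2 G = ⊥) : TwinFree D := by
  haveI := Fact.mk Nat.prime_two
  intro a ha b hb hs hab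
  set P : Subgroup G :=
    Subgroup.closure {u | ∃ p ∈ D, ∃ q ∈ D, SamePerp D p q ∧ Commute p q ∧ u = p * q} with hP
  have hconjgen : ∀ (g u : G), u ∈ {u | ∃ p ∈ D, ∃ q ∈ D, SamePerp D p q ∧ Commute p q ∧ u = p * q} →
      g * u * g⁻¹ ∈ P := by
    rintro g u ⟨p, hp, q, hq, hpq, hc, rfl⟩
    refine Subgroup.subset_closure ⟨g * p * g⁻¹, conj_mem hD g hp, g * q * g⁻¹, conj_mem hD g hq, ?_,
      (Commute.conj_iff g).2 hc, by group⟩
    intro z hz
    have hz' : g⁻¹ * z * g ∈ D := by simpa using conj_mem hD g⁻¹ hz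
    have h := hpq _ hz'
    rw [← Commute.conj_iff g, ← Commute.conj_iff g (a := q)] at h
    simpa [mul_assoc] using h
  haveI hPn : P.Normal := ⟨fun n hn g => by
    induction hn using Subgroup.closure_induction with
    | mem u hu => exact hconjgen g u hu
    | one => simp
    | mul u v _ _ ihu ihv =>
      rw [show g * (u * v) * g⁻¹ = (g * u * g⁻¹) * (g * v * g⁻¹) by group]
      exact P.mul_mem ihu ihv
    | inv u _ ih =>
      rw [show g * u⁻¹ * g⁻¹ = (g * u * g⁻¹)⁻¹ by group]
      exact P.inv_mem ih⟩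
  have hgen : P ≤ (Cfsg.pCore 2 P).map P.subtype := by
    rw [hP, Subgroup.closure_le]
    rintro _ ⟨p, hp, q, hq, hpq, hpc, rfl⟩
    -- the products inside the class of p
    set C : Set G := {z | z ∈ D ∧ SamePerp D p z ∧ Commute p z} with hC
    set A : Subgroup G := Subgroup.closure {u | ∃ z ∈ C, ∃ w ∈ C, u = z * w} with hA
    have hCC : ∀ z ∈ C, ∀ w ∈ C, Commute z w := fun z hz w hw => (hz.2.1 w hw.1).1 hw.2.2
    have hAP : A ≤ P := by
      rw [hA, Subgroup.closure_le]
      rintro _ ⟨z, hz, w, hw, rfl⟩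
      exact Subgroup.subset_closure ⟨z, hz.1, w, hw.1,
        fun x hx => (hz.2.1 x hx).symm.trans (hw.2.1 x hx), hCC z hz w hw, rfl⟩
    have hA2 : IsPGroup 2 A := by
      intro ⟨u, hu⟩
      refine ⟨1, Subtype.ext ?_⟩
      have hle : A ≤ Subgroup.closure C := by
        rw [hA, Subgroup.closure_le]
        rintro _ ⟨z, hz, w, hw, rfl⟩
        exact mul_mem (Subgroup.subset_closure hz) (Subgroup.subset_closure hw)
      have : IsMulCommutative (Subgroup.closure C) := Subgroup.isMulCommutative_closure hCC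
      have key : ∀ v ∈ Subgroup.closure C, v ^ 2 = 1 := by
        intro v hv
        induction hv using Subgroup.closure_induction with
        | mem v hv => rw [pow_two, sq hD hv.1]
        | one => simp
        | mul v w hv hw ihv ihw =>
          have h : Commute v w := congrArg Subtype.val (mul_comm' (⟨v, hv⟩ : Subgroup.closure C) ⟨w, hw⟩)
          rw [h.mul_pow, ihv, ihw, one_mul]
        | inv v _ ih => rw [inv_pow, ih, inv_one]
      simpa using key u (hle hu)
    have hAn : (A.subgroupOf P).Normal := by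
      refine ⟨fun ⟨u, hu'⟩ hu ⟨g, hg⟩ => ?_⟩
      rw [Subgroup.mem_subgroupOf] at hu ⊢
      have hCg : ∀ z ∈ C, g * z * g⁻¹ ∈ C := by
        have hone : ∀ g' ∈ P, ∀ z ∈ D, SamePerp D z (g' * z * g'⁻¹) ∧ Commute z (g' * z * g'⁻¹) := by
          intro g' hg'
          induction hg' using Subgroup.closure_induction with
          | mem v hv =>
            obtain ⟨r, hr, s, hs', hrs, hc, rfl⟩ := hv
            intro z hz
            rw [mul_inv_rev, inv_eq hD hr, inv_eq hD hs',
              show r * s * z * (s * r) = r * (s * z * s) * r by simp only [mul_assoc]]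
            exact twin_conj_samePerp hD hr hs' hz hrs
          | one => intro z hz; rw [one_mul, inv_one, mul_one]; exact ⟨fun x _ => Iff.rfl, Commute.refl z⟩
          | mul v w _ _ ihv ihw =>
            intro z hz
            have h1 := ihw z hz
            have h2 := ihv _ (conj_mem hD w hz)
            rw [show v * w * z * (v * w)⁻¹ = v * (w * z * w⁻¹) * v⁻¹ by group]
            exact ⟨fun x hx => (h1.1 x hx).trans (h2.1 x hx), (h1.1 _ (conj_mem hD v (conj_mem hD w hz))).2 h2.2⟩
          | inv v _ ih =>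
            intro z hz
            rw [inv_inv]
            have hz' : v⁻¹ * z * v ∈ D := by simpa using conj_mem hD v⁻¹ hz
            have h1 := ih _ hz'
            rw [show v * (v⁻¹ * z * v) * v⁻¹ = z by group] at h1
            exact ⟨fun x hx => (h1.1 x hx).symm, h1.2.symm⟩
        intro z hz
        obtain ⟨h1, h2⟩ := hone g hg z hz.1
        exact ⟨conj_mem hD g hz.1, fun x hx => (hz.2.1 x hx).trans (h1 x hx),
          (hz.2.1 _ (conj_mem hD g hz.1)).2 h2⟩
      show g * u * g⁻¹ ∈ A
      replace hu : u ∈ A := hu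
      clear hu'
      induction hu using Subgroup.closure_induction with
      | mem v hv =>
        obtain ⟨z, hz, w, hw, rfl⟩ := hv
        exact Subgroup.subset_closure ⟨_, hCg z hz, _, hCg w hw, by group⟩
      | one => simp
      | mul v w _ _ ihv ihw =>
        rw [show g * (v * w) * g⁻¹ = (g * v * g⁻¹) * (g * w * g⁻¹) by group]
        exact A.mul_mem ihv ihw
      | inv v _ ih =>
        rw [show g * v⁻¹ * g⁻¹ = (g * v * g⁻¹)⁻¹ by group]
        exact A.inv_mem ih
    have hle : A.subgroupOf P ≤ Cfsg.pCore 2 P :=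
      le_sSup ⟨hAn, hA2.of_equiv (Subgroup.subgroupOfEquivOfLe hAP).symm⟩
    have hpqA : p * q ∈ A :=
      Subgroup.subset_closure ⟨p, ⟨hp, fun x _ => Iff.rfl, Commute.refl p⟩, q, ⟨hq, hpq, hpc⟩, rfl⟩
    exact ⟨⟨p * q, hAP hpqA⟩, hle (Subgroup.mem_subgroupOf.2 hpqA), rfl⟩
  have hPp : IsPGroup 2 P := ((Thompson.isPGroup_pCore (p := 2) (G := P)).map P.subtype).to_le hgen
  have hbot : P = ⊥ := le_bot_iff.1 (h2 ▸ le_sSup ⟨hPn, hPp⟩)
  have : a * b ∈ P := Subgroup.subset_closure ⟨a, ha, b, hb, hs, hab, rfl⟩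
  rw [hbot, Subgroup.mem_bot] at this
  rw [eq_inv_of_mul_eq_one_left this, inv_eq hD hb]

theorem twinFree_of_primitive (hZ : Subgroup.center G = ⊥) (hprim : Cfsg.IsPrimitiveUnderConj D) :
    TwinFree D := by
  intro a ha b hb hs hab
  by_contra hne
  set B : Set G := {z | z ∈ D ∧ SamePerp D a z ∧ Commute a z} with hB
  have hblock : ∀ g : G, (fun x => g * x * g⁻¹) '' B = B ∨ Disjoint ((fun x => g * x * g⁻¹) '' B) B := by
    intro g
    have hconj : ∀ p q : G, SamePerp D p q → SamePerp D (g * p * g⁻¹) (g * q * g⁻¹) := by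
      intro p q hpq z hz
      have hz' : g⁻¹ * z * g ∈ D := by simpa using conj_mem hD g⁻¹ hz
      have h := hpq _ hz'
      rw [← Commute.conj_iff g, ← Commute.conj_iff g (a := q)] at h
      simpa [mul_assoc] using h
    by_cases hd : Disjoint ((fun x => g * x * g⁻¹) '' B) B
    · exact Or.inr hd
    left
    obtain ⟨w, ⟨z, hz, rfl⟩, hw⟩ := Set.not_disjoint_iff.1 hd
    have hag : SamePerp D a (g * a * g⁻¹) := fun x hx =>
      (hw.2.1 x hx).trans (hconj a z hz.2.1 x hx).symm
    ext y
    constructor
    · rintro ⟨y', hy', rfl⟩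
      have e1 : SamePerp D a (g * y' * g⁻¹) := fun x hx =>
        (hag x hx).trans (hconj a y' hy'.2.1 x hx)
      exact ⟨conj_mem hD g hy'.1, e1, (hag _ (conj_mem hD g hy'.1)).2 ((Commute.conj_iff g).2 hy'.2.2)⟩
    · rintro ⟨hy, hsy, hcy⟩
      have hy' : g⁻¹ * y * g ∈ D := by simpa using conj_mem hD g⁻¹ hy
      refine ⟨g⁻¹ * y * g, ⟨hy', fun x hx => ?_, ?_⟩, by group⟩
      · have h2 := (hag _ (conj_mem hD g hx)).symm.trans (hsy _ (conj_mem hD g hx))
        rw [← Commute.conj_iff g, ← Commute.conj_iff g (a := g⁻¹ * y * g)]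
        simpa [mul_assoc] using h2
      · rw [← Commute.conj_iff g]
        simpa [mul_assoc] using (hag y hy).1 hcy
  rcases hprim.2.2 B (fun z hz => hz.1) hblock with h | h
  · exact hne (h ⟨ha, fun _ _ => Iff.rfl, Commute.refl a⟩ ⟨hb, hs, hab⟩)
  · have hall : ∀ x ∈ D, ∀ y ∈ D, Commute x y := by
      intro x hx y hy
      rw [← h] at hx hy
      exact (hx.2.1 y hy.1).1 hy.2.2
    have : a ∈ Subgroup.center G := by
      rw [← centralizer_D_eq_center hD]
      exact Subgroup.mem_centralizer_iff.2 fun x hx => (hall x hx a ha).eq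
    rw [hZ, Subgroup.mem_bot] at this
    exact ne_one hD ha this

/-- A product of three distinct commuting members is not a member. -/
theorem mul_three_notMem (htf : TwinFree D) {a b c : G} (ha : a ∈ D) (hb : b ∈ D) (hc : c ∈ D)
    (hab : a ≠ b) (hac : a ≠ c) (hbc : b ≠ c) (h1 : Commute a b) (h2 : Commute a c) (h3 : Commute b c) :
    a * b * c ∉ D := by
  intro hd
  apply hab
  refine htf a ha b hb ?_ h1
  have hbd : b ≠ a * b * c := by
    intro e
    apply hac
    rw [h1.eq, mul_assoc] at e
    rw [eq_inv_of_mul_eq_one_left (left_eq_mul.1 e), inv_eq hD hc]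
  have hcd : c ≠ a * b * c := by
    intro e
    apply hab
    rw [eq_inv_of_mul_eq_one_left (right_eq_mul.1 e), inv_eq hD hb]
  have had : a ≠ a * b * c := by
    intro e
    apply hbc
    rw [mul_assoc] at e
    rw [eq_inv_of_mul_eq_one_left (left_eq_mul.1 e), inv_eq hD hc]
  have cbd : Commute b (a * b * c) := (h1.symm.mul_right (Commute.refl b)).mul_right h3
  have ccd : Commute c (a * b * c) := (h2.symm.mul_right h3.symm).mul_right (Commute.refl c)
  have cad : Commute a (a * b * c) := ((Commute.refl a).mul_right h1).mul_right h2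
  have ea : a = b * c * (a * b * c) := by
    rw [show b * c * (a * b * c) = b * (c * a) * b * c by simp only [mul_assoc], ← h2.eq,
      show b * (a * c) * b * c = b * a * (c * b) * c by simp only [mul_assoc], ← h3.eq,
      show b * a * (b * c) * c = b * a * b * (c * c) by simp only [mul_assoc], sq hD hc, mul_one,
      ← h1.eq, mul_assoc, sq hD hb, mul_one]
  have eb : b = a * c * (a * b * c) := by
    rw [show a * c * (a * b * c) = a * (c * a) * b * c by simp only [mul_assoc], ← h2.eq,
      show a * (a * c) * b * c = (a * a) * (c * b) * c by simp only [mul_assoc], sq hD ha, one_mul,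
      ← h3.eq, mul_assoc, sq hD hc, mul_one]
  intro x hx
  constructor
  · intro h
    have : Commute x (b * c * (a * b * c)) := ea ▸ h.symm
    exact ((ThreeTransp.centralize_three hD.1 hb hc hd hx hbc hbd hcd h3 cbd ccd).1 this).1.symm
  · intro h
    have : Commute x (a * c * (a * b * c)) := eb ▸ h.symm
    exact ((ThreeTransp.centralize_three hD.1 ha hc hd hx hac had hcd h2 cad ccd).1 this).1.symm

/-- A product of two commuting members determines them. -/
theorem pair_unique (htf : TwinFree D) {a b c d : G} (ha : a ∈ D) (hb : b ∈ D) (hc : c ∈ D) (hd : d ∈ D)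
    (hab : a ≠ b) (h1 : Commute a b) (h2 : Commute c d) (h : a * b = c * d) :
    (c = a ∧ d = b) ∨ (c = b ∧ d = a) := by
  have hcab : Commute c (a * b) := by rw [h]; exact (Commute.refl c).mul_right h2
  obtain ⟨hca, hcb⟩ := (ThreeTransp.centralize_two hD.1 ha hb hc hab h1).1 hcab
  by_cases e1 : c = a
  · subst e1; exact Or.inl ⟨rfl, (mul_left_cancel h).symm⟩
  by_cases e2 : c = b
  · subst e2
    rw [h1.eq] at h
    exact Or.inr ⟨rfl, (mul_left_cancel h).symm⟩
  exfalso
  apply mul_three_notMem hD htf hc ha hb e1 e2 hab hca hcb h1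
  rw [mul_assoc, h, ← mul_assoc, sq hD hc, one_mul]
  exact hd

end Cfsg.Agent.TT95
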