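import Cfsg.Agent.TT95.U6Coord
import Cfsg.Agent.TT95.Basic

/-!
An invariant set of 3-transpositions of the projective unitary group of dimension six over four
elements is labelled by the point model.
-/

set_option autoImplicit false
set_option linter.unusedSectionVars false

namespace Cfsg.Agent.TT95.U6

/-- `β` labels the set `E` by the point model. -/
structure IsLabel {K : Type*} [Group K] (E : Set K) (β : ℕ → K) : Prop where
  mem : ∀ p, isPt p = true → β p ∈ E
  surj : ∀ x ∈ E, ∃ p, isPt p = true ∧ β p = x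
  inj : ∀ p q, isPt p = true → isPt q = true → β p = β q → p = q
  comm : ∀ p q, isPt p = true → isPt q = true → (Commute (β p) (β q) ↔ orth p q = true)
  isPt_tv : ∀ e p, isPt e = true → isPt p = true → isPt (tv e p) = true
  conj : ∀ e p, isPt e = true → isPt p = true → β e * β p * (β e)⁻¹ = β (tv e p)
  line : β 1 * β 4 * β 5 * β 9 * β 13 = 1

/-- `K` is the simple unitary group of dimension six over four elements. -/
def IsU6 (K : Type*) [Group K] : Prop :=
  ∃ (F : Type) (_ : Field F) (_ : Fintype F), Fintype.card F = 4 ∧ Nonempty (K ≃* Cfsg.PSU 6 F 2)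

section PSU

variable {F : Type} [Field F] [Fintype F] (hF : Fintype.card F = 4)

/-- The transvection of a point. -/
noncomputable def tau (p : ℕ) : Cfsg.PSU 6 F 2 := pr (tSU hF (vecOf hF p))

include hF

theorem lift_unique {g g' : Cfsg.SU 6 F 2} (h : pr g = pr g') (hg : g * g = 1) (hg' : g' * g' = 1) :
    g = g' := by
  have hz : g⁻¹ * g' ∈ Subgroup.center (Cfsg.SU 6 F 2) := QuotientGroup.eq.1 h
  obtain ⟨r, hr⟩ := (mem_center_iff_scalar hF).1 hz
  have e : g' = g * (g⁻¹ * g') := by group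
  set z := g⁻¹ * g' with hzdef
  have hc : g * z = z * g := Subgroup.mem_center_iff.1 hz g
  have hz2 : z * z = 1 := by
    rw [e] at hg'
    calc z * z = (g * g) * (z * z) := by rw [hg, one_mul]
      _ = g * (g * z) * z := by group
      _ = g * (z * g) * z := by rw [hc]
      _ = 1 := by rw [← hg']; group
  obtain ⟨y, hy⟩ := exists_hf_eq_one hF (u := Pi.single 0 1) (by simp)
  have hr2 : r * r = 1 := by
    have := congrArg (fun k => hf (act k (Pi.single 0 1)) y) hz2
    simp only [act_mul, hr, act_one, smul_smul, hf_smul_left hF] at this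
    rw [hf_swap hF y (Pi.single 0 1), hy, one_pow, mul_one] at this
    exact this
  have hr1 : r = 1 := by
    have h3 := cube_eq_one hF (a := r) (fun e => by rw [e, mul_zero] at hr2; exact zero_ne_one hr2)
    linear_combination h3 - r * hr2
  have : z = 1 := act_ext fun x => by rw [hr, hr1, one_smul, act_one]
  rw [e, this, mul_one]

theorem tau_eq_act {e x : ℕ} (he : isPt e = true) (hx : isPt x = true) :
    tau hF e * tau hF x * (tau hF e)⁻¹ = tau hF (tv e x) := by
  obtain ⟨-, c, hc, e'⟩ := vecOf_tv hF he hx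
  simp only [tau, pr]
  rw [← QuotientGroup.mk_inv, ← QuotientGroup.mk_mul, ← QuotientGroup.mk_mul, conj_tSU hF _ (pt_iso hF hx),
    e', tSU_smul hF (by rw [hf_act]; exact pt_iso hF hx) hc]

theorem tau_inj {p q : ℕ} (hp : isPt p = true) (hq : isPt q = true) (h : tau hF p = tau hF q) : p = q := by
  obtain ⟨c, hc⟩ := eq_smul_of_tSU_eq hF (pt_iso hF hp) (pt_iso hF hq) (pt_ne_zero hF hp)
    (lift_unique hF h (tSU_sq hF (pt_iso hF hp)) (tSU_sq hF (pt_iso hF hq)))
  exact pt_ext hF hp hq hc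

theorem tau_comm_iff {p q : ℕ} (hp : isPt p = true) (hq : isPt q = true) :
    Commute (tau hF p) (tau hF q) ↔ orth p q = true := by
  have hh : orth p q = true ↔ hf (vecOf hF p) (vecOf hF q) = 0 := by
    rw [hf_vecOf_eq_zero hF (isPt_spec hp).1 (isPt_spec hq).1]
    exact ⟨Nat.eq_of_beq_eq_true, fun e => by simp [orth, e]⟩
  rw [hh]
  have hu := pt_iso hF hp
  have hv := pt_iso hF hq
  constructor
  · intro h
    have hw : hf (act (tSU hF (vecOf hF p)) (vecOf hF q)) (act (tSU hF (vecOf hF p)) (vecOf hF q)) = 0 := by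
      rw [hf_act]; exact hv
    have e : pr (tSU hF (act (tSU hF (vecOf hF p)) (vecOf hF q))) = pr (tSU hF (vecOf hF q)) := by
      rw [← conj_tSU hF _ hv]
      show QuotientGroup.mk (_ * _ * _) = _
      rw [QuotientGroup.mk_mul, QuotientGroup.mk_mul, QuotientGroup.mk_inv]
      exact mul_inv_eq_iff_eq_mul.2 h.eq
    obtain ⟨c, hc⟩ := eq_smul_of_tSU_eq hF hw hv
      (fun e0 => pt_ne_zero hF hq (act_injective _ (by rw [e0, act_zero])))
      (lift_unique hF e (tSU_sq hF hw) (tSU_sq hF hv))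
    by_contra hne
    have hvu : hf (vecOf hF q) (vecOf hF p) ≠ 0 := fun e0 => hne ((hf_eq_zero_comm hF).1 e0)
    rw [act_tSU hF hu] at hc
    have e2 := congrArg (fun w => hf w (vecOf hF q)) hc
    simp only [hf_add_left hF, hf_smul_left hF, hv, zero_add, mul_zero] at e2
    exact mul_ne_zero hvu hne e2
  · intro h
    have := (commute_tSU_of_orth hF hu hv h).eq
    show _ * _ = _ * _
    simp only [tau, pr, ← QuotientGroup.mk_mul, this]

theorem tau_line : tau hF 1 * tau hF 4 * tau hF 5 * tau hF 9 * tau hF 13 = 1 := by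
  have hd : isPt 1 = true ∧ isPt 4 = true ∧ isPt 5 = true ∧ isPt 9 = true ∧ isPt 13 = true := by
    decide +kernel
  obtain ⟨p1, p4, p5, p9, p13⟩ := hd
  have v5 : vecOf hF 5 = vecOf hF 1 + vecOf hF 4 := by rw [← vecOf_xor hF]; rfl
  have e8 : vecOf hF 8 = om hF • vecOf hF 4 := by
    rw [show (8 : ℕ) = sc 2 4 from by decide, vecOf_sc hF (by norm_num) (by norm_num)]; rfl
  have v9 : vecOf hF 9 = vecOf hF 1 + om hF • vecOf hF 4 := by rw [← e8, ← vecOf_xor hF]; rfl
  have v13 : vecOf hF 13 = vecOf hF 1 + (om hF + 1) • vecOf hF 4 := by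
    rw [show (13 : ℕ) = 1 ^^^ sc 3 4 from by decide, vecOf_xor hF,
      vecOf_sc hF (by norm_num) (by norm_num)]
    rfl
  have h11 := pt_iso hF p1
  have h44 := pt_iso hF p4
  have h14 : hf (vecOf hF 1) (vecOf hF 4) = 0 :=
    (hf_vecOf_eq_zero hF (by norm_num) (by norm_num)).2 (by decide +kernel)
  have h41 := (hf_eq_zero_comm hF).1 h14
  simp only [tau, pr, ← QuotientGroup.mk_mul]
  refine (congrArg _ (act_ext (g' := 1) fun x => ?_)).trans (QuotientGroup.mk_one _)
  simp only [act_mul, act_one]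
  rw [act_tSU hF (pt_iso hF p13), act_tSU hF (pt_iso hF p9), act_tSU hF (pt_iso hF p5), act_tSU hF h44,
    act_tSU hF h11, v5, v9, v13]
  funext i
  simp only [Pi.add_apply, Pi.smul_apply, smul_eq_mul, hf_add_left hF, hf_smul_left hF, hf_add_right hF,
    hf_smul_right hF, h11, h44, h14, h41, mul_zero, add_zero]
  set A := hf x (vecOf hF 1)
  set B := hf x (vecOf hF 4)
  set V := vecOf hF 1 i
  set W := vecOf hF 4 i
  linear_combination (V * B + W * A + A * W * om hF + 2 * A * V + om hF * B * V + om hF ^ 2 * B * V +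
    om hF ^ 3 * B * W + om hF * B * W + om hF ^ 2 * B * W + B * W) * char_two hF + (B * W) * om_spec hF

theorem isPt_tv' {e x : ℕ} (he : isPt e = true) (hx : isPt x = true) : isPt (tv e x) = true :=
  (vecOf_tv hF he hx).1

/-- An invariant nonempty set of 3-transpositions consists of all transvections. -/
theorem isLabel_tau {E : Set (Cfsg.PSU 6 F 2)} (hne : E.Nonempty)
    (hinv : ∀ g, ∀ x ∈ E, g * x * g⁻¹ ∈ E) (h3 : Cfsg.IsThreeTranspositionSet E) :
    IsLabel E (tau hF) := by
  have hsub : ∀ x ∈ E, ∃ p, isPt p = true ∧ tau hF p = x := by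
    intro x hx
    obtain ⟨g, rfl, hg, hg1⟩ := exists_involution_lift hF (ThreeTransp.ne_one h3 hx) (ThreeTransp.sq_one h3 hx)
    obtain ⟨u, hu0, huu, rfl⟩ := transvection_of_threeTransp hF g hg hg1 (fun k => by
      have := h3.2 _ hx _ (hinv (pr k) _ hx)
      simpa [pr] using this)
    obtain ⟨p, hp, c, hc, rfl⟩ := exists_pt hF hu0 huu
    exact ⟨p, hp, by rw [tau, tSU_smul hF (pt_iso hF hp) hc]⟩
  obtain ⟨x0, hx0⟩ := hne
  obtain ⟨p0, hp0, rfl⟩ := hsub x0 hx0
  have hstep : ∀ {x}, Reach (fun _ => true) e1 x → isPt x = true ∧ (tau hF x ∈ E ↔ tau hF e1 ∈ E) := by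
    intro x hr
    induction hr with
    | base => exact ⟨base_isPt.1, Iff.rfl⟩
    | @step e y he _ _ ih =>
      refine ⟨isPt_tv' hF he ih.1, ?_⟩
      rw [← ih.2, ← tau_eq_act hF he ih.1]
      refine ⟨fun h => ?_, fun h => hinv _ _ h⟩
      have := hinv (tau hF e)⁻¹ _ h
      simpa [mul_assoc] using this
  have h1 : tau hF e1 ∈ E := (hstep (orbit_points (mem_pts.2 hp0))).2.1 hx0
  refine ⟨fun p hp => (hstep (orbit_points (mem_pts.2 hp))).2.2 h1, hsub, fun p q hp hq => tau_inj hF hp hq,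
    fun p q hp hq => tau_comm_iff hF hp hq, fun e p he hp => isPt_tv' hF he hp,
    fun e p he hp => tau_eq_act hF he hp, tau_line hF⟩

end PSU

theorem IsLabel.map {K K' : Type*} [Group K] [Group K'] {E : Set K} {β : ℕ → K} (hβ : IsLabel E β)
    (f : K ≃* K') : IsLabel (f '' E) (f ∘ β) where
  mem p hp := ⟨_, hβ.mem p hp, rfl⟩
  surj := by
    rintro _ ⟨x, hx, rfl⟩
    obtain ⟨p, hp, rfl⟩ := hβ.surj x hx
    exact ⟨p, hp, rfl⟩
  inj p q hp hq h := hβ.inj p q hp hq (f.injective h)
  comm p q hp hq := by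
    rw [← hβ.comm p q hp hq]
    simp only [Commute, SemiconjBy, Function.comp, ← map_mul, f.injective.eq_iff]
  isPt_tv := hβ.isPt_tv
  conj e p he hp := by simp only [Function.comp, ← map_inv, ← map_mul, hβ.conj e p he hp]
  line := by simp only [Function.comp, ← map_mul, hβ.line, map_one]

theorem exists_isLabel {K : Type*} [Group K] (hK : IsU6 K) {E : Set K} (hne : E.Nonempty)
    (hinv : ∀ g, ∀ x ∈ E, g * x * g⁻¹ ∈ E) (h3 : Cfsg.IsThreeTranspositionSet E) :
    ∃ β, IsLabel E β := by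
  obtain ⟨F, _, _, hF, ⟨f⟩⟩ := hK
  have h3' : Cfsg.IsThreeTranspositionSet (f '' E) := by
    refine ⟨?_, ?_⟩
    · rintro _ ⟨x, hx, rfl⟩
      rw [MulEquiv.orderOf_eq]
      exact h3.1 x hx
    · rintro _ ⟨x, hx, rfl⟩ _ ⟨y, hy, rfl⟩
      rcases h3.2 x hx y hy with h | h
      · left; rw [← map_mul, ← map_pow, h, map_one]
      · right; rw [← map_mul, ← map_pow, h, map_one]
  have hinv' : ∀ g, ∀ x ∈ f '' E, g * x * g⁻¹ ∈ f '' E := by
    rintro g _ ⟨x, hx, rfl⟩
    exact ⟨f.symm g * x * (f.symm g)⁻¹, hinv _ x hx, by simp⟩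
  have := (isLabel_tau hF (hne.image f) hinv' h3').map f.symm
  rw [← Set.image_comp] at this
  exact ⟨_, by simpa using this⟩

variable {K : Type*} [Group K] {E : Set K} {β : ℕ → K}

theorem IsLabel.conjugate (hβ : IsLabel E β) (hinv : ∀ g, ∀ x ∈ E, g * x * g⁻¹ ∈ E) (g : K) :
    IsLabel E (fun p => g * β p * g⁻¹) := by
  have := hβ.map (MulAut.conj g)
  have e : MulAut.conj g '' E = E := by
    refine Set.Subset.antisymm (by rintro _ ⟨x, hx, rfl⟩; exact hinv g x hx) fun x hx => ?_
    exact ⟨g⁻¹ * x * g, by simpa using hinv g⁻¹ x hx, by simp [mul_assoc]⟩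
  rw [e] at this
  exact this

/-- Reachable points are conjugate by elements fixing whatever the centres fix. -/
theorem IsLabel.exists_conj (hβ : IsLabel E β) {P : ℕ → Bool} {s x : ℕ} (hs : isPt s = true)
    (hr : Reach P s x) :
    isPt x = true ∧ ∃ g ∈ Subgroup.closure (β '' {e | isPt e = true ∧ P e = true}), g * β s * g⁻¹ = β x := by
  induction hr with
  | base => exact ⟨hs, 1, one_mem _, by simp⟩
  | @step e y he hP _ ih =>
    obtain ⟨hy, g, hg, hgy⟩ := ih
    refine ⟨hβ.isPt_tv e y he hy, β e * g,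
      mul_mem (Subgroup.subset_closure ⟨e, ⟨he, hP⟩, rfl⟩) hg, ?_⟩
    rw [← hβ.conj e y he hy, ← hgy]
    group

theorem IsLabel.fix_of_orth (hβ : IsLabel E β) {P : ℕ → Bool} {a : ℕ} (ha : isPt a = true)
    (hP : ∀ e, isPt e = true → P e = true → orth e a = true) {g : K}
    (hg : g ∈ Subgroup.closure (β '' {e | isPt e = true ∧ P e = true})) : g * β a * g⁻¹ = β a := by
  have hle : Subgroup.closure (β '' {e | isPt e = true ∧ P e = true}) ≤ Subgroup.centralizer {β a} := by
    rw [Subgroup.closure_le]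
    rintro _ ⟨e, ⟨he, hPe⟩, rfl⟩
    exact Subgroup.mem_centralizer_singleton_iff.2 ((hβ.comm e a he ha).2 (hP e he hPe)).eq
  rw [mul_inv_eq_iff_eq_mul]
  exact Subgroup.mem_centralizer_singleton_iff.1 (hle hg)

end Cfsg.Agent.TT95.U6
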