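import Cfsg.Agent.TT95.Swap

/-!
Type M(22): a transposition has 693 neighbours, two non-commuting ones have 126 in common, there are
3510 transpositions.
-/

set_option autoImplicit false
set_option linter.unusedSectionVars false

namespace Cfsg.Agent.TT95

open Cfsg.Agent.TT95.U6

theorem pts_distinct : distinctOK pts 0 = true := by decide +kernel

theorem pts_nodup : pts.Nodup := (nodup_of_distinctOK pts_distinct).1

variable {G : Type*} [Group G] [Finite G] {D : Set G} (hC : Cfg22 D) {a : G} (ha : a ∈ D)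

include hC ha

open scoped Classical in
theorem ncard_loc {γ : ℕ → G} (hγ : IsLocal D a γ) (Q : G → Prop) (p : ℕ → Bool)
    (hpq : ∀ t, isPt t = true → (Q (γ t) ↔ p t = true)) :
    {x | x ∈ nb D a ∧ Q x}.ncard = cntP p pts := by
  have e : {x | x ∈ nb D a ∧ Q x} = γ '' ((pts.filter p).toFinset : Set ℕ) := by
    ext x
    simp only [Set.mem_setOf_eq, Set.mem_image, Finset.mem_coe, List.mem_toFinset, List.mem_filter]
    constructor
    · rintro ⟨hx, hQ⟩
      obtain ⟨t, ht, rfl⟩ := hγ.surj x hx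
      exact ⟨t, ⟨mem_pts.2 ht, (hpq t ht).1 hQ⟩, rfl⟩
    · rintro ⟨t, ⟨ht, hp⟩, rfl⟩
      exact ⟨hγ.mem t (mem_pts.1 ht), (hpq t (mem_pts.1 ht)).2 hp⟩
  rw [e, Set.InjOn.ncard_image ?_, Set.ncard_coe_finset, List.toFinset_card_of_nodup (pts_nodup.filter _),
    cntP_eq, List.countP_eq_length_filter]
  intro x hx y hy h
  simp only [Finset.mem_coe, List.mem_toFinset, List.mem_filter] at hx hy
  exact hγ.inj x y (mem_pts.1 hx.1) (mem_pts.1 hy.1) h

theorem ncard_nb : (nb D a).ncard = 693 := by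
  obtain ⟨γ, hγ⟩ := hC.loc a ha
  have h := ncard_loc hC ha hγ (fun _ => True) (fun _ => true) (fun _ _ => by simp)
  simp only [and_true, Set.setOf_mem_eq] at h
  rw [h, cntP_eq, List.countP_eq_length.2 (fun _ _ => rfl), pts_length]

theorem ncard_nb_perp {b : G} (hb : b ∈ nb D a) :
    {x | x ∈ nb D a ∧ (x ≠ b ∧ Commute x b)}.ncard = 180 := by
  obtain ⟨γ, hγ, g1⟩ := local_one hC ha hb
  rw [ncard_loc hC ha hγ _ (fun x => orth x e1 && !Nat.beq x e1) fun t ht => ?_]
  · exact counts.1
  · rw [Bool.and_eq_true, Bool.not_eq_true', ← g1, hγ.comm t e1 ht base_isPt.1]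
    constructor
    · exact fun h => ⟨h.2, Bool.eq_false_iff.2 fun e => h.1 (by rw [Nat.eq_of_beq_eq_true e])⟩
    · rintro ⟨h1, h2⟩
      refine ⟨fun e => ?_, h1⟩
      rw [hγ.inj t e1 ht base_isPt.1 e] at h2
      simp at h2

theorem ncard_nb_nonperp {b : G} (hb : b ∈ nb D a) :
    {x | x ∈ nb D a ∧ ¬ Commute x b}.ncard = 512 := by
  obtain ⟨γ, hγ, g1⟩ := local_one hC ha hb
  rw [ncard_loc hC ha hγ _ (fun x => !orth x e1) fun t ht => ?_]
  · exact cand_count.1
  · rw [← g1, hγ.comm t e1 ht base_isPt.1]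
    simp

theorem ncard_nb_two {b c : G} (hb : b ∈ nb D a) (hc : c ∈ nb D a) (hbc : ¬ Commute b c) :
    {x | x ∈ nb D a ∧ (Commute x b ∧ Commute x c)}.ncard = 45 := by
  obtain ⟨γ, hγ, g1, g2⟩ := local_nonperp hC ha hb hc hbc
  rw [ncard_loc hC ha hγ _ (cand 2) fun t ht => ?_]
  · exact cand_count.2.1
  · rw [← g1, ← g2, hγ.comm t e1 ht base_isPt.1, hγ.comm t f1 ht base_isPt.2.2.2.1]
    simp [cand]

open scoped Classical in
/-- The common neighbours of two commuting members and one commuting with neither. -/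
theorem ncard_three {b d : G} (hb : b ∈ nb D a) (hd : d ∈ D) (hda : ¬ Commute d a) (hdb : ¬ Commute d b) :
    {x | x ∈ nb D a ∧ (x ≠ b ∧ Commute x b ∧ Commute d x)}.ncard = 30 := by
  obtain ⟨γ, hγ, g1⟩ := local_one hC ha hb
  set U := keySet.biUnion fun k => (fibre k).filter fun y => Commute d (γ y) with hU
  have hUR : ∀ q ∈ U, isR q := by
    intro q hq
    simp only [hU, Finset.mem_biUnion, Finset.mem_filter] at hq
    obtain ⟨r, -, hqf, -⟩ := hq
    exact (fibre_spec hqf).1
  have e : {x | x ∈ nb D a ∧ (x ≠ b ∧ Commute x b ∧ Commute d x)} = γ '' (U : Set ℕ) := by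
    ext y
    constructor
    · rintro ⟨hy, hyb, hc, hdy⟩
      obtain ⟨q, hq, rfl⟩ := exists_isR hC ha hγ g1 hy.1 hy.2.2.symm hc hy.2.1 hyb
      refine ⟨q, ?_, rfl⟩
      simp only [hU, Finset.coe_biUnion, Set.mem_iUnion, Finset.mem_coe, Finset.mem_filter]
      exact ⟨key q, key_mem hq, mem_fibre hq, hdy⟩
    · rintro ⟨q, hq, rfl⟩
      have hqR := hUR q hq
      obtain ⟨qa, qb, qnb⟩ := isR_commute hC ha hγ g1 hqR
      simp only [hU, Finset.coe_biUnion, Set.mem_iUnion, Finset.mem_coe, Finset.mem_filter] at hq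
      obtain ⟨r, -, -, hdq⟩ := hq
      exact ⟨hγ.mem q hqR.1, qnb, qb, hdq⟩
  rw [e, Set.InjOn.ncard_image (fun p hp q hq e => hγ.inj p q (hUR p hp).1 (hUR q hq).1 e),
    Set.ncard_coe_finset, hU, Finset.card_biUnion ?_,
    Finset.sum_congr rfl (fun r hr => fibre_count hC ha hγ g1 hd hda hdb hr), Finset.sum_ite,
    Finset.sum_const_zero, add_zero, Finset.sum_const, smul_eq_mul, fixed_fifteen hC ha hγ g1 hd hda hdb]
  intro r _ t _ hrt
  rw [Function.onFun, Finset.disjoint_left]
  exact fun q hq hq' => hrt ((fibre_spec (Finset.mem_filter.1 hq).1).2.symm.trans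
    (fibre_spec (Finset.mem_filter.1 hq').1).2)

open scoped Classical in
/-- Two non-commuting members have 126 common neighbours. -/
theorem ncard_common {d : G} (hd : d ∈ D) (hda : ¬ Commute d a) :
    {x | x ∈ nb D a ∧ Commute d x}.ncard = 126 := by
  haveI := Fintype.ofFinite G
  set N := Finset.univ.filter fun x => x ∈ nb D a with hN
  set S := N.filter fun x => Commute d x with hS
  have hNcard : N.card = 693 := by
    rw [← ncard_nb hC ha, ← Set.ncard_coe_finset, hN, Finset.coe_filter]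
    simp
  have hrow : ∀ e ∈ S, (N.bipartiteAbove (fun e b => b ≠ e ∧ Commute b e) e).card = 180 := by
    intro e he
    simp only [hS, hN, Finset.mem_filter, Finset.mem_univ, true_and] at he
    rw [← ncard_nb_perp hC ha he.1, ← Set.ncard_coe_finset, Finset.bipartiteAbove, Finset.coe_filter, hN]
    simp
  have hcol : ∀ b ∈ N, (S.bipartiteBelow (fun e b => b ≠ e ∧ Commute b e) b).card =
      if Commute d b then 45 else 30 := by
    intro b hb
    simp only [hN, Finset.mem_filter, Finset.mem_univ, true_and] at hb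
    rw [← Set.ncard_coe_finset, Finset.bipartiteBelow, Finset.coe_filter]
    by_cases hdb : Commute d b
    · rw [if_pos hdb]
      have hne : d ≠ a := fun e => hda (e ▸ Commute.refl a)
      have hdb' : d ≠ b := fun e => hda (e ▸ hb.2.2.symm)
      rw [← ncard_nb_two hC hb.1 (a := b) (b := a) (c := d) ⟨ha, hb.2.1.symm, hb.2.2.symm⟩
        ⟨hd, hdb', hdb.symm⟩ fun h => hda h.symm]
      congr 1
      ext x
      simp only [hS, hN, Set.mem_setOf_eq, Finset.mem_filter, Finset.mem_univ, true_and]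
      constructor
      · rintro ⟨⟨hxa, hdx⟩, hne', hc⟩
        exact ⟨⟨hxa.1, hne'.symm, hc⟩, hxa.2.2.symm, hdx.symm⟩
      · rintro ⟨hxb, hca, hcd⟩
        exact ⟨⟨⟨hxb.1, fun e => hda (e ▸ hcd).symm, hca.symm⟩, hcd.symm⟩, hxb.2.1.symm, hxb.2.2⟩
    · rw [if_neg hdb, ← ncard_three hC ha hb hd hda hdb]
      congr 1
      ext x
      simp only [hS, hN, Set.mem_setOf_eq, Finset.mem_filter, Finset.mem_univ, true_and]
      constructor
      · rintro ⟨⟨h1, h2⟩, h3, h4⟩
        exact ⟨h1, h3.symm, h4.symm, h2⟩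
      · rintro ⟨h1, h3, h4, h2⟩
        exact ⟨⟨h1, h2⟩, h3.symm, h4.symm⟩
  have hdc := Finset.sum_card_bipartiteAbove_eq_sum_card_bipartiteBelow (s := S) (t := N)
    (fun e b => b ≠ e ∧ Commute b e)
  rw [Finset.sum_congr rfl hrow, Finset.sum_congr rfl hcol, Finset.sum_const, smul_eq_mul, Finset.sum_ite,
    Finset.sum_const, Finset.sum_const, smul_eq_mul, smul_eq_mul] at hdc
  have hsplit := Finset.card_filter_add_card_filter_not (s := N) (fun x => Commute d x)
  rw [hNcard, ← hS] at hsplit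
  rw [← hS] at hdc
  have : S.card = 126 := by omega
  rw [← this, ← Set.ncard_coe_finset, hS, Finset.coe_filter, hN]
  simp

open scoped Classical in
/-- There are 3510 transpositions. -/
theorem ncard_D : D.ncard = 3510 := by
  haveI := Fintype.ofFinite G
  set A := Finset.univ.filter fun x => x ∈ D ∧ ¬ Commute x a with hA
  set N := Finset.univ.filter fun x => x ∈ nb D a with hN
  have hrow : ∀ d ∈ A, (N.bipartiteAbove Commute d).card = 126 := by
    intro d hd
    simp only [hA, Finset.mem_filter, Finset.mem_univ, true_and] at hd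
    rw [← ncard_common hC ha hd.1 hd.2, ← Set.ncard_coe_finset, Finset.bipartiteAbove, Finset.coe_filter, hN]
    simp
  have hcol : ∀ b ∈ N, (A.bipartiteBelow Commute b).card = 512 := by
    intro b hb
    simp only [hN, Finset.mem_filter, Finset.mem_univ, true_and] at hb
    rw [← ncard_nb_nonperp hC hb.1 (a := b) (b := a) ⟨ha, hb.2.1.symm, hb.2.2.symm⟩, ← Set.ncard_coe_finset,
      Finset.bipartiteBelow, Finset.coe_filter]
    congr 1
    ext x
    simp only [hA, Set.mem_setOf_eq, Finset.mem_filter, Finset.mem_univ, true_and]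
    constructor
    · rintro ⟨⟨h1, h2⟩, h3⟩
      exact ⟨⟨h1, fun e => h2 (e ▸ hb.2.2.symm), h3.symm⟩, h2⟩
    · rintro ⟨⟨h1, -, h3⟩, h2⟩
      exact ⟨⟨h1, h2⟩, h3.symm⟩
  have hdc := Finset.card_mul_eq_card_mul (s := A) (t := N) Commute hrow hcol
  have hNcard : N.card = 693 := by
    rw [← ncard_nb hC ha, ← Set.ncard_coe_finset, hN, Finset.coe_filter]
    simp
  have hDset : D = insert a ((N : Set G) ∪ (A : Set G)) := by
    ext x
    simp only [hA, hN, Finset.coe_filter, Finset.mem_univ, true_and, Set.mem_insert_iff, Set.mem_union,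
      Set.mem_setOf_eq]
    constructor
    · intro hx
      by_cases h1 : x = a
      · exact Or.inl h1
      by_cases h2 : Commute x a
      · exact Or.inr (Or.inl ⟨hx, h1, h2.symm⟩)
      · exact Or.inr (Or.inr ⟨hx, h2⟩)
    · rintro (rfl | h | h)
      · exact ha
      · exact h.1
      · exact h.1
  have hdisj : Disjoint N A := by
    rw [Finset.disjoint_left]
    intro x hx hx'
    simp only [hN, hA, Finset.mem_filter, Finset.mem_univ, true_and] at hx hx'
    exact hx'.2 hx.2.2.symm
  rw [hDset, ← Finset.coe_union, ← Finset.coe_insert, Set.ncard_coe_finset, Finset.card_insert_of_notMem,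
    Finset.card_union_of_disjoint hdisj, hNcard]
  · omega
  · simp only [hN, hA, Finset.mem_union, Finset.mem_filter, Finset.mem_univ, true_and, not_or]
    exact ⟨fun h => h.2.1 rfl, fun h => h.2 (Commute.refl a)⟩

end Cfsg.Agent.TT95
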