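import Cfsg.Agent.TT95.Graph

/-!
Elements centralising a transposition and its neighbours act on its component as that transposition or
trivially, given local facts at the neighbours.
-/

set_option autoImplicit false
set_option linter.unusedSectionVars false

namespace Cfsg.Agent.TT95

variable {G : Type*} [Group G] {D : Set G} (hD : TTSet D)

include hD

theorem exists_common_path {a x : G} (ha : a ∈ D) (hp : Path D a x) (hx : x ∈ far D a) :
    ∃ b, b ∈ common D a x := by
  obtain ⟨b, hb, hba, hbx, hab, hby⟩ := common_of_path hD (closed_self hD) ha hp hx.2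
  exact ⟨b, ⟨hb, hba, hab⟩, hb, hbx, hby.symm⟩

/-- The members not commuting with `a` in its component are joined among themselves. -/
theorem far_path {a : G} (ha : a ∈ D) (nbConn : Conn (nb D a))
    (locFar : ∀ b ∈ nb D a, Conn (nb D b ∩ far D a))
    (witness : ∀ b ∈ nb D a, ∀ b' ∈ nb D a, Commute b b' → ∃ f ∈ far D a, Commute b f ∧ Commute b' f)
    {x y : G} (hx : x ∈ far D a) (hy : y ∈ far D a) (px : Path D a x) (py : Path D a y) :
    Path (far D a) x y := by
  obtain ⟨b, hba, hbx⟩ := exists_common_path hD ha px hx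
  obtain ⟨b', hba', hby⟩ := exists_common_path hD ha py hy
  have key : ∀ b', Path (nb D a) b b' → ∀ z, z ∈ nb D b' ∩ far D a → Path (far D a) x z := by
    intro b' hp
    induction hp with
    | refl =>
      intro z hz
      exact Path.mono Set.inter_subset_right
        (locFar b hba x ⟨⟨hx.1, hbx.2.1.symm, hbx.2.2.symm⟩, hx⟩ z hz)
    | @tail c c' _ e ih =>
      intro z hz
      obtain ⟨hcm, hcm', hcc⟩ := e
      obtain ⟨f, hf, hfc, hfc'⟩ := witness c hcm c' hcm' hcc
      have n1 : f ≠ c := fun e => hf.2 (e ▸ hcm.2.2)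
      have n2 : f ≠ c' := fun e => hf.2 (e ▸ hcm'.2.2)
      exact Path.trans' (ih f ⟨⟨hf.1, n1, hfc⟩, hf⟩) (Path.mono Set.inter_subset_right
        (locFar c' hcm' f ⟨⟨hf.1, n2, hfc'⟩, hf⟩ z hz))
  exact key b' (nbConn b hba b' hba') y ⟨⟨hy.1, hby.2.1.symm, hby.2.2.symm⟩, hy⟩

/-- An element centralising `a` and its neighbours either fixes the component of `a` or acts as `a`. -/
theorem kernel_path {a z : G} (ha : a ∈ D) (hza : Commute z a) (hz : ∀ b ∈ nb D a, Commute z b)
    (dperp : ∀ x ∈ far D a, ∀ y ∈ far D a, Path D a x →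
      (∀ b ∈ common D a x, Commute b y) → y = x ∨ y = a * x * a)
    (farPath : ∀ x y, x ∈ far D a → y ∈ far D a → Path D a x → Path D a y → Path (far D a) x y) :
    (∀ x ∈ D, Path D a x → Commute z x) ∨ (∀ x ∈ D, Path D a x → Commute (a * z) x) := by
  have hfix : ∀ x, x ∈ far D a → Path D a x → z * x * z⁻¹ = x ∨ z * x * z⁻¹ = a * x * a := by
    intro x hx hp
    have hy : z * x * z⁻¹ ∈ far D a := by
      refine ⟨conj_mem hD z hx.1, fun h => hx.2 ?_⟩
      rw [show a = z * a * z⁻¹ by rw [hza.eq, mul_inv_cancel_right]] at h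
      exact (Commute.conj_iff z).1 h
    refine dperp x hx _ hy hp fun b hb => ?_
    have h := (Commute.conj_iff z).2 hb.2.2.2.symm
    rwa [(hz b hb.1).eq, mul_inv_cancel_right] at h
  have hstep : ∀ x y, x ∈ far D a → y ∈ far D a → Path D a y → Commute x y → z * x * z⁻¹ = x →
      z * y * z⁻¹ = y := by
    intro x y hx hy hp hc h
    refine (hfix y hy hp).resolve_right fun h' => hx.2 ?_
    have hc2 := (Commute.conj_iff z).2 hc
    rw [h, h'] at hc2
    have := (hc.mul_right hc2).mul_right hc
    rw [third_symm hD hy.1 ha fun e => hy.2 e.symm] at this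
    exact this.symm
  by_cases hF : ∃ x, x ∈ far D a ∧ Path D a x ∧ z * x * z⁻¹ = x
  · left
    obtain ⟨x0, hx0, p0, f0⟩ := hF
    have hchain : ∀ y, Path (far D a) x0 y → Path D a y ∧ z * y * z⁻¹ = y := by
      intro y hy
      induction hy with
      | refl => exact ⟨p0, f0⟩
      | @tail u v _ e ih =>
        have hp : Path D a v := Path.trans' ih.1 (Path.single' e.1.1 e.2.1.1 e.2.2)
        exact ⟨hp, hstep u v e.1 e.2.1 hp e.2.2 ih.2⟩
    intro x hx hp
    by_cases hax : Commute a x
    · by_cases e : x = a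
      · exact e ▸ hza
      · exact hz x ⟨hx, e, hax⟩
    · exact mul_inv_eq_iff_eq_mul.1 (hchain x (farPath x0 x hx0 ⟨hx, hax⟩ p0 hp)).2
  · right
    push Not at hF
    intro x hx hp
    by_cases hax : Commute a x
    · by_cases e : x = a
      · subst e; exact (Commute.refl x).mul_left hza
      · exact hax.mul_left (hz x ⟨hx, e, hax⟩)
    · have h := (hfix x ⟨hx, hax⟩ hp).resolve_left (hF x ⟨hx, hax⟩ hp)
      have e : z * x = a * x * a * z := mul_inv_eq_iff_eq_mul.1 h
      show a * z * x = x * (a * z)
      rw [mul_assoc, e, show a * (a * x * a * z) = (a * a) * x * (a * z) by group, sq hD ha, one_mul]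

/-- A product of members of one component moves another one according to the parity of the length. -/
theorem list_prod_path {a x : G} (ha : a ∈ D) (hx : x ∈ D) (hn : ¬ Path D a x) (L : List G) :
    (∀ u ∈ L, u ∈ D ∧ Path D a u) →
      Path D (a ^ L.length * x * (a ^ L.length)⁻¹) (L.prod * x * L.prod⁻¹) := by
  induction L with
  | nil => intro _; simp only [List.length_nil, pow_zero, List.prod_nil]; exact .refl
  | cons u L ih =>
    intro h
    obtain ⟨hu, hpu⟩ := h u List.mem_cons_self
    have hL := ih fun v hv => h v (List.mem_cons_of_mem _ hv)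
    set w := a ^ L.length * x * (a ^ L.length)⁻¹ with hw
    have hwD : w ∈ D := conj_mem hD _ hx
    have hnw : ¬ Path D a w := by
      intro hp
      apply hn
      have := Path.conj (T := D) hD (a ^ L.length)⁻¹ (fun y hy => conj_mem hD _ hy) hp
      rwa [hw, inv_inv,
        show (a ^ L.length)⁻¹ * (a ^ L.length * x * (a ^ L.length)⁻¹) * a ^ L.length = x by group,
        show (a ^ L.length)⁻¹ * a * a ^ L.length = a from ?_] at this
      rw [mul_assoc, ← pow_succ', pow_succ, inv_mul_cancel_left]
    have h1 := path_act hD (closed_self hD) ha hwD hpu hnw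
    have h2 := Path.conj (T := D) hD u (fun y hy => conj_mem hD _ hy) hL
    rw [inv_eq hD hu] at h2
    refine Path.trans' (Eq.subst (motive := fun t => Path D t _) ?_ h1) (Eq.subst (motive := Path D _) ?_ h2)
    · rw [hw, List.length_cons, pow_succ', mul_inv_rev, inv_eq hD ha]; group
    · rw [List.prod_cons, mul_inv_rev, inv_eq hD hu]; group

end Cfsg.Agent.TT95
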