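import Cfsg.Agent.TT95.Cfg22
import Cfsg.Agent.TT95.Kernel

/-!
Consequences of the point models at the transpositions alone, and connectedness of the commuting graph
for the sections of type M(22) without asking for primitivity.
-/

set_option autoImplicit false
set_option linter.unusedSectionVars false

namespace Cfsg.Agent.TT95

open Cfsg.Agent.TT95.U6

theorem special_check : [[4, 17, 21, 25, 29], [1, 4, 16, 21, 45, 57], [1, 4, 16, 25, 37, 61]].all (fun L =>
    L.all isPt && L.all (fun p => L.all (orth p)) &&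
      allP (fun x => Nat.beq (L.foldr tv x) x) pts) = true := by
  decide +kernel

theorem special_pts : isPt 320 = true ∧ orth 320 e1 = false ∧ orth 320 e2 = false ∧ orth f3 e1 = true ∧
    orth f3 e2 = true ∧ orth f3 e3 = false ∧ orth f1 e1 = false ∧ orth f1 e2 = true ∧ orth f1 e3 = true ∧
    orth e3 e1 = true ∧ orth e2 e1 = true ∧ orth e2 f1 = true ∧
    [(4, 21), (4, 25), (17, 29)].all (fun p => !Nat.beq p.1 p.2) = true := by
  decide +kernel

/-- The standing hypotheses that do not mention paths. -/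
structure Pre22 {G : Type*} [Group G] (D : Set G) : Prop where
  tt : TTSet D
  loc : ∀ a ∈ D, ∃ γ, IsLocal D a γ

variable {G : Type*} [Group G] {D : Set G} (hP : Pre22 D)

include hP

namespace Pre22

theorem move {a : G} {γ : ℕ → G} (hγ : IsLocal D a γ) {P : ℕ → Bool} {s x : ℕ}
    (hs : isPt s = true) (hr : Reach P s x) :
    ∃ g : G, IsLocal D a (fun p => g * γ p * g⁻¹) ∧ g * γ s * g⁻¹ = γ x ∧
      ∀ p, isPt p = true → (∀ e, isPt e = true → P e = true → orth e p = true) → g * γ p * g⁻¹ = γ p := by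
  suffices h : isPt x = true ∧ ∃ g ∈ Subgroup.closure (γ '' {e | isPt e = true ∧ P e = true}),
      g * γ s * g⁻¹ = γ x by
    obtain ⟨-, g, hg, e⟩ := h
    have ha : g * a * g⁻¹ = a := conj_fix_of_mem hP.tt (Subgroup.closure_mono (by
      rintro _ ⟨e, ⟨he, -⟩, rfl⟩
      exact hγ.mem e he) hg)
    refine ⟨g, ha ▸ hγ.conjugate hP.tt g, e, fun p hp hP' => ?_⟩
    have hle : Subgroup.closure (γ '' {e | isPt e = true ∧ P e = true}) ≤ Subgroup.centralizer {γ p} := by
      rw [Subgroup.closure_le]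
      rintro _ ⟨e, ⟨he, hPe⟩, rfl⟩
      exact Subgroup.mem_centralizer_singleton_iff.2 ((hγ.comm e p he hp).2 (hP' e he hPe)).eq
    rw [mul_inv_eq_iff_eq_mul]
    exact Subgroup.mem_centralizer_singleton_iff.1 (hle hg)
  induction hr with
  | base => exact ⟨hs, 1, one_mem _, by simp⟩
  | @step e y he hP' _ ih =>
    obtain ⟨hy, g, hg, hgy⟩ := ih
    refine ⟨hγ.isPt_tv e y he hy, γ e * g, mul_mem (Subgroup.subset_closure ⟨e, ⟨he, hP'⟩, rfl⟩) hg, ?_⟩
    rw [← hγ.conj e y he hy, ← hgy]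
    group

theorem one' {a b : G} (ha : a ∈ D) (hb : b ∈ nb D a) : ∃ γ, IsLocal D a γ ∧ γ e1 = b := by
  obtain ⟨γ, hγ⟩ := hP.loc a ha
  obtain ⟨p, hp, rfl⟩ := hγ.surj b hb
  obtain ⟨g, h, e, -⟩ := move hP hγ base_isPt.1 (orbit_points (mem_pts.2 hp))
  exact ⟨_, h, e⟩

theorem two {a b c : G} (ha : a ∈ D) (hb : b ∈ nb D a) (hc : c ∈ nb D a) (hne : c ≠ b)
    (hbc : Commute b c) : ∃ γ, IsLocal D a γ ∧ γ e1 = b ∧ γ e2 = c := by
  obtain ⟨γ, hγ, rfl⟩ := one' hP ha hb
  obtain ⟨p, hp, rfl⟩ := hγ.surj c hc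
  have h1 : orth p e1 = true := (hγ.comm p e1 hp base_isPt.1).1 hbc.symm
  have h2 : p ≠ e1 := fun e => hne (by rw [e])
  obtain ⟨g, h, e, hf⟩ := move hP hγ base_isPt.2.1 (orbit_perp (mem_pts.2 hp) h1 h2)
  exact ⟨_, h, hf e1 base_isPt.1 (fun _ _ h => h), e⟩

theorem nonperp {a b c : G} (ha : a ∈ D) (hb : b ∈ nb D a) (hc : c ∈ nb D a)
    (hbc : ¬ Commute b c) : ∃ γ, IsLocal D a γ ∧ γ e1 = b ∧ γ f1 = c := by
  obtain ⟨γ, hγ, rfl⟩ := one' hP ha hb
  obtain ⟨p, hp, rfl⟩ := hγ.surj c hc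
  have h1 : orth p e1 = false := Bool.eq_false_iff.2 fun h => hbc ((hγ.comm p e1 hp base_isPt.1).2 h).symm
  obtain ⟨g, h, e, hf⟩ := move hP hγ base_isPt.2.2.2.1 (orbit_nonperp (mem_pts.2 hp) h1)
  exact ⟨_, h, hf e1 base_isPt.1 (fun _ _ h => h), e⟩

theorem nbConn {a : G} (ha : a ∈ D) : Conn (nb D a) := by
  intro x hx y hy
  by_cases hc : Commute x y
  · exact Path.single' hx hy hc
  obtain ⟨γ, hγ, rfl, rfl⟩ := nonperp hP ha hx hy hc
  have hm := hγ.mem e2 base_isPt.2.1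
  exact Path.trans' (Path.single' hx hm ((hγ.comm e1 e2 base_isPt.1 base_isPt.2.1).2 (by decide +kernel)))
    (Path.single' hm hy ((hγ.comm e2 f1 base_isPt.2.1 base_isPt.2.2.2.1).2 special_pts.2.2.2.2.2.2.2.2.2.2.2.1))

theorem far_of_orth {a : G} {γ : ℕ → G} (hγ : IsLocal D a γ) {p q : ℕ} (hp : isPt p = true)
    (hq : isPt q = true) (h : orth q p = false) : γ q ∈ far D (γ p) :=
  ⟨(hγ.mem q hq).1, fun hc => by
    have := (hγ.comm q p hq hp).1 hc.symm
    rw [h] at this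
    exact Bool.false_ne_true this⟩

theorem locFar {a b : G} (ha : a ∈ D) (hb : b ∈ nb D a) : Conn (nb D b ∩ far D a) := by
  obtain ⟨γ, hγ, g1⟩ := one' hP hb.1 (b := a) ⟨ha, hb.2.1.symm, hb.2.2.symm⟩
  set S := nb D b ∩ far D a with hS
  have hmem : ∀ q, isPt q = true → orth q e1 = false → γ q ∈ S := fun q hq h =>
    ⟨hγ.mem q hq, g1 ▸ far_of_orth hP hγ base_isPt.1 hq h⟩
  have hseen : ∀ u, inMask (maskOf [f1]) u = true →
      isPt u = true ∧ orth u e1 = false ∧ Path S (γ f1) (γ u) := by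
    intro u hu
    rw [inMask_maskOf, List.mem_singleton] at hu
    subst hu
    exact ⟨base_isPt.2.2.2.1, special_pts.2.2.2.2.2.2.1, .refl⟩
  have hclose : ∀ (L : List (ℕ × ℕ)) (seen : ℕ), graphOK L seen = true →
      allP (fun u => isPt u.1) L = true →
      (∀ u, inMask seen u = true → isPt u = true ∧ orth u e1 = false ∧ Path S (γ f1) (γ u)) →
      ∀ u ∈ L.map Prod.fst, Path S (γ f1) (γ u) := by
    intro L
    induction L with
    | nil => simp
    | cons u L ih =>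
      intro seen hok hpt hs v hv
      have he : graphOK (u :: L) seen =
          (inMask seen u.2 && orth u.2 u.1 && !orth u.1 e1 && graphOK L (addMask seen u.1)) := rfl
      have he' : allP (fun u => isPt u.1) (u :: L) = (isPt u.1 && allP (fun u => isPt u.1) L) := rfl
      rw [he] at hok
      rw [he'] at hpt
      simp only [Bool.and_eq_true, Bool.not_eq_true'] at hok hpt
      obtain ⟨⟨⟨k1, k2⟩, k3⟩, k4⟩ := hok
      obtain ⟨m1, m2, m3⟩ := hs _ k1
      have hu : Path S (γ f1) (γ u.1) := Path.trans' m3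
        (Path.single' (hmem _ m1 m2) (hmem _ hpt.1 k3) ((hγ.comm u.2 u.1 m1 hpt.1).2 k2))
      rcases List.mem_cons.1 hv with rfl | hv
      · exact hu
      · refine ih _ k4 hpt.2 (fun w hw => ?_) v hv
        rw [inMask_addMask, Bool.or_eq_true, decide_eq_true_eq] at hw
        rcases hw with hw | rfl
        · exact hs w hw
        · exact ⟨hpt.1, k3, hu⟩
  have hall : ∀ x ∈ S, Path S (γ f1) x := by
    rintro x ⟨hx, hxa⟩
    obtain ⟨q, hq, rfl⟩ := hγ.surj x hx
    have hne : orth q e1 = false := Bool.eq_false_iff.2 fun e =>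
      hxa.2 (g1 ▸ ((hγ.comm q e1 hq base_isPt.1).2 e).symm)
    have := allP_iff.1 graph_connected.2 q (mem_pts.2 hq)
    rw [hne, Bool.false_or, inMask_maskOf, List.mem_cons] at this
    rcases this with rfl | h
    · exact .refl
    · exact hclose _ _ graph_connected.1 (by decide +kernel) hseen q h
  exact fun x hx y hy => Path.trans' (hall x hx).symm (hall y hy)

theorem witness {a : G} (ha : a ∈ D) : ∀ b ∈ nb D a, ∀ b' ∈ nb D a, Commute b b' →
    ∃ f ∈ far D a, Commute b f ∧ Commute b' f := by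
  intro b hb b' hb' hc
  by_cases e : b' = b
  · subst e
    obtain ⟨γ, hγ, g1⟩ := one' hP hb'.1 (b := a) ⟨ha, hb'.2.1.symm, hb'.2.2.symm⟩
    have hf := hγ.mem f1 base_isPt.2.2.2.1
    exact ⟨γ f1, g1 ▸ far_of_orth hP hγ base_isPt.1 base_isPt.2.2.2.1 special_pts.2.2.2.2.2.2.1, hf.2.2, hf.2.2⟩
  obtain ⟨γ, hγ, g1, g2⟩ := two hP hb.1 (b := a) ⟨ha, hb.2.1.symm, hb.2.2.symm⟩ ⟨hb'.1, e, hc⟩ hb'.2.1
    hb'.2.2
  exact ⟨γ f1, g1 ▸ far_of_orth hP hγ base_isPt.1 base_isPt.2.2.2.1 special_pts.2.2.2.2.2.2.1,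
    (hγ.mem f1 base_isPt.2.2.2.1).2.2,
    g2 ▸ ((hγ.comm f1 e2 base_isPt.2.2.2.1 base_isPt.2.1).2 special_pts.2.2.2.2.2.2.2.1).symm⟩

theorem farPath {a : G} (ha : a ∈ D) : ∀ x y, x ∈ far D a → y ∈ far D a → Path D a x → Path D a y →
    Path (far D a) x y :=
  fun _ _ hx hy => far_path hP.tt ha (nbConn hP ha) (fun _ hb => locFar hP ha hb) (witness hP ha) hx hy

/-- Two far members are told apart by their common neighbours with `a`. -/
theorem dperp {a x : G} (ha : a ∈ D) (hx : x ∈ far D a) (hp : Path D a x) {y : G} (hy : y ∈ far D a)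
    (hcom : ∀ b ∈ common D a x, Commute b y) : y = x ∨ y = a * x * a := by
  obtain ⟨b, hba, hbx⟩ := exists_common_path hP.tt ha hp hx
  obtain ⟨γ, hγ, g1, g2⟩ := nonperp hP hba.1 (b := a) (c := x) ⟨ha, hba.2.1.symm, hba.2.2.symm⟩
    ⟨hx.1, hbx.2.1.symm, hbx.2.2.symm⟩ hx.2
  have hyb : y ∈ nb D b :=
    ⟨hy.1, fun e => hy.2 (e ▸ hba.2.2), hcom b ⟨hba, hbx⟩⟩
  obtain ⟨q, hq, hqy⟩ := hγ.surj _ hyb
  have hall := allP_iff.1 nonperp_pair_determined.1 q (mem_pts.2 hq)
  simp only [Bool.or_eq_true, Bool.not_eq_true'] at hall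
  rcases hall with ((h | h) | h) | h
  · exfalso
    apply hy.2
    rw [← hqy, ← g1]
    exact ((hγ.comm q e1 hq base_isPt.1).2 h).symm
  · left
    rw [← hqy, Nat.eq_of_beq_eq_true h, g2]
  · right
    rw [← hqy, Nat.eq_of_beq_eq_true h, ← nonperp_pair_determined.2.2, ← hγ.conj e1 f1 base_isPt.1
      base_isPt.2.2.2.1, g1, g2, inv_eq hP.tt ha]
  · exfalso
    rw [Bool.eq_false_iff] at h
    apply h
    rw [allP_iff]
    intro t ht
    have htp : isPt t = true := by
      have hb := base_isPt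
      simp only [List.mem_cons, List.not_mem_nil, or_false] at ht
      rcases ht with rfl | rfl | rfl | rfl
      · exact hb.2.1
      · exact hb.2.2.1
      · exact hb.2.2.2.2.1
      · exact hb.2.2.2.2.2
    have h12 := allP_iff.1 nonperp_pair_determined.2.1 t ht
    rw [Bool.and_eq_true] at h12
    rw [← hγ.comm t q htp hq, hqy]
    have htD := hγ.mem t htp
    have hta : Commute (γ t) a := g1 ▸ (hγ.comm t e1 htp base_isPt.1).2 h12.1
    have htx : Commute (γ t) x := g2 ▸ (hγ.comm t f1 htp base_isPt.2.2.2.1).2 h12.2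
    exact hcom _ ⟨⟨htD.1, fun e => hx.2 (e ▸ htx), hta.symm⟩, htD.1, fun e => hx.2 (e ▸ hta).symm, htx.symm⟩

end Pre22

end Cfsg.Agent.TT95
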