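import Cfsg.Agent.TT95.Lay
import Cfsg.Agent.TT95.LocalPre
import Cfsg.Agent.TT95.Count

/-!
Type M(22) satisfies the graph properties with 3510, 693, 180, 126, 45; four-cycles are conjugate and the
common neighbours of a non-edge are connected.
-/

set_option autoImplicit false
set_option linter.unusedSectionVars false

namespace Cfsg.Agent.TT95

open Cfsg.Agent.TT95.U6

variable {G : Type*} [Group G] [Finite G] {D : Set G} (hC : Cfg22 D)

include hC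

theorem pre22 : Pre22 D := ⟨hC.tt, hC.loc⟩

theorem deg22 {a d x : G} (ha : a ∈ D) (hd : d ∈ far D a) (hx : x ∈ common D a d) :
    (common D a d ∩ nb D x).ncard = 45 := by
  rw [← ncard_nb_two hC hx.1.1 (a := x) (mem_nb_comm ha hx.1) (mem_nb_comm hd.1 hx.2) hd.2]
  congr 1
  ext z
  constructor
  · rintro ⟨⟨hza, hzd⟩, hzx⟩
    exact ⟨hzx, hza.2.2.symm, hzd.2.2.symm⟩
  · rintro ⟨hzx, hca, hcd⟩
    exact ⟨⟨⟨hzx.1, fun e => hd.2 (e ▸ hcd), hca.symm⟩, hzx.1, fun e => hd.2 (e ▸ hca).symm, hcd.symm⟩, hzx⟩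

theorem far22 {a d : G} (ha : a ∈ D) (hd : d ∈ far D a) : (common D a d).ncard = 126 := by
  rw [← ncard_common hC ha hd.1 fun h => hd.2 h.symm]
  congr 1
  ext x
  refine ⟨fun h => ⟨h.1, h.2.2.2⟩, fun h => ⟨h.1, h.1.1, fun e => hd.2 (e ▸ h.1.2.2), h.2⟩⟩

theorem edge22 {a b : G} (ha : a ∈ D) (hb : b ∈ nb D a) : (common D a b).ncard = 180 := by
  rw [← ncard_nb_perp hC ha hb]
  congr 1
  ext x
  refine ⟨fun h => ⟨h.1, h.2.2.1, h.2.2.2.symm⟩, fun h => ⟨h.1, h.1.1, h.2.1, h.2.2.symm⟩⟩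

theorem commonConn22 {a d : G} (ha : a ∈ D) (hd : d ∈ far D a) : Conn (common D a d) := by
  intro x hx y hy
  by_contra hn
  set S := common D a d with hS
  have hcl := common_closed hC.tt a d
  have hz : x * y * x ∈ S := hcl.2 x hx y hy
  have n1 := path_third hC.tt hcl hx hy hn
  have n2 := not_path_conj hC.tt hcl hx hy hn
  set C : G → Set G := fun v => insert v (S ∩ nb D v) with hCdef
  have hsub : ∀ v ∈ S, C v ⊆ S ∧ (C v).ncard = 46 ∧ ∀ w ∈ C v, Path S v w := by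
    intro v hv
    refine ⟨Set.insert_subset hv Set.inter_subset_left, ?_, ?_⟩
    · rw [hCdef, Set.ncard_insert_of_notMem (fun h => h.2.2.1 rfl) (Set.toFinite _), deg22 hC ha hd hv]
    · rintro w (rfl | hw)
      · exact .refl
      · exact Path.single' hv hw.1 hw.2.2.2
  have hdis : ∀ u v, u ∈ S → v ∈ S → ¬ Path S u v → Disjoint (C u) (C v) := fun u v hu hv h =>
    Set.disjoint_left.2 fun w h1 h2 => h (((hsub u hu).2.2 w h1).trans' ((hsub v hv).2.2 w h2).symm)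
  have h3 : (C x ∪ C y ∪ C (x * y * x)).ncard = 138 := by
    rw [Set.ncard_union_eq (Set.disjoint_union_left.2 ⟨hdis _ _ hx hz n1, hdis _ _ hy hz n2⟩) (Set.toFinite _)
        (Set.toFinite _),
      Set.ncard_union_eq (hdis _ _ hx hy hn) (Set.toFinite _) (Set.toFinite _), (hsub x hx).2.1, (hsub y hy).2.1,
      (hsub _ hz).2.1]
  have := Set.ncard_le_ncard (show C x ∪ C y ∪ C (x * y * x) ⊆ S from
    Set.union_subset (Set.union_subset (hsub x hx).1 (hsub y hy).1) (hsub _ hz).1) (Set.toFinite _)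
  rw [h3, hS, far22 hC ha hd] at this
  omega

theorem far_pair_move {w : G} (hw : w ∈ D) {γ : ℕ → G} (hγ : IsLocal D w γ) {a c : G} (ha : a ∈ nb D w)
    (hc : c ∈ nb D w) (hac : ¬ Commute a c) :
    ∃ g : G, IsLocal D w (fun p => g * γ p * g⁻¹) ∧ g * γ e1 * g⁻¹ = a ∧ g * γ f1 * g⁻¹ = c := by
  have hP := pre22 hC
  obtain ⟨p, hp, rfl⟩ := hγ.surj a ha
  obtain ⟨g, hg, ge, -⟩ := Pre22.move hP hγ base_isPt.1 (orbit_points (mem_pts.2 hp))
  obtain ⟨q, hq, hqc⟩ := hg.surj c hc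
  have h1 : orth q e1 = false := Bool.eq_false_iff.2 fun h => hac (by
    rw [← ge, ← hqc]; exact ((hg.comm q e1 hq base_isPt.1).2 h).symm)
  obtain ⟨h, hh, he, hf⟩ := Pre22.move hP hg base_isPt.2.2.2.1 (orbit_nonperp (mem_pts.2 hq) h1)
  have f := hf e1 base_isPt.1 fun _ _ h => h
  refine ⟨h * g, ?_, ?_, ?_⟩
  · convert hh using 1; funext p; group
  · rw [← ge]; exact (by group : h * g * γ e1 * (h * g)⁻¹ = h * (g * γ e1 * g⁻¹) * h⁻¹).trans (f.trans rfl)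
  · rw [← hqc]; exact (by group : h * g * γ f1 * (h * g)⁻¹ = h * (g * γ f1 * g⁻¹) * h⁻¹).trans he

theorem quad_move {w : G} (hw : w ∈ D) {γ : ℕ → G} (hγ : IsLocal D w γ) {a b c d : G} (ha : a ∈ nb D w)
    (hb : b ∈ nb D w) (hc : c ∈ nb D w) (hd : d ∈ nb D w) (hq : Quad D a b c d) :
    ∃ g : G, g * γ e1 * g⁻¹ = a ∧ g * γ e2 * g⁻¹ = b ∧ g * γ f1 * g⁻¹ = c ∧ g * γ f2 * g⁻¹ = d := by
  obtain ⟨-, ⟨-, hac⟩, hba, hda, -, hbd⟩ := hq
  have hP := pre22 hC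
  obtain ⟨q1, q2, -, q4, q5, -⟩ := base_isPt
  obtain ⟨g, hg, ga, gc⟩ := far_pair_move hC hw hγ ha hc hac
  obtain ⟨p, hp, hpb⟩ := hg.surj b hb
  have c2 : cand 2 p = true := by
    simp only [cand, Bool.and_eq_true]
    exact ⟨(hg.comm p e1 hp q1).1 (by rw [hpb, ga]; exact hba.1.2.2.symm),
      (hg.comm p f1 hp q4).1 (by rw [hpb, gc]; exact hba.2.2.2.symm)⟩
  obtain ⟨h, hh, he, hf⟩ := Pre22.move hP hg q2 (orbit_chain 2 (by decide) (mem_pts.2 hp) c2)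
  have fg : ∀ e, frameGen 2 e = true → orth e e1 = true ∧ orth e f1 = true := fun e h => by
    simpa only [frameGen, Bool.and_eq_true] using h
  have fa := hf e1 q1 fun e _ h => (fg e h).1
  have fc := hf f1 q4 fun e _ h => (fg e h).2
  rw [ga] at fa
  rw [gc] at fc
  rw [hpb] at he
  obtain ⟨r, hr, hrd⟩ := hh.surj d hd
  have c3 : cand 3 r = true := by
    simp only [cand, Bool.and_eq_true, Bool.not_eq_true']
    exact ⟨⟨(hh.comm r e1 hr q1).1 (by rw [hrd, ga, fa]; exact hda.1.2.2.symm),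
      (hh.comm r f1 hr q4).1 (by rw [hrd, gc, fc]; exact hda.2.2.2.symm)⟩,
      Bool.eq_false_iff.2 fun e => hbd (by
        have := (hh.comm r e2 hr q2).2 e
        rw [hrd] at this
        exact (he ▸ this).symm)⟩
  obtain ⟨i, -, ie, hif⟩ := Pre22.move hP hh q5 (orbit_chain 3 (by decide) (mem_pts.2 hr) c3)
  have ig : ∀ e, frameGen 3 e = true → orth e e1 = true ∧ orth e f1 = true ∧ orth e e2 = true := fun e h => by
    simpa only [frameGen, Bool.and_eq_true, and_assoc] using h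
  have ia := hif e1 q1 fun e _ h => (ig e h).1
  have ic := hif f1 q4 fun e _ h => (ig e h).2.1
  have ib := hif e2 q2 fun e _ h => (ig e h).2.2
  rw [ga, fa] at ia
  rw [gc, fc] at ic
  rw [he] at ib
  rw [hrd] at ie
  have e : ∀ p, i * h * g * γ p * (i * h * g)⁻¹ = i * (h * (g * γ p * g⁻¹) * h⁻¹) * i⁻¹ := fun p => by group
  exact ⟨i * h * g, by rw [e, ga, fa, ia], by rw [e, he, ib], by rw [e, gc, fc, ic], by rw [e, ie]⟩

theorem transFar22 : TransFar D := by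
  intro a b a' b' ha hb ha' hb'
  have hP := pre22 hC
  obtain ⟨w, hw⟩ := exists_common_path hC.tt ha (hC.conn a ha b hb.1) hb
  obtain ⟨w', hw'⟩ := exists_common_path hC.tt ha' (hC.conn a' ha' b' hb'.1) hb'
  obtain ⟨γ, hγ⟩ := hC.loc w hw.1.1
  obtain ⟨g, hg⟩ := hC.one w hw.1.1 w' hw'.1.1
  have hγ' := hg ▸ hγ.conjugate hC.tt g
  obtain ⟨p, -, pa, pb⟩ := far_pair_move hC hw.1.1 hγ (mem_nb_comm ha hw.1) (mem_nb_comm hb.1 hw.2) hb.2
  obtain ⟨q, -, qa, qb⟩ := far_pair_move hC hw'.1.1 hγ' (mem_nb_comm ha' hw'.1) (mem_nb_comm hb'.1 hw'.2) hb'.2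
  exact ⟨q * g * p⁻¹, by rw [← pa, ← qa]; group, by rw [← pb, ← qb]; group⟩

theorem transQuads22 : TransQuads D := by
  intro a b c d a' b' c' d' hq hq'
  have hget : ∀ a b c d, Quad D a b c d → ∃ w, w ∈ D ∧ a ∈ nb D w ∧ b ∈ nb D w ∧ c ∈ nb D w ∧ d ∈ nb D w := by
    rintro a b c d ⟨ha, hc, hb, hd, -, hbd⟩
    obtain ⟨w, hw, n1, n2, c1, c2⟩ :=
      common_of_path hC.tt (common_closed hC.tt a c) hb (commonConn22 hC ha hc b hb d hd) hbd
    exact ⟨w, hw.1.1, mem_nb_comm ha hw.1, ⟨hb.1.1, n1.symm, c1.symm⟩, mem_nb_comm hc.1 hw.2,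
      ⟨hd.1.1, n2.symm, c2⟩⟩
  obtain ⟨w, hw, wa, wb, wc, wd⟩ := hget a b c d hq
  obtain ⟨w', hw', wa', wb', wc', wd'⟩ := hget a' b' c' d' hq'
  obtain ⟨γ, hγ⟩ := hC.loc w hw
  obtain ⟨g, hg⟩ := hC.one w hw w' hw'
  obtain ⟨p, pa, pb, pc, pd⟩ := quad_move hC hw hγ wa wb wc wd hq
  obtain ⟨q, qa, qb, qc, qd⟩ := quad_move hC hw' (hg ▸ hγ.conjugate hC.tt g) wa' wb' wc' wd' hq'
  exact ⟨q * g * p⁻¹, by rw [← pa, ← qa]; group, by rw [← pb, ← qb]; group, by rw [← pc, ← qc]; group,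
    by rw [← pd, ← qd]; group⟩

theorem transPairs22 : TransPairs D := by
  intro a b a' b' ha hb ha' hb' hne hne' hc hc'
  have hP := pre22 hC
  obtain ⟨γ, hγ, g1⟩ := Pre22.one' hP ha (b := b) ⟨hb, hne.symm, hc⟩
  obtain ⟨g, hg⟩ := hC.one a ha a' ha'
  obtain ⟨p, hp, hpb⟩ := (hg ▸ hγ.conjugate hC.tt g).surj b' ⟨hb', hne'.symm, hc'⟩
  obtain ⟨-, k, hk, ke⟩ := IsLocal.exists_conj hC (hg ▸ hγ.conjugate hC.tt g) base_isPt.1
    (orbit_points (mem_pts.2 hp))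
  refine ⟨k * g, ?_, ?_⟩
  · rw [show k * g * a * (k * g)⁻¹ = k * (g * a * g⁻¹) * k⁻¹ by group, hg]
    exact (IsLocal.fix hC (hg ▸ hγ.conjugate hC.tt g) hk).1
  · rw [← hpb, ← ke, ← g1]; group

theorem lay22 {a : G} (ha : a ∈ D) : Lay D 3510 693 180 126 45 where
  tt := hC.tt
  center := hC.center
  one := hC.one
  tf := hC.tf
  conn := fun a ha b hb => hC.conn a ha b hb
  nbConn a ha := Pre22.nbConn (pre22 hC) ha
  farConn a ha x hx y hy :=
    Pre22.farPath (pre22 hC) ha x y hx hy (hC.conn a ha x hx.1) (hC.conn a ha y hy.1)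
  card_D := ncard_D hC ha
  card_nb a ha := ncard_nb hC ha
  card_edge _ ha _ hb := edge22 hC ha hb
  card_far _ ha _ hd := far22 hC ha hd
  card_deg _ ha _ hd _ hx := deg22 hC ha hd hx
  pairs := transPairs22 hC
  farPairs := transFar22 hC
  dperp a ha x hx y hy h := Pre22.dperp (pre22 hC) ha hx (hC.conn a ha x hx.1) hy h

end Cfsg.Agent.TT95
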