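import Cfsg.Agent.TT95.Orders

/-!
Type M(22): the centraliser of a product of three commuting transpositions.
-/

set_option autoImplicit false
set_option linter.unusedSectionVars false

namespace Cfsg.Agent.TT95

open Cfsg.Agent.TT95.U6

variable {G : Type*} [Group G] [Finite G] {D : Set G} (hC : Cfg22 D) [Gen D]

include hC

theorem transTriples22 : TransTriples D := by
  intro a b c a' b' c' ha hb hc ha' hb' hc' hne hne' hab hac hbc hab' hac' hbc'
  obtain ⟨g, hg⟩ := hC.one a ha a' ha'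
  obtain ⟨γ, hγ⟩ := hC.loc a' ha'
  have hgb : g * b * g⁻¹ ∈ nb D a' := ⟨conj_mem hC.tt g hb,
    fun e => hne.1 (mul_left_cancel (mul_right_cancel (e.trans hg.symm))).symm,
    hg ▸ (Commute.conj_iff g).2 hab⟩
  have hgc : g * c * g⁻¹ ∈ nb D a' := ⟨conj_mem hC.tt g hc,
    fun e => hne.2.1 (mul_left_cancel (mul_right_cancel (e.trans hg.symm))).symm,
    hg ▸ (Commute.conj_iff g).2 hac⟩
  obtain ⟨h, hh, h1, h2⟩ := trans_two hC ha' hγ hgb hgc
    (fun e => hne.2.2 (mul_left_cancel (mul_right_cancel e)).symm) ((Commute.conj_iff g).2 hbc)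
  obtain ⟨k, hk, k1, k2⟩ := trans_two hC ha' hγ (b := b') (c := c') ⟨hb', hne'.1.symm, hab'⟩
    ⟨hc', hne'.2.1.symm, hac'⟩ hne'.2.2.symm hbc'
  refine ⟨k * h⁻¹ * g, ?_, ?_, ?_⟩
  · calc k * h⁻¹ * g * a * (k * h⁻¹ * g)⁻¹ = k * (h⁻¹ * (g * a * g⁻¹) * h⁻¹⁻¹) * k⁻¹ := by group
      _ = a' := by rw [hg, conj_fix_of_mem hC.tt (inv_mem hh), conj_fix_of_mem hC.tt hk]
  · calc k * h⁻¹ * g * b * (k * h⁻¹ * g)⁻¹ = k * (h⁻¹ * (g * b * g⁻¹) * h) * k⁻¹ := by group
      _ = b' := by rw [← h1, ← k1]; group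
  · calc k * h⁻¹ * g * c * (k * h⁻¹ * g)⁻¹ = k * (h⁻¹ * (g * c * g⁻¹) * h) * k⁻¹ := by group
      _ = c' := by rw [← h2, ← k2]; group

theorem card_centralizer_three (hcore : Core22 G D) {a b c : G} (ha : a ∈ D) (hb : b ∈ D) (hc : c ∈ D)
    (hne : a ≠ b ∧ a ≠ c ∧ b ≠ c) (hab : Commute a b) (hac : Commute a c) (hbc : Commute b c) :
    Nat.card (Subgroup.centralizer ({a, b, c} : Set G)) = 147456 := by
  classical
  set S := Subgroup.centralizer ({a} : Set G) with hS
  have hmemS : ∀ {g : G}, g ∈ S ↔ g * a * g⁻¹ = a := fun {g} => by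
    rw [hS, Subgroup.mem_centralizer_singleton_iff, mul_inv_eq_iff_eq_mul]
  set f : S → G × G := fun g => ((g : G) * b * (g : G)⁻¹, (g : G) * c * (g : G)⁻¹) with hf
  set T := (Subgroup.centralizer ({a, b, c} : Set G)).subgroupOf S with hT
  have hfib : ∀ g g' : S, f g = f g' ↔ g⁻¹ * g' ∈ T := by
    intro g g'
    rw [hT, Subgroup.mem_subgroupOf]
    constructor
    · intro e
      simp only [hf, Prod.mk.injEq] at e
      have k1 := conj_eq_conj_iff.1 e.1
      have k2 := conj_eq_conj_iff.1 e.2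
      have k0 := S.mul_mem (S.inv_mem g.2) g'.2
      refine Subgroup.mem_centralizer_iff.2 ?_
      rintro x (rfl | rfl | rfl)
      · exact (Subgroup.mem_centralizer_singleton_iff.1 k0).symm
      · exact (Subgroup.mem_centralizer_singleton_iff.1 k1).symm
      · exact (Subgroup.mem_centralizer_singleton_iff.1 k2).symm
    · intro h
      simp only [hf, Prod.mk.injEq]
      refine ⟨conj_eq_conj_iff.2 ?_, conj_eq_conj_iff.2 ?_⟩ <;>
        rw [Subgroup.mem_centralizer_singleton_iff] <;>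
        exact (Subgroup.mem_centralizer_iff.1 h _ (by simp)).symm
  set N : Finset G := (Set.toFinite (nb D a)).toFinset with hN
  set R : Finset (G × G) := (N ×ˢ N).filter fun p => p.2 ≠ p.1 ∧ Commute p.2 p.1 with hR
  have hrange : Set.range f = (R : Set (G × G)) := by
    ext p
    simp only [hR, Finset.coe_filter, Finset.mem_product, hN, Set.Finite.mem_toFinset, Set.mem_setOf_eq]
    constructor
    · rintro ⟨g, rfl⟩
      have hga : (g : G) * a * (g : G)⁻¹ = a := hmemS.1 g.2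
      have m1 := (nb_conj hC.tt (g : G) a b).2 ⟨hb, hne.1.symm, hab⟩
      have m2 := (nb_conj hC.tt (g : G) a c).2 ⟨hc, hne.2.1.symm, hac⟩
      rw [hga] at m1 m2
      exact ⟨⟨m1, m2⟩, fun e => hne.2.2 (mul_left_cancel (mul_right_cancel e)).symm,
        (Commute.conj_iff _).2 hbc.symm⟩
    · rintro ⟨⟨h1, h2⟩, h3, h4⟩
      obtain ⟨g, g1, g2, g3⟩ := transTriples22 hC a b c a p.1 p.2 ha hb hc ha h1.1 h2.1 hne
        ⟨h1.2.1.symm, h2.2.1.symm, h3.symm⟩ hab hac hbc h1.2.2 h2.2.2 h4.symm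
      exact ⟨⟨g, hmemS.2 g1⟩, Prod.ext g2 g3⟩
  have hRcard : R.card = 693 * 180 := by
    have hcol : ∀ x ∈ N, (N.bipartiteAbove (fun x y => y ≠ x ∧ Commute y x) x).card = 180 := by
      intro x hx
      rw [hN, Set.Finite.mem_toFinset] at hx
      rw [← ncard_nb_perp hC ha hx, ← Set.ncard_coe_finset, Finset.bipartiteAbove, Finset.coe_filter, hN]
      simp
    have e : R.card = ∑ x ∈ N, (N.bipartiteAbove (fun x y => y ≠ x ∧ Commute y x) x).card := by
      rw [hR, Finset.card_filter, Finset.sum_product]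
      refine Finset.sum_congr rfl fun x _ => ?_
      rw [Finset.bipartiteAbove, Finset.card_filter]
    rw [e, Finset.sum_congr rfl hcol, Finset.sum_const, smul_eq_mul]
    congr 1
    rw [← ncard_nb hC ha, ← Set.ncard_coe_finset, hN, Set.Finite.coe_toFinset]
  have hle : Subgroup.centralizer ({a, b, c} : Set G) ≤ S := Subgroup.centralizer_le (by simp)
  have h := card_eq_mul_of_fibres f T hfib
  rw [hrange, Set.ncard_coe_finset, hRcard, card_centralizer hC ha hcore,
    Nat.card_congr (Subgroup.subgroupOfEquivOfLe hle).toEquiv] at h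
  omega

end Cfsg.Agent.TT95
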