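import Cfsg.Agent.TT95.KeyPerm
import Cfsg.Agent.TT95.Count

/-!
Type M(22): the centraliser of a transposition is generated by the transpositions commuting with it.
-/

set_option autoImplicit false
set_option linter.unusedSectionVars false

namespace Cfsg.Agent.TT95

open Cfsg.Agent.TT95.U6

variable {G : Type*} [Group G] [Finite G] {D : Set G} (hC : Cfg22 D) {a : G} (ha : a ∈ D) [Gen D]

include hC ha

theorem exists_neither {y : G} (hy : y ∈ nb D a) : ∃ d ∈ D, ¬ Commute d a ∧ ¬ Commute d y := by
  by_contra h
  push Not at h
  have hsub : D ⊆ insert a (nb D a) ∪ insert y (nb D y) := by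
    intro d hd
    by_cases hc : Commute d a
    · by_cases e : d = a
      · exact Or.inl (Or.inl e)
      · exact Or.inl (Or.inr ⟨hd, e, hc.symm⟩)
    · by_cases e : d = y
      · exact Or.inr (Or.inl e)
      · exact Or.inr (Or.inr ⟨hd, e, (h d hd hc).symm⟩)
  have h1 := (Set.ncard_le_ncard hsub).trans (Set.ncard_union_le _ _)
  have h2 := Set.ncard_insert_le a (nb D a)
  have h3 := Set.ncard_insert_le y (nb D y)
  rw [ncard_nb hC ha] at h2
  rw [ncard_nb hC hy.1] at h3
  rw [ncard_D hC ha] at h1
  omega

theorem mem_closure_of {x : G} (hx : x ∈ D) (h : Commute a x) : x ∈ Subgroup.closure (nb D a) := by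
  obtain ⟨γ, hγ⟩ := hC.loc a ha
  by_cases e : x = a
  · subst e; exact self_mem hC ha hγ
  · exact Subgroup.subset_closure ⟨hx, e, h⟩

theorem mem_of_cube {g : G} (hg : Commute g a) (h3 : g * g * g = 1) :
    g ∈ Subgroup.closure (nb D a) := by
  obtain ⟨γ, hγ⟩ := hC.loc a ha
  by_contra hn
  have hn' : g⁻¹ ∉ Subgroup.closure (nb D a) := fun h => hn (by simpa using inv_mem h)
  have h2 := coset_unique hC ha hγ hg hg.inv_left hn hn'
  rw [inv_inv] at h2
  apply hn'
  rwa [← eq_inv_of_mul_eq_one_left h3]

theorem swap_coset {b d d' : G} (hb : b ∈ nb D a) (hd : d ∈ D) (hd' : d' ∈ D) (h1 : ¬ Commute d a)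
    (h2 : ¬ Commute d b) (h1' : ¬ Commute d' a) (h2' : ¬ Commute d' b) :
    (swapEl a b d)⁻¹ * swapEl a b d' ∈ Subgroup.closure (nb D a) := by
  obtain ⟨γ, hγ, g1⟩ := local_one hC ha hb
  obtain ⟨Φ, hΦ⟩ := exists_keyHom hC ha hγ g1
  obtain ⟨hbD, hba, hab⟩ := hb
  have f1 := swap_conj_fst hC.tt ha hbD hd hab hba.symm h1 h2
  have f2 := swap_conj_snd hC.tt ha hbD hd hab hba.symm h1 h2
  have f1' := swap_conj_fst hC.tt ha hbD hd' hab hba.symm h1' h2'
  have f2' := swap_conj_snd hC.tt ha hbD hd' hab hba.symm h1' h2'
  have hi := swap_inv hC.tt ha hbD hd hab hba.symm h1 h2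
  have m1 : swapEl a b d ∈ pairStab a b := Or.inr ⟨f1, f2⟩
  have m2 : swapEl a b d' ∈ pairStab a b := Or.inr ⟨f1', f2'⟩
  set g := (swapEl a b d)⁻¹ * swapEl a b d' with hg
  have hga : g * a * g⁻¹ = a := by
    rw [hg, show (swapEl a b d)⁻¹ * swapEl a b d' * a * ((swapEl a b d)⁻¹ * swapEl a b d')⁻¹ =
      (swapEl a b d)⁻¹ * (swapEl a b d' * a * (swapEl a b d')⁻¹) * swapEl a b d by group, f1']
    exact (congrArg (fun t => (swapEl a b d)⁻¹ * t * swapEl a b d) f1.symm).trans (by group)
  have hgb : g * b * g⁻¹ = b := by
    rw [hg, show (swapEl a b d)⁻¹ * swapEl a b d' * b * ((swapEl a b d)⁻¹ * swapEl a b d')⁻¹ =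
      (swapEl a b d)⁻¹ * (swapEl a b d' * b * (swapEl a b d')⁻¹) * swapEl a b d by group, f2']
    exact (congrArg (fun t => (swapEl a b d)⁻¹ * t * swapEl a b d) f2.symm).trans (by group)
  refine mem_of_even hC ha hγ g1 hΦ (mul_inv_eq_iff_eq_mul.1 hga) hgb ?_
  have e : (⟨g, mem_pairStab_of_fix hC ha hγ g1 (mul_inv_eq_iff_eq_mul.1 hga) hgb⟩ : pairStab a b) =
      ⟨swapEl a b d, m1⟩⁻¹ * ⟨swapEl a b d', m2⟩ := rfl
  rw [e, map_mul, map_mul, map_inv, map_inv, sign_swap hC ha hγ g1 hΦ hd h1 h2 m1,
    sign_swap hC ha hγ g1 hΦ hd' h1' h2' m2]
  decide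

open scoped Classical in
/-- The coset of elements moving `a` to a given member. -/
theorem exists_transversal :
    ∃ T : G → G ⧸ Subgroup.closure (nb D a), T a = QuotientGroup.mk 1 ∧
      (∀ x, x ∈ D → ¬ Commute x a → T x = QuotientGroup.mk (a * x)) ∧
      (∀ x d, x ∈ nb D a → d ∈ D → ¬ Commute d a → ¬ Commute d x → T x = QuotientGroup.mk (swapEl a x d)) := by
  refine ⟨fun x => if x = a then QuotientGroup.mk 1 else if h : x ∈ nb D a then
    QuotientGroup.mk (swapEl a x (exists_neither hC ha h).choose) else QuotientGroup.mk (a * x), ?_, ?_, ?_⟩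
  · simp
  · intro x hx hxa
    have h1 : x ≠ a := fun e => hxa (e ▸ Commute.refl _)
    have h2 : x ∉ nb D a := fun h => hxa h.2.2.symm
    simp only [if_neg h1, dif_neg h2]
  · intro x d hx hd hda hdx
    simp only [if_neg hx.2.1, dif_pos hx]
    obtain ⟨hd0, h0a, h0x⟩ := (exists_neither hC ha hx).choose_spec
    exact QuotientGroup.eq.2 (swap_coset hC ha hx hd0 hd h0a h0x hda hdx)

theorem transversal_step {T : G → G ⧸ Subgroup.closure (nb D a)} (hT1 : T a = QuotientGroup.mk 1)
    (hT2 : ∀ x, x ∈ D → ¬ Commute x a → T x = QuotientGroup.mk (a * x))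
    (hT3 : ∀ x d, x ∈ nb D a → d ∈ D → ¬ Commute d a → ¬ Commute d x → T x = QuotientGroup.mk (swapEl a x d))
    {e x : G} (he : e ∈ D) (hx : x ∈ D) {r : G} (hr : QuotientGroup.mk r = T x) :
    (QuotientGroup.mk (e * r) : G ⧸ Subgroup.closure (nb D a)) = T (e * x * e) := by
  have key : ∀ {t t' : G}, (QuotientGroup.mk t : G ⧸ Subgroup.closure (nb D a)) = QuotientGroup.mk t' →
      ∀ u : G, (QuotientGroup.mk (u * t) : G ⧸ Subgroup.closure (nb D a)) = QuotientGroup.mk (u * t') := by
    intro t t' h u
    rw [QuotientGroup.eq] at h ⊢
    rwa [show (u * t)⁻¹ * (u * t') = t⁻¹ * t' by group]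
  have close : ∀ {t t' h : G}, h ∈ Subgroup.closure (nb D a) → t = t' * h →
      (QuotientGroup.mk t : G ⧸ Subgroup.closure (nb D a)) = QuotientGroup.mk t' := by
    intro t t' h hh e
    rw [e]
    exact (QuotientGroup.eq.2 (by rwa [show (t')⁻¹ * (t' * h) = h by group])).symm
  have hH := fun {u : G} (hu : u ∈ D) (hc : Commute a u) => mem_closure_of hC ha hu hc
  have haa : a ∈ Subgroup.closure (nb D a) := hH ha (Commute.refl a)
  have hD := hC.tt
  have sa := sq hD ha
  have se := sq hD he
  have sx := sq hD hx
  have hbr : ∀ {u v : G}, u ∈ D → v ∈ D → ¬ Commute u v → u * v * u = v * u * v :=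
    fun hu hv h => braid hD hu hv h
  by_cases hxa : x = a
  · subst hxa
    rw [hT1] at hr
    rw [key hr e, mul_one]
    by_cases hea : Commute e x
    · rw [show e * x * e = x by rw [hea.eq, mul_assoc, se, mul_one], hT1]
      exact close (hH he hea.symm) (one_mul e).symm
    · have hy : ¬ Commute (e * x * e) x := by
        intro h
        apply hea
        rw [hbr he hx hea] at h
        have := ((Commute.refl x).mul_left h).mul_left (Commute.refl x)
        rwa [show x * (x * e * x) * x = (x * x) * e * (x * x) by group, sq hD hx, one_mul, mul_one] at this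
      rw [hT2 _ (conj_mem' hD hx he) hy]
      refine close haa ?_
      rw [hbr he hx hea, show x * (x * e * x) * x = (x * x) * e * (x * x) by group, sx, one_mul, mul_one]
  by_cases hxc : Commute x a
  · -- a neighbour
    have hb : x ∈ nb D a := ⟨hx, hxa, hxc.symm⟩
    obtain ⟨d, hd, hda, hdb⟩ := exists_neither hC ha hb
    set s := swapEl a x d with hs
    rw [hT3 x d hb hd hda hdb] at hr
    rw [key hr e]
    have f1 := swap_conj_fst hD ha hx hd hxc.symm (Ne.symm hxa) hda hdb
    have f2 := swap_conj_snd hD ha hx hd hxc.symm (Ne.symm hxa) hda hdb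
    have hi := swap_inv hD ha hx hd hxc.symm (Ne.symm hxa) hda hdb
    have hss := swap_sq hD ha hx hd hxc.symm (Ne.symm hxa) hda hdb
    by_cases hex : Commute e x
    · rw [show e * x * e = x by rw [hex.eq, mul_assoc, se, mul_one], hT3 x d hb hd hda hdb]
      refine close (h := s * e * s⁻¹) (hH (conj_mem hD s he) ?_) ?_
      · have := (Commute.conj_iff s).2 hex.symm
        rwa [f2] at this
      · show e * s = s * (s * e * s⁻¹)
        rw [hi, show s * (s * e * s) = (s * s) * e * s by group, hss, one_mul]
    by_cases hea : Commute e a
    · have hne : e ≠ a := fun h => hex (h ▸ hxc.symm)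
      have hy : e * x * e ∈ nb D a := by
        refine ⟨conj_mem' hD hx he, fun h => hxa ?_, ((hea.symm.mul_right hxc.symm).mul_right hea.symm)⟩
        have : x = e * a * e := by
          rw [← h, show e * (e * x * e) * e = (e * e) * x * (e * e) by group, se, one_mul, mul_one]
        rw [this, hea.eq, mul_assoc, se, mul_one]
      have hd' : ¬ Commute (e * d * e) a ∧ ¬ Commute (e * d * e) (e * x * e) := by
        constructor
        · intro h
          apply hda
          have := (hea.mul_left h).mul_left hea
          rwa [show e * (e * d * e) * e = (e * e) * d * (e * e) by group, se, one_mul, mul_one] at this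
        · intro h
          apply hdb
          have := (Commute.conj_iff e).2 h
          rwa [inv_eq hD he, show e * (e * d * e) * e = (e * e) * d * (e * e) by group,
            show e * (e * x * e) * e = (e * e) * x * (e * e) by group, se, one_mul, mul_one, one_mul, mul_one] at this
      rw [hT3 _ (e * d * e) hy (conj_mem' hD hd he) hd'.1 hd'.2]
      refine close (h := e) (hH he hea.symm) ?_
      have eae : e * a = a * e := hea.eq
      show e * (a * d * a * (x * d * x)) = a * (e * d * e) * a * (e * x * e * (e * d * e) * (e * x * e)) * e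
      calc e * (a * d * a * (x * d * x))
          = (e * a) * d * a * (x * d * x) := by group
        _ = a * e * d * a * (x * d * x) := by rw [eae]
        _ = a * e * d * (e * e) * a * (x * d * x) := by rw [se, mul_one]
        _ = a * (e * d * e) * (e * a) * (x * d * x) := by group
        _ = a * (e * d * e) * (a * e) * (x * (e * e) * d * (e * e) * x) * (e * e) := by
            rw [eae, se, mul_one, mul_one, mul_one]
        _ = a * (e * d * e) * a * (e * x * e * (e * d * e) * (e * x * e)) * e := by group
    · -- e commutes with neither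
      rw [← key (hT3 x e hb he hea hex ▸ hT3 x d hb hd hda hdb :
        (QuotientGroup.mk (swapEl a x e) : G ⧸ Subgroup.closure (nb D a)) = QuotientGroup.mk s) e]
      have hyD : e * x * e ∈ D := conj_mem' hD hx he
      have hxe : x * e * x = e * x * e := hbr hx he (fun h => hex h.symm)
      have hyne : e * x * e ≠ a := by
        intro h
        have hx' : x = e * a * e := by
          rw [← h, show e * (e * x * e) * e = (e * e) * x * (e * e) by group, se, one_mul, mul_one]
        rw [hx', hbr he ha hea] at hxc
        apply hea
        have := ((Commute.refl a).mul_left hxc).mul_left (Commute.refl a)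
        rwa [show a * (a * e * a) * a = (a * a) * e * (a * a) by group, sa, one_mul, mul_one] at this
      have hey : ¬ Commute e (e * x * e) := by
        intro h
        apply hex
        have := ((Commute.refl e).mul_right h).mul_right (Commute.refl e)
        rwa [show e * (e * x * e) * e = (e * e) * x * (e * e) by group, se, one_mul, mul_one] at this
      have haea : a * e * a = e * a * e := hbr ha he (fun h => hea h.symm)
      by_cases hya : Commute (e * x * e) a
      · have hy : e * x * e ∈ nb D a := ⟨hyD, hyne, hya.symm⟩
        rw [hT3 _ e hy he hea hey]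
        have hyey : e * x * e * e * (e * x * e) = x := by
          rw [show e * x * e * e * (e * x * e) = e * x * (e * e) * (e * x * e) by group, se, mul_one,
            show e * x * (e * x * e) = e * (x * e * x) * e by group, hxe,
            show e * (e * x * e) * e = (e * e) * x * (e * e) by group, se, one_mul, mul_one]
        refine close (h := x * a * (e * x * e)) (mul_mem (mul_mem (hH hx hxc.symm) haa) (hH hyD hya.symm)) ?_
        rw [swapEl, swapEl, hxe, hyey]
        calc e * (a * e * a * (e * x * e)) = e * (e * a * e) * (e * x * e) := by rw [← haea]; group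
          _ = a * e * (e * x * e) := by rw [show e * (e * a * e) = (e * e) * (a * e) by group, se, one_mul]
          _ = (a * e) * a * a * (e * x * e) := by rw [show (a * e) * a * a = a * e * (a * a) by group, sa, mul_one]
          _ = a * e * a * (x * x) * a * (e * x * e) := by rw [sx, mul_one]
          _ = a * e * a * x * (x * a * (e * x * e)) := by group
      · rw [hT2 _ hyD hya]
        refine close (h := x) (hH hx hxc.symm) ?_
        rw [swapEl, hxe]
        calc e * (a * e * a * (e * x * e)) = e * (e * a * e) * (e * x * e) := by rw [← haea]; group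
          _ = a * (e * (e * x * e)) := by
            rw [show e * (e * a * e) = (e * e) * (a * e) by group, se, one_mul]; group
          _ = a * (e * x * e) * x := by
            rw [show a * (e * x * e) * x = a * ((e * x * e) * x) by group, ← hxe,
              show x * e * x * x = x * e * (x * x) by group, sx, mul_one,
              show e * (x * e * x) = (e * x * e) * x by group, ← hxe,
              show x * e * x * x = x * e * (x * x) by group, sx, mul_one]
  · -- not commuting with a
    rw [hT2 x hx hxc] at hr
    rw [key hr e]
    have haxa : a * x * a = x * a * x := hbr ha hx (fun h => hxc h.symm)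
    by_cases hex : Commute e x
    · rw [show e * x * e = x by rw [hex.eq, mul_assoc, se, mul_one], hT2 x hx hxc]
      refine close (h := (a * x)⁻¹ * e * (a * x)) (hH ?_ ?_) (by group)
      · have := conj_mem hD (a * x)⁻¹ he
        rwa [inv_inv] at this
      · have := (Commute.conj_iff (a * x)⁻¹).2 hex.symm
        rw [inv_inv] at this
        rwa [show (a * x)⁻¹ * x * (a * x) = a from ?_] at this
        rw [mul_inv_rev, inv_eq hD ha, inv_eq hD hx, show x * a * x * (a * x) = x * (a * x * a) * x by group,
          haxa, show x * (x * a * x) * x = (x * x) * a * (x * x) by group, sx, one_mul, mul_one]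
    have hyD : e * x * e ∈ D := conj_mem' hD hx he
    by_cases hea : Commute e a
    · by_cases hea' : e = a
      · subst hea'
        have hy : ¬ Commute (e * x * e) e := by
          intro h
          apply hxc
          have := ((Commute.refl e).mul_left h).mul_left (Commute.refl e)
          rwa [show e * (e * x * e) * e = (e * e) * x * (e * e) by group, se, one_mul, mul_one] at this
        rw [hT2 _ hyD hy]
        exact close haa (by rw [show e * (e * x * e) * e = (e * e) * x * (e * e) by group, mul_assoc (e * e), se,
          mul_one, one_mul, ← mul_assoc, se, one_mul])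
      have hy : ¬ Commute (e * x * e) a := by
        intro h
        apply hxc
        have := (hea.mul_left h).mul_left hea
        rwa [show e * (e * x * e) * e = (e * e) * x * (e * e) by group, se, one_mul, mul_one] at this
      rw [hT2 _ hyD hy]
      refine close (h := e) (hH he hea.symm) ?_
      rw [show a * (e * x * e) * e = (a * e) * x * (e * e) by group, se, mul_one, ← hea.eq, mul_assoc]
    by_cases hya : e * x * e = a
    · rw [hya, hT1]
      refine close (h := a) haa ?_
      have hxe : x = e * a * e := by
        rw [← hya, show e * (e * x * e) * e = (e * e) * x * (e * e) by group, se, one_mul, mul_one]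
      rw [hxe, hbr he ha hea, show e * (a * (a * e * a)) = e * ((a * a) * (e * a)) by group, sa, one_mul,
        ← mul_assoc, se, one_mul]
    have hxy : ¬ Commute x (e * x * e) := by
      intro h
      apply hex
      rw [hbr he hx hex] at h
      have := ((Commute.refl x).mul_right h).mul_right (Commute.refl x)
      rw [show x * (x * e * x) * x = (x * x) * e * (x * x) by group, sx, one_mul, mul_one] at this
      exact this.symm
    by_cases hyc : Commute (e * x * e) a
    · have hy : e * x * e ∈ nb D a := ⟨hyD, hya, hyc.symm⟩
      rw [hT3 _ x hy hx hxc hxy]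
      have hyxy : e * x * e * x * (e * x * e) = e := by
        rw [hbr he hx hex, show x * e * x * x * (x * e * x) = x * e * (x * x) * x * e * x by group, sx, mul_one,
          show x * e * x * e * x = x * (e * x * e) * x by group, hbr he hx hex,
          show x * (x * e * x) * x = (x * x) * e * (x * x) by group, sx, one_mul, mul_one]
      have hcomm := swap_comm hD ha hyD hx hyc.symm (Ne.symm hya) hxc hxy
      rw [hyxy] at hcomm
      refine close (h := a) haa ?_
      rw [swapEl, hyxy, hcomm.eq, show e * (a * x * a) * a = e * (a * x) * (a * a) by group, sa, mul_one]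
    · rw [hT2 _ hyD hyc]
      -- the element q a q with q of order three
      have haea : a * e * a = e * a * e := hbr ha he (fun h => hea h.symm)
      set q := e * x with hq
      have hq3 : q * q * q = 1 := by
        have h := ThreeTransp.pow_three_of_not_commute hD.1 he hx hex
        rw [← h, pow_succ, pow_two]
      set z := q * a * q with hz
      have hzform : (a * (e * x * e))⁻¹ * (e * (a * x)) = z := by
        rw [mul_inv_rev, inv_eq hD hyD, inv_eq hD ha, hz, hq]
        calc e * x * e * a * (e * (a * x)) = e * x * (e * (a * e * a)) * x := by group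
          _ = e * x * (e * (e * a * e)) * x := by rw [haea]
          _ = e * x * ((e * e) * a * e) * x := by group
          _ = e * x * a * (e * x) := by rw [se, one_mul]; group
      have hza : z * a * z⁻¹ = a := by
        have hax : (a * x) * a * (a * x)⁻¹ = x := by
          rw [mul_inv_rev, inv_eq hD ha, inv_eq hD hx, show a * x * a * (x * a) = a * (x * a * x) * a by group,
            ← haxa, show a * (a * x * a) * a = (a * a) * x * (a * a) by group, sa, one_mul, mul_one]
        have hay : (a * (e * x * e)) * a * (a * (e * x * e))⁻¹ = e * x * e := by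
          rw [mul_inv_rev, inv_eq hD ha, inv_eq hD hyD,
            show a * (e * x * e) * a * (e * x * e * a) = a * ((e * x * e) * a * (e * x * e)) * a by group,
            hbr hyD ha hyc, show a * (a * (e * x * e) * a) * a = (a * a) * (e * x * e) * (a * a) by group, sa,
            one_mul, mul_one]
        rw [← hzform]
        calc (a * (e * x * e))⁻¹ * (e * (a * x)) * a * ((a * (e * x * e))⁻¹ * (e * (a * x)))⁻¹
            = (a * (e * x * e))⁻¹ * (e * ((a * x) * a * (a * x)⁻¹) * e⁻¹) * (a * (e * x * e)) := by group
          _ = (a * (e * x * e))⁻¹ * (e * x * e) * (a * (e * x * e)) := by rw [hax, inv_eq hD he]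
          _ = a := by
            conv_lhs => arg 1; arg 2; rw [← hay]
            group
      have hzc : z * a = a * z := mul_inv_eq_iff_eq_mul.1 hza
      set p := a * q * a with hp
      have hp3 : p * p * p = 1 := by
        rw [hp, show a * q * a * (a * q * a) * (a * q * a) = a * q * (a * a) * q * (a * a) * q * a by group, sa,
          mul_one, mul_one, show a * q * q * q * a = a * (q * q * q) * a by group, hq3, mul_one, sa]
      have hqp : Commute q p := by
        show q * p = p * q
        rw [hp, show q * (a * q * a) = (q * a * q) * a by group, ← hz, hzc, hz]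
        group
      have hqpc : Commute (q * p) a := by
        rw [hp, show q * (a * q * a) = z * a by rw [hz]; group]
        exact (show Commute z a from hzc).mul_left (Commute.refl a)
      have hcube : q * p * (q * p) * (q * p) = 1 := by
        calc q * p * (q * p) * (q * p) = (q * p) ^ 3 := by rw [pow_succ, pow_two]
          _ = q ^ 3 * p ^ 3 := hqp.mul_pow 3
          _ = (q * q * q) * (p * p * p) := by rw [pow_succ, pow_two, pow_succ, pow_two]
          _ = 1 := by rw [hq3, hp3, mul_one]
      refine close (h := z) ?_ ?_
      · have e1 : z = q * p * a := by rw [hz, hp, show q * (a * q * a) * a = q * a * q * (a * a) by group, sa, mul_one]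
        rw [e1]
        exact mul_mem (mem_of_cube hC ha hqpc hcube) haa
      · rw [← hzform, hq]
        group

/-- The centraliser of a transposition is generated by its neighbours. -/
theorem centralizer_eq : Subgroup.centralizer ({a} : Set G) = Subgroup.closure (nb D a) := by
  refine le_antisymm (fun g hg => ?_) fun g hg => ?_
  · obtain ⟨T, hT1, hT2, hT3⟩ := exists_transversal hC ha
    have hall : ∀ u : G, ∀ x ∈ D, ∀ r, (QuotientGroup.mk r : G ⧸ Subgroup.closure (nb D a)) = T x →
        (QuotientGroup.mk (u * r) : G ⧸ Subgroup.closure (nb D a)) = T (u * x * u⁻¹) := by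
      intro u
      have hu : u ∈ Subgroup.closure D := by rw [Gen.gen (D := D)]; trivial
      induction hu using Subgroup.closure_induction'' with
      | mem e he =>
        intro x hx r hr
        rw [inv_eq hC.tt he]
        exact transversal_step hC ha hT1 hT2 hT3 he hx hr
      | inv_mem e he =>
        intro x hx r hr
        rw [inv_inv, inv_eq hC.tt he]
        exact transversal_step hC ha hT1 hT2 hT3 he hx hr
      | one => intro x _ r hr; simpa using hr
      | mul u v _ _ hu hv =>
        intro x hx r hr
        rw [mul_assoc, hu _ (conj_mem hC.tt v hx) _ (hv x hx r hr)]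
        congr 1
        group
    have h := hall g a ha 1 hT1.symm
    rw [mul_one, show g * a * g⁻¹ = a by
      rw [mul_inv_eq_iff_eq_mul]; exact Subgroup.mem_centralizer_singleton_iff.1 hg, hT1, QuotientGroup.eq] at h
    simpa using inv_mem h
  · rw [Subgroup.mem_centralizer_singleton_iff]
    exact (commute_closure_nb hC.tt hg).eq.symm

end Cfsg.Agent.TT95
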