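import Cfsg.Agent.TT95.Cfg22

/-!
Type M(22): three commuting transpositions lie in exactly one six-element relation.
-/

set_option autoImplicit false
set_option linter.unusedSectionVars false

namespace Cfsg.Agent.TT95

open Cfsg.Agent.TT95.U6

theorem five_isPt : isPt 1 = true ∧ isPt 4 = true ∧ isPt 5 = true ∧ isPt 9 = true ∧ isPt 13 = true := by
  decide +kernel

theorem line12_orth {p q : ℕ} (hp : p ∈ line12) (hq : q ∈ line12) : orth p q = true :=
  allP_iff.1 (allP_iff.1 line12_spec.2 p hp) q hq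

theorem perp12_isPt : allP isPt perp12 = true := by decide +kernel

theorem isPt_of_mem_line12 {p : ℕ} (hp : p ∈ line12) : isPt p = true := by
  have h := five_isPt
  simp only [line12, List.mem_cons, List.not_mem_nil, or_false] at hp
  rcases hp with rfl | rfl | rfl | rfl | rfl
  · exact h.1
  · exact h.2.1
  · exact h.2.2.1
  · exact h.2.2.2.1
  · exact h.2.2.2.2

variable {G : Type*} [Group G] {D : Set G} (hC : Cfg22 D)

include hC

/-- The line through two neighbours multiplies to the transposition. -/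
theorem line_prod {a : G} (ha : a ∈ D) {γ : ℕ → G} (hγ : IsLocal D a γ) :
    γ 1 * γ 4 * γ 5 * γ 9 * γ 13 = a := by
  have hm : ∀ p ∈ line12, γ p ∈ nb D a := fun p hp => hγ.mem p (isPt_of_mem_line12 hp)
  have hline : [(1 : ℕ), 4, 5, 9, 13] = line12 := rfl
  refine (kernel_lemma hC ha ?_ hγ.line).resolve_left fun h => ?_
  · have hc := fun p hp => (hm p hp).2.2.symm
    exact ((((hc 1 (by simp [line12])).mul_left (hc 4 (by simp [line12]))).mul_left (hc 5 (by simp [line12]))).mul_left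
      (hc 9 (by simp [line12]))).mul_left (hc 13 (by simp [line12]))
  refine hC.noRel5 (line12.map γ) ?_ rfl ?_ ?_ ?_
  · exact (List.nodup_map_iff_inj_on (by decide)).2 fun p hp q hq e =>
      hγ.inj p q (isPt_of_mem_line12 hp) (isPt_of_mem_line12 hq) e
  · intro x hx
    obtain ⟨p, hp, rfl⟩ := List.mem_map.1 hx
    exact (hm p hp).1
  · intro x hx y hy
    obtain ⟨p, hp, rfl⟩ := List.mem_map.1 hx
    obtain ⟨q, hq, rfl⟩ := List.mem_map.1 hy
    exact (hγ.comm p q (isPt_of_mem_line12 hp) (isPt_of_mem_line12 hq)).2 (line12_orth hp hq)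
  · simp only [line12, List.map_cons, List.map_nil, List.prod_cons, List.prod_nil, mul_one, ← mul_assoc]
    exact h

/-- The partner triple of three commuting transpositions. -/
theorem partner {a b c : G} (ha : a ∈ D) (hb : b ∈ D) (hc : c ∈ D) (hne : a ≠ b ∧ a ≠ c ∧ b ≠ c)
    (hab : Commute a b) (hac : Commute a c) (hbc : Commute b c) :
    ∃ x y z, x ∈ D ∧ y ∈ D ∧ z ∈ D ∧ x ≠ y ∧ x ≠ z ∧ y ≠ z ∧ Commute x y ∧ Commute x z ∧ Commute y z ∧
      x ≠ a ∧ x ≠ b ∧ x ≠ c ∧ a * b * c = x * y * z ∧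
      ∀ u v w, u ∈ D → v ∈ D → w ∈ D → u ≠ v ∧ u ≠ w ∧ v ≠ w → Commute u v → Commute u w → Commute v w →
        u * v * w = a * b * c →
        (∀ t, (t = u ∨ t = v ∨ t = w) ↔ (t = a ∨ t = b ∨ t = c)) ∨
          (∀ t, (t = u ∨ t = v ∨ t = w) ↔ (t = x ∨ t = y ∨ t = z)) := by
  obtain ⟨γ, hγ, rfl, rfl⟩ := local_two hC ha ⟨hb, hne.1.symm, hab⟩ ⟨hc, hne.2.1.symm, hac⟩ hne.2.2.symm hbc
  obtain ⟨q1, q4, q5, q9, q13⟩ := five_isPt
  have hcm : ∀ p ∈ line12, ∀ q ∈ line12, Commute (γ p) (γ q) := fun p hp q hq =>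
    (hγ.comm p q (isPt_of_mem_line12 hp) (isPt_of_mem_line12 hq)).2 (line12_orth hp hq)
  have hin : ∀ p ∈ line12, ∀ q ∈ line12, γ p = γ q → p = q := fun p hp q hq e =>
    hγ.inj p q (isPt_of_mem_line12 hp) (isPt_of_mem_line12 hq) e
  have hprod : a * γ e1 * γ e2 = γ 5 * γ 9 * γ 13 := by
    have h := line_prod hC ha hγ
    have e : γ 5 * γ 9 * γ 13 = (γ 4)⁻¹ * (γ 1)⁻¹ * a := by rw [← h]; group
    rw [e, inv_eq hC.tt (show γ 4 ∈ D from hc), inv_eq hC.tt (show γ 1 ∈ D from hb)]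
    show a * γ 1 * γ 4 = γ 4 * γ 1 * a
    rw [show a * γ 1 * γ 4 = a * (γ 1 * γ 4) from mul_assoc _ _ _,
      (hcm 1 (by simp [line12]) 4 (by simp [line12])).eq]
    exact ((show Commute a (γ 4) from hac).mul_right (show Commute a (γ 1) from hab)).eq
  refine ⟨γ 5, γ 9, γ 13, (hγ.mem 5 q5).1, (hγ.mem 9 q9).1, (hγ.mem 13 q13).1, ?_, ?_, ?_,
    hcm 5 (by simp [line12]) 9 (by simp [line12]), hcm 5 (by simp [line12]) 13 (by simp [line12]),
    hcm 9 (by simp [line12]) 13 (by simp [line12]), (hγ.mem 5 q5).2.1, ?_, ?_, hprod, ?_⟩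
  · exact fun e => by simpa using hγ.inj _ _ q5 q9 e
  · exact fun e => by simpa using hγ.inj _ _ q5 q13 e
  · exact fun e => by simpa using hγ.inj _ _ q9 q13 e
  · exact fun e => by simpa [e1] using hγ.inj _ _ q5 base_isPt.1 e
  · exact fun e => by simpa [e2] using hγ.inj _ _ q5 base_isPt.2.1 e
  intro u v w hu hv hw hne' huv huw hvw h
  rcases triple_cases hC.tt hC.tf ha hb hc hu hv hw hne hne' hab hac hbc huv huw hvw h.symm with e | ⟨h1, h2, -⟩
  · exact Or.inl fun t => (e t).symm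
  right
  have key : ∀ t, (t = u ∨ t = v ∨ t = w) → (t = γ 5 ∨ t = γ 9 ∨ t = γ 13) := by
    intro t ht
    have htD : t ∈ D := by rcases ht with rfl | rfl | rfl <;> assumption
    have htmem : t ∈ [a, γ e1, γ e2, u, v, w] := by
      simp only [List.mem_cons, List.not_mem_nil, or_false]
      exact Or.inr (Or.inr (Or.inr ht))
    simp only [List.nodup_cons, List.mem_cons, List.not_mem_nil, or_false, not_or] at h1
    obtain ⟨⟨-, -, na⟩, ⟨-, nb'⟩, nc, -⟩ := h1
    have hne3 : t ≠ a ∧ t ≠ γ e1 ∧ t ≠ γ e2 := by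
      rcases ht with rfl | rfl | rfl
      · exact ⟨Ne.symm na.1, Ne.symm nb'.1, Ne.symm nc.1⟩
      · exact ⟨Ne.symm na.2.1, Ne.symm nb'.2.1, Ne.symm nc.2.1⟩
      · exact ⟨Ne.symm na.2.2, Ne.symm nb'.2.2, Ne.symm nc.2.2⟩
    obtain ⟨p, hp, rfl⟩ := hγ.surj t ⟨htD, hne3.1, h2 a (by simp) t htmem⟩
    have p1 : orth p e1 = true := (hγ.comm p e1 hp base_isPt.1).1 (h2 (γ p) htmem (γ e1) (by simp))
    have p2 : orth p e2 = true := (hγ.comm p e2 hp base_isPt.2.1).1 (h2 (γ p) htmem (γ e2) (by simp))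
    have hall : allP (fun y => orth p y) perp12 = true := by
      rw [allP_iff]
      intro y hy
      have hyp := allP_iff.1 perp12_isPt y hy
      have hy12 : (orth y e1 && orth y e2) = true := by
        rw [beq_iff_eq.1 (allP_iff.1 perp12_spec y (mem_pts.2 hyp)), inMask_maskOf]
        exact hy
      rw [Bool.and_eq_true] at hy12
      have hym := hγ.mem y hyp
      have c1 : Commute (γ y) (a * γ e1 * γ e2) :=
        (hym.2.2.symm.mul_right ((hγ.comm y e1 hyp base_isPt.1).2 hy12.1)).mul_right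
          ((hγ.comm y e2 hyp base_isPt.2.1).2 hy12.2)
      rw [← h] at c1
      obtain ⟨d1, d2, d3⟩ := (ThreeTransp.centralize_three hC.tt.1 hu hv hw hym.1 hne'.1 hne'.2.1 hne'.2.2
        huv huw hvw).1 c1
      rw [← hγ.comm p y hp hyp]
      rcases ht with e | e | e <;> rw [e]
      · exact d1.symm
      · exact d2.symm
      · exact d3.symm
    have hpl := allP_iff.1 line12_spec.1 p (mem_pts.2 hp)
    rw [p1, p2, hall] at hpl
    simp only [Bool.and_self, Bool.not_true, Bool.false_or, beq_iff_eq] at hpl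
    have hl := inMask_maskOf.1 hpl.symm
    simp only [line12, List.mem_cons, List.not_mem_nil, or_false] at hl
    rcases hl with rfl | rfl | rfl | rfl | rfl
    · exact absurd rfl hne3.2.1
    · exact absurd rfl hne3.2.2
    · exact Or.inl rfl
    · exact Or.inr (Or.inl rfl)
    · exact Or.inr (Or.inr rfl)
  intro t
  refine ⟨key t, fun ht => ?_⟩
  rcases key u (Or.inl rfl) with rfl | rfl | rfl <;> rcases key v (Or.inr (Or.inl rfl)) with rfl | rfl | rfl <;>
    rcases key w (Or.inr (Or.inr rfl)) with rfl | rfl | rfl <;>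
    first
      | exact absurd rfl hne'.1
      | exact absurd rfl hne'.2.1
      | exact absurd rfl hne'.2.2
      | exact ht
      | (rcases ht with r | r | r <;> simp [r])

end Cfsg.Agent.TT95
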