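import Cfsg.Agent.TT95.LayLocal

/-!
Elements generated by neighbours and elements generated by their images act alike.
-/

set_option autoImplicit false
set_option linter.unusedSectionVars false

namespace Cfsg.Agent.TT95

variable {G : Type*} [Group G] {K : Type*} [Group K] {D : Set G} {E : Set K} {a : G} {f : G → K}
  (h : Iso D a E f) (hD : TTSet D) (hE : TTSet E)

include h hD hE

theorem Iso.act_up {S : Set G} (hS : S ⊆ nb D a) {g : G} (hg : g ∈ Subgroup.closure S) :
    ∃ q ∈ Subgroup.closure (f '' S), ∀ x ∈ nb D a, f (g * x * g⁻¹) = q * f x * q⁻¹ := by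
  induction hg using Subgroup.closure_induction'' with
  | mem y hy =>
    refine ⟨f y, Subgroup.subset_closure ⟨y, hy, rfl⟩, fun x hx => ?_⟩
    rw [inv_eq hD (hS hy).1, inv_eq hE (h.mem (hS hy))]
    exact h.conj y (hS hy) x hx
  | inv_mem y hy =>
    refine ⟨f y, Subgroup.subset_closure ⟨y, hy, rfl⟩, fun x hx => ?_⟩
    rw [inv_inv, inv_eq hD (hS hy).1, inv_eq hE (h.mem (hS hy))]
    exact h.conj y (hS hy) x hx
  | one => exact ⟨1, one_mem _, fun x _ => by simp⟩
  | mul u v hu hv ihu ihv =>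
    obtain ⟨p, hp, hpx⟩ := ihu
    obtain ⟨q, hq, hqx⟩ := ihv
    refine ⟨p * q, mul_mem hp hq, fun x hx => ?_⟩
    have hv' : v * x * v⁻¹ ∈ nb D a := conj_mem_nb hD (Subgroup.closure_mono hS hv) hx
    rw [show u * v * x * (u * v)⁻¹ = u * (v * x * v⁻¹) * u⁻¹ by group, hpx _ hv', hqx x hx]
    group

theorem Iso.act_down {S : Set G} (hS : S ⊆ nb D a) {q : K} (hq : q ∈ Subgroup.closure (f '' S)) :
    ∃ g ∈ Subgroup.closure S, ∀ x ∈ nb D a, f (g * x * g⁻¹) = q * f x * q⁻¹ := by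
  induction hq using Subgroup.closure_induction'' with
  | mem y hy =>
    obtain ⟨y, hy, rfl⟩ := hy
    refine ⟨y, Subgroup.subset_closure hy, fun x hx => ?_⟩
    rw [inv_eq hD (hS hy).1, inv_eq hE (h.mem (hS hy))]
    exact h.conj y (hS hy) x hx
  | inv_mem y hy =>
    obtain ⟨y, hy, rfl⟩ := hy
    refine ⟨y, Subgroup.subset_closure hy, fun x hx => ?_⟩
    rw [inv_inv, inv_eq hD (hS hy).1, inv_eq hE (h.mem (hS hy))]
    exact h.conj y (hS hy) x hx
  | one => exact ⟨1, one_mem _, fun x _ => by simp⟩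
  | mul p q _ _ ihp ihq =>
    obtain ⟨u, hu, hux⟩ := ihp
    obtain ⟨v, hv, hvx⟩ := ihq
    refine ⟨u * v, mul_mem hu hv, fun x hx => ?_⟩
    have hv' : v * x * v⁻¹ ∈ nb D a := conj_mem_nb hD (Subgroup.closure_mono hS hv) hx
    rw [show u * v * x * (u * v)⁻¹ = u * (v * x * v⁻¹) * u⁻¹ by group, hux _ hv', hvx x hx]
    group

end Cfsg.Agent.TT95

namespace Cfsg.Agent.TT95

variable {G : Type*} [Group G] {K : Type*} [Group K] {D : Set G} {E : Set K} {a : G} {f : G → K}

/-- The action on the neighbours as a homomorphism to the local group. -/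
theorem Iso.exists_hom (h : Iso D a E f) (hD : TTSet D) (hE : TTSet E) (hZ : Subgroup.center K = ⊥) :
    ∃ φ : Subgroup.closure (nb D a) →* K, (∀ x (hx : x ∈ nb D a), φ ⟨x, Subgroup.subset_closure hx⟩ = f x) ∧
      (∀ g : Subgroup.closure (nb D a), ∀ x ∈ nb D a, f ((g : G) * x * (g : G)⁻¹) = φ g * f x * (φ g)⁻¹) ∧
      ∀ g : Subgroup.closure (nb D a), φ g = 1 ↔ ∀ x ∈ nb D a, Commute (g : G) x := by
  have huniq : ∀ p q : K, (∀ x ∈ nb D a, p * f x * p⁻¹ = q * f x * q⁻¹) → p = q := by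
    intro p q hpq
    have hc : q⁻¹ * p ∈ Subgroup.centralizer E := by
      refine Subgroup.mem_centralizer_iff.2 fun e he => ?_
      obtain ⟨x, hx, rfl⟩ := h.surj he
      symm
      calc q⁻¹ * p * f x = q⁻¹ * (p * f x * p⁻¹) * p := by group
        _ = q⁻¹ * (q * f x * q⁻¹) * p := by rw [hpq x hx]
        _ = f x * (q⁻¹ * p) := by group
    rw [centralizer_D_eq_center hE, hZ, Subgroup.mem_bot, inv_mul_eq_one] at hc
    exact hc.symm
  choose q hq hqx using fun g : Subgroup.closure (nb D a) => h.act_up hD hE subset_rfl g.2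
  refine ⟨MonoidHom.mk' q fun g g' => huniq _ _ fun x hx => ?_, fun x hx => huniq _ _ fun y hy => ?_, hqx,
    fun g => ⟨fun e x hx => ?_, fun hg => huniq _ _ fun x hx => ?_⟩⟩
  · rw [← hqx (g * g') x hx, Subgroup.coe_mul,
      show (g : G) * g' * x * ((g : G) * g')⁻¹ = g * (g' * x * (g' : G)⁻¹) * (g : G)⁻¹ by group,
      hqx g _ (conj_mem_nb hD g'.2 hx), hqx g' x hx]
    group
  · show q _ * f y * (q _)⁻¹ = _
    rw [← hqx _ y hy, inv_eq hD hx.1, inv_eq hE (h.mem hx)]
    exact h.conj x hx y hy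
  · have e' : q g = 1 := e
    have := hqx g x hx
    rw [e', one_mul, inv_one, mul_one] at this
    exact mul_inv_eq_iff_eq_mul.1 (h.inj (conj_mem_nb hD g.2 hx) hx this)
  · show q g * f x * (q g)⁻¹ = _
    rw [← hqx g x hx, (hg x hx).eq, mul_inv_cancel_right]
    group

end Cfsg.Agent.TT95
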