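import Cfsg.Agent.TT95.Transversal
import Cfsg.Agent.TT95.LayAct
import Cfsg.Agent.TT95.Index23
import Cfsg.Agent.TT95.Centralizer
import Cfsg.Agent.TT95.Hexad

/-!
Type M(23): the centraliser of a transposition is generated by the transpositions commuting with it, and
contains it as a product of six of them.
-/

set_option autoImplicit false
set_option linter.unusedSectionVars false

namespace Cfsg.Agent.TT95

open Cfsg.Agent.TT95.U6

/-- The standing hypotheses for type M(23), the local group being read at `d`. -/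
structure Cfg23 {G : Type*} [Group G] (D : Set G) (d : G) : Prop where
  mem : d ∈ D
  lay : Lay D 31671 3510 693 351 126
  step : StepHyp D (locSet D d) 3510 693 180 126 45
  loc : Cfg22 (locSet D d)
  core : Core22 (ModCenter (Subgroup.closure (nb D d))) (locSet D d)
  commonConn : ∀ a ∈ D, ∀ e ∈ far D a, Conn (common D a e)

theorem cfg23_of_core {G : Type*} [Group G] [Finite G] {D : Set G} (hD : TTSet D) (h : Core23 G D)
    (hconn : Conn D) : ∃ d, Cfg23 D d := by
  obtain ⟨h1, h2, h3⟩ := lay23 hD h hconn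
  obtain ⟨e1, e2⟩ := oneClass_twinFree_of_core23 hD h
  obtain ⟨hZ, d, hd, c, hc, hdc, h22, -⟩ := h
  haveI := loc_finite hD d
  have hC := cfg22_of_core22 (loc_isGroup hD d) h22
  have h22' := h22
  obtain ⟨-, q, hq, -⟩ := h22'
  obtain ⟨f, hf⟩ := exists_iso_loc hD e1 e2 hd
  exact ⟨d, hd, h1, ⟨hD, hZ, e1, e2, hconn, lay22 hC hq, transQuads22 hC, iso_everywhere hD e1 hd hf,
    by norm_num, by norm_num⟩, hC, h22, h3⟩

theorem cfg23_of_type {G : Type*} [Group G] [Finite G] {D : Set G} (hD : Cfsg.IsThreeTranspositionGroup D)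
    (hprim : Cfsg.IsPrimitiveUnderConj D) (h23 : Cfsg.IsOfTypeM23 G D) : ∃ d, Cfg23 D d := by
  have hcore := core23_of_type h23
  replace hD := TTSet.of_group hD
  obtain ⟨a, ha, b, hb⟩ := exists_edge_of_core23 hD hcore
  exact cfg23_of_core hD hcore (conn_of_primitive hD hprim ha hb)

variable {G : Type*} [Group G] [Finite G] {D : Set G} {d : G} (hG : Cfg23 D d)

include hG

theorem gen_loc : Gen (locSet D d) := ⟨loc_closure hG.lay.tt d⟩

theorem noRel6 : NoRel D 6 := noRel_succ hG.lay.tt hG.lay.one hG.lay.tf hG.mem hG.loc.noRel5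

/-- Six neighbours multiply to the transposition. -/
theorem exists_six : ∃ l : List G, l.Nodup ∧ l.length = 6 ∧ (∀ x ∈ l, x ∈ nb D d) ∧
    (∀ x ∈ l, ∀ y ∈ l, Commute x y) ∧ l.prod = d := by
  have hD := hG.lay.tt
  obtain ⟨x, hx⟩ : (nb D d).Nonempty := Set.nonempty_of_ncard_ne_zero (by rw [hG.lay.card_nb d hG.mem]; norm_num)
  have hne := fun y (hy : y ∈ nb D d) => mkNb_ne_one hD hG.lay.one hG.lay.tf hG.mem hy
  have hq := mkNb_mem hD hx (hne x hx)
  obtain ⟨γ, hγ⟩ := hG.loc.loc _ hq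
  have hline := line_prod hG.loc hq hγ
  have hex : ∀ p ∈ line12, ∃ y, ∃ hy : y ∈ nb D d, mkNb hy = γ p := fun p hp => by
    obtain ⟨y, hy, e, -⟩ := exists_of_mem_locSet hD (hγ.mem p (isPt_of_mem_line12 hp)).1
    exact ⟨y, hy, e⟩
  choose g hg hge using hex
  have m1 : (1 : ℕ) ∈ line12 := by simp [line12]
  have m4 : (4 : ℕ) ∈ line12 := by simp [line12]
  have m5 : (5 : ℕ) ∈ line12 := by simp [line12]
  have m9 : (9 : ℕ) ∈ line12 := by simp [line12]
  have m13 : (13 : ℕ) ∈ line12 := by simp [line12]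
  set l := x :: line12.attach.map (fun p => g p.1 p.2) with hl
  have hlmem : ∀ y ∈ l, y ∈ nb D d := by
    intro y hy
    rcases List.mem_cons.1 hy with rfl | hy
    · exact hx
    · obtain ⟨p, -, rfl⟩ := List.mem_map.1 hy
      exact hg p.1 p.2
  have hnd : l.Nodup := by
    refine List.nodup_cons.2 ⟨fun hm => ?_, List.Nodup.map ?_ (List.nodup_attach.2 (by decide))⟩
    · obtain ⟨p, -, e⟩ := List.mem_map.1 hm
      apply (hγ.mem p.1 (isPt_of_mem_line12 p.2)).2.1
      rw [← hge p.1 p.2]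
      simp only [e]
    · intro p q e
      refine Subtype.ext (hγ.inj _ _ (isPt_of_mem_line12 p.2) (isPt_of_mem_line12 q.2) ?_)
      rw [← hge p.1 p.2, ← hge q.1 q.2]
      simp only [e]
  have hcomm : ∀ y ∈ l, ∀ z ∈ l, Commute y z := by
    have hxp : ∀ p (hp : p ∈ line12), Commute x (g p hp) := fun p hp =>
      commute_of_mkNb hD hx (hg p hp) (by rw [hge]; exact (hγ.mem p (isPt_of_mem_line12 hp)).2.2)
    have hl' : ∀ y ∈ l, y = x ∨ ∃ p, ∃ hp : p ∈ line12, y = g p hp := fun y hy =>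
      (List.mem_cons.1 hy).imp_right fun h => by
        obtain ⟨p, -, e⟩ := List.mem_map.1 h
        exact ⟨p.1, p.2, e.symm⟩
    intro y hy z hz
    rcases hl' y hy with ey | ⟨p, hp, ey⟩ <;> rcases hl' z hz with ez | ⟨q, hq, ez⟩ <;> rw [ey, ez]
    · exact hxp q hq
    · exact (hxp p hp).symm
    · exact commute_of_mkNb hD (hg _ _) (hg _ _) (by
        rw [hge, hge]
        exact (hγ.comm _ _ (isPt_of_mem_line12 hp) (isPt_of_mem_line12 hq)).2 (line12_orth hp hq))
  refine ⟨l, hnd, by simp [hl, line12], hlmem, hcomm, ?_⟩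
  set S : Subgroup G := Subgroup.closure (nb D d)
  have hPS : l.prod ∈ S := list_prod_mem fun y hy => Subgroup.subset_closure (hlmem y hy)
  refine (hG.lay.kernel hG.mem (commute_closure_nb hD hPS).symm fun b hb => ?_).resolve_left
    (noRel6 hG l hnd (by simp [hl, line12]) (fun y hy => (hlmem y hy).1) hcomm)
  have hone : (QuotientGroup.mk (⟨l.prod, hPS⟩ : S) : ModCenter S) = 1 := by
    have e : (⟨l.prod, hPS⟩ : S) = ⟨x, Subgroup.subset_closure hx⟩ *
        (⟨_, Subgroup.subset_closure (hg 1 m1)⟩ * ⟨_, Subgroup.subset_closure (hg 4 m4)⟩ *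
          ⟨_, Subgroup.subset_closure (hg 5 m5)⟩ * ⟨_, Subgroup.subset_closure (hg 9 m9)⟩ *
          ⟨_, Subgroup.subset_closure (hg 13 m13)⟩) := by
      refine Subtype.ext ?_
      show l.prod = x * (g 1 m1 * g 4 m4 * g 5 m5 * g 9 m9 * g 13 m13)
      simp [hl, line12, List.attach_cons, mul_assoc]
    rw [e, QuotientGroup.mk_mul, QuotientGroup.mk_mul, QuotientGroup.mk_mul, QuotientGroup.mk_mul,
      QuotientGroup.mk_mul]
    show mkNb hx * (mkNb (hg 1 m1) * mkNb (hg 4 m4) * mkNb (hg 5 m5) * mkNb (hg 9 m9) * mkNb (hg 13 m13)) = 1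
    rw [hge, hge, hge, hge, hge, hline, mkNb_mul_self hD hx]
  exact (congrArg Subtype.val (Subgroup.mem_center_iff.1 ((QuotientGroup.eq_one_iff _).1 hone)
    ⟨b, Subgroup.subset_closure hb⟩)).symm

theorem self_mem23 : d ∈ Subgroup.closure (nb D d) := by
  obtain ⟨l, -, -, h3, -, h5⟩ := exists_six hG
  have h : l.prod ∈ Subgroup.closure (nb D d) := list_prod_mem fun y hy => Subgroup.subset_closure (h3 y hy)
  exact (congrArg (· ∈ Subgroup.closure (nb D d)) h5).mp h

/-- An element generated at `w` that centralises `a` is generated at `a`. -/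
theorem fixed_mem {a w g : G} (ha : a ∈ D) (hw : w ∈ nb D a) (hg : g ∈ Subgroup.closure (nb D w))
    (hga : Commute g a) : g ∈ Subgroup.closure (nb D a) := by
  have hD := hG.lay.tt
  haveI := gen_loc hG
  haveI := loc_finite hD d
  obtain ⟨f, hf⟩ := hG.step.iso w hw.1
  have hE := hG.loc.tt
  have haw := mem_nb_comm ha hw
  obtain ⟨q, -, hqx⟩ := hf.act_up hD hE subset_rfl hg
  have hqa : Commute q (f a) := by
    have := hqx a haw
    rw [hga.eq, mul_inv_cancel_right] at this
    exact mul_inv_eq_iff_eq_mul.1 this.symm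
  have hmem : q ∈ Subgroup.centralizer ({f a} : Set _) := Subgroup.mem_centralizer_singleton_iff.2 hqa.eq
  rw [centralizer_eq hG.loc (hf.mem haw), ← hf.image_nb haw] at hmem
  obtain ⟨h, hh, hhx⟩ := hf.act_down hD hE Set.inter_subset_left hmem
  have hhw : h ∈ Subgroup.closure (nb D w) := Subgroup.closure_mono Set.inter_subset_left hh
  have hha : h ∈ Subgroup.closure (nb D a) := Subgroup.closure_mono Set.inter_subset_right hh
  set u := h⁻¹ * g with hu
  have huw : u ∈ Subgroup.closure (nb D w) := mul_mem (inv_mem hhw) hg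
  have hfix : ∀ x ∈ nb D w, Commute u x := by
    intro x hx
    have h1 := conj_mem_nb hD hg hx
    have h2 := conj_mem_nb hD hhw hx
    have e := hf.inj h1 h2 ((hqx x hx).trans (hhx x hx).symm)
    refine mul_inv_eq_iff_eq_mul.1 ?_
    rw [hu, show h⁻¹ * g * x * (h⁻¹ * g)⁻¹ = h⁻¹ * (g * x * g⁻¹) * h by group, e]
    group
  have hgu : g = h * u := by rw [hu, mul_inv_cancel_left]
  rw [hgu]
  rcases hG.lay.kernel hw.1 (commute_closure_nb hD huw).symm hfix with e | e
  · rw [e, mul_one]; exact hha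
  · rw [e]; exact mul_mem hha (Subgroup.subset_closure hw)

/-- The common neighbours of an edge are conjugate under the subgroup they generate. -/
theorem common_trans {a x w w' : G} (ha : a ∈ D) (hx : x ∈ nb D a) (hw : w ∈ common D a x)
    (hw' : w' ∈ common D a x) : ∃ k ∈ Subgroup.closure (common D a x), k * w' * k⁻¹ = w := by
  have hD := hG.lay.tt
  haveI := gen_loc hG
  haveI := loc_finite hD d
  obtain ⟨f, hf⟩ := hG.step.iso a ha
  have hE := hG.loc.tt
  obtain ⟨n1, n2, n3⟩ := (hf.mem_nb_iff hx hw'.1).2 hw'.2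
  obtain ⟨m1, m2, m3⟩ := (hf.mem_nb_iff hx hw.1).2 hw.2
  obtain ⟨q, qx, qw⟩ := hG.step.lay.pairs _ _ _ _ (hf.mem hx) n1 (hf.mem hx) m1 n2.symm m2.symm n3 m3
  have hmem : q ∈ Subgroup.centralizer ({f x} : Set _) :=
    Subgroup.mem_centralizer_singleton_iff.2 (mul_inv_eq_iff_eq_mul.1 qx)
  rw [centralizer_eq hG.loc (hf.mem hx), ← hf.image_nb hx] at hmem
  obtain ⟨k, hk, hkx⟩ := hf.act_down hD hE Set.inter_subset_left hmem
  exact ⟨k, hk, hf.inj (conj_mem_nb hD (Subgroup.closure_mono Set.inter_subset_left hk) hw'.1) hw.1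
    ((hkx _ hw'.1).trans qw)⟩

theorem swap_mem {a x e w : G} (ha : a ∈ D) (he : e ∈ far D a) (hw : w ∈ common D a x) (hx : x ∈ nb D a)
    (hwe : Commute w e) : swapEl a x e ∈ Subgroup.closure (nb D w) := by
  have ma : a ∈ Subgroup.closure (nb D w) := Subgroup.subset_closure (mem_nb_comm ha hw.1)
  have mx : x ∈ Subgroup.closure (nb D w) := Subgroup.subset_closure (mem_nb_comm hx.1 hw.2)
  have me : e ∈ Subgroup.closure (nb D w) :=
    Subgroup.subset_closure ⟨he.1, fun c => he.2 (c ▸ hw.1.2.2), hwe⟩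
  exact mul_mem (mul_mem (mul_mem ma me) ma) (mul_mem (mul_mem mx me) mx)

theorem swap_coset23 {a x e e' : G} (ha : a ∈ D) (hx : x ∈ nb D a) (he : Witness D a x e)
    (he' : Witness D a x e') : (swapEl a x e)⁻¹ * swapEl a x e' ∈ Subgroup.closure (nb D a) := by
  have hD := hG.lay.tt
  obtain ⟨hea, hex, w, hw, hwe⟩ := he
  obtain ⟨hea', hex', w', hw', hwe'⟩ := he'
  obtain ⟨k, hk, hkw⟩ := common_trans hG ha hx hw hw'
  have hka : k ∈ Subgroup.closure (nb D a) := Subgroup.closure_mono Set.inter_subset_left hk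
  have hkx : k ∈ Subgroup.closure (nb D x) := Subgroup.closure_mono Set.inter_subset_right hk
  have fa := conj_fix_of_mem hD hka
  have fx := conj_fix_of_mem hD hkx
  have hflip : ∀ {u v : G}, v ∈ far D u → k * v * k⁻¹ ∈ far D (k * u * k⁻¹) := fun {u v} h =>
    ⟨conj_mem hD k h.1, fun c => h.2 ((Commute.conj_iff k).1 c)⟩
  have g1 : k * e' * k⁻¹ ∈ far D a := by have := hflip hea'; rwa [fa] at this
  have g2 : k * e' * k⁻¹ ∈ far D x := by have := hflip hex'; rwa [fx] at this
  have g3 : Commute w (k * e' * k⁻¹) := hkw ▸ (Commute.conj_iff k).2 hwe'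
  have es : swapEl a x (k * e' * k⁻¹) = k * swapEl a x e' * k⁻¹ := by
    simp only [swapEl]
    conv_lhs => rw [show a = k * a * k⁻¹ from fa.symm, show x = k * x * k⁻¹ from fx.symm]
    group
  have sym : ∀ {u v : G}, u ∈ far D v → ¬ Commute u v := fun h c => h.2 c.symm
  have f1 := swap_conj_fst hD ha hx.1 hea.1 hx.2.2 hx.2.1.symm (sym hea) (sym hex)
  have f2 := swap_conj_fst hD ha hx.1 g1.1 hx.2.2 hx.2.1.symm (sym g1) (sym g2)
  have f3 := swap_conj_fst hD ha hx.1 hea'.1 hx.2.2 hx.2.1.symm (sym hea') (sym hex')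
  have f4 := swap_conj_snd hD ha hx.1 hea'.1 hx.2.2 hx.2.1.symm (sym hea') (sym hex')
  have hi := swap_inv hD ha hx.1 hea'.1 hx.2.2 hx.2.1.symm (sym hea') (sym hex')
  have h1 : (swapEl a x e)⁻¹ * swapEl a x (k * e' * k⁻¹) ∈ Subgroup.closure (nb D a) := by
    refine fixed_mem hG ha hw.1
      (mul_mem (inv_mem (swap_mem hG ha hea hw hx hwe)) (swap_mem hG ha g1 hw hx g3)) ?_
    refine mul_inv_eq_iff_eq_mul.1 ?_
    set s := swapEl a x e
    set s' := swapEl a x (k * e' * k⁻¹)
    rw [show s⁻¹ * s' * a * (s⁻¹ * s')⁻¹ = s⁻¹ * (s' * a * s'⁻¹) * s by group, f2]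
    conv_lhs => rw [← f1]
    group
  set s' := swapEl a x e' with hs'
  have hmap : ∀ y ∈ common D a x, s' * y * s'⁻¹ ∈ common D a x := fun y hy => by
    refine ⟨?_, ?_⟩
    · have := (nb_conj hD s' x y).2 hy.2; rwa [f4] at this
    · have := (nb_conj hD s' a y).2 hy.1; rwa [f3] at this
  have hle : Subgroup.closure (common D a x) ≤ (Subgroup.closure (nb D a)).comap (MulAut.conj s').toMonoidHom := by
    rw [Subgroup.closure_le]
    exact fun y hy => Subgroup.subset_closure (hmap y hy).1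
  have h2 : s' * k⁻¹ * s'⁻¹ ∈ Subgroup.closure (nb D a) := hle (inv_mem hk)
  have e2 : (swapEl a x e)⁻¹ * s' = (swapEl a x e)⁻¹ * swapEl a x (k * e' * k⁻¹) * (k * (s' * k⁻¹ * s'⁻¹)⁻¹⁻¹) := by
    rw [es, inv_inv]
    have hi' : s'⁻¹ = s' := hi
    have hs2 : s' * s' = 1 := by conv_lhs => arg 1; rw [← hi']
                                 exact inv_mul_cancel s'
    calc (swapEl a x e)⁻¹ * s' = (swapEl a x e)⁻¹ * (k * (s' * s') * k⁻¹) * s'⁻¹ := by
          rw [hs2, mul_one, mul_inv_cancel, mul_one, hi']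
      _ = _ := by group
  rw [e2, inv_inv]
  exact mul_mem h1 (mul_mem hka h2)

open scoped Classical in
/-- Neighbours of a common neighbour avoiding both. -/
theorem choice_set {a x y : G} (ha : a ∈ D) (hx : x ∈ nb D a) (hy : y ∈ far D a) :
    ∃ f, Witness D a x f ∧ f * y * f ∈ far D a := by
  have hD := hG.lay.tt
  obtain ⟨w, hw⟩ : (common D a x).Nonempty :=
    Set.nonempty_of_ncard_ne_zero (by rw [hG.lay.card_edge a ha x hx]; norm_num)
  have haw := mem_nb_comm ha hw.1
  have hxw := mem_nb_comm hx.1 hw.2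
  set A := nb D w ∩ far D a with hA
  have hAc : A.ncard = 2816 := by
    rw [hA, step_locfar_card hG.step hw.1.1 haw]
  set B1 := insert x (common D w x)
  set B2 := insert y (common D w y)
  have hB1 : B1.ncard ≤ 694 := (Set.ncard_insert_le _ _).trans (by rw [hG.lay.card_edge w hw.1.1 x hxw])
  have hwy : w ≠ y := fun e => hy.2 (e ▸ hw.1.2.2)
  have hB2 : B2.ncard ≤ 694 := by
    refine (Set.ncard_insert_le _ _).trans ?_
    by_cases hc : Commute w y
    · rw [hG.lay.card_edge w hw.1.1 y ⟨hy.1, hwy.symm, hc⟩]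
    · rw [hG.lay.card_far w hw.1.1 y ⟨hy.1, hc⟩]; norm_num
  obtain ⟨u, ⟨huw, hua⟩, hu⟩ : ∃ u ∈ A, u ∉ B1 ∪ B2 := by
    by_contra hc
    push Not at hc
    have := (Set.ncard_le_ncard (fun u hu => hc u hu : A ⊆ B1 ∪ B2) (Set.toFinite _)).trans (Set.ncard_union_le _ _)
    omega
  simp only [B1, B2, Set.mem_union, Set.mem_insert_iff, not_or] at hu
  obtain ⟨⟨nx, cx⟩, ny, cy⟩ := hu
  have hux : ¬ Commute x u := fun c => cx ⟨huw, hua.1, nx, c⟩
  have huy : ¬ Commute y u := fun c => cy ⟨huw, hua.1, ny, c⟩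
  have sa := sq hD ha
  have eu : a * (a * u * a) * a = u := by
    rw [show a * (a * u * a) * a = (a * a) * u * (a * a) by group, sa, one_mul, mul_one]
  have fa : a * u * a ∈ far D a := by
    refine ⟨conj_mem' hD hua.1 ha, fun c => hua.2 ?_⟩
    have := ((Commute.refl a).mul_right c).mul_right (Commute.refl a)
    rwa [eu] at this
  have fx : a * u * a ∈ far D x := by
    refine ⟨fa.1, fun c => hux ?_⟩
    have := (hx.2.2.symm.mul_right c).mul_right hx.2.2.symm
    rwa [eu] at this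
  refine ⟨a * u * a, ⟨fa, fx, w, hw, ((nb_closed hD w).2 a haw u huw).2.2⟩, ?_⟩
  set f := a * u * a with hf
  refine ⟨conj_mem' hD hy.1 fa.1, fun c => huy ?_⟩
  have h1 : Commute (f * a * f) y := by
    have := (Commute.conj_iff f).2 c
    rwa [inv_eq hD fa.1, show f * (f * y * f) * f = (f * f) * y * (f * f) by group, sq hD fa.1, one_mul,
      mul_one] at this
  rw [← braid hD ha fa.1 fa.2, eu] at h1
  exact h1.symm

theorem transHyp23 : TransHyp D d where
  tt := hG.lay.tt
  mem := hG.mem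
  self := self_mem23 hG
  cube _ hg h3 := cube_mem23 hG.mem hG.lay hG.loc (self_mem23 hG) hg h3
  wit x hx := by
    obtain ⟨y, hy⟩ : (far D d).Nonempty := by
      refine Set.nonempty_of_ncard_ne_zero ?_
      have := hG.lay.card_split hG.mem (Set.toFinite _)
      omega
    obtain ⟨f, hf, -⟩ := choice_set hG hG.mem hx hy
    exact ⟨f, hf⟩
  swap x hx _ _ he he' := swap_coset23 hG hG.mem hx he he'
  choice x hx y hy := choice_set hG hG.mem hx hy

/-- The centraliser of a transposition is generated by its neighbours. -/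
theorem centralizer23 [Gen D] {a : G} (ha : a ∈ D) :
    Subgroup.centralizer ({a} : Set G) = Subgroup.closure (nb D a) := by
  have hD := hG.lay.tt
  refine le_antisymm (fun u hu => ?_) fun u hu => ?_
  · obtain ⟨g, hg⟩ := hG.lay.one d hG.mem a ha
    have h' : g⁻¹ * u * g ∈ Subgroup.centralizer ({d} : Set G) := by
      rw [Subgroup.mem_centralizer_singleton_iff]
      have hu' : u * a = a * u := Subgroup.mem_centralizer_singleton_iff.1 hu
      rw [← hg] at hu'
      calc g⁻¹ * u * g * d = g⁻¹ * (u * (g * d * g⁻¹)) * g := by group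
        _ = d * (g⁻¹ * u * g) := by rw [hu']; group
    rw [(transHyp23 hG).centralizer] at h'
    have hle : Subgroup.closure (nb D d) ≤ (Subgroup.closure (nb D a)).comap (MulAut.conj g).toMonoidHom := by
      rw [Subgroup.closure_le]
      intro y hy
      exact Subgroup.subset_closure (hg ▸ (nb_conj hD g d y).2 hy)
    simpa [mul_assoc] using hle h'
  · rw [Subgroup.mem_centralizer_singleton_iff]
    exact (commute_closure_nb hD hu).eq.symm

end Cfsg.Agent.TT95
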