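import Cfsg.Agent.TT95.Clique

/-!
Type M(22): every elementary abelian 2-group of order at least 2^10 is spanned by its transpositions.
-/

set_option autoImplicit false
set_option linter.unusedSectionVars false

namespace Cfsg.Agent.TT95

open Cfsg.Agent.TT95.U6

variable {G : Type*} [Group G] [Finite G] {D : Set G} (hC : Cfg22 D) [Gen D]

theorem card_ge_index_of_orbit {B : Subgroup G} {u : G} {s : Set G} (h : ∀ g ∈ B, g * u * g⁻¹ ∈ s) :
    Nat.card B ≤ s.ncard * Nat.card (B ⊓ Subgroup.centralizer {u} : Subgroup G) ∧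
      ∃ k, Nat.card B = k * Nat.card (B ⊓ Subgroup.centralizer {u} : Subgroup G) ∧ k ≤ s.ncard := by
  have e := card_eq_mul_of_fibres (fun g : B => (g : G) * u * (g : G)⁻¹)
    ((B ⊓ Subgroup.centralizer ({u} : Set G)).subgroupOf B) (fun g g' => by
      rw [conj_eq_conj_iff, Subgroup.mem_subgroupOf, Subgroup.mem_inf]
      refine ⟨fun h => ⟨SetLike.coe_mem _, by simpa using h⟩, fun h => by simpa using h.2⟩)
  rw [Nat.card_congr (Subgroup.subgroupOfEquivOfLe (inf_le_left : B ⊓ Subgroup.centralizer {u} ≤ B)).toEquiv] at e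
  have hk : (Set.range fun g : B => (g : G) * u * (g : G)⁻¹).ncard ≤ s.ncard :=
    Set.ncard_le_ncard (by rintro _ ⟨g, rfl⟩; exact h g g.2) (Set.toFinite _)
  exact ⟨e.trans_le (Nat.mul_le_mul_right _ hk), _, e, hk⟩

include hC

/-- The six transpositions attached to three commuting ones. -/
theorem hexad {a b c : G} (ha : a ∈ D) (hb : b ∈ D) (hc : c ∈ D) (hne : a ≠ b ∧ a ≠ c ∧ b ≠ c)
    (hab : Commute a b) (hac : Commute a c) (hbc : Commute b c) :
    ∃ x y z, x ∈ D ∧ y ∈ D ∧ z ∈ D ∧ (x ≠ y ∧ x ≠ z ∧ y ≠ z) ∧ Commute x y ∧ Commute x z ∧ Commute y z ∧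
      (x ≠ a ∧ x ≠ b ∧ x ≠ c) ∧ (y ≠ a ∧ y ≠ b ∧ y ≠ c) ∧ (z ≠ a ∧ z ≠ b ∧ z ≠ c) ∧
      a * b * c = x * y * z ∧
      (∀ u ∈ ({x, y, z} : Set G), Commute u a ∧ Commute u b ∧ Commute u c) ∧
      ∀ u v w, u ∈ D → v ∈ D → w ∈ D → u ≠ v ∧ u ≠ w ∧ v ≠ w → Commute u v → Commute u w → Commute v w →
        u * v * w = a * b * c →
        (∀ t, (t = u ∨ t = v ∨ t = w) ↔ (t = a ∨ t = b ∨ t = c)) ∨
          (∀ t, (t = u ∨ t = v ∨ t = w) ↔ (t = x ∨ t = y ∨ t = z)) := by
  obtain ⟨x, y, z, hx, hy, hz, nxy, nxz, nyz, cxy, cxz, cyz, xa, xb, xc, hp, huniq⟩ :=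
    partner hC ha hb hc hne hab hac hbc
  have hcen : ∀ u, u ∈ D → Commute u x → Commute u y → Commute u z →
      Commute u a ∧ Commute u b ∧ Commute u c := fun u hu h1 h2 h3 =>
    (ThreeTransp.centralize_three hC.tt.1 ha hb hc hu hne.1 hne.2.1 hne.2.2 hab hac hbc).1
      (by rw [hp]; exact (h1.mul_right h2).mul_right h3)
  have hno : ∀ s u v, u ∈ D → v ∈ D → u ≠ v → Commute u v → x ≠ u → x ≠ v → a * b * c = s * (u * v) →
      y ≠ s ∧ z ≠ s := by
    intro s u v hu hv huv cuv xu xv e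
    have hpair : ∀ q, q ∈ D → Commute x q → u * v = x * q → False := fun q hq cq h => by
      rcases pair_unique hC.tt hC.tf hu hv hx hq huv cuv cq h with ⟨h', -⟩ | ⟨h', -⟩
      · exact xu h'
      · exact xv h'
    rw [hp] at e
    constructor
    · rintro rfl
      refine hpair z hz cxz (mul_left_cancel (a := y) ?_)
      rw [← e, cxy.eq, mul_assoc]
    · rintro rfl
      refine hpair y hy cxy (mul_left_cancel (a := z) ?_)
      rw [← e, ((cxz.mul_left cyz)).eq]
  obtain ⟨ya, za⟩ := hno a b c hb hc hne.2.2 hbc xb xc (mul_assoc a b c)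
  obtain ⟨yb, zb⟩ := hno b a c ha hc hne.2.1 hac xa xc (by rw [hab.eq, mul_assoc])
  obtain ⟨yc, zc⟩ := hno c a b ha hb hne.1 hab xa xb (hac.mul_left hbc).eq
  refine ⟨x, y, z, hx, hy, hz, ⟨nxy, nxz, nyz⟩, cxy, cxz, cyz, ⟨xa, xb, xc⟩, ⟨ya, yb, yc⟩, ⟨za, zb, zc⟩, hp,
    ?_, huniq⟩
  intro u hu
  simp only [Set.mem_insert_iff, Set.mem_singleton_iff] at hu
  rcases hu with rfl | rfl | rfl
  · exact hcen u hx (Commute.refl u) cxy cxz
  · exact hcen u hy cxy.symm (Commute.refl u) cyz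
  · exact hcen u hz cxz.symm cyz.symm (Commute.refl u)

/-- Some clique spans at least 2^10 elements. -/
theorem exists_big_clique {a₀ : G} (ha₀ : a₀ ∈ D) :
    ∃ K, Clique D K ∧ 2 ^ 10 ≤ Nat.card (Subgroup.closure K) := by
  classical
  have hne : {n : ℕ | ∃ E : Set G, E ⊆ D ∧ E.Finite ∧ (∀ u ∈ E, ∀ v ∈ E, Commute u v) ∧ E.ncard = n}.Nonempty :=
    ⟨0, ∅, Set.empty_subset D, Set.finite_empty, by simp, Set.ncard_empty G⟩
  obtain ⟨E, hED, -, hEc, hE22⟩ := Nat.sSup_mem hne ⟨Nat.card G, by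
    rintro n ⟨E, -, -, -, rfl⟩; exact Set.ncard_le_card E⟩
  change E.ncard = Cfsg.commutingWidth D at hE22
  rw [width_eq hC ha₀] at hE22
  have hK : Clique D E := ⟨hED, hEc⟩
  refine ⟨E, hK, ?_⟩
  obtain ⟨n, hn⟩ := (hK.el hC.tt).card_two_pow
  rw [hn]
  refine Nat.pow_le_pow_right two_pos ((Nat.pow_lt_pow_iff_right one_lt_two).1 (?_ : 2 ^ 9 < 2 ^ n))
  rw [← hn]
  set S : Finset G := (Set.toFinite E).toFinset with hS
  have hSE : ∀ u, u ∈ S ↔ u ∈ E := fun u => Set.Finite.mem_toFinset _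
  have hS22 : S.card = 22 := by rw [hS, ← Set.ncard_eq_toFinset_card]; exact hE22
  set f : Finset G → G := fun t => t.toList.prod with hf
  have hfib : ∀ x ∈ (S.powersetCard 3).image f, ((S.powersetCard 3).filter fun t => f t = x).card ≤ 2 := by
    intro x hx
    obtain ⟨t, ht, rfl⟩ := Finset.mem_image.1 hx
    rw [Finset.mem_powersetCard] at ht
    obtain ⟨a, b, c, nab, nac, nbc, rfl⟩ := Finset.card_eq_three.1 ht.2
    have m : ∀ u ∈ ({a, b, c} : Finset G), u ∈ E := fun u hu => (hSE u).1 (ht.1 hu)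
    have hval : ∀ u v w : G, u ∈ E → v ∈ E → w ∈ E → u ≠ v → u ≠ w → v ≠ w →
        f {u, v, w} = u * v * w := by
      intro u v w hu hv hw h1 h2 h3
      have hnd : [u, v, w].Nodup := by simp [h1, h2, h3]
      have e : ({u, v, w} : Finset G) = [u, v, w].toFinset := by simp
      rw [hf]
      show ({u, v, w} : Finset G).toList.prod = _
      rw [e, (List.toFinset_toList hnd).prod_eq' (List.pairwise_of_forall_mem_list fun p hp q hq => ?_)]
      · simp [mul_assoc]
      · refine hEc p ?_ q ?_ <;> [skip; skip]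
        · have := List.mem_toFinset.1 (Finset.mem_toList.1 hp)
          simp at this; rcases this with rfl | rfl | rfl <;> assumption
        · have := List.mem_toFinset.1 (Finset.mem_toList.1 hq)
          simp at this; rcases this with rfl | rfl | rfl <;> assumption
    obtain ⟨x, y, z, -, -, -, -, -, -, -, -, -, -, -, -, huniq⟩ :=
      hexad hC (hED (m a (by simp))) (hED (m b (by simp))) (hED (m c (by simp))) ⟨nab, nac, nbc⟩
        (hEc a (m a (by simp)) b (m b (by simp))) (hEc a (m a (by simp)) c (m c (by simp)))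
        (hEc b (m b (by simp)) c (m c (by simp)))
    refine (Finset.card_le_card (t := {{a, b, c}, {x, y, z}}) fun s hs => ?_).trans Finset.card_le_two
    rw [Finset.mem_filter, Finset.mem_powersetCard] at hs
    obtain ⟨u, v, w, nuv, nuw, nvw, rfl⟩ := Finset.card_eq_three.1 hs.1.2
    have m' : ∀ p ∈ ({u, v, w} : Finset G), p ∈ E := fun p hp => (hSE p).1 (hs.1.1 hp)
    have e := hs.2
    rw [hval a b c (m a (by simp)) (m b (by simp)) (m c (by simp)) nab nac nbc,
      hval u v w (m' u (by simp)) (m' v (by simp)) (m' w (by simp)) nuv nuw nvw] at e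
    rcases huniq u v w (hED (m' u (by simp))) (hED (m' v (by simp))) (hED (m' w (by simp))) ⟨nuv, nuw, nvw⟩
      (hEc u (m' u (by simp)) v (m' v (by simp))) (hEc u (m' u (by simp)) w (m' w (by simp)))
      (hEc v (m' v (by simp)) w (m' w (by simp))) e with h | h
    · exact Finset.mem_insert.2 (Or.inl (Finset.ext fun p => by simpa using h p))
    · exact Finset.mem_insert.2 (Or.inr (Finset.mem_singleton.2 (Finset.ext fun p => by simpa using h p)))
  have hcount := Finset.card_le_mul_card_image (S.powersetCard 3) 2 hfib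
  rw [Finset.card_powersetCard, hS22, show Nat.choose 22 3 = 1540 by decide] at hcount
  have himg : ((S.powersetCard 3).image f).card ≤ Nat.card (Subgroup.closure E) := by
    rw [← SetLike.coe_sort_coe, Nat.card_coe_set_eq, ← Set.ncard_coe_finset]
    refine Set.ncard_le_ncard (fun x hx => ?_) (Set.toFinite _)
    obtain ⟨t, ht, rfl⟩ := Finset.mem_image.1 (Finset.mem_coe.1 hx)
    rw [Finset.mem_powersetCard] at ht
    exact prod_mem_closure fun u hu => (hSE u).1 (ht.1 (Finset.mem_toList.1 hu))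
  omega

theorem big_clique_card {K : Set G} (hK : Clique D K) {B : Subgroup G} (hBK : B = Subgroup.closure K)
    (h : 2 ^ 10 ≤ Nat.card B) : Nat.card B = 2 ^ 10 ∧ 10 ≤ K.ncard := by
  classical
  have h1 := card_closure_le hC hK
  rw [← hBK] at h1
  refine ⟨le_antisymm h1 h, ?_⟩
  -- at most two to the size of the clique
  have hex : ∀ (s : Finset G), (↑s : Set G) ⊆ K →
      Nat.card (Subgroup.closure (↑s : Set G)) ≤ 2 ^ s.card := by
    intro s
    induction s using Finset.induction with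
    | empty => simp
    | @insert z s hz ih =>
      intro hs
      rw [Finset.coe_insert, Set.insert_subset_iff] at hs
      have hel : El (Subgroup.closure (↑s : Set G)) := (hK.el hC.tt).mono (Subgroup.closure_mono hs.2)
      have hzz : z * z = 1 := sq hC.tt (hK.1 hs.1)
      have hcz : ∀ b ∈ Subgroup.closure (↑s : Set G), Commute b z := fun b hb =>
        (hK.el hC.tt).1 b (Subgroup.closure_mono hs.2 hb) z (Subgroup.subset_closure hs.1)
      have hle : Subgroup.closure (↑(insert z s) : Set G) ≤ adjoin _ hel z hzz hcz := by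
        rw [Subgroup.closure_le, Finset.coe_insert, Set.insert_subset_iff]
        exact ⟨mem_adjoin_self hel hzz hcz, fun b hb => le_adjoin hel hzz hcz (Subgroup.subset_closure hb)⟩
      refine (Subgroup.card_le_of_le hle).trans ?_
      by_cases hzm : z ∈ Subgroup.closure (↑s : Set G)
      · have : adjoin _ hel z hzz hcz ≤ Subgroup.closure (↑s : Set G) := by
          rintro y (hy | hy)
          · exact hy
          · exact (Subgroup.mul_mem_cancel_right _ hzm).1 hy
        refine (Subgroup.card_le_of_le this).trans ((ih hs.2).trans (Nat.pow_le_pow_right two_pos ?_))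
        rw [Finset.card_insert_of_notMem hz]; omega
      · rw [card_adjoin hel hzz hcz hzm, Finset.card_insert_of_notMem hz, pow_succ']
        exact Nat.mul_le_mul_left 2 (ih hs.2)
  have := hex (Set.toFinite K).toFinset (by rw [Set.Finite.coe_toFinset])
  rw [Set.Finite.coe_toFinset, ← hBK, ← Set.ncard_eq_toFinset_card] at this
  exact (Nat.pow_le_pow_iff_right one_lt_two).1 (h.trans this)

/-- A two-factor involution in a large group has its factors there, given the claim for groups with more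
transpositions. -/
theorem pair_inside {B : Subgroup G} (hB : El B) (hbig : 2 ^ 10 ≤ Nat.card B)
    (ih : ∀ B' : Subgroup G, El B' → 2 ^ 10 ≤ Nat.card B' →
      {u | u ∈ D ∧ u ∈ B}.ncard < {u | u ∈ D ∧ u ∈ B'}.ncard →
      B' = Subgroup.closure {u | u ∈ D ∧ u ∈ B'})
    {e f : G} (he : e ∈ D) (hf : f ∈ D) (hef : e ≠ f) (cef : Commute e f) (hx : e * f ∈ B) : e ∈ B := by
  classical
  by_contra heB
  have hee := sq hC.tt he
  have hperm : ∀ g ∈ B, (g * e * g⁻¹ = e ∧ g * f * g⁻¹ = f) ∨ (g * e * g⁻¹ = f ∧ g * f * g⁻¹ = e) := by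
    intro g hg
    refine pair_unique hC.tt hC.tf he hf (conj_mem hC.tt g he) (conj_mem hC.tt g hf) hef cef
      ((Commute.conj_iff g).2 cef) ?_
    rw [show g * e * g⁻¹ * (g * f * g⁻¹) = g * (e * f) * g⁻¹ by group, (hB.1 g hg _ hx).eq,
      mul_inv_cancel_right]
  set B₀ := B ⊓ Subgroup.centralizer ({e} : Set G) with hB₀
  have hB0 : El B₀ := hB.mono inf_le_left
  have hc0 : ∀ b ∈ B₀, Commute b e := fun b hb =>
    Subgroup.mem_centralizer_singleton_iff.1 (Subgroup.mem_inf.1 hb).2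
  have hn0 : e ∉ B₀ := fun h => heB (Subgroup.mem_inf.1 h).1
  set B' := adjoin B₀ hB0 e hee hc0 with hB'
  have hcard' : Nat.card B' = 2 * Nat.card B₀ := card_adjoin hB0 hee hc0 hn0
  have hle : Nat.card B ≤ 2 * Nat.card B₀ := by
    have := (card_ge_index_of_orbit (u := e) (s := {e, f}) fun g hg => by
      rcases hperm g hg with ⟨h, -⟩ | ⟨h, -⟩ <;> simp [h]).1
    rwa [Set.ncard_pair hef] at this
  have hdB : ∀ d, d ∈ D → d ∈ B → Commute d e := fun d hd hdB =>
    ((ThreeTransp.centralize_two hC.tt.1 he hf hd hef cef).1 (hB.1 d hdB _ hx)).1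
  have hsub : {u | u ∈ D ∧ u ∈ B} ⊆ {u | u ∈ D ∧ u ∈ B'} := fun d hd =>
    ⟨hd.1, le_adjoin hB0 hee hc0 (Subgroup.mem_inf.2
      ⟨hd.2, Subgroup.mem_centralizer_singleton_iff.2 (hdB d hd.1 hd.2).eq⟩)⟩
  have heB' : e ∈ B' := mem_adjoin_self hB0 hee hc0
  have hspan := ih B' (el_adjoin hB0 hee hc0) (by omega) (Set.ncard_lt_ncard ⟨hsub, fun h =>
    heB (h (⟨he, heB'⟩ : e ∈ {u | u ∈ D ∧ u ∈ B'})).2⟩ (Set.toFinite _))
  set K := {u | u ∈ D ∧ u ∈ B'} with hK
  have hKc : Clique D K := ⟨fun u hu => hu.1, fun u hu v hv => (el_adjoin hB0 hee hc0).1 u hu.2 v hv.2⟩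
  obtain ⟨hB'card, hK10⟩ := big_clique_card hC hKc hspan (by omega)
  have hKmax : MaxClique D K := by
    obtain ⟨M, hKM, hM⟩ := hKc.extend
    refine ⟨hKc, fun y hy hc => ⟨hy, ?_⟩⟩
    have hy1 : Clique D (insert y K) := by
      refine ⟨Set.insert_subset hy hKc.1, ?_⟩
      rintro u (rfl | hu) v (rfl | hv)
      · exact Commute.refl _
      · exact hc v hv
      · exact (hc u hu).symm
      · exact hKc.2 u hu v hv
    have h1 : B' ≤ Subgroup.closure (insert y K) := hspan.le.trans (Subgroup.closure_mono (Set.subset_insert _ _))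
    have h2 : B' = Subgroup.closure (insert y K) :=
      Subgroup.eq_of_le_of_card_ge h1 (by rw [hB'card]; exact card_closure_le hC hy1)
    rw [h2]
    exact Subgroup.subset_closure (Set.mem_insert y K)
  -- an element of B exchanging e and f
  obtain ⟨g, hgB, hge⟩ : ∃ g ∈ B, g * e * g⁻¹ ≠ e := by
    by_contra h
    push Not at h
    have hBe : B ≤ B₀ := fun g hg => Subgroup.mem_inf.2
      ⟨hg, Subgroup.mem_centralizer_singleton_iff.2 (mul_inv_eq_iff_eq_mul.1 (h g hg))⟩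
    have := Subgroup.card_le_of_le hBe
    omega
  obtain ⟨g1, g2⟩ : g * e * g⁻¹ = f ∧ g * f * g⁻¹ = e := (hperm g hgB).resolve_left fun h => hge h.1
  have hfix : ∀ k ∈ K, k ≠ e → k ≠ f → g * k * g⁻¹ = k := by
    intro k hk hke hkf
    rcases hk.2 with h | h
    · rw [(hB.1 g hgB k (Subgroup.mem_inf.1 h).1).eq, mul_inv_cancel_right]
    · exfalso
      have e1' : g * k * g⁻¹ * f = k * e := by
        rw [← g1, show g * k * g⁻¹ * (g * e * g⁻¹) = g * (k * e) * g⁻¹ by group,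
          (hB.1 g hgB _ (Subgroup.mem_inf.1 h).1).eq, mul_inv_cancel_right]
      have cke : Commute k e := hKc.2 k hk e ⟨he, heB'⟩
      have ckf : Commute (g * k * g⁻¹) f := by rw [← g1]; exact (Commute.conj_iff g).2 cke
      rcases pair_unique hC.tt hC.tf hk.1 he (conj_mem hC.tt g hk.1) hf hke cke ckf e1'.symm with
        ⟨-, h'⟩ | ⟨-, h'⟩
      · exact hef h'.symm
      · exact hkf h'.symm
  have hfK : f ∈ K := by
    refine ⟨hf, ?_⟩
    have hx0 : e * f ∈ B₀ := Subgroup.mem_inf.2 ⟨hx, Subgroup.mem_centralizer_singleton_iff.2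
      (((Commute.refl e).mul_right cef).symm).eq⟩
    have := mul_mem heB' (le_adjoin hB0 hee hc0 hx0)
    rwa [← mul_assoc, hee, one_mul] at this
  have heK : e ∈ K := ⟨he, heB'⟩
  obtain ⟨k, hk, hke, hkf⟩ : ∃ k ∈ K, k ≠ e ∧ k ≠ f := by
    by_contra h
    push Not at h
    have : K ⊆ {e, f} := fun k hk => (em (k = e)).elim Or.inl fun hne => Or.inr (h k hk hne)
    have := Set.ncard_le_ncard this (Set.toFinite _)
    rw [Set.ncard_pair hef] at this
    omega
  have hcK : ∀ u ∈ K, ∀ v ∈ K, Commute u v := hKc.2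
  obtain ⟨p₁, q₁, r₁, -, -, -, -, -, -, -, -, -, -, -, -, huniq₁⟩ :=
    hexad hC he hf hk.1 ⟨hef, hke.symm, hkf.symm⟩ cef (hcK e heK k hk) (hcK f hfK k hk)
  obtain ⟨l, hl, hlne⟩ : ∃ l ∈ K, l ∉ ({e, f, k, p₁, q₁, r₁} : Set G) := by
    by_contra h
    push Not at h
    have := Set.ncard_le_ncard (s := K) (t := ({e, f, k, p₁, q₁, r₁} : Set G)) h (Set.toFinite _)
    have h6 : ({e, f, k, p₁, q₁, r₁} : Set G).ncard ≤ 6 := by
      refine (Set.ncard_insert_le _ _).trans (Nat.succ_le_succ ?_)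
      refine (Set.ncard_insert_le _ _).trans (Nat.succ_le_succ ?_)
      refine (Set.ncard_insert_le _ _).trans (Nat.succ_le_succ ?_)
      refine (Set.ncard_insert_le _ _).trans (Nat.succ_le_succ ?_)
      exact (Set.ncard_insert_le _ _).trans (Nat.succ_le_succ (by simp))
    omega
  simp only [Set.mem_insert_iff, Set.mem_singleton_iff, not_or] at hlne
  obtain ⟨hle', hlf, hlk, hlp, hlq, hlr⟩ := hlne
  obtain ⟨p, q, r, hp, hq, hr, hne, cpq, cpr, cqr, hpn, hqn, hrn, hprod, hcen, -⟩ :=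
    hexad hC he hk.1 hl.1 ⟨hke.symm, Ne.symm hle', Ne.symm hlk⟩ (hcK e heK k hk) (hcK e heK l hl) (hcK k hk l hl)
  have hinK : ∀ u ∈ ({p, q, r} : Set G), u ∈ K := by
    intro u hu
    have huD : u ∈ D := by
      simp only [Set.mem_insert_iff, Set.mem_singleton_iff] at hu
      rcases hu with rfl | rfl | rfl <;> assumption
    refine hKmax.2 u huD fun y hy => ?_
    have cy : Commute y (e * k * l) := ((hcK y hy e heK).mul_right (hcK y hy k hk)).mul_right (hcK y hy l hl)
    rw [hprod] at cy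
    obtain ⟨c1, c2, c3⟩ :=
      (ThreeTransp.centralize_three hC.tt.1 hp hq hr hy.1 hne.1 hne.2.1 hne.2.2 cpq cpr cqr).1 cy
    simp only [Set.mem_insert_iff, Set.mem_singleton_iff] at hu
    rcases hu with rfl | rfl | rfl
    · exact c1.symm
    · exact c2.symm
    · exact c3.symm
  -- f is not in the partner triple
  have hfn : ∀ u ∈ ({p, q, r} : Set G), u ≠ f := by
    intro u hu hufeq
    subst hufeq
    obtain ⟨s, t, hs, ht, hstK, hst, hul, hps⟩ : ∃ s t, s ∈ D ∧ t ∈ D ∧ (s ∈ K ∧ t ∈ K) ∧ s ≠ t ∧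
        (s ≠ l ∧ t ≠ l) ∧ e * k * l = u * (s * t) := by
      simp only [Set.mem_insert_iff, Set.mem_singleton_iff] at hu
      rcases hu with rfl | rfl | rfl
      · exact ⟨q, r, hq, hr, ⟨hinK q (by simp), hinK r (by simp)⟩, hne.2.2, ⟨hqn.2.2, hrn.2.2⟩,
          by rw [hprod, mul_assoc]⟩
      · exact ⟨p, r, hp, hr, ⟨hinK p (by simp), hinK r (by simp)⟩, hne.2.1, ⟨hpn.2.2, hrn.2.2⟩,
          by rw [hprod, cpq.eq, mul_assoc]⟩
      · exact ⟨p, q, hp, hq, ⟨hinK p (by simp), hinK q (by simp)⟩, hne.1, ⟨hpn.2.2, hqn.2.2⟩,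
          by rw [hprod, (cpr.mul_left cqr).eq]⟩
    -- e u k = l s t
    have cls := hcK l hl s hstK.1
    have clt := hcK l hl t hstK.2
    have cst := hcK s hstK.1 t hstK.2
    have e2 : l * s * t = e * u * k := by
      have h1 : s * t = u * (e * k * l) := by rw [hps, ← mul_assoc, sq hC.tt hf, one_mul]
      rw [mul_assoc, h1]
      rw [← (((hcK u hfK e heK).mul_right (hcK u hfK k hk)).mul_right (hcK u hfK l hl)).symm.eq,
        (hcK l hl u hfK |> fun h => (((hcK l hl e heK).mul_right (hcK l hl k hk)).mul_right (Commute.refl l)).mul_right h).eq,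
        show e * k * l * u * l = e * k * (l * u) * l by group, (hcK l hl u hfK).eq,
        show e * k * (u * l) * l = e * k * u * (l * l) by group, sq hC.tt hl.1, mul_one,
        mul_assoc e k u, (hcK k hk u hfK).eq, ← mul_assoc]
    rcases huniq₁ l s t hl.1 hs ht ⟨hul.1.symm, hul.2.symm, hst⟩ cls clt cst e2 with h | h
    · rcases (h l).1 (Or.inl rfl) with h' | h' | h'
      · exact hle' h'
      · exact hlf h'
      · exact hlk h'
    · rcases (h l).1 (Or.inl rfl) with h' | h' | h'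
      · exact hlp h'
      · exact hlq h'
      · exact hlr h'
  have gp := hfix p (hinK p (by simp)) hpn.1 (hfn p (by simp))
  have gq := hfix q (hinK q (by simp)) hqn.1 (hfn q (by simp))
  have gr := hfix r (hinK r (by simp)) hrn.1 (hfn r (by simp))
  have gk := hfix k hk hke hkf
  have gl := hfix l hl hle' hlf
  refine hge ?_
  have e3 : e = p * q * r * l⁻¹ * k⁻¹ := by rw [← hprod]; group
  calc g * e * g⁻¹ = g * (p * q * r * l⁻¹ * k⁻¹) * g⁻¹ := by rw [← e3]
    _ = g * p * g⁻¹ * (g * q * g⁻¹) * (g * r * g⁻¹) * (g * l * g⁻¹)⁻¹ * (g * k * g⁻¹)⁻¹ := by group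
    _ = p * q * r * l⁻¹ * k⁻¹ := by rw [gp, gq, gr, gl, gk]
    _ = e := e3.symm

/-- A large elementary abelian 2-group is spanned by its transpositions. -/
theorem eq_closure_of_big (hcore : Core22 G D) : ∀ (n : ℕ) (B : Subgroup G), El B → 2 ^ 10 ≤ Nat.card B →
    22 ≤ {u | u ∈ D ∧ u ∈ B}.ncard + n → B = Subgroup.closure {u | u ∈ D ∧ u ∈ B} := by
  classical
  intro n
  induction n using Nat.strong_induction_on with
  | _ n ihn =>
  intro B hB hbig hn
  have ih : ∀ B' : Subgroup G, El B' → 2 ^ 10 ≤ Nat.card B' →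
      {u | u ∈ D ∧ u ∈ B}.ncard < {u | u ∈ D ∧ u ∈ B'}.ncard →
      B' = Subgroup.closure {u | u ∈ D ∧ u ∈ B'} := by
    intro B' hB' hbig' hlt
    obtain ⟨d0, hd0, -⟩ := hcore.2
    have := clique_ncard_le hC hd0 (K := {u | u ∈ D ∧ u ∈ B'})
      ⟨fun u hu => hu.1, fun u hu v hv => hB'.1 u hu.2 v hv.2⟩
    exact ihn (22 - {u | u ∈ D ∧ u ∈ B'}.ncard) (by omega) B' hB' hbig' (by omega)
  set S := Subgroup.closure {u | u ∈ D ∧ u ∈ B} with hS
  have hSB : S ≤ B := (Subgroup.closure_le _).2 fun u hu => hu.2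
  refine le_antisymm (fun x hxB => ?_) hSB
  by_contra hxS
  have htwo : ∀ u v, u ∈ D → v ∈ D → u ≠ v → Commute u v → u * v ∈ B → u ∈ B :=
    fun u v hu hv huv cuv h => pair_inside hC hB hbig ih hu hv huv cuv h
  obtain ⟨m, h1, h3, hm⟩ := involution_isProd hC hcore (hB.2 x hxB) fun e => hxS (e ▸ one_mem S)
  interval_cases m
  · exact hxS (Subgroup.subset_closure ⟨(isProd_one hC).1 hm, hxB⟩)
  · obtain ⟨e, f, he, hf, hef, cef, rfl⟩ := isProd_two hC hm
    have h := htwo e f he hf hef cef hxB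
    refine hxS (mul_mem (Subgroup.subset_closure ⟨he, h⟩) (Subgroup.subset_closure ⟨hf, ?_⟩))
    exact (Subgroup.mul_mem_cancel_left B h).1 hxB
  obtain ⟨a, b, c, ha, hb, hc, hne, hab, hac, hbc, rfl⟩ := isProd_three hC hm
  obtain ⟨p, q, r, hp, hq, hr, hne', cpq, cpr, cqr, hpn, hqn, hrn, hprod, hcen, huniq⟩ :=
    hexad hC ha hb hc hne hab hac hbc
  have cp := hcen p (by simp)
  have cq := hcen q (by simp)
  have cr := hcen r (by simp)
  -- no member of the hexad lies in B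
  have hrest : ∀ u v w, u ∈ D → v ∈ D → w ∈ D → v ≠ w → Commute v w → u * (v * w) = a * b * c → u ∉ B := by
    intro u v w hu hv hw hvw cvw e huB
    have hvwB : v * w ∈ B := by
      have := mul_mem (inv_mem huB) hxB
      rwa [← e, inv_mul_cancel_left] at this
    have hvB := htwo v w hv hw hvw cvw hvwB
    refine hxS ?_
    rw [← e]
    exact mul_mem (Subgroup.subset_closure ⟨hu, huB⟩) (mul_mem (Subgroup.subset_closure ⟨hv, hvB⟩)
      (Subgroup.subset_closure ⟨hw, (Subgroup.mul_mem_cancel_left B hvB).1 hvwB⟩))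
  have naB : a ∉ B := hrest a b c ha hb hc hne.2.2 hbc (mul_assoc _ _ _).symm
  have nbB : b ∉ B := hrest b a c hb ha hc hne.2.1 hac (by rw [hab.eq, mul_assoc])
  have ncB : c ∉ B := hrest c a b hc ha hb hne.1 hab (hac.mul_left hbc).eq.symm
  have npB : p ∉ B := hrest p q r hp hq hr hne'.2.2 cqr (by rw [hprod, mul_assoc])
  have nqB : q ∉ B := hrest q p r hq hp hr hne'.2.1 cpr (by rw [hprod, cpq.eq, mul_assoc])
  have nrB : r ∉ B := hrest r p q hr hp hq hne'.1 cpq (by rw [hprod]; exact (cpr.mul_left cqr).eq.symm)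
  have npair : ∀ {u v}, u ∈ D → v ∈ D → u ≠ v → Commute u v → u ∉ B → u * v ∉ B :=
    fun hu hv huv cuv hnu h => hnu (htwo _ _ hu hv huv cuv h)
  -- B permutes the six
  have himg : ∀ g ∈ B, (∀ t, (t = g * a * g⁻¹ ∨ t = g * b * g⁻¹ ∨ t = g * c * g⁻¹) ↔ (t = a ∨ t = b ∨ t = c)) ∨
      (∀ t, (t = g * a * g⁻¹ ∨ t = g * b * g⁻¹ ∨ t = g * c * g⁻¹) ↔ (t = p ∨ t = q ∨ t = r)) := by
    intro g hg
    have hn' : ∀ {u v : G}, u ≠ v → g * u * g⁻¹ ≠ g * v * g⁻¹ := fun h e => h (mul_left_cancel (mul_right_cancel e))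
    refine huniq _ _ _ (conj_mem hC.tt g ha) (conj_mem hC.tt g hb) (conj_mem hC.tt g hc)
      ⟨hn' hne.1, hn' hne.2.1, hn' hne.2.2⟩ ((Commute.conj_iff g).2 hab) ((Commute.conj_iff g).2 hac)
      ((Commute.conj_iff g).2 hbc) ?_
    rw [show g * a * g⁻¹ * (g * b * g⁻¹) * (g * c * g⁻¹) = g * (a * b * c) * g⁻¹ by group, (hB.1 g hg _ hxB).eq,
      mul_inv_cancel_right]
  set B₁ := B ⊓ Subgroup.centralizer ({a} : Set G) with hB₁
  have hB1 : El B₁ := hB.mono inf_le_left
  obtain ⟨k, hk, hk6⟩ := (card_ge_index_of_orbit (B := B) (u := a) (s := {a, b, c, p, q, r}) fun g hg => by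
    rcases himg g hg with h | h
    · rcases (h _).1 (Or.inl rfl) with e | e | e <;> simp [e]
    · rcases (h _).1 (Or.inl rfl) with e | e | e <;> simp [e]).2
  have h6 : ({a, b, c, p, q, r} : Set G).ncard ≤ 6 := by
    refine (Set.ncard_insert_le _ _).trans (Nat.succ_le_succ ?_)
    refine (Set.ncard_insert_le _ _).trans (Nat.succ_le_succ ?_)
    refine (Set.ncard_insert_le _ _).trans (Nat.succ_le_succ ?_)
    refine (Set.ncard_insert_le _ _).trans (Nat.succ_le_succ ?_)
    exact (Set.ncard_insert_le _ _).trans (Nat.succ_le_succ (by simp))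
  have hB1card : Nat.card B ≤ 4 * Nat.card B₁ := by
    obtain ⟨i, hi⟩ := hB.card_two_pow
    obtain ⟨j, hj⟩ := hB1.card_two_pow
    have hdvd : k ∣ 2 ^ i := ⟨2 ^ j, by rw [← hi, hk, hj]⟩
    obtain ⟨s, -, rfl⟩ := (Nat.dvd_prime_pow Nat.prime_two).1 hdvd
    have hs : s ≤ 2 := by
      by_contra hs'
      have := Nat.pow_le_pow_right two_pos (show 3 ≤ s by omega)
      omega
    rw [hk]
    exact Nat.mul_le_mul_right _ ((Nat.pow_le_pow_right two_pos hs).trans le_rfl)
  have hfix1 : ∀ g ∈ B₁, g * a * g⁻¹ = a := fun g hg =>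
    mul_inv_eq_iff_eq_mul.2 (Subgroup.mem_centralizer_singleton_iff.1 (Subgroup.mem_inf.1 hg).2)
  set B₀ := B₁ ⊓ Subgroup.centralizer ({b} : Set G) with hB₀
  have hB0 : El B₀ := hB1.mono inf_le_left
  have hbimg : ∀ g ∈ B₁, g * b * g⁻¹ ∈ ({b, c} : Set G) := by
    intro g hg
    have hga := hfix1 g hg
    have hgb : g * b * g⁻¹ ≠ a := fun e => hne.1 (mul_left_cancel (mul_right_cancel (hga.trans e.symm)))
    rcases himg g (Subgroup.mem_inf.1 hg).1 with h | h
    · rcases (h _).1 (Or.inr (Or.inl rfl)) with e | e | e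
      · exact absurd e hgb
      · simp [e]
      · simp [e]
    · rcases (h a).1 (Or.inl hga.symm) with e | e | e
      · exact absurd e.symm hpn.1
      · exact absurd e.symm hqn.1
      · exact absurd e.symm hrn.1
  have hB0card : Nat.card B₁ ≤ 2 * Nat.card B₀ := by
    have := (card_ge_index_of_orbit (u := b) hbimg).1
    rwa [Set.ncard_pair hne.2.2] at this
  have hfix0 : ∀ g ∈ B₀, g * a * g⁻¹ = a ∧ g * b * g⁻¹ = b ∧ g * c * g⁻¹ = c := by
    intro g hg
    have hga := hfix1 g (Subgroup.mem_inf.1 hg).1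
    have hgb : g * b * g⁻¹ = b :=
      mul_inv_eq_iff_eq_mul.2 (Subgroup.mem_centralizer_singleton_iff.1 (Subgroup.mem_inf.1 hg).2)
    refine ⟨hga, hgb, ?_⟩
    have hgx : g * (a * b * c) * g⁻¹ = a * b * c :=
      mul_inv_eq_iff_eq_mul.2 (hB.1 g (Subgroup.mem_inf.1 (Subgroup.mem_inf.1 hg).1).1 _ hxB).eq
    rw [show g * (a * b * c) * g⁻¹ = g * a * g⁻¹ * (g * b * g⁻¹) * (g * c * g⁻¹) by group, hga, hgb] at hgx
    exact mul_left_cancel hgx
  -- an element fixing a, b, c fixes their partners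
  have hfixp : ∀ g ∈ B₀, g * p * g⁻¹ = p ∧ g * q * g⁻¹ = q := by
    intro g hg
    obtain ⟨ga, gb, gc⟩ := hfix0 g hg
    have hgg : g * g = 1 := hB0.2 g hg
    have hn' : ∀ {u v : G}, u ≠ v → g * u * g⁻¹ ≠ g * v * g⁻¹ := fun h e => h (mul_left_cancel (mul_right_cancel e))
    have hinv' : ∀ {u v : G}, g * u * g⁻¹ = v → g * v * g⁻¹ = u := fun {u v} e => by
      rw [← e, show g * (g * u * g⁻¹) * g⁻¹ = g * g * u * (g * g)⁻¹ by group, hgg]; group
    have hmove : ∀ t, (t = g * p * g⁻¹ ∨ t = g * q * g⁻¹ ∨ t = g * r * g⁻¹) ↔ (t = p ∨ t = q ∨ t = r) := by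
      refine (huniq _ _ _ (conj_mem hC.tt g hp) (conj_mem hC.tt g hq) (conj_mem hC.tt g hr)
        ⟨hn' hne'.1, hn' hne'.2.1, hn' hne'.2.2⟩ ((Commute.conj_iff g).2 cpq) ((Commute.conj_iff g).2 cpr)
        ((Commute.conj_iff g).2 cqr) ?_).resolve_left fun h => ?_
      · rw [show g * p * g⁻¹ * (g * q * g⁻¹) * (g * r * g⁻¹) = g * (p * q * r) * g⁻¹ by group, ← hprod,
          show g * (a * b * c) * g⁻¹ = g * a * g⁻¹ * (g * b * g⁻¹) * (g * c * g⁻¹) by group, ga, gb, gc]
      · rcases (h _).1 (Or.inl rfl) with e | e | e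
        · exact hn' hpn.1 (e.trans ga.symm)
        · exact hn' hpn.2.1 (e.trans gb.symm)
        · exact hn' hpn.2.2 (e.trans gc.symm)
    have rig : ∀ u v w, u ∈ D → v ∈ D → w ∈ D → u ≠ v ∧ u ≠ w ∧ v ≠ w → u ≠ a ∧ u ≠ b ∧ u ≠ c →
        Commute u v → Commute u w → Commute v w → u * v * w = a * b * c → g * u * g⁻¹ = u → g * v * g⁻¹ = v :=
      fun u v w hu hv hw h1 h2 c1 c2 c3 e gu =>
        hex_rigid hC ha hb hc hu hv hw hne h1 h2 hab hac hbc c1 c2 c3 e ga gb gc gu
    rcases (hmove _).1 (Or.inl rfl) with e | e | e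
    · exact ⟨e, rig p q r hp hq hr hne' hpn cpq cpr cqr hprod.symm e⟩
    · have gr : g * r * g⁻¹ = r := by
        rcases (hmove _).1 (Or.inr (Or.inr rfl)) with e' | e' | e'
        · exact absurd (mul_left_cancel (mul_right_cancel ((hinv' e).trans e'.symm))) hne'.2.2
        · exact absurd (mul_left_cancel (mul_right_cancel (e.trans e'.symm))) hne'.2.1
        · exact e'
      have gp := rig r p q hr hp hq ⟨hne'.2.1.symm, hne'.2.2.symm, hne'.1⟩ hrn cpr.symm cqr.symm cpq
        (by rw [hprod, (cpr.mul_left cqr).eq, mul_assoc]) gr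
      exact absurd (gp.symm.trans e) hne'.1
    · have gq : g * q * g⁻¹ = q := by
        rcases (hmove _).1 (Or.inr (Or.inl rfl)) with e' | e' | e'
        · exact absurd (mul_left_cancel (mul_right_cancel ((hinv' e).trans e'.symm))) hne'.2.2.symm
        · exact e'
        · exact absurd (mul_left_cancel (mul_right_cancel (e.trans e'.symm))) hne'.1
      have gp := rig q p r hq hp hr ⟨hne'.1.symm, hne'.2.2, hne'.2.1⟩ hqn cpq.symm cqr cpr
        (by rw [hprod, cpq.eq]) gq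
      exact absurd (gp.symm.trans e) hne'.2.1
  -- adjoin a, b, p, q
  have hcm : ∀ {u : G}, (∀ g ∈ B₀, g * u * g⁻¹ = u) → ∀ g ∈ B₀, Commute g u :=
    fun h g hg => mul_inv_eq_iff_eq_mul.1 (h g hg)
  have hab' : ∀ {B₂ : Subgroup G} {hB2 : El B₂} {u z : G} {hz : z * z = 1} {hcz : ∀ g ∈ B₂, Commute g z},
      (∀ g ∈ B₂, Commute g u) → Commute z u → ∀ g ∈ adjoin B₂ hB2 z hz hcz, Commute g u := by
    intro B₂ hB2 u z hz hcz h hzu g hg
    rcases hg with hg | hg
    · exact h g hg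
    · have e : g = g * z * z := by rw [mul_assoc, hz, mul_one]
      rw [e]
      exact (h _ hg).mul_left hzu
  have ia := sq hC.tt ha
  have ib := sq hC.tt hb
  have ip := sq hC.tt hp
  have iq := sq hC.tt hq
  have c0a := hcm fun g hg => (hfix0 g hg).1
  have c0b := hcm fun g hg => (hfix0 g hg).2.1
  have c0p := hcm fun g hg => (hfixp g hg).1
  have c0q := hcm fun g hg => (hfixp g hg).2
  set A1 := adjoin B₀ hB0 a ia c0a with hA1
  have e1' : El A1 := el_adjoin hB0 ia c0a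
  have c1b : ∀ g ∈ A1, Commute g b := hab' c0b hab
  have c1p : ∀ g ∈ A1, Commute g p := hab' c0p cp.1.symm
  have c1q : ∀ g ∈ A1, Commute g q := hab' c0q cq.1.symm
  set A2 := adjoin A1 e1' b ib c1b with hA2
  have e2' : El A2 := el_adjoin e1' ib c1b
  have c2p : ∀ g ∈ A2, Commute g p := hab' c1p cp.2.1.symm
  have c2q : ∀ g ∈ A2, Commute g q := hab' c1q cq.2.1.symm
  set A3 := adjoin A2 e2' p ip c2p with hA3
  have e3' : El A3 := el_adjoin e2' ip c2p
  have c3q : ∀ g ∈ A3, Commute g q := hab' c2q cpq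
  set A4 := adjoin A3 e3' q iq c3q with hA4
  have h0B : ∀ {y}, y ∈ B₀ → y ∈ B := fun hy => (Subgroup.mem_inf.1 (Subgroup.mem_inf.1 hy).1).1
  have h2B : ∀ {y}, y ∈ A2 → y ∈ B ∨ y * a ∈ B ∨ y * b ∈ B ∨ y * b * a ∈ B := by
    rintro y ((h | h) | (h | h))
    · exact Or.inl (h0B h)
    · exact Or.inr (Or.inl (h0B h))
    · exact Or.inr (Or.inr (Or.inl (h0B h)))
    · exact Or.inr (Or.inr (Or.inr (h0B h)))
  -- each step doubles
  have n1 : a ∉ B₀ := fun h => naB (h0B h)
  have n2 : b ∉ A1 := by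
    rintro (h | h)
    · exact nbB (h0B h)
    · exact npair hb ha hne.1.symm hab.symm nbB (h0B h)
  have hnotA2 : ∀ {u}, u ∈ D → u ∉ B → u ≠ a ∧ u ≠ b ∧ u ≠ c → Commute u a ∧ Commute u b ∧ Commute u c →
      u ∉ A2 := by
    intro u hu huB hun hcu h
    rcases h2B h with h | h | h | h
    · exact huB h
    · exact npair hu ha hun.1 hcu.1 huB h
    · exact npair hu hb hun.2.1 hcu.2.1 huB h
    · refine npair hu hc hun.2.2 hcu.2.2 huB ?_
      have := mul_mem h hxB
      rwa [show u * b * a * (a * b * c) = u * (b * (a * a) * b) * c by group, ia, mul_one, ib, mul_one] at this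
  have n3 : p ∉ A2 := hnotA2 hp npB hpn cp
  have n4 : q ∉ A3 := by
    rintro (h | h)
    · exact hnotA2 hq nqB hqn cq h
    · -- then q * p = r * x
      have hqp : q * p = r * (a * b * c) := by
        rw [hprod, ← mul_assoc, ← mul_assoc, show r * p * q * r = r * (p * q) * r by group,
          ← (cpr.mul_left cqr).eq, mul_assoc (p * q) r r, sq hC.tt hr, mul_one, cpq.eq]
      have hshift : ∀ w, q * p * w ∈ B → r * w ∈ B := by
        intro w hw
        have hxw : Commute (a * b * c) (r * (a * b * c) * w) := hB.1 _ hxB _ (hqp ▸ hw)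
        have := mul_mem hw hxB
        rw [hqp, ← hxw.eq] at this
        rwa [show a * b * c * (r * (a * b * c) * w) = a * b * c * r * (a * b * c) * w by group,
          ← ((cr.1.mul_right cr.2.1).mul_right cr.2.2).eq, mul_assoc r (a * b * c) (a * b * c),
          hB.2 _ hxB, mul_one] at this
      rcases h2B h with h | h | h | h
      · exact nrB (by simpa using hshift 1 (by simpa using h))
      · exact npair hr ha hrn.1 cr.1 nrB (hshift a h)
      · exact npair hr hb hrn.2.1 cr.2.1 nrB (hshift b h)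
      · refine npair hr hc hrn.2.2 cr.2.2 nrB ?_
        have := mul_mem (hshift (b * a) (by rwa [← mul_assoc])) hxB
        rwa [show r * (b * a) * (a * b * c) = r * (b * (a * a) * b) * c by group, ia, mul_one, ib, mul_one] at this
  have k1 := card_adjoin hB0 ia c0a n1
  have k2 := card_adjoin e1' ib c1b n2
  have k3 := card_adjoin e2' ip c2p n3
  have k4 := card_adjoin e3' iq c3q n4
  rw [← hA1] at k1; rw [← hA2] at k2; rw [← hA3] at k3; rw [← hA4] at k4
  have hup : B₀ ≤ A4 := ((le_adjoin hB0 ia c0a).trans (le_adjoin e1' ib c1b)).trans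
    ((le_adjoin e2' ip c2p).trans (le_adjoin e3' iq c3q))
  have hA4el : El A4 := el_adjoin e3' iq c3q
  have haA : a ∈ A4 := le_adjoin e3' iq c3q (le_adjoin e2' ip c2p (le_adjoin e1' ib c1b (mem_adjoin_self hB0 ia c0a)))
  have hsub : {u | u ∈ D ∧ u ∈ B} ⊆ {u | u ∈ D ∧ u ∈ A4} := by
    rintro d ⟨hd, hdB⟩
    obtain ⟨d1, d2, -⟩ :=
      (ThreeTransp.centralize_three hC.tt.1 ha hb hc hd hne.1 hne.2.1 hne.2.2 hab hac hbc).1 (hB.1 d hdB _ hxB)
    exact ⟨hd, hup (Subgroup.mem_inf.2 ⟨Subgroup.mem_inf.2 ⟨hdB, Subgroup.mem_centralizer_singleton_iff.2 d1.eq⟩,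
      Subgroup.mem_centralizer_singleton_iff.2 d2.eq⟩)⟩
  have hspan := ih A4 hA4el (by omega) (Set.ncard_lt_ncard ⟨hsub, fun h =>
    naB (h (⟨ha, haA⟩ : a ∈ {u | u ∈ D ∧ u ∈ A4})).2⟩ (Set.toFinite _))
  have := big_clique_card hC (K := {u | u ∈ D ∧ u ∈ A4})
    ⟨fun u hu => hu.1, fun u hu v hv => hA4el.1 u hu.2 v hv.2⟩ hspan (by omega)
  omega

end Cfsg.Agent.TT95
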