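import Mathlib

/-!
Double counting in a graph of valency twelve whose edges lie in five-point lines: an involution whose
moved points are collinear with their images and whose fixed points meet each line in three.
-/

set_option autoImplicit false

namespace Cfsg.Agent.TT95

open Finset

theorem card_common_moved {V : Type*} [DecidableEq V] (S : Finset V) (R : V → V → Prop) [DecidableRel R]
    (σ : V → V) (hsym : ∀ k ∈ S, ∀ l ∈ S, R k l → R l k) (hirr : ∀ k, ¬ R k k)
    (hmap : ∀ k ∈ S, σ k ∈ S) (hR : ∀ k ∈ S, ∀ l ∈ S, R k l → R (σ k) (σ l))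
    (hinv : ∀ k ∈ S, σ (σ k) = k) (hmoved : ∀ k ∈ S, σ k ≠ k → R k (σ k))
    (hline : ∀ k ∈ S, ∀ l ∈ S, R k l → (S.filter fun r => R k r ∧ R l r).card = 3)
    (hthree : ∀ k ∈ S, ∀ l ∈ S, R k l → (σ k = k ∨ l = σ k) →
      ((insert k (insert l (S.filter fun r => R k r ∧ R l r))).filter fun r => σ r = r).card = 3)
    (hdeg : ∀ k ∈ S, (S.filter (R k)).card = 12) :
    2 * (S.filter fun k => σ k = k).card = (S.filter fun k => ¬ σ k = k).card := by
  set F := S.filter fun k => σ k = k
  set M := S.filter fun k => ¬ σ k = k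
  have hM : ∀ m ∈ M, (F.bipartiteAbove R m).card = 3 := by
    intro m hm
    obtain ⟨hmS, hmne⟩ := mem_filter.1 hm
    have h := hthree m hmS _ (hmap m hmS) (hmoved m hmS hmne) (Or.inr rfl)
    have hσne : ¬ σ (σ m) = σ m := fun e => hmne ((hinv m hmS).symm.trans e).symm
    rw [filter_insert, if_neg hmne, filter_insert, if_neg hσne] at h
    rw [← h]
    congr 1
    ext r
    simp only [F, bipartiteAbove, mem_filter]
    constructor
    · rintro ⟨⟨hr, hfix⟩, hmr⟩
      refine ⟨⟨hr, hmr, ?_⟩, hfix⟩
      have := hR m hmS r hr hmr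
      rwa [hfix] at this
    · rintro ⟨⟨hr, hmr, -⟩, hfix⟩
      exact ⟨⟨hr, hfix⟩, hmr⟩
  have hF : ∀ k ∈ F, (M.bipartiteBelow R k).card = 6 := by
    intro k hk
    obtain ⟨hkS, hkfix⟩ := mem_filter.1 hk
    set N := S.filter (R k) with hN
    set NF := N.filter fun l => σ l = l
    set NM := N.filter fun l => ¬ σ l = l
    have hpart : NF.card + NM.card = 12 := by
      rw [← hdeg k hkS]; exact card_filter_add_card_filter_not _
    have hcount : ∀ l ∈ N, ((N.filter fun r => R l r).filter fun r => σ r = r).card =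
        if σ l = l then 1 else 2 := by
      intro l hl
      obtain ⟨hlS, hkl⟩ := mem_filter.1 hl
      have h := hthree k hkS l hlS hkl (Or.inl hkfix)
      have e : N.filter (fun r => R l r) = S.filter fun r => R k r ∧ R l r := by
        rw [hN, filter_filter]
      rw [e]
      rw [filter_insert, if_pos hkfix, card_insert_of_notMem] at h
      · by_cases hl' : σ l = l
        · rw [filter_insert, if_pos hl', card_insert_of_notMem] at h
          · rw [if_pos hl']; omega
          · simp [hirr]
        · rw [filter_insert, if_neg hl'] at h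
          rw [if_neg hl']; omega
      · simp only [mem_filter, mem_insert, not_and]
        rintro (rfl | h') -
        · exact hirr _ hkl
        · exact hirr _ h'.2.1
    have hcount' : ∀ l ∈ NF, (NM.bipartiteAbove R l).card = 2 := by
      intro l hl
      obtain ⟨hlN, hlfix⟩ := mem_filter.1 hl
      obtain ⟨hlS, hkl⟩ := mem_filter.1 hlN
      have h1 := hcount l hlN
      rw [if_pos hlfix] at h1
      have e : N.filter (fun r => R l r) = S.filter fun r => R k r ∧ R l r := by
        rw [hN, filter_filter]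
      have h2 := hline k hkS l hlS hkl
      rw [← e, ← card_filter_add_card_filter_not (fun r => σ r = r), h1] at h2
      rw [bipartiteAbove, filter_comm]
      omega
    have hcount'' : ∀ m ∈ NM, (NF.bipartiteBelow R m).card = 2 := by
      intro m hm
      obtain ⟨hmN, hmne⟩ := mem_filter.1 hm
      have h1 := hcount m hmN
      rw [if_neg hmne] at h1
      rw [← h1, bipartiteBelow, filter_comm]
      congr 1
      ext r
      simp only [mem_filter, NF, N]
      constructor
      · rintro ⟨⟨⟨hr, hkr⟩, hrm⟩, hfix⟩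
        exact ⟨⟨⟨hr, hkr⟩, hsym r hr m (mem_filter.1 hmN).1 hrm⟩, hfix⟩
      · rintro ⟨⟨⟨hr, hkr⟩, hrm⟩, hfix⟩
        exact ⟨⟨⟨hr, hkr⟩, hsym m (mem_filter.1 hmN).1 r hr hrm⟩, hfix⟩
    have heq : NF.card * 2 = NM.card * 2 := card_mul_eq_card_mul R hcount' hcount''
    have e : M.bipartiteBelow R k = NM := by
      ext r
      simp only [M, bipartiteBelow, NM, N, mem_filter]
      constructor
      · rintro ⟨⟨hr, hne⟩, hrk⟩
        exact ⟨⟨hr, hsym r hr k hkS hrk⟩, hne⟩
      · rintro ⟨⟨hr, hkr⟩, hne⟩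
        exact ⟨⟨hr, hne⟩, hsym k hkS r hr hkr⟩
    rw [e]
    omega
  have := card_mul_eq_card_mul R hM hF
  omega

theorem card_fixed_fifteen {V : Type*} [DecidableEq V] (S : Finset V) (R : V → V → Prop) [DecidableRel R]
    (σ : V → V) (h45 : S.card = 45) (hsym : ∀ k ∈ S, ∀ l ∈ S, R k l → R l k) (hirr : ∀ k, ¬ R k k)
    (hmap : ∀ k ∈ S, σ k ∈ S) (hR : ∀ k ∈ S, ∀ l ∈ S, R k l → R (σ k) (σ l))
    (hinv : ∀ k ∈ S, σ (σ k) = k) (hmoved : ∀ k ∈ S, σ k ≠ k → R k (σ k))
    (hline : ∀ k ∈ S, ∀ l ∈ S, R k l → (S.filter fun r => R k r ∧ R l r).card = 3)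
    (hthree : ∀ k ∈ S, ∀ l ∈ S, R k l → (σ k = k ∨ l = σ k) →
      ((insert k (insert l (S.filter fun r => R k r ∧ R l r))).filter fun r => σ r = r).card = 3)
    (hdeg : ∀ k ∈ S, (S.filter (R k)).card = 12) :
    (S.filter fun k => σ k = k).card = 15 := by
  have h := card_common_moved S R σ hsym hirr hmap hR hinv hmoved hline hthree hdeg
  have h2 := card_filter_add_card_filter_not (s := S) (fun k => σ k = k)
  omega

end Cfsg.Agent.TT95
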