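import Cfsg.Agent.TT95.Hexad
import Cfsg.Agent.TT95.SwapBasic
import Cfsg.Agent.TT95.U6Residue
import Cfsg.Agent.TT95.ResidueCount

/-!
Type M(22): for commuting a, b and d commuting with neither, the exchanging involution fixes exactly
fifteen of the forty-five keys, those whose fibre meets the neighbours of d in two points.
-/

set_option autoImplicit false
set_option linter.unusedSectionVars false

namespace Cfsg.Agent.TT95

open Cfsg.Agent.TT95.U6

theorem fibre_four : fibre 4 = {4, 5, 9, 13} ∧ isPt 1 = true ∧ orth 4 1 = true := by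
  decide +kernel

theorem plane123_len : plane123.length = 21 ∧ plane123.Nodup := by decide +kernel

theorem plane123_isPt : allP isPt plane123 = true := by decide +kernel

variable {G : Type*} [Group G] {D : Set G} (hC : Cfg22 D) {a b : G} (ha : a ∈ D) {γ : ℕ → G}
  (hγ : IsLocal D a γ) (hb : γ e1 = b)

include hC ha hγ hb

theorem b_mem : b ∈ nb D a := hb ▸ hγ.mem e1 base_isPt.1

theorem isR_commute {x : ℕ} (hx : isR x) : Commute (γ x) a ∧ Commute (γ x) b ∧ γ x ≠ b :=
  ⟨(hγ.mem x hx.1).2.2.symm, hb ▸ (hγ.comm x e1 hx.1 base_isPt.1).2 hx.2.1,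
    fun e => hx.2.2 (hγ.inj x e1 hx.1 base_isPt.1 (e.trans hb.symm))⟩

theorem exists_isR {z : G} (hz : z ∈ D) (hza : Commute z a) (hzb : Commute z b) (hna : z ≠ a) (hnb : z ≠ b) :
    ∃ x, isR x ∧ γ x = z := by
  obtain ⟨x, hx, rfl⟩ := hγ.surj z ⟨hz, hna, hza.symm⟩
  exact ⟨x, ⟨hx, (hγ.comm x e1 hx base_isPt.1).1 (hb ▸ hzb), fun e => hnb (e ▸ hb)⟩, rfl⟩

theorem key_eq_iff {x y : ℕ} (hx : isR x) (hy : isR y) :
    key x = key y ↔ ∀ z ∈ D, Commute z a → Commute z b → (Commute z (γ x) ↔ Commute z (γ y)) := by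
  obtain ⟨xa, xb, -⟩ := isR_commute hC ha hγ hb hx
  obtain ⟨ya, yb, -⟩ := isR_commute hC ha hγ hb hy
  constructor
  · intro e z hz hza hzb
    by_cases hna : z = a
    · subst hna; exact ⟨fun _ => ya.symm, fun _ => xa.symm⟩
    by_cases hnb : z = b
    · subst hnb; exact ⟨fun _ => yb.symm, fun _ => xb.symm⟩
    obtain ⟨t, ht, rfl⟩ := exists_isR hC ha hγ hb hz hza hzb hna hnb
    rw [hγ.comm t x ht.1 hx.1, hγ.comm t y ht.1 hy.1, orth_key_right ht.1 ht.2.1 hx,
      orth_key_right ht.1 ht.2.1 hy, e]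
  · intro h
    by_contra hne
    obtain ⟨z, hz, h1, h2⟩ := key_separated (key_mem hx) (key_mem hy) hne
    obtain ⟨hzR, -⟩ := isR_key hz
    obtain ⟨za, zb, -⟩ := isR_commute hC ha hγ hb hzR
    rw [← orth_key_right hzR.1 hzR.2.1 hx, ← hγ.comm z x hzR.1 hx.1, h _ (hγ.mem z hzR.1).1 za zb,
      hγ.comm z y hzR.1 hy.1, orth_key_right hzR.1 hzR.2.1 hy, h2] at h1
    exact Bool.false_ne_true h1

theorem orth_keys {x y : ℕ} (hx : isR x) (hy : isR y) :
    Commute (γ x) (γ y) ↔ orth (key x) (key y) = true := by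
  have hky := (isR_key (key_mem hy)).1
  rw [hγ.comm x y hx.1 hy.1, orth_key_right hx.1 hx.2.1 hy, ← hγ.comm x (key y) hx.1 hky.1]
  rw [Commute.symm_iff, hγ.comm (key y) x hky.1 hx.1, orth_key_right hky.1 hky.2.1 hx,
    ← hγ.comm (key y) (key x) hky.1 (isR_key (key_mem hx)).1.1, Commute.symm_iff,
    hγ.comm (key x) (key y) (isR_key (key_mem hx)).1.1 hky.1]

/-- The four points of a key multiply to `a * b`. -/
theorem fibre_prod {k x : ℕ} (hx : x ∈ fibre k) :
    ∃ y z w, fibre k = {x, y, z, w} ∧ x ≠ y ∧ x ≠ z ∧ x ≠ w ∧ y ≠ z ∧ y ≠ w ∧ z ≠ w ∧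
      γ x * γ y * γ z * γ w = a * b := by
  obtain ⟨hxR, rfl⟩ := fibre_spec hx
  obtain ⟨-, h, hh, e⟩ := IsLocal.exists_conj hC hγ base_isPt.2.1 (orbit_perp (mem_pts.2 hxR.1) hxR.2.1 hxR.2.2)
  obtain ⟨hha, hfix⟩ := IsLocal.fix hC hγ hh
  have hhb : h * b * h⁻¹ = b := hb ▸ hfix e1 base_isPt.1 (fun _ _ h => h)
  have hmove : ∀ p, isR p → ∃ q, isR q ∧ γ q = h * γ p * h⁻¹ := by
    intro p hp
    obtain ⟨pa, pb, pnb⟩ := isR_commute hC ha hγ hb hp
    refine exists_isR hC ha hγ hb (conj_mem hC.tt h (hγ.mem p hp.1).1) ?_ ?_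
      (fun e => (hγ.mem p hp.1).2.1 (mul_left_cancel (mul_right_cancel (e.trans hha.symm))))
      (fun e => pnb (mul_left_cancel (mul_right_cancel (e.trans hhb.symm))))
    · have := (Commute.conj_iff h).2 pa; rwa [hha] at this
    · have := (Commute.conj_iff h).2 pb; rwa [hhb] at this
  obtain ⟨hf4, p1, o41⟩ := fibre_four
  have hmem : ∀ p ∈ fibre 4, isR p := fun p hp => (fibre_spec hp).1
  obtain ⟨y, hy, ey⟩ := hmove 5 (hmem 5 (by rw [hf4]; simp))
  obtain ⟨z, hz, ez⟩ := hmove 9 (hmem 9 (by rw [hf4]; simp))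
  obtain ⟨w, hw, ew⟩ := hmove 13 (hmem 13 (by rw [hf4]; simp))
  have e4 : γ x = h * γ 4 * h⁻¹ := e.symm
  have hkey : ∀ p q, p ∈ fibre 4 → isR q → γ q = h * γ p * h⁻¹ → q ∈ fibre (key x) := by
    intro p q hp hq eq
    have hk : key q = key x := by
      rw [key_eq_iff hC ha hγ hb hq hxR]
      intro t ht hta htb
      have h4R := hmem 4 (by rw [hf4]; simp)
      have hp4 : key p = key 4 := by
        rw [(fibre_spec hp).2, (fibre_spec (show 4 ∈ fibre 4 by rw [hf4]; simp)).2]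
      have ht' := (key_eq_iff hC ha hγ hb (hmem p hp) h4R).1 hp4 (h⁻¹ * t * h)
        (by simpa using conj_mem hC.tt h⁻¹ ht)
      have ta : Commute (h⁻¹ * t * h) a := by
        rw [← Commute.conj_iff h, hha, show h * (h⁻¹ * t * h) * h⁻¹ = t by group]; exact hta
      have tb : Commute (h⁻¹ * t * h) b := by
        rw [← Commute.conj_iff h, hhb, show h * (h⁻¹ * t * h) * h⁻¹ = t by group]; exact htb
      have := ht' ta tb
      rw [← Commute.conj_iff h, ← Commute.conj_iff h (b := γ 4),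
        show h * (h⁻¹ * t * h) * h⁻¹ = t by group, ← eq, ← e4] at this
      exact this
    rw [← hk]
    exact mem_fibre hq
  have hinj : ∀ p q p' q', isR p → isR p' → γ q = h * γ p * h⁻¹ → γ q' = h * γ p' * h⁻¹ → p ≠ p' → q ≠ q' := by
    intro p q p' q' hp hp' e1' e2' hne eq
    exact hne (hγ.inj p p' hp.1 hp'.1 (mul_left_cancel (mul_right_cancel ((eq ▸ e1').symm.trans e2'))))
  have r4 := hmem 4 (by rw [hf4]; simp)
  have r5 := hmem 5 (by rw [hf4]; simp)
  have r9 := hmem 9 (by rw [hf4]; simp)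
  have r13 := hmem 13 (by rw [hf4]; simp)
  have n1 := hinj 4 x 5 y r4 r5 e4 ey (by norm_num)
  have n2 := hinj 4 x 9 z r4 r9 e4 ez (by norm_num)
  have n3 := hinj 4 x 13 w r4 r13 e4 ew (by norm_num)
  have n4 := hinj 5 y 9 z r5 r9 ey ez (by norm_num)
  have n5 := hinj 5 y 13 w r5 r13 ey ew (by norm_num)
  have n6 := hinj 9 z 13 w r9 r13 ez ew (by norm_num)
  refine ⟨y, z, w, ?_, n1, n2, n3, n4, n5, n6, ?_⟩
  · refine (Finset.eq_of_subset_of_card_le ?_ ?_).symm
    · intro t ht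
      simp only [Finset.mem_insert, Finset.mem_singleton] at ht
      rcases ht with rfl | rfl | rfl | rfl
      · exact mem_fibre hxR
      · exact hkey 5 _ (by rw [hf4]; simp) hy ey
      · exact hkey 9 _ (by rw [hf4]; simp) hz ez
      · exact hkey 13 _ (by rw [hf4]; simp) hw ew
    · rw [fibre_card (key_mem hxR)]
      simp [Finset.card_insert_of_notMem, n1, n2, n3, n4, n5, n6]
  · have hab : Commute a b := (b_mem hC ha hγ hb).2.2
    have h4 : γ 4 * γ 5 * γ 9 * γ 13 = a * b := by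
      have hl := line_prod hC ha hγ
      have hb1 : γ 1 = b := hb
      rw [hb1] at hl
      have : γ 4 * γ 5 * γ 9 * γ 13 = b⁻¹ * a :=
        eq_inv_mul_iff_mul_eq.2 (by rw [← hl]; group)
      rw [this, inv_eq hC.tt (b_mem hC ha hγ hb).1, hab.eq]
    rw [e4, ey, ez, ew, show h * γ 4 * h⁻¹ * (h * γ 5 * h⁻¹) * (h * γ 9 * h⁻¹) * (h * γ 13 * h⁻¹) =
      h * (γ 4 * γ 5 * γ 9 * γ 13) * h⁻¹ by group, h4, show h * (a * b) * h⁻¹ = (h * a * h⁻¹) * (h * b * h⁻¹) by group,
      hha, hhb]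

omit hγ hb in
/-- A member commuting with one of a maximal commuting family but not with all meets it in six. -/
theorem six_meet {g e d : G} (hb0 : b ∈ D) (hg : g ∈ D) (he : e ∈ D) (hd : d ∈ D) (hab : Commute a b)
    (hag : Commute a g) (hae : Commute a e) (hbg : Commute b g) (hbe : Commute b e) (hge : Commute g e)
    (hne : a ≠ b ∧ g ≠ a ∧ g ≠ b ∧ e ≠ a ∧ e ≠ b ∧ e ≠ g)
    (hz : ∃ z ∈ D, Commute z a ∧ Commute z b ∧ Commute z g ∧ ¬ Commute z e)
    (hdg : Commute d g) (hda : ¬ Commute d a) :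
    {x | x ∈ D ∧ Commute x a ∧ Commute x b ∧ Commute x g ∧ Commute x e ∧ Commute d x}.ncard = 6 := by
  obtain ⟨δ, hδ, g1, g2⟩ := local_two hC hg (b := a) (c := b) ⟨ha, hne.2.1.symm, hag.symm⟩
    ⟨hb0, hne.2.2.1.symm, hbg.symm⟩ hne.1.symm hab
  obtain ⟨p, hp, rfl⟩ := hδ.surj e ⟨he, hne.2.2.2.2.2, hge⟩
  have h1 : orth p e1 = true := (hδ.comm p e1 hp base_isPt.1).1 (g1.symm ▸ hae.symm)
  have h2 : orth p e2 = true := (hδ.comm p e2 hp base_isPt.2.1).1 (g2.symm ▸ hbe.symm)
  have h3 : p ∉ line12 := by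
    intro hl
    obtain ⟨z, hzD, za, zb, zg, ze⟩ := hz
    by_cases hzg : z = g
    · exact ze (hzg ▸ hge)
    obtain ⟨t, ht, rfl⟩ := hδ.surj z ⟨hzD, hzg, zg.symm⟩
    apply ze
    have t1 : orth t e1 = true := (hδ.comm t e1 ht base_isPt.1).1 (g1.symm ▸ za)
    have t2 : orth t e2 = true := (hδ.comm t e2 ht base_isPt.2.1).1 (g2.symm ▸ zb)
    have ht12 : t ∈ perp12 := by
      have := allP_iff.1 perp12_spec t (mem_pts.2 ht)
      rw [t1, t2, beq_iff_eq, eq_comm, Bool.and_self, inMask_maskOf] at this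
      exact this
    have hl' := allP_iff.1 line12_spec.1 p (mem_pts.2 hp)
    rw [h1, h2, inMask_maskOf.2 hl] at hl'
    simp only [Bool.and_self, Bool.not_true, Bool.false_or, beq_iff_eq] at hl'
    exact ((hδ.comm p t hp ht).2 (allP_iff.1 hl' t ht12)).symm
  obtain ⟨-, h, hh, hhp⟩ := IsLocal.exists_conj hC hδ base_isPt.2.2.1 (orbit_third (mem_pts.2 hp) h1 h2 h3)
  obtain ⟨hhg, hfix⟩ := IsLocal.fix hC hδ hh
  set ε : ℕ → G := fun q => h * δ q * h⁻¹ with hε
  have hεl : IsLocal D g ε := by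
    have := hδ.conjugate hC.tt h
    rwa [hhg] at this
  have k1 : ε e1 = a := (hfix e1 base_isPt.1 (fun _ _ h => ((Bool.and_eq_true _ _).mp h).1)).trans g1
  have k2 : ε e2 = b := (hfix e2 base_isPt.2.1 (fun _ _ h => ((Bool.and_eq_true _ _).mp h).2)).trans g2
  have k3 : ε e3 = δ p := hhp
  have hdne : d ≠ g := fun e => hda (e ▸ hag.symm)
  obtain ⟨q, hq, hqd⟩ := hεl.surj d ⟨hd, hdne, hdg.symm⟩
  have hplane : ∀ x, isPt x = true →
      (x ∈ plane123 ↔ Commute (ε x) a ∧ Commute (ε x) b ∧ Commute (ε x) (δ p)) := by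
    intro x hx
    have := allP_iff.1 plane123_spec.1 x (mem_pts.2 hx)
    rw [beq_iff_eq] at this
    rw [← k1, ← k2, ← k3, hεl.comm x e1 hx base_isPt.1, hεl.comm x e2 hx base_isPt.2.1,
      hεl.comm x e3 hx base_isPt.2.2.1, ← inMask_maskOf, ← this, Bool.and_eq_true, Bool.and_eq_true]
    tauto
  have hqn : q ∉ plane123 := fun hm => hda (hqd ▸ ((hplane q hq).1 hm).1)
  have hcnt := allP_iff.1 plane123_perp q (mem_pts.2 hq)
  rw [Bool.or_eq_true, inMask_maskOf] at hcnt
  have h5 := Nat.eq_of_beq_eq_true (hcnt.resolve_left hqn)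
  rw [cntP_eq, List.countP_eq_length_filter] at h5
  set X5 : Finset ℕ := (plane123.filter fun x => orth q x).toFinset with hX5
  have hc5 : X5.card = 5 := by
    rw [hX5, List.toFinset_card_of_nodup (plane123_len.2.filter _), h5]
  have hmem5 : ∀ x, x ∈ X5 ↔ x ∈ plane123 ∧ orth q x = true := fun x => by simp [hX5]
  have hset : {x | x ∈ D ∧ Commute x a ∧ Commute x b ∧ Commute x g ∧ Commute x (δ p) ∧ Commute d x} =
      insert g (ε '' (X5 : Set ℕ)) := by
    ext x
    constructor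
    · rintro ⟨hxD, xa, xb, xg, xe, xd⟩
      by_cases hxg : x = g
      · exact Or.inl hxg
      obtain ⟨t, ht, rfl⟩ := hεl.surj x ⟨hxD, hxg, xg.symm⟩
      refine Or.inr ⟨t, (hmem5 t).2 ⟨(hplane t ht).2 ⟨xa, xb, xe⟩, ?_⟩, rfl⟩
      exact (hεl.comm q t hq ht).1 (hqd.symm ▸ xd)
    · rintro (rfl | ⟨t, ht, rfl⟩)
      · exact ⟨hg, hag.symm, hbg.symm, Commute.refl _, hge, hdg⟩
      · obtain ⟨ht1, ht2⟩ := (hmem5 t).1 ht
        have htp := allP_iff.1 plane123_isPt t ht1
        obtain ⟨u1, u2, u3⟩ := (hplane t htp).1 ht1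
        exact ⟨(hεl.mem t htp).1, u1, u2, (hεl.mem t htp).2.2.symm, u3, hqd ▸ (hεl.comm q t hq htp).2 ht2⟩
  have hinj : Set.InjOn ε (X5 : Set ℕ) := fun x hx y hy e =>
    hεl.inj x y (allP_iff.1 plane123_isPt x ((hmem5 x).1 hx).1) (allP_iff.1 plane123_isPt y ((hmem5 y).1 hy).1) e
  rw [hset, Set.ncard_insert_of_notMem ?_ (X5.finite_toSet.image _), hinj.ncard_image, Set.ncard_coe_finset, hc5]
  rintro ⟨t, ht, e⟩
  exact (hεl.mem t (allP_iff.1 plane123_isPt t ((hmem5 t).1 ht).1)).2.1 e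

variable {d : G} (hd : d ∈ D) (hda : ¬ Commute d a) (hdb : ¬ Commute d b)

include hd hda hdb

/-- The exchanging involution permutes the common neighbours. -/
theorem swap_move {x : ℕ} (hx : isR x) :
    ∃ y, isR y ∧ γ y = swapEl a b d * γ x * (swapEl a b d)⁻¹ := by
  obtain ⟨hbD, hba, hab⟩ := b_mem hC ha hγ hb
  obtain ⟨xa, xb, xnb⟩ := isR_commute hC ha hγ hb hx
  have f1 := swap_conj_fst hC.tt ha hbD hd hab hba.symm hda hdb
  have f2 := swap_conj_snd hC.tt ha hbD hd hab hba.symm hda hdb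
  refine exists_isR hC ha hγ hb (conj_mem hC.tt _ (hγ.mem x hx.1).1) ?_ ?_
    (fun e => xnb (mul_left_cancel (mul_right_cancel (e.trans f2.symm))))
    (fun e => (hγ.mem x hx.1).2.1 (mul_left_cancel (mul_right_cancel (e.trans f1.symm))))
  · have := (Commute.conj_iff (swapEl a b d)).2 xb; rwa [f2] at this
  · have := (Commute.conj_iff (swapEl a b d)).2 xa; rwa [f1] at this

/-- The image of a point under the exchanging involution. -/
noncomputable def sImg (x : ℕ) : ℕ :=
  haveI := Classical.propDecidable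
  if h : isR x then (swap_move hC ha hγ hb hd hda hdb h).choose else x

theorem sImg_spec {x : ℕ} (hx : isR x) :
    isR (sImg hC ha hγ hb hd hda hdb x) ∧
      γ (sImg hC ha hγ hb hd hda hdb x) = swapEl a b d * γ x * (swapEl a b d)⁻¹ := by
  rw [sImg, dif_pos hx]
  exact (swap_move hC ha hγ hb hd hda hdb hx).choose_spec

/-- The induced map of keys. -/
noncomputable def sKey (k : ℕ) : ℕ := key (sImg hC ha hγ hb hd hda hdb k)

theorem swap_conj_twice (x : G) :
    swapEl a b d * (swapEl a b d * x * (swapEl a b d)⁻¹) * (swapEl a b d)⁻¹ = x := by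
  obtain ⟨hbD, hba, hab⟩ := b_mem hC ha hγ hb
  rw [show swapEl a b d * (swapEl a b d * x * (swapEl a b d)⁻¹) * (swapEl a b d)⁻¹ =
    (swapEl a b d * swapEl a b d) * x * (swapEl a b d * swapEl a b d)⁻¹ by group,
    swap_sq hC.tt ha hbD hd hab hba.symm hda hdb, one_mul, inv_one, mul_one]

theorem sKey_congr {x y : ℕ} (hx : isR x) (hy : isR y) (e : key x = key y) :
    key (sImg hC ha hγ hb hd hda hdb x) = key (sImg hC ha hγ hb hd hda hdb y) := by
  obtain ⟨hx', ex⟩ := sImg_spec hC ha hγ hb hd hda hdb hx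
  obtain ⟨hy', ey⟩ := sImg_spec hC ha hγ hb hd hda hdb hy
  obtain ⟨hbD, hba, hab⟩ := b_mem hC ha hγ hb
  have f1 := swap_conj_fst hC.tt ha hbD hd hab hba.symm hda hdb
  have f2 := swap_conj_snd hC.tt ha hbD hd hab hba.symm hda hdb
  rw [key_eq_iff hC ha hγ hb hx' hy', ex, ey]
  intro z hz za zb
  have c1 := (Commute.conj_iff (swapEl a b d)).2 zb
  have c2 := (Commute.conj_iff (swapEl a b d)).2 za
  rw [f2] at c1
  rw [f1] at c2
  have := (key_eq_iff hC ha hγ hb hx hy).1 e _ (conj_mem hC.tt _ hz) c1 c2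
  rw [← Commute.conj_iff (swapEl a b d), ← Commute.conj_iff (swapEl a b d) (b := γ y),
    swap_conj_twice hC ha hγ hb hd hda hdb] at this
  exact this

theorem sKey_fix_iff {k : ℕ} (hk : k ∈ keySet) :
    sKey hC ha hγ hb hd hda hdb k = k ↔ ∃ x ∈ fibre k, Commute d (γ x) := by
  obtain ⟨hbD, hba, hab⟩ := b_mem hC ha hγ hb
  obtain ⟨hkR, hkk⟩ := isR_key hk
  constructor
  · intro h
    by_contra hno
    push Not at hno
    have hkf : k ∈ fibre k := by have := mem_fibre hkR; rwa [hkk] at this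
    obtain ⟨y, z, w, hf, -, -, -, hyz, hyw, hzw, hprod⟩ := fibre_prod hC ha hγ hb hkf
    obtain ⟨hk', ek⟩ := sImg_spec hC ha hγ hb hd hda hdb hkR
    obtain ⟨ca, cb, cnb⟩ := isR_commute hC ha hγ hb hkR
    obtain ⟨hne', -, hcomm⟩ := swap_other hC.tt ha hbD hd hab hba.symm hda hdb (hγ.mem k hkR.1).1 ca cb
      (fun h => hno k hkf h.symm) (hγ.mem k hkR.1).2.1 cnb
    rw [← ek] at hne' hcomm
    have hm : sImg hC ha hγ hb hd hda hdb k ∈ fibre k := by
      have := mem_fibre hk'; rwa [show key (sImg hC ha hγ hb hd hda hdb k) = k from h] at this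
    have hR : ∀ t ∈ fibre k, isR t := fun t ht => (fibre_spec ht).1
    have hyR := hR y (by rw [hf]; simp)
    have hzR := hR z (by rw [hf]; simp)
    have hwR := hR w (by rw [hf]; simp)
    have cc : ∀ s t, s ∈ fibre k → t ∈ fibre k → Commute (γ s) (γ t) := fun s t hs ht =>
      (hγ.comm s t (hR s hs).1 (hR t ht).1).2 (fibre_orth hs ht)
    -- a * b * γ k * γ (one other) is the product of the remaining two
    have key' : ∀ u v r, u ∈ fibre k → v ∈ fibre k → r ∈ fibre k →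
        γ k * γ r * γ u * γ v = a * b → Commute d (a * b * γ k * γ r) → u ≠ v → False := by
      intro u v r hu hv hr hp hc huv
      have ec : a * b * γ k * γ r = γ u * γ v := by
        have hswap : a * b * γ k * γ r = γ k * γ r * (a * b) := by
          have c1 : Commute (a * b) (γ k) := (ca.mul_right cb).symm
          have c2 : Commute (a * b) (γ r) := ((isR_commute hC ha hγ hb (hR r hr)).1.mul_right
            (isR_commute hC ha hγ hb (hR r hr)).2.1).symm
          rw [mul_assoc (a * b), (c1.mul_right c2).eq]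
        rw [hswap, ← hp, show γ k * γ r * (γ k * γ r * γ u * γ v) = γ k * (γ r * γ k) * γ r * (γ u * γ v) by group,
          (cc r k hr hkf).eq, show γ k * (γ k * γ r) * γ r * (γ u * γ v) = (γ k * γ k) * (γ r * γ r) * (γ u * γ v) by group,
          sq hC.tt (hγ.mem k hkR.1).1, sq hC.tt (hγ.mem r (hR r hr).1).1, one_mul, one_mul]
      rw [ec] at hc
      have := (ThreeTransp.centralize_two hC.tt.1 (hγ.mem u (hR u hu).1).1 (hγ.mem v (hR v hv).1).1 hd
        (fun e => huv (hγ.inj u v (hR u hu).1 (hR v hv).1 e)) (cc u v hu hv)).1 hc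
      exact hno u hu this.1
    rw [hf] at hm
    simp only [Finset.mem_insert, Finset.mem_singleton] at hm
    have hy' : y ∈ fibre k := by rw [hf]; simp
    have hz' : z ∈ fibre k := by rw [hf]; simp
    have hw' : w ∈ fibre k := by rw [hf]; simp
    rcases hm with e | e | e | e <;> rw [e] at hne' hcomm
    · exact hne' rfl
    · exact key' z w y hz' hw' hy' hprod hcomm hzw
    · refine key' y w z hy' hw' hz' ?_ hcomm hyw
      rw [← hprod, mul_assoc (γ k) (γ z), (cc z y hz' hy').eq, ← mul_assoc]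
    · refine key' y z w hy' hz' hw' ?_ hcomm hyz
      rw [← hprod, show γ k * γ w * γ y * γ z = γ k * (γ w * (γ y * γ z)) by group,
        ((cc w y hw' hy').mul_right (cc w z hw' hz')).eq]
      group
  · rintro ⟨x, hx, hdx⟩
    obtain ⟨hxR, hxk⟩ := fibre_spec hx
    obtain ⟨hx', ex⟩ := sImg_spec hC ha hγ hb hd hda hdb hxR
    obtain ⟨xa, xb, -⟩ := isR_commute hC ha hγ hb hxR
    rw [swap_fix hC.tt ha hbD hd hab hba.symm hda hdb xa xb hdx.symm] at ex
    have : sImg hC ha hγ hb hd hda hdb x = x := hγ.inj _ _ hx'.1 hxR.1 ex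
    rw [sKey, sKey_congr hC ha hγ hb hd hda hdb hkR hxR (hkk.trans hxk.symm), this, hxk]

open scoped Classical in
theorem fibre_count {k : ℕ} (hk : k ∈ keySet) :
    ((fibre k).filter fun x => Commute d (γ x)).card =
      if sKey hC ha hγ hb hd hda hdb k = k then 2 else 0 := by
  obtain ⟨hbD, hba, hab⟩ := b_mem hC ha hγ hb
  split_ifs with h
  · obtain ⟨x, hx, hdx⟩ := (sKey_fix_iff hC ha hγ hb hd hda hdb hk).1 h
    set M := (fibre k).filter fun x => ¬ Commute d (γ x) with hM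
    have hmap : ∀ t ∈ M, sImg hC ha hγ hb hd hda hdb t ∈ M ∧ sImg hC ha hγ hb hd hda hdb t ≠ t := by
      intro t ht
      obtain ⟨htf, htd⟩ := Finset.mem_filter.1 ht
      obtain ⟨htR, htk⟩ := fibre_spec htf
      obtain ⟨ht', et⟩ := sImg_spec hC ha hγ hb hd hda hdb htR
      obtain ⟨ca, cb, cnb⟩ := isR_commute hC ha hγ hb htR
      obtain ⟨hne', -, -⟩ := swap_other hC.tt ha hbD hd hab hba.symm hda hdb (hγ.mem t htR.1).1 ca cb
        (fun h => htd h.symm) (hγ.mem t htR.1).2.1 cnb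
      rw [← et] at hne'
      refine ⟨Finset.mem_filter.2 ⟨?_, fun hc => ?_⟩, fun e => hne' (by rw [e])⟩
      · have := mem_fibre ht'
        rwa [sKey_congr hC ha hγ hb hd hda hdb htR (isR_key hk).1 (htk.trans (isR_key hk).2.symm),
          show key (sImg hC ha hγ hb hd hda hdb k) = k from h] at this
      · obtain ⟨da, db, -⟩ := isR_commute hC ha hγ hb ht'
        have := swap_fix hC.tt ha hbD hd hab hba.symm hda hdb da db hc.symm
        rw [et, swap_conj_twice hC ha hγ hb hd hda hdb] at this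
        exact hne' (by rw [et]; exact this.symm)
    have heven : (M.card : ZMod 2) = 0 := by
      rw [Finset.card_eq_sum_ones, Nat.cast_sum]
      refine Finset.sum_involution (fun t _ => sImg hC ha hγ hb hd hda hdb t) (fun _ _ => by decide)
        (fun t ht _ => (hmap t ht).2) (fun t ht => (hmap t ht).1) fun t ht => ?_
      obtain ⟨htR, -⟩ := fibre_spec (Finset.mem_filter.1 ht).1
      obtain ⟨ht', et⟩ := sImg_spec hC ha hγ hb hd hda hdb htR
      obtain ⟨ht'', et'⟩ := sImg_spec hC ha hγ hb hd hda hdb ht'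
      refine hγ.inj _ _ ht''.1 htR.1 ?_
      rw [et', et, swap_conj_twice hC ha hγ hb hd hda hdb]
    have hne0 : M.card ≠ 0 := by
      intro h0
      apply hda
      rw [Finset.card_eq_zero] at h0
      obtain ⟨y, z, w, hf, -, -, -, -, -, -, hprod⟩ := fibre_prod hC ha hγ hb hx
      have hall : ∀ t ∈ fibre k, Commute d (γ t) := fun t ht => by
        by_contra hc
        have : t ∈ M := Finset.mem_filter.2 ⟨ht, hc⟩
        rw [h0] at this
        simp at this
      have hdab : Commute d (a * b) := by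
        rw [← hprod]
        exact (((hall x hx).mul_right (hall y (by rw [hf]; simp))).mul_right
          (hall z (by rw [hf]; simp))).mul_right (hall w (by rw [hf]; simp))
      exact ((ThreeTransp.centralize_two hC.tt.1 ha hbD hd hba.symm hab).1 hdab).1
    have hle : M.card < 4 := by
      rw [← fibre_card hk]
      exact Finset.card_lt_card ⟨Finset.filter_subset _ _, fun hs => (Finset.mem_filter.1 (hs hx)).2 hdx⟩
    have hM2 : M.card = 2 := by
      have := (ZMod.natCast_eq_zero_iff_even).1 heven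
      obtain ⟨r, hr⟩ := this
      omega
    rw [hM] at hM2
    have := Finset.card_filter_add_card_filter_not (s := fibre k) (fun x => Commute d (γ x))
    rw [fibre_card hk] at this
    omega
  · rw [Finset.card_eq_zero, Finset.filter_eq_empty_iff]
    exact fun x hx hdx => h ((sKey_fix_iff hC ha hγ hb hd hda hdb hk).2 ⟨x, hx, hdx⟩)

theorem sKey_map {k : ℕ} (hk : k ∈ keySet) :
    sKey hC ha hγ hb hd hda hdb k ∈ keySet ∧
      sKey hC ha hγ hb hd hda hdb (sKey hC ha hγ hb hd hda hdb k) = k := by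
  obtain ⟨hkR, hkk⟩ := isR_key hk
  obtain ⟨hk', ek⟩ := sImg_spec hC ha hγ hb hd hda hdb hkR
  refine ⟨key_mem hk', ?_⟩
  obtain ⟨hk'', ek'⟩ := sImg_spec hC ha hγ hb hd hda hdb hk'
  have h2 : sImg hC ha hγ hb hd hda hdb (sImg hC ha hγ hb hd hda hdb k) = k := by
    refine hγ.inj _ _ hk''.1 hkR.1 ?_
    rw [ek', ek, swap_conj_twice hC ha hγ hb hd hda hdb]
  rw [sKey, sKey, sKey_congr hC ha hγ hb hd hda hdb (isR_key (key_mem hk')).1 hk' (isR_key (key_mem hk')).2,
    h2, hkk]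

theorem sKey_adj {k l : ℕ} (hk : k ∈ keySet) (hl : l ∈ keySet) (h : Adj k l) :
    Adj (sKey hC ha hγ hb hd hda hdb k) (sKey hC ha hγ hb hd hda hdb l) := by
  obtain ⟨hkR, hkk⟩ := isR_key hk
  obtain ⟨hlR, hll⟩ := isR_key hl
  obtain ⟨hk', ek⟩ := sImg_spec hC ha hγ hb hd hda hdb hkR
  obtain ⟨hl', el⟩ := sImg_spec hC ha hγ hb hd hda hdb hlR
  refine ⟨fun e => h.1 ?_, ?_⟩
  · rw [← (sKey_map hC ha hγ hb hd hda hdb hk).2, e, (sKey_map hC ha hγ hb hd hda hdb hl).2]
  · show orth (key _) (key _) = true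
    rw [← orth_keys hC ha hγ hb hk' hl', ek, el, Commute.conj_iff]
    exact (hγ.comm k l hkR.1 hlR.1).2 h.2

theorem sKey_moved {k : ℕ} (hk : k ∈ keySet) (h : sKey hC ha hγ hb hd hda hdb k ≠ k) :
    Adj k (sKey hC ha hγ hb hd hda hdb k) := by
  obtain ⟨hbD, hba, hab⟩ := b_mem hC ha hγ hb
  obtain ⟨hkR, hkk⟩ := isR_key hk
  obtain ⟨hk', ek⟩ := sImg_spec hC ha hγ hb hd hda hdb hkR
  refine ⟨h.symm, ?_⟩
  obtain ⟨ca, cb, cnb⟩ := isR_commute hC ha hγ hb hkR
  have hkd : ¬ Commute (γ k) d := fun hc => h ((sKey_fix_iff hC ha hγ hb hd hda hdb hk).2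
    ⟨k, by have := mem_fibre hkR; rwa [hkk] at this, hc.symm⟩)
  obtain ⟨-, hcθ, -⟩ := swap_other hC.tt ha hbD hd hab hba.symm hda hdb (hγ.mem k hkR.1).1 ca cb hkd
    (hγ.mem k hkR.1).2.1 cnb
  rw [← ek, orth_keys hC ha hγ hb hkR hk', hkk] at hcθ
  exact hcθ

open scoped Classical in
theorem line_three {k l : ℕ} (hk : k ∈ keySet) (hl : l ∈ keySet) (h : Adj k l) :
    ((insert k (insert l (keySet.filter fun r => Adj k r ∧ Adj l r))).filter
      fun r => sKey hC ha hγ hb hd hda hdb r = r).card = 3 ∨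
    ((insert k (insert l (keySet.filter fun r => Adj k r ∧ Adj l r))).filter
      fun r => sKey hC ha hγ hb hd hda hdb r = r).card = 0 := by
  set L := insert k (insert l (keySet.filter fun r => Adj k r ∧ Adj l r)) with hL
  by_cases hz : (L.filter fun r => sKey hC ha hγ hb hd hda hdb r = r).card = 0
  · exact Or.inr hz
  left
  obtain ⟨r0, hr0⟩ := Finset.card_pos.1 (Nat.pos_of_ne_zero hz)
  obtain ⟨hr0L, hr0f⟩ := Finset.mem_filter.1 hr0
  have hLS : ∀ r ∈ L, r ∈ keySet := by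
    intro r hr
    simp only [hL, Finset.mem_insert, Finset.mem_filter] at hr
    rcases hr with rfl | rfl | ⟨hr, -⟩ <;> assumption
  obtain ⟨x, hx, hdx⟩ := (sKey_fix_iff hC ha hγ hb hd hda hdb (hLS r0 hr0L)).1 hr0f
  have hmemL : ∀ r, r ∈ L ↔ r ∈ keySet ∧ (r = k ∨ r = l ∨ (Adj k r ∧ Adj l r)) := by
    intro r
    simp only [hL, Finset.mem_insert, Finset.mem_filter]
    constructor
    · rintro (rfl | rfl | ⟨h1, h2⟩) <;> tauto
    · tauto
  have hLorth : ∀ r ∈ L, ∀ t ∈ L, orth r t = true := by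
    intro r hr t ht
    obtain ⟨hrS, hr⟩ := (hmemL r).1 hr
    obtain ⟨htS, ht⟩ := (hmemL t).1 ht
    have sy : ∀ {p q}, p ∈ keySet → q ∈ keySet → Adj p q → orth q p = true := fun hp hq e => (adj_symm hp hq e).2
    rcases hr with rfl | rfl | ⟨r1, r2⟩ <;> rcases ht with rfl | rfl | ⟨t1, t2⟩
    · exact orth_key_self hrS
    · exact h.2
    · exact t1.2
    · exact sy htS hrS h
    · exact orth_key_self hrS
    · exact t2.2
    · exact sy htS hrS r1
    · exact sy htS hrS r2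
    · exact (line_spec hk hl h).2 r hrS t htS r1 r2 t1 t2
  have hLmax : ∀ r ∈ keySet, orth r k = true → orth r l = true → r ∈ L := by
    intro r hr h1 h2
    rw [hmemL]
    refine ⟨hr, ?_⟩
    by_cases e1' : r = k
    · exact Or.inl e1'
    by_cases e2' : r = l
    · exact Or.inr (Or.inl e2')
    exact Or.inr (Or.inr ⟨adj_symm hr hk ⟨e1', h1⟩, adj_symm hr hl ⟨e2', h2⟩⟩)
  -- a second key of the line
  obtain ⟨t0, ht0L, htne⟩ : ∃ t ∈ L, t ≠ r0 := by
    by_cases e : k = r0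
    · exact ⟨l, (hmemL l).2 ⟨hl, Or.inr (Or.inl rfl)⟩, fun e' => h.1 (e.trans e'.symm)⟩
    · exact ⟨k, (hmemL k).2 ⟨hk, Or.inl rfl⟩, e⟩
  obtain ⟨hbD, hba, hab⟩ := b_mem hC ha hγ hb
  obtain ⟨hxR, hxk⟩ := fibre_spec hx
  obtain ⟨ht0R, ht0k⟩ := isR_key (hLS t0 ht0L)
  obtain ⟨xa, xb, xnb⟩ := isR_commute hC ha hγ hb hxR
  obtain ⟨ta, tb, tnb⟩ := isR_commute hC ha hγ hb ht0R
  obtain ⟨z, hzS, hz1, hz2⟩ := key_separated (hLS r0 hr0L) (hLS t0 ht0L) htne.symm
  obtain ⟨hzR, hzk⟩ := isR_key hzS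
  obtain ⟨za, zb, -⟩ := isR_commute hC ha hγ hb hzR
  have six := six_meet (a := a) (b := b) hC ha (g := γ x) (e := γ t0) (d := d) hbD (hγ.mem x hxR.1).1
    (hγ.mem t0 ht0R.1).1 hd hab xa.symm ta.symm xb.symm tb.symm
    ((orth_keys hC ha hγ hb hxR ht0R).2 (by rw [hxk, ht0k]; exact hLorth r0 hr0L t0 ht0L))
    ⟨hba.symm, (hγ.mem x hxR.1).2.1, xnb, (hγ.mem t0 ht0R.1).2.1, tnb,
      fun e => htne (by rw [← ht0k, hγ.inj t0 x ht0R.1 hxR.1 e, hxk])⟩
    ⟨γ z, (hγ.mem z hzR.1).1, za, zb, (orth_keys hC ha hγ hb hzR hxR).2 (by rw [hzk, hxk]; exact hz1),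
      fun hc => by
        rw [orth_keys hC ha hγ hb hzR ht0R, hzk, ht0k, hz2] at hc
        exact Bool.false_ne_true hc⟩
    hdx hda
  -- a line is determined by two of its members
  have hline2 : ∀ r ∈ keySet, orth r r0 = true → orth r t0 = true → r ∈ L := by
    intro r hr h1 h2
    have hadj : Adj r0 t0 := ⟨htne.symm, hLorth r0 hr0L t0 ht0L⟩
    have hsub : (L.erase r0).erase t0 ⊆ keySet.filter fun q => Adj r0 q ∧ Adj t0 q := by
      intro q hq
      simp only [Finset.mem_erase] at hq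
      rw [Finset.mem_filter]
      exact ⟨hLS q hq.2.2, ⟨Ne.symm hq.2.1, hLorth r0 hr0L q hq.2.2⟩, ⟨Ne.symm hq.1, hLorth t0 ht0L q hq.2.2⟩⟩
    have hcardL : L.card = 5 := by
      rw [hL, Finset.card_insert_of_notMem, Finset.card_insert_of_notMem, (line_spec hk hl h).1]
      · exact fun hh => (Finset.mem_filter.1 hh).2.2.1 rfl
      · simp only [Finset.mem_insert, Finset.mem_filter]
        rintro (e | ⟨-, e, -⟩)
        · exact h.1 e
        · exact e.1 rfl
    have heq := Finset.eq_of_subset_of_card_le hsub (by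
      rw [(line_spec (hLS r0 hr0L) (hLS t0 ht0L) hadj).1, Finset.card_erase_of_mem
        (Finset.mem_erase.2 ⟨htne, ht0L⟩), Finset.card_erase_of_mem hr0L, hcardL])
    by_cases e1' : r = r0
    · exact e1' ▸ hr0L
    by_cases e2' : r = t0
    · exact e2' ▸ ht0L
    have : r ∈ (L.erase r0).erase t0 := by
      rw [heq, Finset.mem_filter]
      exact ⟨hr, adj_symm hr (hLS r0 hr0L) ⟨e1', h1⟩, adj_symm hr (hLS t0 ht0L) ⟨e2', h2⟩⟩
    exact (Finset.mem_erase.1 (Finset.mem_erase.1 this).2).2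
  set U := L.biUnion fun r => (fibre r).filter fun y => Commute d (γ y) with hU
  have hset : {y | y ∈ D ∧ Commute y a ∧ Commute y b ∧ Commute y (γ x) ∧ Commute y (γ t0) ∧ Commute d y} =
      γ '' (U : Set ℕ) := by
    ext y
    constructor
    · rintro ⟨hy, ya, yb, yx, yt, yd⟩
      obtain ⟨q, hq, rfl⟩ := exists_isR hC ha hγ hb hy ya yb (fun e => hda (e ▸ yd)) (fun e => hdb (e ▸ yd))
      refine ⟨q, ?_, rfl⟩
      simp only [hU, Finset.coe_biUnion, Set.mem_iUnion, Finset.mem_coe, Finset.mem_filter]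
      refine ⟨key q, hline2 _ (key_mem hq) ?_ ?_, mem_fibre hq, yd⟩
      · rw [← hxk]; exact (orth_keys hC ha hγ hb hq hxR).1 yx
      · rw [← ht0k]; exact (orth_keys hC ha hγ hb hq ht0R).1 yt
    · rintro ⟨q, hq, rfl⟩
      simp only [hU, Finset.coe_biUnion, Set.mem_iUnion, Finset.mem_coe, Finset.mem_filter] at hq
      obtain ⟨r, hr, hqf, hqd⟩ := hq
      obtain ⟨hqR, hqk⟩ := fibre_spec hqf
      obtain ⟨qa, qb, -⟩ := isR_commute hC ha hγ hb hqR
      refine ⟨(hγ.mem q hqR.1).1, qa, qb, (orth_keys hC ha hγ hb hqR hxR).2 ?_,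
        (orth_keys hC ha hγ hb hqR ht0R).2 ?_, hqd⟩
      · rw [hqk, hxk]; exact hLorth r hr r0 hr0L
      · rw [hqk, ht0k]; exact hLorth r hr t0 ht0L
  have hUR : ∀ q ∈ U, isPt q = true := by
    intro q hq
    simp only [hU, Finset.mem_biUnion, Finset.mem_filter] at hq
    obtain ⟨r, -, hqf, -⟩ := hq
    exact (fibre_spec hqf).1.1
  rw [hset, Set.InjOn.ncard_image (fun p hp q hq e => hγ.inj p q (hUR p hp) (hUR q hq) e),
    Set.ncard_coe_finset, hU, Finset.card_biUnion ?_,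
    Finset.sum_congr rfl (fun r hr => fibre_count hC ha hγ hb hd hda hdb (hLS r hr)), Finset.sum_ite,
    Finset.sum_const_zero, add_zero, Finset.sum_const, smul_eq_mul] at six
  · omega
  intro r _ t _ hrt
  rw [Function.onFun, Finset.disjoint_left]
  exact fun q hq hq' => hrt ((fibre_spec (Finset.mem_filter.1 hq).1).2.symm.trans
    (fibre_spec (Finset.mem_filter.1 hq').1).2)

open scoped Classical in
/-- Exactly fifteen keys are fixed. -/
theorem fixed_fifteen :
    (keySet.filter fun k => sKey hC ha hγ hb hd hda hdb k = k).card = 15 := by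
  set σ := sKey hC ha hγ hb hd hda hdb with hσ
  have hmap : ∀ k ∈ keySet, σ k ∈ keySet ∧ σ (σ k) = k := fun k hk => sKey_map hC ha hγ hb hd hda hdb hk
  refine card_fixed_fifteen keySet Adj σ card_keySet (fun k hk l hl h => adj_symm hk hl h)
    (fun k h => h.1 rfl) (fun k hk => (hmap k hk).1) (fun k hk l hl h => sKey_adj hC ha hγ hb hd hda hdb hk hl h)
    (fun k hk => (hmap k hk).2) (fun k hk h => sKey_moved hC ha hγ hb hd hda hdb hk h)
    (fun k hk l hl h => (line_spec hk hl h).1) ?_ (fun k hk => card_adj hk)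
  intro k hk l hl h hcase
  rcases line_three hC ha hγ hb hd hda hdb hk hl h with h3 | h0
  · exact h3
  exfalso
  rw [Finset.card_eq_zero, Finset.filter_eq_empty_iff] at h0
  set L := insert k (insert l (keySet.filter fun r => Adj k r ∧ Adj l r)) with hL
  rcases hcase with hk' | rfl
  · exact h0 (Finset.mem_insert_self _ _) hk'
  have hLS : ∀ r ∈ L, r ∈ keySet := by
    intro r hr
    simp only [hL, Finset.mem_insert, Finset.mem_filter] at hr
    rcases hr with rfl | rfl | ⟨hr, -⟩ <;> assumption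
  have hinv : ∀ r ∈ L, σ r ∈ L := by
    intro r hr
    simp only [hL, Finset.mem_insert, Finset.mem_filter] at hr ⊢
    rcases hr with rfl | rfl | ⟨hr, h1, h2⟩
    · exact Or.inr (Or.inl rfl)
    · exact Or.inl (hmap k hk).2
    · refine Or.inr (Or.inr ⟨(hmap r hr).1, ?_, sKey_adj hC ha hγ hb hd hda hdb hk hr h1⟩)
      have := sKey_adj hC ha hγ hb hd hda hdb (hmap k hk).1 hr h2
      rw [show sKey hC ha hγ hb hd hda hdb (σ k) = k from (hmap k hk).2] at this
      exact this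
  have heven : (L.card : ZMod 2) = 0 := by
    rw [Finset.card_eq_sum_ones, Nat.cast_sum]
    exact Finset.sum_involution (fun t _ => σ t) (fun _ _ => by decide) (fun t ht _ => h0 ht)
      (fun t ht => hinv t ht) (fun t ht => (hmap t (hLS t ht)).2)
  have h5 : L.card = 5 := by
    rw [hL, Finset.card_insert_of_notMem, Finset.card_insert_of_notMem, (line_spec hk hl h).1]
    · exact fun hh => (Finset.mem_filter.1 hh).2.2.1 rfl
    · simp only [Finset.mem_insert, Finset.mem_filter]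
      rintro (e | ⟨-, e, -⟩)
      · exact h.1 e
      · exact e.1 rfl
  rw [h5] at heven
  exact absurd heven (by decide)

end Cfsg.Agent.TT95
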