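import Cfsg.Agent.TT95.U6FPF
import Cfsg.Agent.TT95.Swap

/-!
Type M(22): an involutory map of the transpositions induced by an automorphism fixes one of them.
-/

set_option autoImplicit false
set_option linter.unusedSectionVars false

namespace Cfsg.Agent.TT95

open Cfsg.Agent.TT95.U6

variable {G : Type*} [Group G] {D : Set G} (hC : Cfg22 D)

include hC

/-- An involutory automorphism preserving the transpositions fixes one of them. -/
theorem auto_fixes (φ : G ≃* G) (hφD : ∀ d ∈ D, φ d ∈ D) (hinv : ∀ x, φ (φ x) = x) {a : G} (ha : a ∈ D) :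
    ∃ d ∈ D, φ d = d := by
  by_contra hno
  push Not at hno
  have hnear : ∀ d ∈ D, Commute d (φ d) := by
    intro d hd
    by_contra h
    refine hno (d * φ d * d) (conj_mem' hC.tt (hφD d hd) hd) ?_
    rw [map_mul, map_mul, hinv]
    exact (braid hC.tt hd (hφD d hd) h).symm
  have hcmap : ∀ {u v : G}, Commute u v → Commute (φ u) (φ v) := fun h => h.map φ.toMonoidHom
  have hbn : φ a ∈ nb D a := ⟨hφD a ha, hno a ha, hnear a ha⟩
  obtain ⟨γ₀, hγ₀, hb₀⟩ := local_one hC ha hbn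
  -- normalise the image of e₂
  have himage : ∀ {γ : ℕ → G}, IsLocal D a γ → γ e1 = φ a → ∀ x, isR x →
      ∃ y, isR y ∧ γ y = φ (γ x) := by
    intro γ hγ hb x hx
    obtain ⟨xa, xb, xne⟩ := isR_commute hC ha hγ hb hx
    refine exists_isR hC ha hγ hb (hφD _ (hγ.mem x hx.1).1) ?_ (hcmap xa) ?_ ?_
    · have := hcmap xb
      rwa [hinv] at this
    · intro e
      exact xne (by rw [← hinv (γ x), e])
    · intro e
      exact (hγ.mem x hx.1).2.1 (φ.injective e)
  have he2 : isR e2 := by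
    refine ⟨base_isPt.2.1, by decide +kernel, by decide⟩
  obtain ⟨γ, hγ, hb, r, hr, hrR, hrimg⟩ : ∃ γ, IsLocal D a γ ∧ γ e1 = φ a ∧
      ∃ r, r ∈ ([5, 9, 13, 16] : List ℕ) ∧ isR r ∧ γ r = φ (γ e2) := by
    obtain ⟨r, hr, er⟩ := himage hγ₀ hb₀ e2 he2
    have hd2 := (hγ₀.mem e2 base_isPt.2.1).1
    have hr2 : orth r e2 = true :=
      (hγ₀.comm r e2 hr.1 base_isPt.2.1).1 (er ▸ (hnear _ hd2).symm)
    have hne : r ≠ e2 := fun e => hno _ hd2 (by rw [← er, e])
    by_cases hl : r ∈ line12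
    · refine ⟨γ₀, hγ₀, hb₀, r, ?_, hr, er⟩
      simp only [line12, List.mem_cons, List.not_mem_nil, or_false] at hl ⊢
      rcases hl with h | h | h | h | h
      · exact absurd h hr.2.2
      · exact absurd h hne
      all_goals omega
    · obtain ⟨-, g, hg, eg⟩ := IsLocal.exists_conj hC hγ₀ base_isPt.2.2.1
        (orbit_third (mem_pts.2 hr.1) hr.2.1 hr2 hl)
      obtain ⟨f0, f1'⟩ := IsLocal.fix hC hγ₀ hg
      have g1 := f1' e1 base_isPt.1 (fun e _ h => (Bool.and_eq_true_iff.1 h).1)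
      have g2 := f1' e2 base_isPt.2.1 (fun e _ h => (Bool.and_eq_true_iff.1 h).2)
      refine ⟨_, f0 ▸ hγ₀.conjugate hC.tt g, g1.trans hb₀, e3, by simp [e3], ⟨base_isPt.2.2.1, by decide +kernel,
        by decide⟩, ?_⟩
      show g * γ₀ e3 * g⁻¹ = φ (g * γ₀ e2 * g⁻¹)
      rw [eg, g2, er]
  have hex : ∀ x, ∃ y, isR x → isR y ∧ γ y = φ (γ x) := by
    intro x
    by_cases hx : isR x
    · obtain ⟨y, h⟩ := himage hγ hb x hx
      exact ⟨y, fun _ => h⟩
    · exact ⟨0, fun h => absurd h hx⟩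
  choose f hf using hex
  have huniq : ∀ {x y : ℕ}, isR x → isR y → γ x = γ y → x = y := fun hx hy e => hγ.inj _ _ hx.1 hy.1 e
  have hI : IsResInvol f := by
    refine ⟨fun x hx => (hf x hx).1, fun x hx => ?_, fun x hx e => ?_, fun x hx => ?_,
      fun x y hx hy => ?_, fun x y hx hy hxy => ?_⟩
    · obtain ⟨h1, h2⟩ := hf x hx
      obtain ⟨h3, h4⟩ := hf _ h1
      exact huniq h3 hx (by rw [h4, h2, hinv])
    · refine hno _ (hγ.mem x hx.1).1 ?_
      rw [← (hf x hx).2, e]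
    · obtain ⟨h1, h2⟩ := hf x hx
      exact (hγ.comm x _ hx.1 h1.1).1 (h2 ▸ hnear _ (hγ.mem x hx.1).1)
    · obtain ⟨x1, x2⟩ := hf x hx
      obtain ⟨y1, y2⟩ := hf y hy
      rw [Bool.eq_iff_iff, ← hγ.comm _ _ x1.1 y1.1, ← hγ.comm _ _ hx.1 hy.1, x2, y2]
      refine ⟨fun h => ?_, hcmap⟩
      have := hcmap h
      rwa [hinv, hinv] at this
    · have ht := hγ.conj x y hx.1 hy.1
      obtain ⟨xa, xb, -⟩ := isR_commute hC ha hγ hb hx
      obtain ⟨ya, yb, -⟩ := isR_commute hC ha hγ hb hy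
      have htR : isR (tv x y) := by
        refine ⟨hγ.isPt_tv x y hx.1 hy.1, ?_, fun e => ?_⟩
        · rw [← hγ.comm _ _ (hγ.isPt_tv x y hx.1 hy.1) base_isPt.1, hb, ← ht]
          exact (xb.mul_left yb).mul_left xb.inv_left
        · refine hy.2.2 (hγ.inj _ _ hy.1 base_isPt.1 ?_)
          rw [e, hb] at ht
          calc γ y = (γ x)⁻¹ * φ a * γ x := by rw [← ht]; group
            _ = φ a := by rw [mul_assoc, ← xb.eq, inv_mul_cancel_left]
            _ = γ e1 := hb.symm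
      refine ⟨htR, ?_⟩
      obtain ⟨t1, t2⟩ := hf _ htR
      obtain ⟨x1, x2⟩ := hf x hx
      obtain ⟨y1, y2⟩ := hf y hy
      refine hγ.inj _ _ t1.1 (hγ.isPt_tv _ _ x1.1 y1.1) ?_
      rw [t2, ← hγ.conj _ _ x1.1 y1.1, x2, y2, ← ht, map_mul, map_mul, map_inv]
  exact no_resInvol hI hr (huniq (hf e2 he2).1 hrR ((hf e2 he2).2.trans hrimg.symm))

end Cfsg.Agent.TT95
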