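import Cfsg.Agent.TT95.Types

/-!
No short relations among pairwise commuting transpositions; products of up to three commuting
transpositions in types M(23), M(24) determine the factors.
-/

set_option autoImplicit false
set_option linter.unusedSectionVars false

namespace Cfsg.Agent.TT95

/-- No `n` different pairwise commuting members multiply to one. -/
def NoRel {G : Type*} [Group G] (D : Set G) (n : ℕ) : Prop :=
  ∀ l : List G, l.Nodup → l.length = n → (∀ a ∈ l, a ∈ D) → (∀ a ∈ l, ∀ b ∈ l, Commute a b) → l.prod ≠ 1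

variable {G : Type*} [Group G] {D : Set G} (hD : TTSet D)

include hD

theorem noRel_four (htf : TwinFree D) : NoRel D 4 := by
  intro l hnd hlen hmem hcomm hprod
  match l, hlen with
  | [a, b, c, e], _ =>
    simp only [List.nodup_cons, List.mem_cons, List.not_mem_nil, or_false, not_or] at hnd
    obtain ⟨⟨hab, hac, -⟩, ⟨hbc, -⟩, -⟩ := hnd
    simp only [List.prod_cons, List.prod_nil, mul_one] at hprod
    have he : a * b * c = e := by
      rw [← inv_eq hD (hmem e (by simp))]
      exact eq_inv_of_mul_eq_one_left (by rw [← hprod]; group)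
    exact mul_three_notMem hD htf (hmem a (by simp)) (hmem b (by simp)) (hmem c (by simp)) hab hac hbc
      (hcomm a (by simp) b (by simp)) (hcomm a (by simp) c (by simp)) (hcomm b (by simp) c (by simp))
      (he ▸ hmem e (by simp))

theorem noRel_succ [Finite G] (hone : OneClass D) (htf : TwinFree D) {d : G} (hd : d ∈ D) {n : ℕ}
    (h : NoRel (locSet D d) n) : NoRel D (n + 1) := by
  intro l hnd hlen hmem hcomm hprod
  match l, hlen with
  | a :: rest, hlen =>
    obtain ⟨g, hg⟩ := hone a (hmem a List.mem_cons_self) d hd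
    set f := (MulAut.conj g).toMonoidHom with hf
    have hfx : ∀ x, f x = g * x * g⁻¹ := fun x => rfl
    set t := rest.map f with ht
    have hnd' : (d :: t).Nodup := by
      have := hnd.map (f := f) (MulEquiv.injective (MulAut.conj g))
      rw [List.map_cons, hfx, hg] at this
      exact this
    obtain ⟨hdt, htnd⟩ := List.nodup_cons.1 hnd'
    have htprod : d * t.prod = 1 := by
      have := congrArg f hprod
      rw [map_one, map_list_prod, List.map_cons, List.prod_cons, hfx, hg] at this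
      exact this
    have htnb : ∀ y ∈ t, y ∈ nb D d := by
      intro y hy
      obtain ⟨x, hx, rfl⟩ := List.mem_map.1 hy
      rw [hfx] at hy ⊢
      refine ⟨conj_mem hD g (hmem x (List.mem_cons_of_mem _ hx)), fun e => hdt (e ▸ hy), ?_⟩
      rw [← hg]
      exact (Commute.conj_iff g).2 (hcomm a List.mem_cons_self x (List.mem_cons_of_mem _ hx))
    set t' := t.attach.map (fun y => mkNb (htnb y.1 y.2)) with ht'
    refine h t' ?_ ?_ ?_ ?_ ?_
    · rw [ht', List.nodup_map_iff_inj_on (List.nodup_attach.2 htnd)]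
      intro y _ z _ e
      exact Subtype.ext (eq_of_mkNb_eq hD _ _ (mkNb_ne_one hD hone htf hd (htnb y.1 y.2)) e)
    · simp only [ht', List.length_map, List.length_attach, ht]
      simpa using hlen
    · intro y hy
      obtain ⟨z, -, rfl⟩ := List.mem_map.1 hy
      exact mkNb_mem hD _ (mkNb_ne_one hD hone htf hd (htnb z.1 z.2))
    · intro y hy z hz
      obtain ⟨⟨u, hu⟩, -, rfl⟩ := List.mem_map.1 hy
      obtain ⟨⟨v, hv⟩, -, rfl⟩ := List.mem_map.1 hz
      obtain ⟨u', hu', rfl⟩ := List.mem_map.1 hu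
      obtain ⟨v', hv', rfl⟩ := List.mem_map.1 hv
      exact mkNb_commute hD _ _ ((Commute.conj_iff g).2
        (hcomm u' (List.mem_cons_of_mem _ hu') v' (List.mem_cons_of_mem _ hv')))
    · set L := t.attach.map (fun y => (⟨y.1, Subgroup.subset_closure (htnb y.1 y.2)⟩ :
        Subgroup.closure (nb D d))) with hL
      have e1 : t' = L.map (QuotientGroup.mk' (Subgroup.center (Subgroup.closure (nb D d)))) := by
        rw [ht', hL, List.map_map]; rfl
      have e2 : ((L.prod : Subgroup.closure (nb D d)) : G) = t.prod := by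
        rw [SubmonoidClass.coe_list_prod, hL, List.map_map]
        exact congrArg List.prod (List.attach_map_subtype_val t)
      rw [e1, ← map_list_prod]
      refine (QuotientGroup.eq_one_iff _).2 (Subgroup.mem_center_iff.2 fun k => Subtype.ext ?_)
      show (k : G) * (L.prod : G) = (L.prod : G) * k
      rw [e2, eq_inv_of_mul_eq_one_right htprod, inv_eq hD hd]
      exact (commute_closure_nb hD k.2).eq.symm

theorem noRel_five_of_core22 [Finite G] (h : Core22 G D) : NoRel D 5 := by
  obtain ⟨h1, h2⟩ := oneClass_twinFree_of_core22 hD h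
  obtain ⟨hZ, d, hd, c, hc, hdc, hU, hL⟩ := h
  obtain ⟨β, hβ⟩ := exists_label_loc hD hU
  exact noRel_succ hD h1 h2 hd (noRel_four (loc_isGroup hD d) (hβ.twinFree (loc_isGroup hD d)))

theorem noRel_six_of_type [Finite G] (hone : OneClass D) (htf : TwinFree D)
    (h : Cfsg.IsOfTypeM23 G D ∨ Cfsg.IsOfTypeM24 G D) : NoRel D 6 := by
  rcases h with h | h
  · obtain ⟨hZ, d, hd, c, hc, hdc, h22, hL⟩ := core23_of_type h
    haveI := loc_finite hD d
    exact noRel_succ hD hone htf hd (noRel_five_of_core22 (loc_isGroup hD d) h22)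
  · obtain ⟨hZ, d, hd, h23⟩ := core_of_typeM24 h
    haveI := loc_finite hD d
    have hE := loc_isGroup hD d
    obtain ⟨g1, g2⟩ := oneClass_twinFree_of_core23 hE h23
    obtain ⟨-, e, he, c, hc, hec, h22, hL⟩ := h23
    haveI := loc_finite hE e
    exact noRel_succ hD hone htf hd (noRel_succ hE g1 g2 he
      (noRel_four (loc_isGroup hE e) (oneClass_twinFree_of_core22 (loc_isGroup hE e) h22).2))

/-- Put any member of a commuting triple first. -/
theorem triple_reorder {a b c x : G} (hab : Commute a b) (hac : Commute a c) (hbc : Commute b c)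
    (hne : a ≠ b ∧ a ≠ c ∧ b ≠ c) (hx : x = a ∨ x = b ∨ x = c) :
    ∃ y z, a * b * c = x * (y * z) ∧ y ≠ z ∧ Commute y z ∧ (y ≠ x ∧ z ≠ x) ∧
      (∀ w, (w = a ∨ w = b ∨ w = c) ↔ (w = x ∨ w = y ∨ w = z)) := by
  rcases hx with rfl | rfl | rfl
  · exact ⟨b, c, mul_assoc _ _ _, hne.2.2, hbc, ⟨hne.1.symm, hne.2.1.symm⟩, fun w => Iff.rfl⟩
  · refine ⟨a, c, by rw [hab.eq, mul_assoc], hne.2.1, hac, ⟨hne.1, hne.2.2.symm⟩, fun w => by tauto⟩
  · refine ⟨a, b, ((hac.mul_left hbc).eq), hne.1, hab, ⟨hne.2.1, hne.2.2⟩, fun w => by tauto⟩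

/-- Two commuting triples with equal product: either equal, or six different commuting members. -/
theorem triple_cases (htf : TwinFree D) {a b c x y z : G} (ha : a ∈ D) (hb : b ∈ D) (hc : c ∈ D)
    (hx : x ∈ D) (hy : y ∈ D) (hz : z ∈ D) (hne : a ≠ b ∧ a ≠ c ∧ b ≠ c) (hne' : x ≠ y ∧ x ≠ z ∧ y ≠ z)
    (hab : Commute a b) (hac : Commute a c) (hbc : Commute b c) (hxy : Commute x y) (hxz : Commute x z)
    (hyz : Commute y z) (h : a * b * c = x * y * z) :
    (∀ w, (w = a ∨ w = b ∨ w = c) ↔ (w = x ∨ w = y ∨ w = z)) ∨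
      ([a, b, c, x, y, z].Nodup ∧ (∀ u ∈ [a, b, c, x, y, z], ∀ v ∈ [a, b, c, x, y, z], Commute u v) ∧
        [a, b, c, x, y, z].prod = 1) := by
  have hmem : ∀ w, (w = a ∨ w = b ∨ w = c) → w ∈ D := by rintro w (rfl | rfl | rfl) <;> assumption
  have hmem' : ∀ w, (w = x ∨ w = y ∨ w = z) → w ∈ D := by rintro w (rfl | rfl | rfl) <;> assumption
  by_cases hs : ∃ w, (w = a ∨ w = b ∨ w = c) ∧ (w = x ∨ w = y ∨ w = z)
  · left
    obtain ⟨w, hw, hw'⟩ := hs
    obtain ⟨p, q, e1, hpq, cpq, hpw, h1⟩ := triple_reorder hD hab hac hbc hne hw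
    obtain ⟨r, s, e2, hrs, crs, hrw, h2⟩ := triple_reorder hD hxy hxz hyz hne' hw'
    rw [e1, e2] at h
    rcases pair_unique hD htf (hmem p ((h1 p).2 (Or.inr (Or.inl rfl))))
        (hmem q ((h1 q).2 (Or.inr (Or.inr rfl)))) (hmem' r ((h2 r).2 (Or.inr (Or.inl rfl))))
        (hmem' s ((h2 s).2 (Or.inr (Or.inr rfl)))) hpq cpq crs (mul_left_cancel h) with ⟨rfl, rfl⟩ | ⟨rfl, rfl⟩
    · intro v; rw [h1, h2]
    · intro v; rw [h1, h2]; tauto
  right
  push Not at hs
  have hA : ∀ w, (w = x ∨ w = y ∨ w = z) → Commute w a ∧ Commute w b ∧ Commute w c := by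
    intro w hw
    refine (ThreeTransp.centralize_three hD.1 ha hb hc (hmem' w hw) hne.1 hne.2.1 hne.2.2 hab hac hbc).1 ?_
    rw [h]
    rcases hw with rfl | rfl | rfl
    · exact ((Commute.refl _).mul_right hxy).mul_right hxz
    · exact (hxy.symm.mul_right (Commute.refl _)).mul_right hyz
    · exact (hxz.symm.mul_right hyz.symm).mul_right (Commute.refl _)
  refine ⟨?_, ?_, ?_⟩
  · simp only [List.nodup_cons, List.mem_cons, List.not_mem_nil, or_false, not_or, List.nodup_nil, and_true,
      not_false_eq_true]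
    exact ⟨⟨hne.1, hne.2.1, hs a (Or.inl rfl)⟩, ⟨hne.2.2, hs b (Or.inr (Or.inl rfl))⟩,
      hs c (Or.inr (Or.inr rfl)), ⟨hne'.1, hne'.2.1⟩, hne'.2.2⟩
  · intro u hu v hv
    simp only [List.mem_cons, List.not_mem_nil, or_false] at hu hv
    have hu' : (u = a ∨ u = b ∨ u = c) ∨ (u = x ∨ u = y ∨ u = z) := by
      simpa only [or_assoc] using hu
    have hv' : (v = a ∨ v = b ∨ v = c) ∨ (v = x ∨ v = y ∨ v = z) := by
      simpa only [or_assoc] using hv
    rcases hu' with h1 | h1 <;> rcases hv' with h2 | h2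
    · rcases h1 with rfl | rfl | rfl <;> rcases h2 with rfl | rfl | rfl <;>
        first | exact Commute.refl _ | assumption | exact hab.symm | exact hac.symm | exact hbc.symm
    · obtain ⟨k1, k2, k3⟩ := hA v h2
      rcases h1 with rfl | rfl | rfl <;> first | exact k1.symm | exact k2.symm | exact k3.symm
    · obtain ⟨k1, k2, k3⟩ := hA u h1
      rcases h2 with rfl | rfl | rfl <;> assumption
    · rcases h1 with rfl | rfl | rfl <;> rcases h2 with rfl | rfl | rfl <;>
        first | exact Commute.refl _ | assumption | exact hxy.symm | exact hxz.symm | exact hyz.symm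
  · have hsq : (x * y * z) * (x * y * z) = 1 := by
      rw [← pow_two, (hxz.mul_left hyz).mul_pow, hxy.mul_pow, pow_two, pow_two, pow_two, sq hD hx, sq hD hy,
        sq hD hz, one_mul, one_mul]
    simp only [List.prod_cons, List.prod_nil, mul_one]
    rw [← hsq]
    nth_rewrite 1 [← h]
    simp only [mul_assoc]

end Cfsg.Agent.TT95
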