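import Cfsg.Agent.SporB.Fi22.U6.Class
import Cfsg.Agent.TT95.Conn22
import Cfsg.Agent.TT95.Orders

/-!
The presented Fischer group with its class of transpositions satisfies the standing hypotheses of type M(22).
-/

set_option autoImplicit false
set_option maxRecDepth 100000
set_option linter.unusedSectionVars false
set_option linter.style.haveILetI false

namespace Cfsg.Agent.TT95.Fi22Model

open Cfsg.Agent.CosetEnum

local notation "T" => Fi22.Rep.tbl
local notation "vv" => Fi22.pres.val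
local notation "zz" => Fi22.U6.aG
local notation "SS" => Fi22.rep.stab Fi22.nodup

theorem hom_word {W : List ℕ} (h9 : W.all (fun l => Nat.blt l 9) = true) :
    (Fi22.rep.hom Fi22.nodup (evalWord vv W)⁻¹ Fi22.rep.base : ℕ) = Fi22.Rep.tbl.run W 0 := by
  rw [map_inv, Fi22.rep.hom_inv_apply Fi22.nodup
    (fun l hl => Nat.le_of_ble_eq_true (List.all_eq_true.mp h9 l hl))]
  rfl

/-- The presented group carries a class making it a group of type M(22). -/
theorem exists_cfg22 : ∃ D₀ : Set Fi22.pres.Gp, Cfg22 D₀ ∧ Gen D₀ ∧ D₀.Nonempty ∧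
    Nat.card Fi22.pres.Gp = 64561751654400 ∧ Finite Fi22.pres.Gp := by
  haveI := Fi22.finite
  haveI := Fi22.simple
  have hzmem : ∀ g : Fi22.pres.Gp, g * zz * g⁻¹ ∈ conjugatesOf zz := fun g => isConj_iff.2 ⟨g, rfl⟩
  set D₀ : Set Fi22.pres.Gp := conjugatesOf zz with hD₀
  have hne1 : zz ≠ 1 := Fi22.U6.letter_a_ne_one
  have hord : ∀ e ∈ D₀, orderOf e = 2 := by
    intro e he
    obtain ⟨k, rfl⟩ := isConj_iff.1 he
    refine orderOf_eq_prime ?_ ?_
    · rw [← MulAut.conj_apply, ← map_pow, pow_two, Fi22.U6.aG_sq, map_one]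
    · rw [← MulAut.conj_apply]
      exact fun h => hne1 ((MulAut.conj k).injective (h.trans (map_one _).symm))
  have h3' : Cfsg.IsThreeTranspositionSet D₀ := by
    refine ⟨hord, fun e he e' he' => ?_⟩
    obtain ⟨k, rfl⟩ := isConj_iff.1 he
    obtain ⟨k', rfl⟩ := isConj_iff.1 he'
    have e2 : k * zz * k⁻¹ * (k' * zz * k'⁻¹) =
        MulAut.conj k (zz * ((k⁻¹ * k') * zz * (k⁻¹ * k')⁻¹)) := by
      rw [MulAut.conj_apply]; group
    rw [e2, ← map_pow, ← map_pow]
    rcases Fi22.U6.conj_cases (k⁻¹ * k') with h | h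
    · left; rw [h, map_one]
    · right; rw [h, map_one]
  have hgen' : Subgroup.closure D₀ = ⊤ := by
    have hn : Subgroup.normalClosure ({zz} : Set Fi22.pres.Gp) = Subgroup.closure D₀ := by
      rw [Subgroup.normalClosure, Group.conjugatesOfSet, hD₀]
      simp
    rw [← hn]
    rcases (inferInstance : (Subgroup.normalClosure ({zz} : Set Fi22.pres.Gp)).Normal).eq_bot_or_eq_top with h | h
    · have := Subgroup.subset_normalClosure (Set.mem_singleton zz)
      rw [h, SetLike.mem_coe, Subgroup.mem_bot] at this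
      exact absurd this hne1
    · exact h
  have hgrp : Cfsg.IsThreeTranspositionGroup D₀ := ⟨h3', fun g e he => by
    obtain ⟨k, rfl⟩ := isConj_iff.1 he
    exact isConj_iff.2 ⟨g * k, by group⟩, hgen'⟩
  have hD := TTSet.of_group hgrp
  haveI := Gen.of_group hgrp
  have hzD : zz ∈ D₀ := mem_conjugatesOf_self
  -- the centraliser of the first generator
  have hC : Subgroup.centralizer ({zz} : Set Fi22.pres.Gp) = SS := Fi22.U6.centralizer_aG
  have hZbot : Subgroup.center Fi22.pres.Gp = ⊥ := by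
    rcases (inferInstance : (Subgroup.center Fi22.pres.Gp).Normal).eq_bot_or_eq_top with e | e
    · exact e
    · exfalso
      haveI : IsMulCommutative Fi22.pres.Gp :=
        ⟨⟨fun x y => Subgroup.mem_center_iff.mp (e ▸ Subgroup.mem_top y) x⟩⟩
      letI : CommGroup Fi22.pres.Gp :=
        { (inferInstance : Group Fi22.pres.Gp) with
          mul_comm := fun x y => Subgroup.mem_center_iff.mp (e ▸ Subgroup.mem_top y) x }
      have hp := IsSimpleGroup.prime_card (α := Fi22.pres.Gp)
      rw [Fi22.card_eq.1] at hp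
      exact absurd hp (by norm_num)
  -- two conjugates: one commuting, one not
  have hpt : ∀ W : List ℕ, W.all (fun l => Nat.blt l 9) = true → Fi22.Rep.tbl.run W 0 ≠ 0 →
      (evalWord vv W)⁻¹ * zz * evalWord vv W ≠ zz := by
    intro W h9 hrun h
    have : (evalWord vv W)⁻¹ ∈ SS := by
      rw [← hC, Subgroup.mem_centralizer_singleton_iff]
      nth_rewrite 2 [← h]
      group
    rw [Fi22.rep.mem_stab] at this
    apply hrun
    rw [← hom_word h9, this]
    rfl
  set c₀ := (evalWord vv [1])⁻¹ * zz * evalWord vv [1] with hc₀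
  set b₀ := (evalWord vv [1, 0, 2, 1])⁻¹ * zz * evalWord vv [1, 0, 2, 1] with hb₀
  have hp := fun i (hi : i < 3510) => allRange_spec Fi22.U6.prod_three i (Nat.zero_le _) (by omega)
  have hc3 : (zz * c₀) ^ 3 = 1 := Fi22.U6.prod_pow (by decide +kernel) fun i hi =>
    Nat.eq_of_beq_eq_true (Bool.and_eq_true_iff.mp (hp i hi)).1
  have hb2 : (zz * b₀) ^ 2 = 1 := Fi22.U6.prod_pow (by decide +kernel) fun i hi =>
    Nat.eq_of_beq_eq_true (Bool.and_eq_true_iff.mp (hp i hi)).2
  have hcD : c₀ ∈ D₀ := by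
    have := hzmem (evalWord vv [1])⁻¹
    rwa [inv_inv] at this
  have hbD : b₀ ∈ D₀ := by
    have := hzmem (evalWord vv [1, 0, 2, 1])⁻¹
    rwa [inv_inv] at this
  have hcne : c₀ ≠ zz := hpt [1] (by decide) (by decide +kernel)
  have hbne : b₀ ≠ zz := hpt [1, 0, 2, 1] (by decide) (by decide +kernel)
  have hzc : ¬ Commute zz c₀ := by
    intro hc
    have h2 : (zz * c₀) ^ 2 = 1 := by rw [hc.mul_pow, pow_two, pow_two, sq hD hzD, sq hD hcD, one_mul]
    have : zz * c₀ = 1 := by
      calc zz * c₀ = (zz * c₀) ^ 2 * (zz * c₀) := by rw [h2, one_mul]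
        _ = 1 := by rw [← pow_succ]; exact hc3
    exact hcne (by rw [eq_inv_of_mul_eq_one_right this, inv_eq hD hzD])
  have hzb : Commute zz b₀ := by
    have e : zz * b₀ = (zz * b₀)⁻¹ := eq_inv_of_mul_eq_one_left (by rw [← pow_two]; exact hb2)
    rwa [mul_inv_rev, inv_eq hD hzD, inv_eq hD hbD] at e
  have hbnb : b₀ ∈ nb D₀ zz := ⟨hbD, hbne, hzb⟩
  -- the neighbours generate the centraliser
  set C := Subgroup.centralizer ({zz} : Set Fi22.pres.Gp) with hCdef
  have hnbC : Subgroup.closure (nb D₀ zz) ≤ C := (Subgroup.closure_le _).2 fun x hx =>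
    Subgroup.mem_centralizer_singleton_iff.2 hx.2.2.symm.eq
  obtain ⟨F, hF1, hF2, hF4, hcardZ, ⟨e⟩, hns⟩ : ∃ (F : Type) (_ : Field F) (_ : Fintype F), Fintype.card F = 4 ∧
      Cfsg.IsNonsplitDoubleCover C (Cfsg.PSU 6 F 2) := by
    obtain ⟨F, i1, i2, i3, i4⟩ : ∃ (F : Type) (_ : Field F) (_ : Fintype F), Fintype.card F = 4 ∧
        Cfsg.IsNonsplitDoubleCover ((Fi22.rep.stab Fi22.nodup : Subgroup Fi22.pres.Gp)) (Cfsg.PSU 6 F 2) :=
      Fi22.U6.cover_of_eq rfl
    rw [← hC] at i4
    exact ⟨F, i1, i2, i3, i4⟩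
  haveI : IsSimpleGroup (Cfsg.PSU 6 F 2) :=
    U6.IsU6.isSimple ⟨F, hF1, hF2, hF4, ⟨MulEquiv.refl _⟩⟩
  haveI : Nontrivial (C ⧸ Subgroup.center C) := e.toEquiv.nontrivial
  haveI : IsSimpleGroup (C ⧸ Subgroup.center C) :=
    IsSimpleGroup.isSimpleGroup_of_surjective e.symm.toMonoidHom e.symm.surjective
  set N := (Subgroup.closure (nb D₀ zz)).subgroupOf C with hN
  haveI hNn : N.Normal := by
    refine ⟨fun n hn k => ?_⟩
    rw [hN, Subgroup.mem_subgroupOf] at hn ⊢
    rw [Subgroup.coe_mul, Subgroup.coe_mul, Subgroup.coe_inv]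
    have hk : (k : Fi22.pres.Gp) * zz * (k : Fi22.pres.Gp)⁻¹ = zz := by
      rw [Subgroup.mem_centralizer_singleton_iff.1 k.2, mul_inv_cancel_right]
    have himg : (MulAut.conj (k : Fi22.pres.Gp)).toMonoidHom '' nb D₀ zz = nb D₀ zz := by
      have := nb_conj_image hD (k : Fi22.pres.Gp) zz
      rw [hk] at this
      exact this.symm
    have := Subgroup.mem_map_of_mem (MulAut.conj (k : Fi22.pres.Gp)).toMonoidHom hn
    rwa [MonoidHom.map_closure, himg] at this
  have hzC : zz ∈ C := Subgroup.mem_centralizer_singleton_iff.2 rfl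
  have hZC : ∀ u : C, u ∈ Subgroup.center C → (u : Fi22.pres.Gp) = 1 ∨ (u : Fi22.pres.Gp) = zz := by
    intro u hu
    have hzz : (⟨zz, hzC⟩ : C) ∈ Subgroup.center C := Subgroup.mem_center_iff.2 fun w =>
      Subtype.ext (Subgroup.mem_centralizer_singleton_iff.1 w.2)
    by_contra h
    push Not at h
    obtain ⟨u1, u2⟩ := h
    have hsub : ({1, ⟨zz, hzC⟩, u} : Set C) ⊆ (Subgroup.center C : Set C) := by
      rintro w (rfl | rfl | rfl)
      exacts [one_mem _, hzz, hu]
    have h3c := Set.ncard_le_ncard hsub (Set.toFinite _)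
    have e3 : ({1, ⟨zz, hzC⟩, u} : Set C).ncard = 3 := Set.ncard_eq_three.2
      ⟨_, _, _, fun e => hne1 (congrArg Subtype.val e).symm, fun e => u1 (congrArg Subtype.val e).symm,
        fun e => u2 (congrArg Subtype.val e).symm, rfl⟩
    rw [e3, ← Nat.card_coe_set_eq] at h3c
    exact absurd (h3c.trans_eq hcardZ) (by norm_num)
  have htop : N = ⊤ := by
    have hnotle : ¬ N ≤ Subgroup.center C := fun h => by
      rcases hZC ⟨b₀, hnbC (Subgroup.subset_closure hbnb)⟩ (h (Subgroup.subset_closure hbnb)) with r | r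
      · exact ne_one hD hbD r
      · exact hbne r
    have hsup : N ⊔ Subgroup.center C = ⊤ := by
      rcases (Subgroup.Normal.map hNn (QuotientGroup.mk' (Subgroup.center C))
        (QuotientGroup.mk'_surjective _)).eq_bot_or_eq_top with h | h
      · rw [Subgroup.map_eq_bot_iff, QuotientGroup.ker_mk'] at h
        exact absurd h hnotle
      · have := congrArg (Subgroup.comap (QuotientGroup.mk' (Subgroup.center C))) h
        rwa [Subgroup.comap_map_eq, Subgroup.comap_top, QuotientGroup.ker_mk'] at this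
    by_contra hne
    refine hns N ?_
    have hinf : Subgroup.center C ⊓ N = ⊥ := by
      refine (Subgroup.eq_bot_iff_forall _).2 fun u hu => ?_
      rcases hZC u hu.1 with r | r
      · exact Subtype.ext r
      · exfalso
        refine hne (eq_top_iff.2 (hsup ▸ sup_le le_rfl fun w hw => ?_))
        rcases hZC w hw with r' | r'
        · rw [show w = 1 from Subtype.ext r']; exact one_mem _
        · rw [show w = u from Subtype.ext (r'.trans r.symm)]; exact hu.2
    exact Subgroup.isComplement'_of_disjoint_and_mul_eq_univ (disjoint_iff.2 hinf)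
      (by rw [← Subgroup.normal_mul, sup_comm, hsup, Subgroup.coe_top])
  have hnbeq : Subgroup.closure (nb D₀ zz) = C := le_antisymm hnbC (fun x hx => by
    have : (⟨x, hx⟩ : C) ∈ N := htop ▸ Subgroup.mem_top _
    exact this)
  have hU6 : U6.IsU6 (ModCenter (Subgroup.closure (nb D₀ zz))) := by
    rw [hnbeq]
    exact ⟨F, hF1, hF2, hF4, ⟨e⟩⟩
  -- the two-point stabiliser has order 6531840
  have hI : ¬ 2 ^ 15 ∣ Nat.card (ModCenter (Subgroup.closure (nb D₀ zz ∩ nb D₀ c₀))) := by
    intro hdvd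
    obtain ⟨r, hr, hr'⟩ : ∃ r, r = Fi22.Rep.roots.getD 1 0 ∧ Fi22.Rep.tbl.run [1] 0 = r :=
      ⟨_, rfl, by decide +kernel⟩
    have hroot : Fi22.Rep.roots.getD 1 0 < 3510 ∧
        Nat.beq (Fi22.Rep.orb.getLab (Fi22.Rep.roots.getD 1 0)) 1 = true := by
      have := allRange_spec Fi22.Rep.roots_ok 1 (Nat.zero_le _) (by omega)
      rw [Bool.and_eq_true] at this
      exact ⟨Nat.le_of_ble_eq_true this.1, this.2⟩
    obtain ⟨qq, hq, -, hcnt⟩ := Fi22.rep.exists_orbit Fi22.nodup Fi22.Rep.descend Fi22.Rep.ws Fi22.Rep.ws_ok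
      Fi22.stab_closure Fi22.Rep.orb 1 (Fi22.Rep.roots.getD 1 0) hroot.1 hroot.2
      (fun p hp => allRange_spec (Fi22.Rep.orbit p hp) 1 (Nat.zero_le _) (by omega))
    have hcnt' : (MulAction.orbit SS qq).ncard = 2816 := hcnt.trans Fi22.Rep.size1
    set g₀ := (evalWord vv [1])⁻¹ with hg₀
    have hqg : qq = (g₀ : Fi22.pres.Gp ⧸ SS) := by
      refine Fi22.rep.point_injective Fi22.nodup (Fin.ext ?_)
      rw [hq, ← hr, ← hr']
      exact (hom_word (by decide)).symm
    have horb := (MulAction.orbitEquivQuotientStabilizer SS qq)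
    have hmul : Nat.card (MulAction.stabilizer SS qq) * 2816 = 18393661440 := by
      rw [← hcnt', ← Nat.card_coe_set_eq, Nat.card_congr horb, ← Fi22.stab_card]
      exact Subgroup.card_mul_index (MulAction.stabilizer SS qq)
    set M := SS ⊓ Subgroup.centralizer ({c₀} : Set Fi22.pres.Gp) with hM
    have hle : Subgroup.closure (nb D₀ zz ∩ nb D₀ c₀) ≤ M := (Subgroup.closure_le _).2 fun x hx =>
      ⟨hC ▸ Subgroup.mem_centralizer_singleton_iff.2 hx.1.2.2.symm.eq,
        Subgroup.mem_centralizer_singleton_iff.2 hx.2.2.2.symm.eq⟩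
    have hMdvd : Nat.card M ∣ Nat.card (MulAction.stabilizer SS qq) := by
      refine Subgroup.card_dvd_of_injective
        ({ toFun := fun m => ⟨⟨m.1, m.2.1⟩, ?_⟩, map_one' := rfl, map_mul' := fun _ _ => rfl } :
          M →* MulAction.stabilizer SS qq) fun a b h => Subtype.ext (congrArg (fun u => (u.1.1 : Fi22.pres.Gp)) h)
      rw [MulAction.mem_stabilizer_iff, hqg]
      show ((m.1 * g₀ : Fi22.pres.Gp) : Fi22.pres.Gp ⧸ SS) = _
      symm
      rw [QuotientGroup.eq, ← hC, Subgroup.mem_centralizer_singleton_iff]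
      have h1 : (m.1 : Fi22.pres.Gp) * c₀ = c₀ * m.1 := Subgroup.mem_centralizer_singleton_iff.1 m.2.2
      rw [hc₀, hg₀] at h1
      simp only [hg₀, inv_inv]
      calc evalWord vv [1] * (m.1 * (evalWord vv [1])⁻¹) * zz
          = evalWord vv [1] * (m.1 * ((evalWord vv [1])⁻¹ * zz * evalWord vv [1])) * (evalWord vv [1])⁻¹ := by group
        _ = zz * (evalWord vv [1] * (m.1 * (evalWord vv [1])⁻¹)) := by rw [h1]; group
    have h2 : 2 ^ 15 ∣ Nat.card (MulAction.stabilizer SS qq) :=
      ((hdvd.trans (Subgroup.card_quotient_dvd_card _)).trans (Subgroup.card_dvd_of_le hle)).trans hMdvd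
    have e6 : Nat.card (MulAction.stabilizer SS qq) = 6531840 := by omega
    rw [e6] at h2
    norm_num at h2
  exact ⟨D₀, cfg22_of_core22 hD ⟨hZbot, zz, hzD, c₀, hcD, hzc, hU6, hI⟩, inferInstance, ⟨zz, hzD⟩,
    Fi22.card_eq.1, Fi22.finite⟩

end Cfsg.Agent.TT95.Fi22Model
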