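import Cfsg.Agent.TT95.Orders23

/-!
Type M(23): the centraliser of two commuting transpositions.
-/

set_option autoImplicit false
set_option linter.unusedSectionVars false

namespace Cfsg.Agent.TT95

open Cfsg.Agent.TT95.U6

section K22

variable {K : Type*} [Group K] [Finite K] {E : Set K} (hC : Cfg22 E) {q : K} (hq : q ∈ E)

include hC hq

/-- Six neighbours of a point with trivial product. -/
theorem exists_six_one : ∃ l : List K, l.Nodup ∧ l.length = 6 ∧ (∀ x ∈ l, x ∈ nb E q) ∧
    (∀ x ∈ l, ∀ y ∈ l, Commute x y) ∧ l.prod = 1 := by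
  have hE := hC.tt
  obtain ⟨γ, hγ⟩ := hC.loc q hq
  obtain ⟨m1, m2, m3, -⟩ := base_isPt
  have o : orth e1 e2 = true ∧ orth e1 e3 = true ∧ orth e2 e3 = true ∧ e1 ≠ e2 ∧ e1 ≠ e3 ∧ e2 ≠ e3 ∧
      e3 ∉ line12 := by decide +kernel
  obtain ⟨o12, o13, o23, n12, n13, n23, n3⟩ := o
  obtain ⟨hb, hbq, cb⟩ := hγ.mem e1 m1
  obtain ⟨hc, hcq, cc⟩ := hγ.mem e2 m2
  obtain ⟨he, heq, ce⟩ := hγ.mem e3 m3
  have hne : γ e1 ≠ γ e2 ∧ γ e1 ≠ γ e3 ∧ γ e2 ≠ γ e3 :=
    ⟨fun e => n12 (hγ.inj _ _ m1 m2 e), fun e => n13 (hγ.inj _ _ m1 m3 e), fun e => n23 (hγ.inj _ _ m2 m3 e)⟩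
  have c12 := (hγ.comm _ _ m1 m2).2 o12
  have c13 := (hγ.comm _ _ m1 m3).2 o13
  have c23 := (hγ.comm _ _ m2 m3).2 o23
  obtain ⟨x, y, z, hx, hy, hz, xy, xz, yz, cxy, cxz, cyz, x1, x2, x3, hprod, -⟩ :=
    partner hC hb hc he hne c12 c13 c23
  rcases triple_cases hE hC.tf hb hc he hx hy hz hne ⟨xy, xz, yz⟩ c12 c13 c23 cxy cxz cyz hprod with h | h
  · exfalso
    rcases (h x).2 (Or.inl rfl) with r | r | r
    · exact x1 r
    · exact x2 r
    · exact x3 r
  obtain ⟨hnd, hcm, hone⟩ := h
  have hcq' : Commute q (x * y * z) := by rw [← hprod]; exact (cb.mul_right cc).mul_right ce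
  obtain ⟨qx, qy, qz⟩ := (ThreeTransp.centralize_three hE.1 hx hy hz hq xy xz yz cxy cxz cyz).1 hcq'
  have key : ∀ u v w : K, u ∈ E → v ∈ E → w ∈ E → v ≠ w → γ e3 ≠ v → γ e3 ≠ w → Commute (γ e3) v →
      Commute (γ e3) w → Commute v w → γ e1 * γ e2 * γ e3 = u * v * w → u ≠ q := by
    intro u v w _ hv hw nvw nv nw c3v c3w cvw e eu
    subst eu
    -- a point commuting with the first two base points but not with the third
    obtain ⟨r, r1, r2, r3⟩ : ∃ r, isPt r = true ∧ orth r e1 = true ∧ orth r e2 = true ∧ orth r e3 = false :=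
      ⟨f3, base_isPt.2.2.2.2.2, by decide +kernel, by decide +kernel, by decide +kernel⟩
    have k12 : Commute (γ r) (γ e1 * γ e2) := ((hγ.comm _ _ r1 m1).2 r2).mul_right ((hγ.comm _ _ r1 m2).2 r3.1)
    have hsq' : (v * w) * (v * w) = 1 := by
      rw [show v * w * (v * w) = v * (w * v) * w by group, ← cvw.eq,
        show v * (v * w) * w = (v * v) * (w * w) by group, sq hE hv, sq hE hw, one_mul]
    have e3' : γ e3 * v * w = (γ e1 * γ e2)⁻¹ * u := by
      calc γ e3 * v * w = (γ e1 * γ e2)⁻¹ * (γ e1 * γ e2 * γ e3) * (v * w) := by group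
        _ = (γ e1 * γ e2)⁻¹ * u * ((v * w) * (v * w)) := by rw [e]; group
        _ = _ := by rw [hsq', mul_one]
    have hcr : Commute (γ r) (γ e3 * v * w) := e3' ▸ k12.inv_right.mul_right (hγ.mem r r1).2.2.symm
    exact Bool.false_ne_true (r3.2.symm.trans ((hγ.comm _ _ r1 m3).1
      (ThreeTransp.centralize_three hE.1 he hv hw (hγ.mem r r1).1 nv nw nvw c3v c3w cvw |>.1 hcr).1))
  have hnd' := hnd
  simp only [List.nodup_cons, List.mem_cons, List.not_mem_nil, or_false, not_or] at hnd'
  obtain ⟨⟨-, -, -, -, -⟩, ⟨-, -, -, -⟩, ⟨n3x, n3y, n3z⟩, -⟩ := hnd'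
  have k3 : ∀ u ∈ [x, y, z], Commute (γ e3) u := fun u hu => hcm _ (by simp) u (by
    simp only [List.mem_cons] at hu ⊢; tauto)
  have ex : x * y * z = y * x * z := by rw [cxy.eq]
  have ez : x * y * z = z * x * y := by rw [mul_assoc z x y]; exact (cxz.symm.mul_right cyz.symm).eq.symm
  have nqx : x ≠ q := key x y z hx hy hz yz n3y n3z (k3 y (by simp)) (k3 z (by simp)) cyz hprod
  have nqy : y ≠ q := key y x z hy hx hz xz n3x n3z (k3 x (by simp)) (k3 z (by simp)) cxz (hprod.trans ex)
  have nqz : z ≠ q := key z x y hz hx hy xy n3x n3y (k3 x (by simp)) (k3 y (by simp)) cxy (hprod.trans ez)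
  refine ⟨[γ e1, γ e2, γ e3, x, y, z], hnd, rfl, ?_, hcm, hone⟩
  · intro u hu
    simp only [List.mem_cons, List.not_mem_nil, or_false] at hu
    rcases hu with rfl | rfl | rfl | rfl | rfl | rfl
    · exact ⟨hb, hbq, cb⟩
    · exact ⟨hc, hcq, cc⟩
    · exact ⟨he, heq, ce⟩
    · exact ⟨hx, nqx, qx⟩
    · exact ⟨hy, nqy, qy⟩
    · exact ⟨hz, nqz, qz⟩

end K22

theorem IsU6.center_bot {K : Type*} [Group K] (h : IsU6 K) : Subgroup.center K = ⊥ := by
  haveI := h.isSimple
  rcases IsSimpleGroup.eq_bot_or_eq_top_of_normal (Subgroup.center K) inferInstance with e | e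
  · exact e
  exfalso
  haveI : Finite K := Nat.finite_of_card_ne_zero (by rw [h.card]; norm_num)
  have hc : ∀ x y : K, x * y = y * x := fun x y => Subgroup.mem_center_iff.1 (e ▸ Subgroup.mem_top y) x
  letI : CommGroup K := { ‹Group K› with mul_comm := hc }
  have := (IsSimpleGroup.prime_card (α := K))
  rw [h.card] at this
  norm_num at this

variable {G : Type*} [Group G] [Finite G] {D : Set G} {d : G} (hG : Cfg23 D d) {a b : G} (ha : a ∈ D)
  (hb : b ∈ nb D a)

include hG ha hb

/-- A product lifted from six neighbours with trivial image is the first transposition. -/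
theorem prod_eq_of_image {l : List G} (hnd : l.Nodup) (hlen : l.length = 6) (hl : ∀ x ∈ l, x ∈ nb D a)
    (hcomm : ∀ x ∈ l, ∀ y ∈ l, Commute x y) {f : G → ModCenter (Subgroup.closure (nb D d))}
    (hf : Iso D a (locSet D d) f) (h1 : (l.map f).prod = 1) : l.prod = a := by
  have hD := hG.lay.tt
  obtain ⟨φ, hφ, -, hφ1⟩ := hf.exists_hom hD hG.loc.tt hG.loc.center
  have hm : l.prod ∈ Subgroup.closure (nb D a) := list_prod_mem fun x hx => Subgroup.subset_closure (hl x hx)
  have hval : ∀ (l : List G), (∀ x ∈ l, x ∈ nb D a) → ∀ hm, φ ⟨l.prod, hm⟩ = (l.map f).prod := by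
    intro l
    induction l with
    | nil =>
      intro _ hm
      rw [show (⟨([] : List G).prod, hm⟩ : Subgroup.closure (nb D a)) = 1 from Subtype.ext rfl, map_one]
      rfl
    | cons x l ih =>
      intro hl hm
      have hm' : l.prod ∈ Subgroup.closure (nb D a) :=
        list_prod_mem fun y hy => Subgroup.subset_closure (hl y (List.mem_cons_of_mem _ hy))
      rw [show (⟨(x :: l).prod, hm⟩ : Subgroup.closure (nb D a)) =
          ⟨x, Subgroup.subset_closure (hl x List.mem_cons_self)⟩ * ⟨l.prod, hm'⟩ from Subtype.ext List.prod_cons,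
        map_mul, hφ x (hl x List.mem_cons_self), ih (fun y hy => hl y (List.mem_cons_of_mem _ hy)) hm',
        List.map_cons, List.prod_cons]
  exact (hG.lay.kernel ha (commute_closure_nb hD hm).symm ((hφ1 ⟨_, hm⟩).1 ((hval l hl hm).trans h1))).resolve_left
    (noRel6 hG l hnd hlen (fun x hx => (hl x hx).1) hcomm)

/-- The first transposition is a product of six common neighbours. -/
theorem exists_six_common : ∃ l : List G, l.length = 6 ∧ (∀ x ∈ l, x ∈ common D a b) ∧ l.prod = a := by
  classical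
  haveI := loc_finite hG.lay.tt d
  obtain ⟨f, hf⟩ := hG.step.iso a ha
  obtain ⟨l', hnd, hlen, hl', hcm, hone⟩ := exists_six_one hG.loc (hf.mem hb)
  have hex : ∀ q : ModCenter (Subgroup.closure (nb D d)), ∃ x, q ∈ l' → x ∈ common D a b ∧ f x = q := by
    intro q
    by_cases h : q ∈ l'
    · have := hl' q h
      rw [← hf.image_nb hb] at this
      obtain ⟨x, hx, e⟩ := this
      exact ⟨x, fun _ => ⟨hx, e⟩⟩
    · exact ⟨1, fun h' => absurd h' h⟩
  choose r hr using hex
  refine ⟨l'.map r, by simp [hlen], ?_, prod_eq_of_image hG ha hb ?_ (by simp [hlen]) ?_ ?_ hf ?_⟩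
  · intro x hx
    obtain ⟨q, hq, rfl⟩ := List.mem_map.1 hx
    exact (hr q hq).1
  · exact (List.nodup_map_iff_inj_on hnd).2 fun q hq q' hq' e => by rw [← (hr q hq).2, ← (hr q' hq').2, e]
  · intro x hx
    obtain ⟨q, hq, rfl⟩ := List.mem_map.1 hx
    exact (hr q hq).1.1
  · intro x hx y hy
    obtain ⟨q, hq, rfl⟩ := List.mem_map.1 hx
    obtain ⟨q', hq', rfl⟩ := List.mem_map.1 hy
    rw [← hf.comm _ (hr q hq).1.1 _ (hr q' hq').1.1, (hr q hq).2, (hr q' hq').2]
    exact hcm q hq q' hq'
  · have e : List.map (f ∘ r) l' = List.map id l' := List.map_congr_left fun q hq => (hr q hq).2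
    rw [List.map_map, e, List.map_id, hone]

theorem fst_mem_common : a ∈ Subgroup.closure (common D a b) := by
  obtain ⟨l, -, hl, hp⟩ := exists_six_common hG ha hb
  have h : l.prod ∈ Subgroup.closure (common D a b) := list_prod_mem fun x hx => Subgroup.subset_closure (hl x hx)
  exact (congrArg (· ∈ Subgroup.closure (common D a b)) hp).mp h

theorem pair_subset_common : Subgroup.closure ({a, b} : Set G) ≤ Subgroup.closure (common D a b) := by
  rw [Subgroup.closure_le]
  rintro x (rfl | rfl)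
  · exact fst_mem_common hG ha hb
  · have := fst_mem_common hG hb.1 (mem_nb_comm ha hb)
    rwa [common_symm] at this

/-- The centraliser of a commuting pair is generated by their common neighbours. -/
theorem centralizer_pair [Gen D] :
    Subgroup.centralizer ({a, b} : Set G) = Subgroup.closure (common D a b) := by
  have hD := hG.lay.tt
  haveI := gen_loc hG
  haveI := loc_finite hD d
  refine le_antisymm (fun g hg => ?_) fun g hg => ?_
  · have hga : Commute g a := (Subgroup.mem_centralizer_iff.1 hg a (Or.inl rfl)).symm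
    have hgb : Commute g b := (Subgroup.mem_centralizer_iff.1 hg b (Or.inr rfl)).symm
    have hgH : g ∈ Subgroup.closure (nb D a) := by
      rw [← centralizer23 hG ha]; exact Subgroup.mem_centralizer_singleton_iff.2 hga.eq
    obtain ⟨f, hf⟩ := hG.step.iso a ha
    obtain ⟨q, -, hqx⟩ := hf.act_up hD hG.loc.tt subset_rfl hgH
    have hqb : Commute q (f b) := by
      have := hqx b hb
      rw [hgb.eq, mul_inv_cancel_right] at this
      exact mul_inv_eq_iff_eq_mul.1 this.symm
    have hmem : q ∈ Subgroup.centralizer ({f b} : Set _) := Subgroup.mem_centralizer_singleton_iff.2 hqb.eq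
    rw [centralizer_eq hG.loc (hf.mem hb), ← hf.image_nb hb] at hmem
    obtain ⟨k, hk, hkx⟩ := hf.act_down hD hG.loc.tt Set.inter_subset_left hmem
    have hkH : k ∈ Subgroup.closure (nb D a) := Subgroup.closure_mono Set.inter_subset_left hk
    have huH : k⁻¹ * g ∈ Subgroup.closure (nb D a) := mul_mem (inv_mem hkH) hgH
    have hfix : ∀ x ∈ nb D a, Commute (k⁻¹ * g) x := by
      intro x hx
      have e := hf.inj (conj_mem_nb hD hgH hx) (conj_mem_nb hD hkH hx) ((hqx x hx).trans (hkx x hx).symm)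
      refine mul_inv_eq_iff_eq_mul.1 ?_
      rw [show k⁻¹ * g * x * (k⁻¹ * g)⁻¹ = k⁻¹ * (g * x * g⁻¹) * k by group, e]
      group
    rw [show g = k * (k⁻¹ * g) by group]
    refine mul_mem hk ?_
    rcases hG.lay.kernel ha (commute_closure_nb hD huH).symm hfix with e | e
    · rw [e]; exact one_mem _
    · rw [e]; exact fst_mem_common hG ha hb
  · refine Subgroup.mem_centralizer_iff.2 ?_
    rintro x (rfl | rfl)
    · exact (commute_closure_nb hD (Subgroup.closure_mono Set.inter_subset_left hg)).eq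
    · exact (commute_closure_nb hD (Subgroup.closure_mono Set.inter_subset_right hg)).eq

/-- The subgroup generated by the common neighbours is perfect. -/
theorem common_perfect : Group.IsPerfect (Subgroup.closure (common D a b)) := by
  have hD := hG.lay.tt
  haveI := gen_loc hG
  haveI := loc_finite hD d
  rw [Group.isPerfect_def]
  set L := Subgroup.closure (common D a b) with hL
  set π := (Abelianization.of : L →* Abelianization L) with hπ
  obtain ⟨c, hc⟩ : (common D a b).Nonempty :=
    Set.nonempty_of_ncard_ne_zero (by rw [hG.lay.card_edge a ha b hb]; norm_num)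
  set t := π ⟨c, Subgroup.subset_closure hc⟩ with ht
  have hall : ∀ (x : G) (hx : x ∈ common D a b), π ⟨x, Subgroup.subset_closure hx⟩ = t := by
    intro x hx
    obtain ⟨g, hg, e⟩ := common_trans hG ha hb hx hc
    have : (⟨x, Subgroup.subset_closure hx⟩ : L) =
        ⟨g, hg⟩ * ⟨c, Subgroup.subset_closure hc⟩ * (⟨g, hg⟩ : L)⁻¹ := Subtype.ext e.symm
    rw [this, map_mul, map_mul, map_inv, mul_comm (π ⟨g, hg⟩), mul_assoc, mul_inv_cancel, mul_one]
  have t2 : t * t = 1 := by
    rw [ht, ← map_mul, show (⟨c, Subgroup.subset_closure hc⟩ : L) * ⟨c, Subgroup.subset_closure hc⟩ = 1 from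
      Subtype.ext (sq hD hc.1.1), map_one]
  have hsix : ∀ {x : G} (l : List G), (∀ y ∈ l, y ∈ common D a b) → ∀ hm : l.prod ∈ L, l.length = 6 → l.prod = x →
      ∀ hx : x ∈ L, π ⟨x, hx⟩ = 1 := by
    intro x l hl hm hlen e hx
    subst e
    have hprod : ∀ (l : List G), (∀ y ∈ l, y ∈ common D a b) → ∀ hm : l.prod ∈ L, π ⟨l.prod, hm⟩ = t ^ l.length := by
      intro l
      induction l with
      | nil =>
        intro _ hm
        rw [show (⟨([] : List G).prod, hm⟩ : L) = 1 from Subtype.ext rfl, map_one, List.length_nil, pow_zero]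
      | cons x l ih =>
        intro hl hm
        have hm' : l.prod ∈ L := by
          rw [hL]; exact list_prod_mem fun y hy => Subgroup.subset_closure (hl y (List.mem_cons_of_mem _ hy))
        rw [show (⟨(x :: l).prod, hm⟩ : L) = ⟨x, Subgroup.subset_closure (hl x List.mem_cons_self)⟩ * ⟨l.prod, hm'⟩
            from Subtype.ext List.prod_cons, map_mul, hall x (hl x List.mem_cons_self),
          ih (fun y hy => hl y (List.mem_cons_of_mem _ hy)) hm', List.length_cons, pow_succ']
    rw [hprod l hl hx, hlen, show 6 = 2 * 3 from rfl, pow_mul, pow_two, t2, one_pow]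
  have haL : a ∈ L := fst_mem_common hG ha hb
  have hbL : b ∈ L := pair_subset_common hG ha hb (Subgroup.subset_closure (Or.inr rfl))
  have hπa : π ⟨a, haL⟩ = 1 := by
    obtain ⟨l, hlen, hl, hp⟩ := exists_six_common hG ha hb
    exact hsix l hl (by rw [hp]; exact haL) hlen hp haL
  obtain ⟨f, hf⟩ := hG.step.iso a ha
  obtain ⟨φ, hφ, -, hφ1⟩ := hf.exists_hom hD hG.loc.tt hG.loc.center
  have hLH : L ≤ Subgroup.closure (nb D a) := Subgroup.closure_mono Set.inter_subset_left
  set ψ := φ.comp (Subgroup.inclusion hLH)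
  have hker : ∀ g : L, ψ g = 1 → π g = 1 := by
    intro g hg
    rcases hG.lay.kernel ha (commute_closure_nb hD (hLH g.2)).symm ((hφ1 _).1 hg) with e | e
    · rw [show g = 1 from Subtype.ext e, map_one]
    · rw [show g = ⟨a, haL⟩ from Subtype.ext e, hπa]
  have hrange : ψ.range = Subgroup.closure (nb (locSet D d) (f b)) := by
    rw [MonoidHom.range_eq_map, ← Subgroup.closure_closure_coe_preimage (k := common D a b), MonoidHom.map_closure,
      ← hf.image_nb hb]
    congr 1
    ext q
    constructor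
    · rintro ⟨x, hx, rfl⟩
      exact ⟨(x : G), hx, (hφ _ hx.1).symm⟩
    · rintro ⟨x, hx, rfl⟩
      exact ⟨⟨x, Subgroup.subset_closure hx⟩, hx, hφ _ hx.1⟩
  have hperf := loc_perfect hG.loc (hf.mem hb)
  rw [Group.isPerfect_def] at hperf
  have key : ∀ g : L, π g = 1 := by
    intro g
    obtain ⟨g', hg'⟩ : ∃ g' : L, g' ∈ commutator L ∧ ψ g' = ψ g := by
      have : ψ g ∈ (commutator ψ.range).map ψ.range.subtype := by
        have h1 : commutator ψ.range = ⊤ := by rw [hrange]; exact hperf
        rw [h1]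
        exact ⟨⟨ψ g, g, rfl⟩, trivial, rfl⟩
      rw [Subgroup.map_subtype_commutator, MonoidHom.range_eq_map, ← Subgroup.map_commutator, ← commutator_def] at this
      obtain ⟨g', h1, h2⟩ := this
      exact ⟨g', h1, h2⟩
    have h1 : π g' = 1 := MonoidHom.mem_ker.1 (Abelianization.commutator_subset_ker π hg'.1)
    have := hker (g * g'⁻¹) (by rw [map_mul, map_inv, hg'.2, mul_inv_cancel])
    rwa [map_mul, map_inv, h1, inv_one, mul_one] at this
  exact eq_top_iff.2 fun h _ => by
    have := key h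
    rwa [hπ, ← MonoidHom.mem_ker, Abelianization.ker_of] at this

/-- The centre of that subgroup is generated by the two transpositions. -/
theorem center_common :
    (Subgroup.center (Subgroup.closure (common D a b))).map (Subgroup.closure (common D a b)).subtype =
      Subgroup.closure ({a, b} : Set G) ∧
    ∃ (F : Type) (_ : Field F) (_ : Fintype F), Fintype.card F = 4 ∧
      Nonempty (↥(Subgroup.closure (common D a b)) ⧸ Subgroup.center ↥(Subgroup.closure (common D a b)) ≃*
        Cfsg.PSU 6 F 2) := by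
  have hD := hG.lay.tt
  haveI := gen_loc hG
  haveI := loc_finite hD d
  set L := Subgroup.closure (common D a b) with hL
  obtain ⟨f, hf⟩ := hG.step.iso a ha
  obtain ⟨φ, hφ, -, hφ1⟩ := hf.exists_hom hD hG.loc.tt hG.loc.center
  have hLH : L ≤ Subgroup.closure (nb D a) := Subgroup.closure_mono Set.inter_subset_left
  set q := f b with hq
  set H := Subgroup.closure (nb (locSet D d) q) with hH
  have hrange : ∀ g : L, φ (Subgroup.inclusion hLH g) ∈ H := by
    rintro ⟨g, hg⟩
    induction hg using Subgroup.closure_induction with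
    | mem x hx => exact (hφ x hx.1).symm ▸ Subgroup.subset_closure ((hf.mem_nb_iff hb hx.1).2 hx.2)
    | one => exact (map_one φ).symm ▸ one_mem _
    | mul u v hu hv iu iv =>
      rw [show (⟨u * v, mul_mem hu hv⟩ : L) = ⟨u, hu⟩ * ⟨v, hv⟩ from rfl, map_mul, map_mul]
      exact mul_mem iu iv
    | inv u hu iu =>
      rw [show (⟨u⁻¹, inv_mem hu⟩ : L) = (⟨u, hu⟩ : L)⁻¹ from rfl, map_inv, map_inv]
      exact inv_mem iu
  set ψ : L →* H := (φ.comp (Subgroup.inclusion hLH)).codRestrict H hrange
  have hsurj : Function.Surjective ψ := by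
    rintro ⟨p, hp⟩
    induction hp using Subgroup.closure_induction with
    | mem e he =>
      rw [← hf.image_nb hb] at he
      obtain ⟨x, hx, rfl⟩ := he
      exact ⟨⟨x, Subgroup.subset_closure hx⟩, Subtype.ext (hφ x hx.1)⟩
    | one => exact ⟨1, map_one ψ⟩
    | mul u v hu hv iu iv =>
      obtain ⟨g, hg⟩ := iu
      obtain ⟨g', hg'⟩ := iv
      exact ⟨g * g', by rw [map_mul, hg, hg']; rfl⟩
    | inv u hu iu =>
      obtain ⟨g, hg⟩ := iu
      exact ⟨g⁻¹, by rw [map_inv, hg]; rfl⟩
  have hbL : b ∈ L := pair_subset_common hG ha hb (Subgroup.subset_closure (Or.inr rfl))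
  have hbH : b ∈ Subgroup.closure (nb D a) := Subgroup.subset_closure hb
  have hmemV : ∀ z : L, ψ z ∈ Subgroup.center H → (z : G) ∈ Subgroup.closure ({a, b} : Set G) := by
    intro z hz
    rw [center_loc hG.loc (hf.mem hb), Subgroup.mem_subgroupOf] at hz
    have ho := hG.loc.tt.1.1 q (hf.mem hb)
    obtain ⟨i, hi⟩ := Subgroup.mem_zpowers_iff.1 hz
    have hcase : φ (Subgroup.inclusion hLH z) = 1 ∨ φ (Subgroup.inclusion hLH z) = q := by
      have hi' : φ (Subgroup.inclusion hLH z) = q ^ i := hi.symm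
      rcases Int.even_or_odd i with ⟨j, rfl⟩ | ⟨j, rfl⟩
      · left; rw [hi', ← two_mul, zpow_mul, zpow_two, sq hG.loc.tt (hf.mem hb), one_zpow]
      · right; rw [hi', zpow_add, zpow_mul, zpow_two, sq hG.loc.tt (hf.mem hb), one_zpow, one_mul, zpow_one]
    have hfix : ∀ u : Subgroup.closure (nb D a), φ u = 1 → (u : G) = 1 ∨ (u : G) = a := fun u hu =>
      hG.lay.kernel ha (commute_closure_nb hD u.2).symm ((hφ1 u).1 hu)
    have va : a ∈ Subgroup.closure ({a, b} : Set G) := Subgroup.subset_closure (Or.inl rfl)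
    have vb : b ∈ Subgroup.closure ({a, b} : Set G) := Subgroup.subset_closure (Or.inr rfl)
    rcases hcase with e | e
    · rcases hfix _ e with e' | e'
      · rw [show (z : G) = 1 from e']; exact one_mem _
      · rw [show (z : G) = a from e']; exact va
    · rcases hfix (Subgroup.inclusion hLH z * ⟨b, hbH⟩⁻¹) (by rw [map_mul, map_inv, e, hφ b hb, mul_inv_cancel])
        with e' | e'
      · rw [show (z : G) = b from mul_inv_eq_one.1 e']; exact vb
      · rw [show (z : G) = a * b from mul_inv_eq_iff_eq_mul.1 e']; exact mul_mem va vb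
  have hVcen : ∀ z : L, (z : G) ∈ Subgroup.closure ({a, b} : Set G) → z ∈ Subgroup.center L := by
    intro z hz
    refine Subgroup.mem_center_iff.2 fun w => Subtype.ext ?_
    have hle : Subgroup.closure ({a, b} : Set G) ≤ Subgroup.centralizer {(w : G)} := by
      rw [Subgroup.closure_le]
      rintro x (rfl | rfl) <;> rw [SetLike.mem_coe, Subgroup.mem_centralizer_singleton_iff]
      · exact (commute_closure_nb hD (Subgroup.closure_mono Set.inter_subset_left w.2)).eq
      · exact (commute_closure_nb hD (Subgroup.closure_mono Set.inter_subset_right w.2)).eq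
    exact (Subgroup.mem_centralizer_singleton_iff.1 (hle hz)).symm
  have hcz : ∀ z : L, z ∈ Subgroup.center L → ψ z ∈ Subgroup.center H := fun z hz =>
    Subgroup.mem_center_iff.2 fun p => by
      obtain ⟨g, rfl⟩ := hsurj p
      rw [← map_mul, ← map_mul, Subgroup.mem_center_iff.1 hz g]
  refine ⟨?_, ?_⟩
  · ext x
    constructor
    · rintro ⟨z, hz, rfl⟩
      exact hmemV z (hcz z hz)
    · intro hx
      exact ⟨⟨x, pair_subset_common hG ha hb hx⟩, hVcen _ hx, rfl⟩
  · obtain ⟨F, i1, i2, hF, ⟨e⟩⟩ := isU6_loc hG.loc hG.core (hf.mem hb)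
    have hker : ((QuotientGroup.mk' (Subgroup.center H)).comp ψ).ker = Subgroup.center L := by
      ext z
      rw [MonoidHom.mem_ker, MonoidHom.comp_apply, QuotientGroup.mk'_apply, QuotientGroup.eq_one_iff]
      exact ⟨fun h => hVcen z (hmemV z h), hcz z⟩
    set χ : L →* ModCenter H := (QuotientGroup.mk' (Subgroup.center H)).comp ψ with hχ
    have hχs : Function.Surjective χ := fun y => by
      obtain ⟨p, rfl⟩ := QuotientGroup.mk_surjective y
      obtain ⟨g, rfl⟩ := hsurj p
      exact ⟨g, rfl⟩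
    exact ⟨F, i1, i2, hF, ⟨(QuotientGroup.quotientMulEquivOfEq hker.symm).trans
      ((QuotientGroup.quotientKerEquivOfSurjective χ hχs).trans e)⟩⟩

theorem common_quasisimple : Cfsg.IsQuasisimple (Subgroup.closure (common D a b)) :=
  ⟨common_perfect hG ha hb, U6.IsU6.isSimple (center_common hG ha hb).2⟩

/-- Only the pair and its products centralise the product modulo the pair. -/
theorem center_quot [Gen D] (C V : Subgroup G) (hC : C = Subgroup.centralizer ({a * b} : Set G))
    (hV : V = Subgroup.closure ({a, b} : Set G)) [hn : (V.subgroupOf C).Normal] :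
    Subgroup.center (↥C ⧸ V.subgroupOf C) = ⊥ := by
  have hD := hG.lay.tt
  have htf := hG.lay.tf
  refine (Subgroup.eq_bot_iff_forall _).2 fun p hp => ?_
  obtain ⟨c, rfl⟩ := QuotientGroup.mk_surjective p
  have hxC : ∀ x ∈ common D a b, x ∈ C := fun x hx => by
    rw [hC]
    exact Subgroup.mem_centralizer_singleton_iff.2 (hx.1.2.2.mul_left hx.2.2.2).symm.eq
  have sa := sq hD ha
  have sb := sq hD hb.1
  have hab := hb.2.2
  have hV4 : ∀ v ∈ V, v = 1 ∨ v = a ∨ v = b ∨ v = a * b := by
    intro v hv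
    rw [hV] at hv
    induction hv using Subgroup.closure_induction'' with
    | mem x hx => rcases hx with rfl | rfl <;> simp
    | inv_mem x hx =>
      rcases hx with rfl | rfl
      · simp [inv_eq hD ha]
      · simp [inv_eq hD hb.1]
    | one => simp
    | mul u w _ _ iu iw =>
      have t1 : b * a = a * b := hab.symm.eq
      have t2 : a * (a * b) = b := by rw [← mul_assoc, sa, one_mul]
      have t3 : a * b * b = a := by rw [mul_assoc, sb, mul_one]
      have t4 : a * b * a = b := by rw [mul_assoc, t1, t2]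
      have t5 : b * (a * b) = a := by rw [← mul_assoc, t1, t3]
      have t6 : a * b * (a * b) = 1 := by rw [← mul_assoc, t4, sb]
      rcases iu with e | e | e | e <;> rcases iw with e' | e' | e' | e' <;> rw [e, e'] <;>
        simp [sa, sb, t1, t2, t3, t4, t5, t6]
  have hcomm : ∀ x ∈ common D a b, Commute (c : G) x := by
    intro x hx
    have h : (QuotientGroup.mk c : ↥C ⧸ V.subgroupOf C) * QuotientGroup.mk ⟨x, hxC x hx⟩ * (QuotientGroup.mk c)⁻¹ =
        QuotientGroup.mk ⟨x, hxC x hx⟩ := by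
      rw [← Subgroup.mem_center_iff.1 hp (QuotientGroup.mk ⟨x, hxC x hx⟩), mul_inv_cancel_right]
    rw [← QuotientGroup.mk_mul, ← QuotientGroup.mk_inv, ← QuotientGroup.mk_mul, eq_comm, QuotientGroup.eq,
      Subgroup.mem_subgroupOf] at h
    refine mul_inv_eq_iff_eq_mul.1 ?_
    rcases hV4 _ h with e | e | e | e
    · exact (inv_mul_eq_one.1 e).symm
    · exfalso
      refine mul_two_notMem hD htf ha hx.1 ?_
      rw [hx.1.2.2.eq, ← inv_mul_eq_iff_eq_mul.1 e]
      exact conj_mem hD (c : G) hx.1.1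
    · exfalso
      refine mul_two_notMem hD htf hb.1 hx.2 ?_
      rw [hx.2.2.2.eq, ← inv_mul_eq_iff_eq_mul.1 e]
      exact conj_mem hD (c : G) hx.1.1
    · exfalso
      refine mul_three_notMem hD htf hx.1.1 ha hb.1 hx.1.2.1 hx.2.2.1 hb.2.1.symm hx.1.2.2.symm hx.2.2.2.symm hab ?_
      rw [mul_assoc, ← inv_mul_eq_iff_eq_mul.1 e]
      exact conj_mem hD (c : G) hx.1.1
  have hcL : ∀ y ∈ Subgroup.closure (common D a b), Commute (c : G) y := by
    intro y hy
    induction hy using Subgroup.closure_induction with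
    | mem x hx => exact hcomm x hx
    | one => exact Commute.one_right _
    | mul u v _ _ iu iv => exact iu.mul_right iv
    | inv u _ iu => exact iu.inv_right
  have hcL' : (c : G) ∈ Subgroup.closure (common D a b) := by
    rw [← centralizer_pair hG ha hb]
    refine Subgroup.mem_centralizer_iff.2 ?_
    rintro x (rfl | rfl)
    · exact (hcL _ (pair_subset_common hG ha hb (Subgroup.subset_closure (Or.inl rfl)))).eq.symm
    · exact (hcL _ (pair_subset_common hG ha hb (Subgroup.subset_closure (Or.inr rfl)))).eq.symm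
  refine (QuotientGroup.eq_one_iff _).2 ?_
  rw [Subgroup.mem_subgroupOf, hV, ← (center_common hG ha hb).1]
  exact ⟨⟨c, hcL'⟩, Subgroup.mem_center_iff.2 fun w => Subtype.ext (hcL _ w.2).eq.symm, rfl⟩

/-- Half of the centraliser of the product fixes both. -/
theorem index_two :
    Subgroup.centralizer ({a, b} : Set G) ≤ Subgroup.centralizer ({a * b} : Set G) ∧
      ((Subgroup.centralizer ({a, b} : Set G)).subgroupOf (Subgroup.centralizer ({a * b} : Set G))).index = 2 := by
  have hD := hG.lay.tt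
  have hab := hb.2.2
  have hne : a ≠ b := hb.2.1.symm
  refine ⟨fun g hg => Subgroup.mem_centralizer_singleton_iff.2 ?_, ?_⟩
  · have h1 : Commute a g := Subgroup.mem_centralizer_iff.1 hg a (Or.inl rfl)
    have h2 : Commute b g := Subgroup.mem_centralizer_iff.1 hg b (Or.inr rfl)
    exact (h1.symm.mul_right h2.symm).eq
  obtain ⟨e, hea, heb⟩ := hG.lay.exists_far_both (by norm_num) ha hb.1
  have nea : ¬ Commute e a := fun h => hea.2 h.symm
  have neb : ¬ Commute e b := fun h => heb.2 h.symm
  have f1 := swap_conj_fst hD ha hb.1 hea.1 hab hne nea neb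
  have f2 := swap_conj_snd hD ha hb.1 hea.1 hab hne nea neb
  have hs : swapEl a b e ∈ Subgroup.centralizer ({a * b} : Set G) := by
    rw [Subgroup.mem_centralizer_singleton_iff, ← mul_inv_eq_iff_eq_mul,
      show swapEl a b e * (a * b) * (swapEl a b e)⁻¹ =
        swapEl a b e * a * (swapEl a b e)⁻¹ * (swapEl a b e * b * (swapEl a b e)⁻¹) by group, f1, f2, hab.eq]
  have hperm : ∀ u : G, u ∈ Subgroup.centralizer ({a * b} : Set G) →
      (u * a * u⁻¹ = a ∧ u * b * u⁻¹ = b) ∨ (u * a * u⁻¹ = b ∧ u * b * u⁻¹ = a) := by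
    intro u hu
    refine pair_unique hD hG.lay.tf ha hb.1 (conj_mem hD u ha) (conj_mem hD u hb.1) hne hab
      ((Commute.conj_iff u).2 hab) ?_
    rw [show u * a * u⁻¹ * (u * b * u⁻¹) = u * (a * b) * u⁻¹ by group,
      Subgroup.mem_centralizer_singleton_iff.1 hu, mul_inv_cancel_right]
  have hfix : ∀ u : G, u * a * u⁻¹ = a ∧ u * b * u⁻¹ = b ↔ u ∈ Subgroup.centralizer ({a, b} : Set G) := by
    intro u
    rw [Subgroup.mem_centralizer_iff, mul_inv_eq_iff_eq_mul, mul_inv_eq_iff_eq_mul]
    exact ⟨fun h => by rintro x (rfl | rfl); exacts [h.1.symm, h.2.symm],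
      fun h => ⟨(h a (Or.inl rfl)).symm, (h b (Or.inr rfl)).symm⟩⟩
  rw [Subgroup.index_eq_two_iff]
  refine ⟨⟨_, hs⟩, fun v => ?_⟩
  simp only [Subgroup.mem_subgroupOf, Subgroup.coe_mul, ← hfix]
  have e : ∀ x, (v : G) * swapEl a b e * x * ((v : G) * swapEl a b e)⁻¹ =
      v * (swapEl a b e * x * (swapEl a b e)⁻¹) * (v : G)⁻¹ := fun x => by group
  rw [e, e, f1, f2]
  rcases hperm v v.2 with h | h
  · exact Or.inr ⟨h, fun h' => hne (h'.1.symm.trans h.2)⟩
  · exact Or.inl ⟨⟨h.2, h.1⟩, fun h' => hne (h'.1.symm.trans h.1)⟩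

end Cfsg.Agent.TT95
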