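import Cfsg.Agent.TT95.PairFit
import Cfsg.Agent.TT95.K45.AutPSU4

/-!
Type M(22): the structure of the centralizer of a product of two commuting transpositions.
-/

set_option autoImplicit false

namespace Cfsg.Agent.TT95

open Cfsg.Agent.TT95.U6 Cfsg.Agent.TT95.K45G

variable {G : Type*} [Group G] [Finite G] {D : Set G} (hC : Cfg22 D) [Gen D] {a b : G} (ha : a ∈ D) (hb : b ∈ D)
  (hne : a ≠ b) (hab : Commute a b)

include hC ha hb hne hab

/-- An element exchanging the pair. -/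
theorem exists_pair_swap : ∃ s ∈ pairStab a b, s * a * s⁻¹ = b ∧ s * b * s⁻¹ = a := by
  obtain ⟨d, hd, hda, hdb⟩ : ∃ d ∈ D, ¬ Commute d a ∧ ¬ Commute d b := by
    by_contra h
    push Not at h
    have hsub : D ⊆ ({a, b} ∪ nb D a) ∪ nb D b := by
      intro d hd
      by_cases h1 : d = a
      · simp [h1]
      by_cases h2 : d = b
      · simp [h2]
      by_cases h3 : Commute d a
      · exact Or.inl (Or.inr ⟨hd, h1, h3.symm⟩)
      · exact Or.inr ⟨hd, h2, (h d hd h3).symm⟩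
    have h1 := Set.ncard_le_ncard hsub (Set.toFinite _)
    have h2 := Set.ncard_union_le ({a, b} ∪ nb D a) (nb D b)
    have h3 := Set.ncard_union_le ({a, b} : Set G) (nb D a)
    rw [ncard_D hC ha] at h1
    rw [ncard_nb hC ha, Set.ncard_pair hne] at h3
    rw [ncard_nb hC hb] at h2
    omega
  have h1 := swap_conj_fst hC.tt ha hb hd hab hne hda hdb
  have h2 := swap_conj_snd hC.tt ha hb hd hab hne hda hdb
  exact ⟨swapEl a b d, Or.inr ⟨h1, h2⟩, h1, h2⟩

/-- The centralizer of the pair has index two. -/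
theorem pair_index_two :
    ((Subgroup.centralizer ({a, b} : Set G)).subgroupOf (pairStab a b)).index = 2 := by
  obtain ⟨s, hs, hsa, hsb⟩ := exists_pair_swap hC ha hb hne hab
  have hmem : ∀ g : G, g ∈ Subgroup.centralizer ({a, b} : Set G) ↔ g * a * g⁻¹ = a ∧ g * b * g⁻¹ = b := by
    intro g
    rw [Subgroup.mem_centralizer_iff]
    simp only [Set.mem_insert_iff, Set.mem_singleton_iff, forall_eq_or_imp, forall_eq, mul_inv_eq_iff_eq_mul]
    exact and_congr eq_comm eq_comm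
  rw [Subgroup.index_eq_two_iff]
  refine ⟨⟨s, hs⟩, fun g => ?_⟩
  simp only [Subgroup.mem_subgroupOf, hmem, Subgroup.coe_mul]
  have e : ∀ x : G, (g : G) * s * x * ((g : G) * s)⁻¹ = g * (s * x * s⁻¹) * (g : G)⁻¹ := fun x => by group
  rw [e, e, hsa, hsb]
  rcases g.2 with ⟨h1, h2⟩ | ⟨h1, h2⟩
  · exact Or.inr ⟨⟨h1, h2⟩, fun h => hne (h.1.symm.trans h2)⟩
  · exact Or.inl ⟨⟨h2, h1⟩, fun h => hne (h.1.symm.trans h1)⟩

end Cfsg.Agent.TT95
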