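import Cfsg.Agent.TT95.K45.Keys
import Cfsg.Agent.TT95.K45.Lower
import Cfsg.Agent.TT95.Clique

/-!
Type M(22): the stabiliser of a pair of commuting transpositions acts on the 45 keys as the whole group of
automorphisms of their graph.
-/

set_option autoImplicit false
set_option linter.unusedSectionVars false

namespace Cfsg.Agent.TT95

open Cfsg.Agent.TT95.U6 Cfsg.Agent.TT95.K45G

/-- The index of a key. -/
theorem exists_index : ∃ e : Fin 45 ≃ K45, ∀ i : Fin 45, (e i : ℕ) = kv i := by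
  have hm : ∀ i : Fin 45, kv i ∈ keySet := fun i => by
    have h := List.all_eq_true.1 keyList_check i (List.mem_range.2 i.2)
    rw [Bool.and_eq_true] at h
    exact List.mem_toFinset.2 (List.elem_iff.1 h.1)
  let f : Fin 45 → K45 := fun i => ⟨kv i, hm i⟩
  have hf : Function.Injective f := fun i j e => by
    have h := List.all_eq_true.1 keyList_check i (List.mem_range.2 i.2)
    rw [Bool.and_eq_true, List.all_eq_true] at h
    have h2 := h.2 j (List.mem_range.2 j.2)
    simp only [Bool.and_eq_true, Bool.or_eq_true, beq_iff_eq, bne_iff_ne] at h2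
    rcases h2.1 with e' | e'
    · exact Fin.ext e'
    · exact absurd (congrArg Subtype.val e) e'
  exact ⟨Equiv.ofBijective f ((Fintype.bijective_iff_injective_and_card f).2
    ⟨hf, by rw [Fintype.card_fin, card_K45]⟩), fun i => rfl⟩

theorem adj_kv {i j : ℕ} (hi : i < 45) (hj : j < 45) : adj i j = true ↔ i ≠ j ∧ orth (kv i) (kv j) = true := by
  have h := List.all_eq_true.1 keyList_check i (List.mem_range.2 hi)
  rw [Bool.and_eq_true, List.all_eq_true] at h
  have h2 := h.2 j (List.mem_range.2 hj)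
  rw [Bool.and_eq_true, beq_iff_eq] at h2
  simp [h2.2]

/-- The centraliser of the product is the stabiliser of the pair. -/
theorem pairStab_eq {G : Type*} [Group G] {D : Set G} (hC : Cfg22 D) {a b : G} (ha : a ∈ D) (hb : b ∈ D)
    (hne : a ≠ b) (hab : Commute a b) : pairStab a b = Subgroup.centralizer ({a * b} : Set G) := by
  ext g
  rw [Subgroup.mem_centralizer_singleton_iff]
  constructor
  · intro h
    refine mul_inv_eq_iff_eq_mul.1 ?_
    rw [show g * (a * b) * g⁻¹ = g * a * g⁻¹ * (g * b * g⁻¹) by group]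
    rcases h with ⟨h1, h2⟩ | ⟨h1, h2⟩ <;> rw [h1, h2]
    exact hab.eq.symm
  · intro h
    refine pair_unique hC.tt hC.tf ha hb (conj_mem hC.tt g ha) (conj_mem hC.tt g hb) hne hab
      ((Commute.conj_iff g).2 hab) ?_
    rw [show g * a * g⁻¹ * (g * b * g⁻¹) = g * (a * b) * g⁻¹ by group, mul_inv_eq_iff_eq_mul.2 h]

variable {G : Type*} [Group G] [Finite G] {D : Set G} (hC : Cfg22 D) [Gen D] {a b : G} (ha : a ∈ D)
  {γ : ℕ → G} (hγ : IsLocal D a γ) (hb : γ e1 = b)

include hC ha hγ hb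

/-- The transvections through the pair. -/
theorem gen_mem {x : ℕ} (hx : isR x) : γ x ∈ pairStab a b := by
  obtain ⟨c1, c2, -⟩ := isR_commute hC ha hγ hb hx
  exact mem_pairStab_of_fix hC ha hγ hb c1 (by rw [c2.eq, mul_inv_cancel_right])

/-- The stabiliser of the pair maps onto the automorphisms of the graph. -/
theorem exists_keyAction (hcore : Core22 G D) :
    ∃ (Ψ : pairStab a b →* autGraph), Function.Surjective Ψ ∧
      ∀ (g : pairStab a b) (i : Fin 45) (y : ℕ), isR y → γ y = (g : G) * γ (kv i) * (g : G)⁻¹ →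
        kv (((Ψ g).1 i : Fin 45) : ℕ) = key y := by
  classical
  obtain ⟨Φ, hΦ⟩ := exists_keyHom hC ha hγ hb
  obtain ⟨e, he⟩ := exists_index
  set Φ' : pairStab a b →* Equiv.Perm (Fin 45) := (e.symm.permCongrHom).toMonoidHom.comp Φ with hΦ'
  have hkR : ∀ i : Fin 45, isR (kv i) ∧ key (kv i) = kv i := fun i => he i ▸ isR_key (e i).2
  have hspec : ∀ (g : pairStab a b) (i : Fin 45) (y : ℕ), isR y → γ y = (g : G) * γ (kv i) * (g : G)⁻¹ →
      kv ((Φ' g i : Fin 45) : ℕ) = key y := by
    intro g i y hy ey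
    have e2 : Φ' g i = e.symm (Φ g (e i)) := by simp [hΦ']
    rw [e2, ← he, Equiv.apply_symm_apply, ← hΦ g (kv i) y (hkR i).1 hy ey]
    congr 2
    exact Subtype.ext (by rw [he]; exact (hkR i).2.symm)
  have haut : ∀ g, Φ' g ∈ autGraph := by
    intro g i j
    obtain ⟨y, hy, ey⟩ := pair_move hC ha hγ hb g.2 (hkR i).1
    obtain ⟨z, hz, ez⟩ := pair_move hC ha hγ hb g.2 (hkR j).1
    have s1 := hspec g i y hy ey
    have s2 := hspec g j z hz ez
    rw [Bool.eq_iff_iff, adj_kv (Φ' g i).2 (Φ' g j).2, adj_kv i.2 j.2, s1, s2, ← orth_keys hC ha hγ hb hy hz, ey, ez,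
      Commute.conj_iff, orth_keys hC ha hγ hb (hkR i).1 (hkR j).1, (hkR i).2, (hkR j).2]
    refine and_congr_left fun _ => ?_
    constructor
    · intro h e'
      exact h (by rw [Fin.ext e'])
    · intro h e'
      exact h (congrArg Fin.val ((Φ' g).injective (Fin.ext e')))
  refine ⟨Φ'.codRestrict autGraph haut, ?_, hspec⟩
  -- surjectivity by counting
  set R := Φ'.range with hR
  have hRle : R ≤ autGraph := by rintro _ ⟨g, rfl⟩; exact haut g
  set R0 := R ⊓ (Equiv.Perm.sign : Equiv.Perm (Fin 45) →* ℤˣ).ker with hR0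
  have hsign : ∀ g, Equiv.Perm.sign (Φ' g) = Equiv.Perm.sign (Φ g) := fun g => Equiv.Perm.sign_permCongr e.symm _
  have h0 : 25920 ≤ Nat.card (autGraph ⊓ R0 : Subgroup (Equiv.Perm (Fin 45))) := by
    refine card_ge_of_t fun n hn σ hσ => ?_
    have hc := List.all_eq_true.1 tCentre_check n (List.mem_range.2 hn)
    rw [Bool.and_eq_true, List.all_eq_true] at hc
    have hx := inRes_iff.1 hc.1
    set x := tCentres.getD n 0
    have hm := gen_mem hC ha hγ hb hx
    have hval : Φ' ⟨γ x, hm⟩ = σ := by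
      refine Equiv.ext fun i => ?_
      obtain ⟨y, hy, ey⟩ := pair_move hC ha hγ hb hm (hkR i).1
      have hyt : y = tv x (kv i) := hγ.inj _ _ hy.1 (hγ.isPt_tv _ _ hx.1 (hkR i).1.1)
        (ey.trans (hγ.conj x (kv i) hx.1 (hkR i).1.1))
      have s1 := hspec ⟨γ x, hm⟩ i y hy ey
      rw [hyt, beq_iff_eq.1 (hc.2 i (List.mem_range.2 i.2)), ← hσ i, ← he, ← he] at s1
      exact e.injective (Subtype.ext s1)
    refine ⟨⟨_, hval⟩, ?_⟩
    show Equiv.Perm.sign σ = 1
    rw [← hval, hsign]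
    exact sign_gen hC ha hγ hb hΦ hx.1 hx.2.1 hm
  obtain ⟨hbD, hba, hab⟩ := b_mem hC ha hγ hb
  obtain ⟨d, hd, hda, hdb⟩ : ∃ d ∈ D, ¬ Commute d a ∧ ¬ Commute d b := by
    by_contra h
    push Not at h
    have hsub : D ⊆ ({a, b} ∪ nb D a) ∪ nb D b := by
      intro d hd
      by_cases h1 : d = a
      · simp [h1]
      by_cases h2 : d = b
      · simp [h2]
      by_cases h3 : Commute d a
      · exact Or.inl (Or.inr ⟨hd, h1, h3.symm⟩)
      · exact Or.inr ⟨hd, h2, (h d hd h3).symm⟩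
    have h1 := Set.ncard_le_ncard hsub (Set.toFinite _)
    have h2 := Set.ncard_union_le ({a, b} ∪ nb D a) (nb D b)
    have h3 := Set.ncard_union_le ({a, b} : Set G) (nb D a)
    rw [ncard_D hC ha] at h1
    rw [ncard_nb hC ha, Set.ncard_pair hba.symm] at h3
    rw [ncard_nb hC hbD] at h2
    omega
  have hsm : swapEl a b d ∈ pairStab a b :=
    Or.inr ⟨swap_conj_fst hC.tt ha hbD hd hab hba.symm hda hdb, swap_conj_snd hC.tt ha hbD hd hab hba.symm hda hdb⟩
  have hodd : Equiv.Perm.sign (Φ' ⟨_, hsm⟩) = -1 := by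
    rw [hsign]; exact sign_swap hC ha hγ hb hΦ hd hda hdb hsm
  have hRcard : 51840 ≤ Nat.card R := by
    have hlt : R0 < R := lt_of_le_of_ne inf_le_left fun h => by
      have hm : Φ' ⟨_, hsm⟩ ∈ R0 := by rw [h]; exact ⟨_, rfl⟩
      have h2 : Equiv.Perm.sign (Φ' ⟨_, hsm⟩) = 1 := hm.2
      rw [hodd] at h2
      exact absurd h2 (by decide)
    have hk := Subgroup.card_dvd_of_le hlt.le
    have hle := Subgroup.card_le_of_le (inf_le_right : autGraph ⊓ R0 ≤ R0)
    have hne : Nat.card R0 ≠ Nat.card R := fun h => hlt.ne (Subgroup.eq_of_le_of_card_ge hlt.le h.ge)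
    obtain ⟨k, hk⟩ := hk
    rcases k with _ | _ | k
    · exact absurd hk (by rw [mul_zero]; exact Nat.card_pos.ne')
    · rw [zero_add, mul_one] at hk; exact absurd hk.symm hne
    · rw [hk]; nlinarith
  have hReq : R = autGraph := Subgroup.eq_of_le_of_card_ge hRle (by rw [card_autGraph]; exact hRcard)
  intro σ
  obtain ⟨g, hg⟩ : σ.1 ∈ R := by rw [hReq]; exact σ.2
  exact ⟨g, Subtype.ext hg⟩

/-- The stabiliser of the pair has order 2^16 · 3^4 · 5 · 2. -/
theorem card_pairStab (hcore : Core22 G D) : Nat.card (pairStab a b) = 53084160 := by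
  classical
  obtain ⟨hbD, hba, hab⟩ := b_mem hC ha hγ hb
  set Ca := Subgroup.centralizer ({a} : Set G)
  have hr : (fun g : Ca => (g : G) * b * (g : G)⁻¹) '' Set.univ = nb D a := by
    ext x
    constructor
    · rintro ⟨g, -, rfl⟩
      have := (nb_conj hC.tt (g : G) a b).2 (b_mem hC ha hγ hb)
      rwa [mul_inv_eq_iff_eq_mul.2 (Subgroup.mem_centralizer_singleton_iff.1 g.2)] at this
    · intro hx
      obtain ⟨h, hh, e⟩ := trans_one hC ha hγ hx
      refine ⟨⟨h, ?_⟩, trivial, hb ▸ e⟩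
      show h ∈ Subgroup.centralizer ({a} : Set G)
      rw [centralizer_eq hC ha]
      exact hh
  set S := (Subgroup.centralizer ({b} : Set G)).subgroupOf Ca with hS
  have hcount := card_eq_mul_of_fibres (fun g : Ca => (g : G) * b * (g : G)⁻¹) S (fun g g' => by
    rw [conj_eq_conj_iff, hS, Subgroup.mem_subgroupOf, Subgroup.coe_mul, Subgroup.coe_inv])
  rw [← Set.image_univ, hr, ncard_nb hC ha, card_centralizer hC ha hcore] at hcount
  -- the elements fixing both have index two
  obtain ⟨d, hd, hda, hdb⟩ : ∃ d ∈ D, ¬ Commute d a ∧ ¬ Commute d b := by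
    by_contra h
    push Not at h
    have hsub : D ⊆ ({a, b} ∪ nb D a) ∪ nb D b := by
      intro d hd
      by_cases h1 : d = a
      · simp [h1]
      by_cases h2 : d = b
      · simp [h2]
      by_cases h3 : Commute d a
      · exact Or.inl (Or.inr ⟨hd, h1, h3.symm⟩)
      · exact Or.inr ⟨hd, h2, (h d hd h3).symm⟩
    have h1 := Set.ncard_le_ncard hsub (Set.toFinite _)
    have h2 := Set.ncard_union_le ({a, b} ∪ nb D a) (nb D b)
    have h3 := Set.ncard_union_le ({a, b} : Set G) (nb D a)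
    rw [ncard_D hC ha] at h1
    rw [ncard_nb hC ha, Set.ncard_pair hba.symm] at h3
    rw [ncard_nb hC hbD] at h2
    omega
  have hsm : swapEl a b d ∈ pairStab a b :=
    Or.inr ⟨swap_conj_fst hC.tt ha hbD hd hab hba.symm hda hdb, swap_conj_snd hC.tt ha hbD hd hab hba.symm hda hdb⟩
  set K := Ca ⊓ Subgroup.centralizer ({b} : Set G) with hK
  have hKS : Nat.card K = Nat.card S := by
    rw [hS, ← Subgroup.inf_subgroupOf_right, inf_comm, ← hK]
    exact (Nat.card_congr (Subgroup.subgroupOfEquivOfLe (inf_le_left : K ≤ Ca)).toEquiv).symm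
  have hmemK : ∀ g, g ∈ K ↔ g * a * g⁻¹ = a ∧ g * b * g⁻¹ = b := fun g => by
    rw [hK, Subgroup.mem_inf, Subgroup.mem_centralizer_singleton_iff, Subgroup.mem_centralizer_singleton_iff,
      mul_inv_eq_iff_eq_mul, mul_inv_eq_iff_eq_mul]
  have hc2 := card_eq_mul_of_fibres (fun g : pairStab a b => (g : G) * a * (g : G)⁻¹) (K.subgroupOf (pairStab a b))
    (fun g g' => by
      rw [Subgroup.mem_subgroupOf, hmemK]
      show (g : G) * a * (g : G)⁻¹ = (g' : G) * a * (g' : G)⁻¹ ↔ _
      refine ⟨fun e => ?_, fun h => ?_⟩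
      · have hm : ((g⁻¹ * g' : pairStab a b) : G) ∈ pairStab a b := SetLike.coe_mem _
        rcases hm with h | ⟨h1, -⟩
        · exact h
        · exfalso
          refine hba ?_
          rw [← h1, Subgroup.coe_mul, Subgroup.coe_inv,
            show (g : G)⁻¹ * g' * a * ((g : G)⁻¹ * g')⁻¹ = (g : G)⁻¹ * ((g' : G) * a * (g' : G)⁻¹) * g by group, ← e]
          group
      · rw [conj_eq_conj_iff, Subgroup.mem_centralizer_singleton_iff, ← mul_inv_eq_iff_eq_mul]
        simpa using h.1)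
  have hrange : Set.range (fun g : pairStab a b => (g : G) * a * (g : G)⁻¹) = {a, b} := by
    ext x
    constructor
    · rintro ⟨g, rfl⟩
      rcases g.2 with ⟨h, -⟩ | ⟨h, -⟩ <;> simp [h]
    · rintro (rfl | rfl)
      · exact ⟨1, by simp⟩
      · exact ⟨⟨_, hsm⟩, swap_conj_fst hC.tt ha hbD hd hab hba.symm hda hdb⟩
  rw [hrange, Set.ncard_pair hba.symm, Nat.card_congr (Subgroup.subgroupOfEquivOfLe
    (fun g hg => Or.inl ((hmemK g).1 hg) : K ≤ pairStab a b)).toEquiv, hKS] at hc2
  omega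

end Cfsg.Agent.TT95
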