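import Cfsg.Agent.TT95.PairKernel
import Cfsg.Agent.TT95.K45.MinusNormal
import Cfsg.Agent.Lib.Components.GenFitting
import Cfsg.Agent.Lib.LargeExtraspecial.Sections

/-!
Type M(22): the generalized Fitting subgroup of the stabiliser of a commuting pair.
-/

set_option autoImplicit false

namespace Cfsg.Agent.TT95

open Cfsg.Agent.TT95.U6 Cfsg.Agent.TT95.K45G
open scoped commutatorElement

variable {G : Type*} [Group G] [Finite G] {D : Set G}

/-- The action on the 45 keys, its kernel being the generalized Fitting subgroup. -/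
theorem exists_pair_fitting (hC : Cfg22 D) [Gen D] (hcore : Core22 G D) {a b : G} (ha : a ∈ D) (hb : b ∈ D)
    (hne : a ≠ b) (hab : Commute a b) :
    ∃ Ψ : pairStab a b →* autGraph, Function.Surjective Ψ ∧
      Cfsg.generalizedFittingSubgroup ↥(pairStab a b) = Ψ.ker ∧
      PairCore a b (Ψ.ker.map (pairStab a b).subtype) ∧
      ∀ g : pairStab a b, (∀ z ∈ Ψ.ker.map (pairStab a b).subtype, (g : G) * z * (g : G)⁻¹ = z) → Ψ g = 1 := by
  classical
  obtain ⟨γ, hγ, hγb⟩ := local_one hC ha (show b ∈ nb D a from ⟨hb, hne.symm, hab⟩)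
  obtain ⟨Ψ, hsurj, hspec⟩ := exists_keyAction hC ha hγ hγb hcore
  obtain ⟨hE, hcen⟩ := exists_pairCore hC ha hγ hγb hcore hsurj hspec
  refine ⟨Ψ, hsurj, ?_, hE, hcen⟩
  haveI : Fact (Nat.Prime 2) := ⟨Nat.prime_two⟩
  have hk : Nat.card Ψ.ker = 2 ^ 10 := by
    rw [Nat.card_congr (Ψ.ker.equivMapOfInjective _ (pairStab a b).subtype_injective).toEquiv, hE.card]
    norm_num
  have hnil : Group.IsNilpotent Ψ.ker := (IsPGroup.of_card hk).isNilpotent
  have hfit : Cfsg.fittingSubgroup ↥(pairStab a b) ≤ Ψ.ker := by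
    refine sSup_le fun N hN => ?_
    haveI := hN.1
    have h := autGraph_nilpotent_normal (N := N.map Ψ) (Subgroup.Normal.map inferInstance Ψ hsurj)
      (Fitting.isNilpotent_map Ψ hN.2)
    exact (Subgroup.map_eq_bot_iff _).1 h
  refine le_antisymm (sup_le (sSup_le fun L hL => ?_) hfit) ?_
  · rcases Components.component_le_or_commutator_eq_bot_of_normal hL Ψ.ker with h | h
    · exact h
    · intro l hl
      rw [Subgroup.commutator_eq_bot_iff_le_centralizer] at h
      refine hcen l ?_
      rintro _ ⟨z, hz, rfl⟩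
      have := congrArg Subtype.val (Subgroup.mem_centralizer_iff.1 (h hl) z hz)
      simp only [Subgroup.coe_mul] at this
      rw [Subgroup.coe_subtype, ← this, mul_inv_cancel_right]
  · refine le_trans ?_ Components.fitting_le_generalizedFitting
    exact le_sSup ⟨inferInstance, hnil⟩

/-- The kernel as a product of a group of order two and an extraspecial group of order 2^9. -/
theorem PairCore.exists_extraspecial {a b : G} {E : Subgroup G} (h : PairCore a b E) (ha : a * a = 1)
    (hb : b * b = 1) (hab : a * b ≠ 1) :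
    ∃ F : Subgroup G, Cfsg.IsExtraspecial 2 F ∧ Nat.card F = 2 ^ 9 ∧
      Nonempty (Multiplicative (ZMod 2) × F ≃* E) := by
  classical
  obtain ⟨F, hFE, haF, hjF, hF⟩ := h.split
  have hac : ∀ x ∈ E, Commute x a ∧ Commute x b := fun x hx =>
    ⟨mul_inv_eq_iff_eq_mul.1 (h.le_fix x hx).1, mul_inv_eq_iff_eq_mul.1 (h.le_fix x hx).2⟩
  have hj2 : a * b * (a * b) = 1 := by
    rw [mul_assoc, ← mul_assoc b a b, (hac a h.pair.1).2.symm.eq, mul_assoc a b b, hb, mul_one, ha]
  let φ : Multiplicative (ZMod 2) × F →* E :=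
    { toFun := fun p => ⟨a ^ (Multiplicative.toAdd p.1).val * p.2, mul_mem (pow_mem h.pair.1 _) (hFE p.2.2)⟩
      map_one' := Subtype.ext (by simp)
      map_mul' := fun p q => Subtype.ext (by
        have e : ∀ i k : ZMod 2, a ^ (i + k).val = a ^ i.val * a ^ k.val := by
          intro i k
          have ha2 : a ^ 2 = 1 := by rw [pow_two, ha]
          rw [ZMod.val_add, ← pow_add]
          conv_rhs => rw [← Nat.mod_add_div (i.val + k.val) 2, pow_add, pow_mul, ha2, one_pow, mul_one]
        simp only [Prod.fst_mul, Prod.snd_mul, toAdd_mul, Subgroup.coe_mul, e]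
        rw [mul_assoc, ← mul_assoc (a ^ (Multiplicative.toAdd q.1).val),
          (((hac _ (hFE p.2.2)).1).symm.pow_left _).eq]
        simp only [mul_assoc]) }
  have hinj : Function.Injective φ := by
    rw [injective_iff_map_eq_one]
    rintro ⟨i, f⟩ hif
    have hi : i = 1 := by
      have h1 : a ^ (Multiplicative.toAdd i).val * (f : G) = 1 := congrArg Subtype.val hif
      by_contra hne
      have : (Multiplicative.toAdd i) = 1 := by
        have h2 : ∀ z : ZMod 2, z ≠ 0 → z = 1 := by decide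
        exact h2 _ (fun e => hne (Multiplicative.toAdd.injective e))
      rw [this, ZMod.val_one, pow_one] at h1
      exact haF (by rw [eq_inv_of_mul_eq_one_left h1]; exact inv_mem f.2)
    subst hi
    refine Prod.ext rfl (Subtype.ext ?_)
    have h1 : a ^ (0 : ℕ) * (f : G) = 1 := congrArg Subtype.val hif
    simpa using h1
  have hbij : Function.Bijective φ := (Nat.bijective_iff_injective_and_card φ).2 ⟨hinj, by
    rw [Nat.card_prod, hF, h.card, Nat.card_congr Multiplicative.toAdd, Nat.card_zmod]⟩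
  refine ⟨F, ?_, by rw [hF]; norm_num, ⟨MulEquiv.ofBijective φ hbij⟩⟩
  haveI : Fact (Nat.Prime 2) := ⟨Nat.prime_two⟩
  set c : F := ⟨a * b, hjF⟩ with hc
  have hzp : ∀ x : F, (x : G) = 1 ∨ (x : G) = a * b → x ∈ Subgroup.zpowers c := by
    rintro x (e | e)
    · rw [show x = 1 from Subtype.ext e]; exact one_mem _
    · rw [show x = c from Subtype.ext e]; exact Subgroup.mem_zpowers _
  have hEF : ∀ y ∈ E, ∃ f ∈ F, y = f ∨ y = a * f := by
    intro y hy
    obtain ⟨⟨i, f⟩, e⟩ := hbij.2 ⟨y, hy⟩
    have e' : a ^ (Multiplicative.toAdd i).val * (f : G) = y := congrArg Subtype.val e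
    refine ⟨f, f.2, ?_⟩
    have := ZMod.val_lt (Multiplicative.toAdd i)
    rcases Nat.lt_succ_iff.1 this |>.lt_or_eq with h0 | h1
    · left; rw [← e', show (Multiplicative.toAdd i).val = 0 by omega, pow_zero, one_mul]
    · right; rw [← e', h1, pow_one]
  refine LargeExtraspecial.isExtraspecial_of (c := c) (IsPGroup.of_card (n := 9) (by rw [hF]; norm_num))
    (fun e => hab (congrArg Subtype.val e)) (Subtype.ext hj2) (fun x => Subtype.ext ?_) (fun x hx => ?_)
    (fun x y => hzp _ ?_) (fun x => hzp _ (h.squares x (hFE x.2))) ?_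
  · exact (((hac _ (hFE x.2)).1).mul_right (hac _ (hFE x.2)).2).symm.eq
  · have hall : ∀ y ∈ E, Commute (x : G) y := by
      intro y hy
      obtain ⟨f, hf, rfl | rfl⟩ := hEF y hy
      · exact congrArg Subtype.val (hx ⟨y, hf⟩).eq
      · exact (hac _ (hFE x.2)).1.mul_right (congrArg Subtype.val (hx ⟨f, hf⟩).eq)
    rcases h.center x (hFE x.2) hall with e | e | e | e
    · exact hzp x (Or.inl e)
    · exact absurd (e ▸ x.2) haF
    · refine absurd ?_ haF
      have := mul_mem hjF x.2
      rwa [e, mul_assoc, hb, mul_one] at this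
    · exact hzp x (Or.inr e)
  · rw [commutatorElement_def]
    exact h.comm x (hFE x.2) y (hFE y.2)
  · obtain ⟨x, hx, y, hy, hxy⟩ := h.noncomm
    obtain ⟨f, hf, hxf⟩ := hEF x hx
    obtain ⟨k, hk, hyk⟩ := hEF y hy
    refine ⟨⟨f, hf⟩, ⟨k, hk⟩, fun e => hxy ?_⟩
    have hfk : Commute f k := congrArg Subtype.val (commutatorElement_eq_one_iff_commute.1 e).eq
    have cf := (hac f (hFE hf)).1
    have ck := (hac k (hFE hk)).1
    rcases hxf with rfl | rfl <;> rcases hyk with rfl | rfl
    · exact hfk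
    · exact cf.mul_right hfk
    · exact ck.symm.mul_left hfk
    · exact (((Commute.refl a).mul_right ck.symm).mul_left (cf.mul_right hfk))

/-- A copy on a numeric carrier. -/
theorem exists_type0 {H : Type*} [Group H] [Finite H] :
    ∃ (E : Type) (_ : Group E) (_ : Finite E), Nonempty (E ≃* H) := by
  obtain ⟨n, ⟨e⟩⟩ := Finite.exists_equiv_fin H
  exact ⟨Fin n, e.symm.group, inferInstance, ⟨e.symm.mulEquiv⟩⟩

end Cfsg.Agent.TT95
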