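import Mathlib
import Cfsg.Agent.TT95.U6Data

/-!
The isotropic points of the six-dimensional unitary space over the field with four elements, coded as
natural numbers below 4096 (six digits in base 4 for the basis e₁ e₂ e₃ f₁ f₂ f₃), with orthogonality
and transvections; finite facts checked by the kernel. The operations are written on bit planes so
that the kernel evaluates them quickly.
-/

set_option autoImplicit false

namespace Cfsg.Agent.TT95.U6

/-- Low bits of the six digits. -/
def lo (x : ℕ) : ℕ := Nat.land x 1365

/-- High bits of the six digits. -/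
def hi (x : ℕ) : ℕ := Nat.land (Nat.shiftRight x 1) 1365

/-- Parity of the bits in the six even positions. -/
def par (v : ℕ) : ℕ :=
  Nat.land (Nat.xor (Nat.xor (Nat.xor v (Nat.shiftRight v 6))
    (Nat.shiftRight (Nat.xor v (Nat.shiftRight v 6)) 2))
    (Nat.shiftRight (Nat.xor v (Nat.shiftRight v 6)) 4)) 1

/-- Exchange the e and f halves. -/
def swp (y : ℕ) : ℕ := Nat.lor (Nat.shiftLeft (Nat.land y 63) 6) (Nat.shiftRight y 6)

def hBits (xl xh y0 y1 : ℕ) : ℕ :=
  Nat.add (par (Nat.xor (Nat.land xl y0) (Nat.land xh y1)))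
    (Nat.mul 2 (par (Nat.xor (Nat.land xl y1) (Nat.land xh (Nat.xor y0 y1)))))

/-- The hermitian form Σ x(eᵢ) ȳ(fᵢ) + x(fᵢ) ȳ(eᵢ). -/
def h (x y : ℕ) : ℕ :=
  hBits (lo x) (hi x) (Nat.xor (lo (swp y)) (hi (swp y))) (hi (swp y))

/-- Scalar multiple. -/
def sc (c x : ℕ) : ℕ :=
  Nat.lor (Nat.xor (Nat.mul (Nat.land c 1) (lo x)) (Nat.mul (Nat.shiftRight c 1) (hi x)))
    (Nat.shiftLeft (Nat.xor (Nat.mul (Nat.land c 1) (hi x))
      (Nat.mul (Nat.shiftRight c 1) (Nat.xor (lo x) (hi x)))) 1)

/-- Conjugate, also inverse, in the field with four elements. -/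
def fbar (d : ℕ) : ℕ := Nat.xor d (Nat.shiftRight d 1)

def posBase (b : ℕ) : ℕ := Nat.lor (Nat.land b 1365) (Nat.shiftRight (Nat.land b 2730) 1)

/-- The first non-zero digit. -/
def lead (x : ℕ) : ℕ := Nat.mod (Nat.div x (posBase (Nat.land x (Nat.sub 4096 x)))) 4

/-- The representative with leading digit 1. -/
def nrm (x : ℕ) : ℕ := sc (fbar (lead x)) x

def isPt (x : ℕ) : Bool := Nat.blt 0 x && Nat.blt x 4096 && Nat.beq (nrm x) x && Nat.beq (h x x) 0

def orth (x y : ℕ) : Bool := Nat.beq (h x y) 0

def tv (e x : ℕ) : ℕ := nrm (Nat.xor x (sc (h x e) e))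

def pts : List ℕ := ptsL

/-- `List.all`, in a form the kernel evaluates quickly. -/
noncomputable def allP {α : Type} (p : α → Bool) (l : List α) : Bool :=
  List.rec true (fun a _ ih => p a && ih) l

/-- `List.countP`, in a form the kernel evaluates quickly. -/
noncomputable def cntP {α : Type} (p : α → Bool) (l : List α) : ℕ :=
  List.rec 0 (fun a _ ih => Nat.add (cond (p a) 1 0) ih) l

theorem allP_iff {α : Type} {p : α → Bool} {l : List α} : allP p l = true ↔ ∀ a ∈ l, p a = true := by
  induction l with
  | nil => simp [allP]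
  | cons a l ih =>
    have : allP p (a :: l) = (p a && allP p l) := rfl
    rw [this, Bool.and_eq_true, ih, List.forall_mem_cons]

theorem cntP_eq {α : Type} {p : α → Bool} {l : List α} : cntP p l = l.countP p := by
  induction l with
  | nil => simp [cntP]
  | cons a l ih =>
    have : cntP p (a :: l) = (cond (p a) 1 0) + cntP p l := rfl
    rw [this, ih, List.countP_cons]
    cases p a <;> simp [Nat.add_comm]

/-- Membership in a set of numbers coded by the binary digits of a number. -/
def inMask (m x : ℕ) : Bool := Nat.beq (Nat.land (Nat.shiftRight m x) 1) 1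

def addMask (m x : ℕ) : ℕ := Nat.lor m (Nat.shiftLeft 1 x)

noncomputable def maskOf (l : List ℕ) : ℕ := List.rec 0 (fun a _ ih => addMask ih a) l

theorem inMask_eq (m x : ℕ) : inMask m x = m.testBit x := by
  show Nat.beq ((m >>> x) &&& 1) 1 = m.testBit x
  rw [Nat.and_one_is_mod, Nat.testBit_eq_decide_div_mod_eq, Nat.shiftRight_eq_div_pow]
  rcases Nat.mod_two_eq_zero_or_one (m / 2 ^ x) with h | h <;> rw [h] <;> rfl

theorem inMask_addMask (m x y : ℕ) : inMask (addMask m x) y = (inMask m y || decide (y = x)) := by
  rw [inMask_eq, inMask_eq, addMask]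
  show (m ||| (1 <<< x)).testBit y = _
  rw [Nat.testBit_or, Nat.shiftLeft_eq, one_mul, Nat.testBit_two_pow]
  simp [eq_comm]

theorem inMask_maskOf {l : List ℕ} {x : ℕ} : inMask (maskOf l) x = true ↔ x ∈ l := by
  induction l with
  | nil => simp [maskOf, inMask_eq]
  | cons a l ih =>
    have : maskOf (a :: l) = addMask (maskOf l) a := rfl
    rw [this, inMask_addMask, Bool.or_eq_true, decide_eq_true_eq, ih, List.mem_cons, or_comm]

theorem pts_check :
    (allP isPt pts && allP (fun x => !isPt x || inMask (maskOf pts) x) (List.range 4096)) = true := by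
  decide +kernel

theorem mem_pts {x : ℕ} : x ∈ pts ↔ isPt x = true := by
  obtain ⟨h1, h2⟩ := Bool.and_eq_true_iff.1 pts_check
  refine ⟨fun hx => allP_iff.1 h1 x hx, fun hx => ?_⟩
  have hlt : x < 4096 := by
    simp only [isPt, Bool.and_eq_true] at hx
    exact Nat.le_of_ble_eq_true hx.1.1.2
  have := allP_iff.1 h2 x (List.mem_range.2 hlt)
  rw [hx, Bool.not_true, Bool.false_or, inMask_maskOf] at this
  exact this

/-- Points reachable by transvections with centres satisfying `P`. -/
inductive Reach (P : ℕ → Bool) (s : ℕ) : ℕ → Prop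
  | base : Reach P s s
  | step {e x : ℕ} : isPt e = true → P e = true → Reach P s x → Reach P s (tv e x)

noncomputable def bfsOK (P : ℕ → Bool) (L : List (ℕ × ℕ × ℕ)) : ℕ → Bool :=
  List.rec (fun _ => true)
    (fun a _ ih seen => inMask seen a.2.2 && isPt a.2.1 && P a.2.1 && Nat.beq (tv a.2.1 a.2.2) a.1 &&
      ih (addMask seen a.1)) L

theorem reach_of_bfsOK {P : ℕ → Bool} {s : ℕ} : ∀ {L : List (ℕ × ℕ × ℕ)} {seen : ℕ},
    bfsOK P L seen = true → (∀ x, inMask seen x = true → Reach P s x) → ∀ y ∈ L.map Prod.fst, Reach P s y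
  | [], _, _, _ => by simp
  | (y, e, x) :: rest, seen, hok, hs => by
    have he : bfsOK P ((y, e, x) :: rest) seen =
        (inMask seen x && isPt e && P e && Nat.beq (tv e x) y && bfsOK P rest (addMask seen y)) := rfl
    rw [he] at hok
    simp only [Bool.and_eq_true] at hok
    obtain ⟨⟨⟨⟨h1, h2⟩, h3⟩, h4⟩, h5⟩ := hok
    have hy : Reach P s y := Nat.eq_of_beq_eq_true h4 ▸ Reach.step h2 h3 (hs x h1)
    intro z hz
    rcases List.mem_cons.1 hz with rfl | hz
    · exact hy
    · exact reach_of_bfsOK h5 (by
        intro w hw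
        rw [inMask_addMask, Bool.or_eq_true, decide_eq_true_eq] at hw
        rcases hw with hw | rfl
        · exact hs w hw
        · exact hy) z hz

/-- A certificate that exactly the points satisfying `Q` are listed, each reachable from `s`. -/
noncomputable def orbOK (P Q : ℕ → Bool) (s : ℕ) (L : List (ℕ × ℕ × ℕ)) : Bool :=
  bfsOK P L.tail (maskOf [s]) && allP (fun x => Q x == inMask (maskOf (s :: L.tail.map Prod.fst)) x) pts

theorem reach_of_orbOK {P Q : ℕ → Bool} {s : ℕ} {L : List (ℕ × ℕ × ℕ)} (hok : orbOK P Q s L = true)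
    {x : ℕ} (hx : x ∈ pts) (hQ : Q x = true) : Reach P s x := by
  simp only [orbOK, Bool.and_eq_true, allP_iff, beq_iff_eq] at hok
  obtain ⟨h1, h2⟩ := hok
  have h3 := h2 x hx
  rw [hQ, eq_comm, inMask_maskOf, List.mem_cons] at h3
  rcases h3 with h | h
  · rw [h]; exact Reach.base
  · exact reach_of_bfsOK h1 (fun w hw => by
      rw [inMask_maskOf, List.mem_singleton] at hw; rw [hw]; exact Reach.base) x h

def e1 : ℕ := 1
def e2 : ℕ := 4
def e3 : ℕ := 16
def f1 : ℕ := 64
def f2 : ℕ := 256
def f3 : ℕ := 1024

theorem pts_length : pts.length = 693 := by decide +kernel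

theorem base_isPt :
    isPt e1 = true ∧ isPt e2 = true ∧ isPt e3 = true ∧ isPt f1 = true ∧ isPt f2 = true ∧ isPt f3 = true := by
  decide +kernel

theorem orbit_points {x : ℕ} (hx : x ∈ pts) : Reach (fun _ => true) e1 x :=
  reach_of_orbOK (Q := fun _ => true) (L := orb0) (by decide +kernel) hx rfl

theorem orbit_perp {x : ℕ} (hx : x ∈ pts) (h1 : orth x e1 = true) (h2 : x ≠ e1) :
    Reach (fun e => orth e e1) e2 x :=
  reach_of_orbOK (Q := fun x => orth x e1 && !Nat.beq x e1) (L := orbPerp) (by decide +kernel) hx (by
    have : Nat.beq x e1 = false := Bool.eq_false_iff.2 fun e => h2 (Nat.eq_of_beq_eq_true e)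
    simp [h1, this])

theorem orbit_nonperp {x : ℕ} (hx : x ∈ pts) (h1 : orth x e1 = false) :
    Reach (fun e => orth e e1) f1 x :=
  reach_of_orbOK (Q := fun x => !orth x e1) (L := orb1) (by decide +kernel) hx (by simp [h1])

/-- The line through e₁ and e₂. -/
def line12 : List ℕ := [1, 4, 5, 9, 13]

theorem orbit_third {x : ℕ} (hx : x ∈ pts) (h1 : orth x e1 = true) (h2 : orth x e2 = true)
    (h3 : x ∉ line12) : Reach (fun e => orth e e1 && orth e e2) e3 x :=
  reach_of_orbOK (Q := fun x => orth x e1 && orth x e2 && !inMask (maskOf line12) x) (L := orbThird)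
    (by decide +kernel) hx (by
      have : inMask (maskOf line12) x = false := by
        rw [Bool.eq_false_iff, ne_eq, inMask_maskOf]; exact h3
      simp [h1, h2, this])

/-- The points a map fixing the frame points chosen so far can send the next one to. -/
def cand : ℕ → ℕ → Bool
  | 0, _ => true
  | 1, x => !orth x e1
  | 2, x => orth x e1 && orth x f1
  | 3, x => orth x e1 && orth x f1 && !orth x e2
  | 4, x => orth x e1 && orth x f1 && orth x e2 && orth x f2
  | _, x => orth x e1 && orth x f1 && orth x e2 && orth x f2 && !orth x e3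

def frameGen : ℕ → ℕ → Bool
  | 0, _ => true
  | 1, e => orth e e1
  | 2, e => orth e e1 && orth e f1
  | 3, e => orth e e1 && orth e f1 && orth e e2
  | 4, e => orth e e1 && orth e f1 && orth e e2 && orth e f2
  | _, e => orth e e1 && orth e f1 && orth e e2 && orth e f2 && orth e e3

/-- The six frame points. -/
def frame : List ℕ := [e1, f1, e2, f2, e3, f3]

theorem orbit_chain (k : ℕ) (hk : k < 6) {x : ℕ} (hx : x ∈ pts) (hc : cand k x = true) :
    Reach (frameGen k) (frame.getD k 0) x := by
  match k, hk with
  | 0, _ => exact orbit_points hx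
  | 1, _ => exact orbit_nonperp hx (by simpa [cand] using hc)
  | 2, _ => exact reach_of_orbOK (L := orb2) (by decide +kernel) hx hc
  | 3, _ => exact reach_of_orbOK (L := orb3) (by decide +kernel) hx hc
  | 4, _ => exact reach_of_orbOK (L := orb4) (by decide +kernel) hx hc
  | 5, _ => exact reach_of_orbOK (L := orb5) (by decide +kernel) hx hc

theorem cand_count :
    cntP (cand 1) pts = 512 ∧ cntP (cand 2) pts = 45 ∧ cntP (cand 3) pts = 32 ∧
      cntP (cand 4) pts = 3 ∧ cntP (cand 5) pts = 2 := by
  decide +kernel

theorem counts :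
    cntP (fun x => orth x e1 && !Nat.beq x e1) pts = 180 ∧
    cntP (fun x => orth x e1 && orth x e2 && !Nat.beq x e1 && !Nat.beq x e2) pts = 51 := by
  decide +kernel

theorem twinFree_e1 :
    allP (fun x => Nat.beq x e1 || !allP (fun y => orth e1 y == orth x y) pts) pts = true := by
  decide +kernel

theorem perp12_spec :
    allP (fun x => (orth x e1 && orth x e2) == inMask (maskOf perp12) x) pts = true := by
  decide +kernel

theorem line12_spec :
    allP (fun x => !(orth x e1 && orth x e2) ||
      (allP (fun y => orth x y) perp12 == inMask (maskOf line12) x)) pts = true ∧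
    allP (fun x => allP (fun y => orth x y) line12) line12 = true := by
  decide +kernel

/-- The plane through e₁, e₂, e₃. -/
def plane123 : List ℕ :=
  [1, 4, 5, 9, 13, 16, 17, 20, 21, 25, 29, 33, 36, 37, 41, 45, 49, 52, 53, 57, 61]

theorem plane123_spec :
    allP (fun x => (orth x e1 && orth x e2 && orth x e3) == inMask (maskOf plane123) x) pts = true ∧
    allP (fun x => allP (fun y => orth x y) plane123) plane123 = true := by
  decide +kernel

theorem plane123_perp :
    allP (fun d => inMask (maskOf plane123) d || Nat.beq (cntP (fun x => orth d x) plane123) 5) pts = true := by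
  decide +kernel

theorem lineReps_spec :
    allP (fun p => isPt p.1 && !inMask (maskOf plane123) p.1 &&
      allP (fun x => orth p.1 x == inMask p.2 x) plane123) lineReps = true := by
  decide +kernel

/-- The three completions of the triangle e₁ e₂ e₃ to six points meeting every line in at most two. -/
def hyperovals : List (List ℕ) := [[21, 45, 57], [25, 37, 61], [29, 41, 53]]

/-- The plane without the triangle. -/
def planeRest : List ℕ :=
  [5, 9, 13, 17, 20, 21, 25, 29, 33, 36, 37, 41, 45, 49, 52, 53, 57, 61]

noncomputable def arcOK (x y z : ℕ) : Bool :=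
  allP (fun p => Nat.ble (cntP (inMask p.2) [1, 4, 16, x, y, z]) 2) lineReps

theorem hyperovals_complete :
    allP (fun x => allP (fun y => !Nat.blt x y || allP (fun z => !Nat.blt y z ||
      !arcOK x y z || hyperovals.elem [x, y, z]) planeRest) planeRest) planeRest = true := by
  decide +kernel

theorem nonperp_pair_determined :
    allP (fun y => orth y e1 || Nat.beq y f1 || Nat.beq y 65 ||
      !allP (fun z => orth z y) [e2, e3, f2, f3]) pts = true ∧
    allP (fun z => orth z e1 && orth z f1) [e2, e3, f2, f3] = true ∧ tv e1 f1 = 65 := by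
  decide +kernel

noncomputable def graphOK (L : List (ℕ × ℕ)) : ℕ → Bool :=
  List.rec (fun _ => true)
    (fun a _ ih seen => inMask seen a.2 && orth a.2 a.1 && !orth a.1 e1 && ih (addMask seen a.1)) L

theorem graph_connected :
    graphOK orbGraph.tail (maskOf [f1]) = true ∧
      allP (fun x => orth x e1 || inMask (maskOf (f1 :: orbGraph.tail.map Prod.fst)) x) pts = true := by
  decide +kernel

/-- Frobenius on the digits. -/
def frob (x : ℕ) : ℕ := nrm (Nat.lor (Nat.xor (lo x) (hi x)) (Nat.shiftLeft (hi x) 1))

/-- Nine individualised points followed by points determined by the previous ones. -/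
def detBase : List ℕ :=
  [1, 64, 4, 256, 16, 1024, 5, 17, 9, 1348, 1744, 1777, 2517, 1537, 1909, 2545, 473, 1433, 1989, 320, 25]

noncomputable def sig (B : List ℕ) (x : ℕ) : ℕ :=
  List.rec (fun acc => acc) (fun y _ ih acc => ih (Nat.add (Nat.mul 2 acc) (cond (orth x y) 1 0))) B 0

noncomputable def zipAll {α β : Type} (p : α → β → Bool) (l : List α) : List β → Bool :=
  List.rec (fun m => m.isEmpty)
    (fun a _ ih m => match m with
      | [] => false
      | b :: t => p a b && ih t) l

theorem sigs_spec : zipAll (fun x v => Nat.beq (sig detBase x) v) pts sigs = true := by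
  decide +kernel

noncomputable def distinctOK (L : List ℕ) : ℕ → Bool :=
  List.rec (fun _ => true) (fun a _ ih seen => !inMask seen a && ih (addMask seen a)) L

theorem sigs_distinct : distinctOK sigs 0 = true ∧ allP isPt detBase = true := by
  decide +kernel

/-- The signature prefix of the point `9 + i` of `detBase` is held by one point only. -/
theorem detBase_step :
    allP (fun i => Nat.beq
      (cntP (fun v => Nat.beq (Nat.shiftRight v (12 - i))
        (Nat.shiftRight (sig detBase (detBase.getD (9 + i) 0)) (12 - i))) sigs) 1) (List.range 12) = true := by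
  decide +kernel

theorem frob_spec :
    allP (fun x => isPt (frob x) && Nat.beq (frob (frob x)) x &&
      Nat.beq (sig (detBase.map frob) (frob x)) (sig detBase x)) pts = true := by
  decide +kernel

theorem frame_residual :
    allP (fun x => (orth x e1 && orth x e2 && orth x e3 && orth x f3 && !Nat.beq x e1 && !Nat.beq x e2)
      == inMask (maskOf [5, 9, 13]) x) pts = true := by
  decide +kernel

/-- Centres of transvections whose product fixes the frame and moves e₁ + e₂ (rightmost first). -/
def torusWord : List ℕ := [4, 3876, 769, 2961, 1969, 4068, 576]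

def torus (x : ℕ) : ℕ := torusWord.foldr tv x

theorem torus_spec : allP isPt torusWord = true ∧ allP (fun x => Nat.beq (torus x) x) frame = true ∧
    torus 5 = 9 ∧ torus 9 = 13 ∧ torus 13 = 5 := by
  decide +kernel

/-- The residue at e₁: the point of the four-space e₂ e₃ f₂ f₃ below x. -/
def key (x : ℕ) : ℕ := nrm (Nat.land x 3900)

def keys : List ℕ := fibres.map Prod.fst

theorem keys_length : keys.length = 45 := by decide +kernel

theorem perp1_spec : allP (fun x => orth x e1 == inMask (maskOf perp1) x) pts = true := by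
  decide +kernel

theorem key_spec :
    allP (fun x => Nat.beq x e1 || inMask (maskOf keys) (key x)) perp1 = true ∧
    allP (fun k => inMask (maskOf perp1) k && Nat.beq (key k) k && !Nat.beq k e1) keys = true ∧
    allP (fun p => Nat.beq p.2.length 4 && allP (fun x =>
      inMask (maskOf perp1) x && !Nat.beq x e1 && Nat.beq (key x) p.1 && allP (fun y => orth x y) p.2) p.2)
      fibres = true ∧
    allP (fun p => allP (fun z => !orth z p.1 || allP (fun y => orth z y) p.2) perp1) fibres = true := by
  decide +kernel

theorem keyNbrs_spec :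
    allP (fun p => allP (fun l => (orth p.1 l && !Nat.beq p.1 l) == inMask p.2 l) keys &&
      Nat.beq (cntP (inMask p.2) keys) 12) keyNbrs = true ∧ keyNbrs.map Prod.fst = keys := by
  decide +kernel

/-- Two orthogonal keys have three further common neighbours, pairwise orthogonal. -/
theorem residue_lines :
    allP (fun p => allP (fun q => !inMask p.2 q.1 ||
      (Nat.beq (cntP (inMask (Nat.land p.2 q.2)) keys) 3 &&
        allP (fun r => !inMask (Nat.land p.2 q.2) r.1 ||
          Nat.beq (cntP (inMask (Nat.land r.2 (Nat.land p.2 q.2))) keys) 2) keyNbrs)) keyNbrs) keyNbrs = true := by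
  decide +kernel

theorem key_tv_fixed :
    allP (fun e => allP (fun k => Nat.beq (key (tv e k)) k) keys ||
      Nat.beq (cntP (fun k => Nat.beq (key (tv e k)) k) keys) 13) perp1 = true := by
  decide +kernel

theorem key_frob_fixed : cntP (fun k => Nat.beq (key (frob k)) k) keys = 15 := by
  decide +kernel

end Cfsg.Agent.TT95.U6
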