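import Cfsg.Agent.TT95.Cent23
import Cfsg.Agent.TT95.LayPrim

/-!
A class one step above type M(22) has a connected commuting graph without asking for primitivity.
-/

set_option autoImplicit false
set_option linter.unusedSectionVars false

namespace Cfsg.Agent.TT95

open Cfsg.Agent.TT95.U6

variable {G : Type*} [Group G] {D : Set G}

/-- The action of a product of neighbours is that of the product of their images. -/
theorem Iso.list_act {K : Type*} [Group K] {E : Set K} {a : G} {f : G → K} (h : Iso D a E f) (hD : TTSet D)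
    (hE : TTSet E) (l : List G) : (∀ y ∈ l, y ∈ nb D a) → ∀ x ∈ nb D a,
      f (l.prod * x * l.prod⁻¹) = (l.map f).prod * f x * (l.map f).prod⁻¹ := by
  induction l with
  | nil => intro _ x _; simp
  | cons y l ih =>
    intro hl x hx
    have hy := hl y List.mem_cons_self
    have hlp : l.prod ∈ Subgroup.closure (nb D a) :=
      list_prod_mem fun z hz => Subgroup.subset_closure (hl z (List.mem_cons_of_mem _ hz))
    have e := h.conj y hy _ (conj_mem_nb hD hlp hx)
    rw [ih (fun z hz => hl z (List.mem_cons_of_mem _ hz)) x hx] at e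
    simp only [List.prod_cons, List.map_cons, mul_inv_rev, inv_eq hD hy.1, inv_eq hE (h.mem hy)]
    rw [show y * l.prod * x * (l.prod⁻¹ * y) = y * (l.prod * x * l.prod⁻¹) * y by group, e]
    group

/-- A product of neighbours centralises all of them just when the images multiply to one. -/
theorem Iso.list_central {K : Type*} [Group K] {E : Set K} {a : G} {f : G → K} (h : Iso D a E f) (hD : TTSet D)
    (hE : TTSet E) (hZ : Subgroup.center K = ⊥) {l : List G} (hl : ∀ y ∈ l, y ∈ nb D a) :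
    (∀ x ∈ nb D a, Commute l.prod x) ↔ (l.map f).prod = 1 := by
  constructor
  · intro hc
    have : (l.map f).prod ∈ Subgroup.centralizer E := Subgroup.mem_centralizer_iff.2 fun q hq => by
      obtain ⟨x, hx, rfl⟩ := h.surj hq
      have e := h.list_act hD hE l hl x hx
      rw [(hc x hx).eq, mul_inv_cancel_right] at e
      exact (mul_inv_eq_iff_eq_mul.1 e.symm).symm
    rwa [centralizer_D_eq_center hE, hZ, Subgroup.mem_bot] at this
  · intro h1 x hx
    have e := h.list_act hD hE l hl x hx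
    rw [h1, one_mul, inv_one, mul_one] at e
    exact mul_inv_eq_iff_eq_mul.1
      (h.inj (conj_mem_nb hD (list_prod_mem fun z hz => Subgroup.subset_closure (hl z hz)) hx) hx e)

/-- An odd product centralising each component forces connectedness. -/
theorem conn_of_odd [Finite G] (hD : TTSet D)
    (hodd : ∀ a ∈ D, ∃ L : List G, Odd L.length ∧ (∀ u ∈ L, u ∈ D ∧ Path D a u) ∧
      ∀ x ∈ D, Path D a x → Commute L.prod x)
    (hpair : ∀ b ∈ D, ∀ c ∈ D, Commute b c → ∃ d ∈ D, ¬ Commute b d ∧ ¬ Commute c d ∧ Path D b d)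
    (hedge : ∀ a ∈ D, ∃ u v, u ∈ nb D a ∧ v ∈ nb D a ∧ u ≠ v ∧ Commute u v) : Conn D := by
  intro a ha x0 hx0
  by_contra hn0
  obtain ⟨L, hodd, hL, hcent⟩ := hodd a ha
  set ζ := L.prod with hζ
  set C0 := {x | x ∈ D ∧ Path D a x} with hC0
  set C1 := {x | x ∈ D ∧ Path D x0 x} with hC1
  have hmap : ∀ (g : G) {u v : G}, Path D u v → Path D (g * u * g⁻¹) (g * v * g⁻¹) := fun g {u v} h =>
    Path.conj hD g (fun y hy => conj_mem hD g hy) h
  set π : G → G := fun x => x * (ζ * x * ζ⁻¹) * x with hπ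
  have hout : ∀ x ∈ C1, ¬ Path D a x := fun x hx h => hn0 (Path.trans' h hx.2.symm)
  have hapow : a ^ L.length = a := by
    obtain ⟨k, hk⟩ := hodd
    rw [hk, pow_succ, pow_mul, pow_two, sq hD ha, one_pow, one_mul]
  have hπC : ∀ x ∈ C1, π x ∈ C0 := by
    intro x hx
    have h1 := list_prod_path hD ha hx.1 (hout x hx) L hL
    rw [hapow, inv_eq hD ha] at h1
    have h2 := hmap x h1
    rw [inv_eq hD hx.1, third_symm hD hx.1 ha fun h => hout x hx (Path.single' ha hx.1 h.symm)] at h2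
    exact ⟨conj_mem' hD (conj_mem hD ζ hx.1) hx.1, h2⟩
  have hgood : ∀ u v : G, u ∈ C0 → v ∈ C0 → Commute ζ (u * v) ∧ ∀ x ∈ C1, (u * v) * x * (u * v)⁻¹ ∈ C1 := by
    intro u v hu hv
    refine ⟨(hcent u hu.1 hu.2).mul_right (hcent v hv.1 hv.2), fun x hx => ⟨conj_mem hD _ hx.1, ?_⟩⟩
    refine Path.trans' hx.2 ?_
    have h1 := list_prod_path hD ha hx.1 (hout x hx) [u, v]
      (by simp only [List.mem_cons, List.not_mem_nil, or_false]; rintro w (rfl | rfl) <;> assumption)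
    simp only [List.length_cons, List.length_nil, List.prod_cons, List.prod_nil, mul_one, pow_succ, pow_zero,
      one_mul, sq hD ha, inv_one] at h1
    exact h1
  have hequiv : ∀ g x : G, Commute ζ g → π (g * x * g⁻¹) = g * π x * g⁻¹ := by
    intro g x hg
    have e : ζ * (g * x * g⁻¹) * ζ⁻¹ = g * (ζ * x * ζ⁻¹) * g⁻¹ := by
      rw [show ζ * (g * x * g⁻¹) * ζ⁻¹ = (ζ * g) * x * (ζ * g)⁻¹ by group, hg.eq]
      group
    simp only [hπ, e]
    group
  have hsurj : C0 ⊆ π '' C1 := by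
    have hstep : ∀ u v : G, u ∈ C0 → v ∈ C0 → ¬ Commute u v → u ∈ π '' C1 → v ∈ π '' C1 := by
      intro u v hu hv huv ⟨x, hx, hxu⟩
      refine ⟨(u * v) * x * (u * v)⁻¹, (hgood u v hu hv).2 x hx, ?_⟩
      rw [hequiv _ x (hgood u v hu hv).1, hxu, exists_conj_of_not_commute hD hu.1 hv.1 huv]
    have hmove : ∀ u v : G, u ∈ C0 → v ∈ C0 → u ∈ π '' C1 → v ∈ π '' C1 := by
      intro u v hu hv h
      by_cases huv : Commute u v
      · obtain ⟨d, hd, h1, h2, hp⟩ := hpair u hu.1 v hv.1 huv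
        have hd0 : d ∈ C0 := ⟨hd, Path.trans' hu.2 hp⟩
        exact hstep d v hd0 hv (fun e => h2 e.symm) (hstep u d hu hd0 h1 h)
      · exact hstep u v hu hv huv h
    intro v hv
    exact hmove _ v (hπC x0 ⟨hx0, .refl⟩) hv ⟨x0, ⟨hx0, .refl⟩, rfl⟩
  have hcard : C1.ncard ≤ C0.ncard := by
    refine Set.ncard_le_ncard_of_injOn (fun z => x0 * (a * z * a) * x0) ?_ ?_ (Set.toFinite _)
    · intro z hz
      refine ⟨conj_mem' hD (conj_mem' hD hz.1 ha) hx0, ?_⟩
      have h1 := hmap x0 (hmap a hz.2)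
      rw [inv_eq hD hx0, inv_eq hD ha,
        third_symm hD hx0 ha fun h => hn0 (Path.single' ha hx0 h.symm)] at h1
      exact h1
    · intro y _ z _ h
      simpa using h
  have hinj : Set.InjOn π C1 := by
    refine Set.injOn_of_ncard_image_eq ?_ (Set.toFinite _)
    exact le_antisymm (Set.ncard_image_le (Set.toFinite _))
      (hcard.trans (Set.ncard_le_ncard hsurj (Set.toFinite _)))
  have hx1 : x0 ∈ C1 := ⟨hx0, .refl⟩
  obtain ⟨hbD, hbp⟩ := hπC x0 hx1
  obtain ⟨uu, vv, ⟨u0, u1, u2⟩, ⟨v0, v1, v2⟩, nuv, cuv⟩ := hedge _ hbD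
  have hu : uu ∈ C0 := ⟨u0, Path.trans' hbp (Path.single' hbD u0 u2)⟩
  have hv : vv ∈ C0 := ⟨v0, Path.trans' hbp (Path.single' hbD v0 v2)⟩
  obtain ⟨hg, hg'⟩ := hgood _ _ hu hv
  have hfix : (uu * vv) * x0 * (uu * vv)⁻¹ = x0 := by
    refine hinj (hg' x0 hx1) hx1 ?_
    rw [hequiv _ x0 hg, mul_inv_eq_iff_eq_mul]
    exact (u2.mul_right v2).eq.symm
  have hc : Commute x0 (uu * vv) := (mul_inv_eq_iff_eq_mul.1 hfix).symm
  exact hn0 (Path.trans' hu.2
    (Path.single' u0 hx0 ((ThreeTransp.centralize_two hD.1 u0 v0 hx0 nuv cuv).1 hc).1.symm))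

section Local

variable [Finite G] {K : Type*} [Group K] [Finite K] {E : Set K} (hD : TTSet D) (hC : Cfg22 E)
  (hL : Lay E 3510 693 180 126 45) (hiso : ∀ a ∈ D, ∃ f, Iso D a E f)

include hD hC hL hiso

theorem nbConn_of_iso {a : G} (ha : a ∈ D) : Conn (nb D a) := by
  obtain ⟨f, hf⟩ := hiso a ha
  exact hf.conn_pull subset_rfl (hf.bij.image_eq ▸ hL.conn)

theorem witness_of_iso {a b b' : G} (ha : a ∈ D) (hb : b ∈ nb D a) (hb' : b' ∈ nb D a) (hc : Commute b b') :
    ∃ f ∈ far D a, Commute b f ∧ Commute b' f := by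
  obtain ⟨φ, hφ⟩ := hiso b hb.1
  have hab := mem_nb_comm ha hb
  by_cases e : b' = b
  · subst e
    obtain ⟨q, -, hq⟩ := hL.exists_far_both (by norm_num) (hφ.mem hab) (hφ.mem hab)
    obtain ⟨x, hx, rfl⟩ := hφ.surj hq.1
    exact ⟨x, (hφ.mem_far_iff hab hx).1 hq, hx.2.2, hx.2.2⟩
  have hb'b : b' ∈ nb D b := ⟨hb'.1, e, hc⟩
  have hba' : φ a ∈ nb E (φ b') := (hφ.mem_nb_iff hb'b hab).2 (mem_nb_comm ha hb')
  obtain ⟨q, hq, hqa⟩ : ∃ q ∈ nb E (φ b'), q ∈ far E (φ a) := by
    by_contra hno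
    push Not at hno
    have hsub : nb E (φ b') ⊆ insert (φ a) (common E (φ b') (φ a)) := fun q hq => by
      by_cases e : q = φ a
      · exact Or.inl e
      · exact Or.inr ⟨hq, hq.1, e, not_not.1 fun h => hno q hq ⟨hq.1, h⟩⟩
    have := (Set.ncard_le_ncard hsub (Set.toFinite _)).trans (Set.ncard_insert_le _ _)
    rw [hL.card_nb _ (hφ.mem hb'b), hL.card_edge _ (hφ.mem hb'b) _ hba'] at this
    omega
  obtain ⟨x, hx, rfl⟩ := hφ.surj hq.1
  exact ⟨x, (hφ.mem_far_iff hab hx).1 hqa, hx.2.2, ((hφ.mem_nb_iff hb'b hx).1 hq).2.2⟩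

theorem farPath_of_iso {a x y : G} (ha : a ∈ D) (hx : x ∈ far D a) (hy : y ∈ far D a) (px : Path D a x)
    (py : Path D a y) : Path (far D a) x y := by
  refine far_path hD ha (nbConn_of_iso hD hC hL hiso ha) (fun b hb => ?_)
    (fun _ hb _ hb' hc => witness_of_iso hD hC hL hiso ha hb hb' hc) hx hy px py
  obtain ⟨f, hf⟩ := hiso b hb.1
  have hab := mem_nb_comm ha hb
  exact hf.conn_pull Set.inter_subset_left (hf.image_far hab ▸ hL.farConn _ (hf.mem hab))

theorem dperp_of_iso {a x y : G} (ha : a ∈ D) (hx : x ∈ far D a) (hy : y ∈ far D a) (hp : Path D a x)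
    (h : ∀ b ∈ common D a x, Commute b y) : y = x ∨ y = a * x * a := by
  obtain ⟨b, hb⟩ := exists_common_path hD ha hp hx
  obtain ⟨f, hf⟩ := hiso b hb.1.1
  have ma := mem_nb_comm ha hb.1
  have mx := mem_nb_comm hx.1 hb.2
  have my : y ∈ nb D b := ⟨hy.1, fun e => hy.2 (e ▸ hb.1.2.2), h b hb⟩
  have := hL.dperp _ (hf.mem ma) _ ((hf.mem_far_iff ma mx).2 hx) _ ((hf.mem_far_iff ma my).2 hy) ?_
  · rcases this with e | e
    · exact Or.inl (hf.inj my mx e)
    · exact Or.inr (hf.inj my ((nb_closed hD b).2 a ma x mx) (e.trans (hf.conj a ma x mx).symm))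
  · intro q hq
    rw [← hf.image_common ma mx] at hq
    obtain ⟨z, ⟨hz, hzc⟩, rfl⟩ := hq
    exact (hf.comm z hz y my).2 (h z hzc)

theorem odd_central_of_iso {a : G} (ha : a ∈ D) : ∃ L : List G, Odd L.length ∧ (∀ u ∈ L, u ∈ D ∧ Path D a u) ∧
    ∀ x ∈ D, Path D a x → Commute L.prod x := by
  obtain ⟨f, hf⟩ := hiso a ha
  obtain ⟨q, hq⟩ : E.Nonempty := Set.nonempty_of_ncard_ne_zero (by rw [hL.card_D]; norm_num)
  obtain ⟨γ, hγ⟩ := hC.loc q hq
  obtain ⟨x, hx, rfl⟩ := hf.surj hq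
  have hline := line_prod hC hq hγ
  have hex : ∀ p ∈ line12, ∃ y ∈ nb D a, f y = γ p := fun p hp => hf.surj (hγ.mem p (isPt_of_mem_line12 hp)).1
  choose g hg hge using hex
  set R := line12.attach.map (fun p => g p.1 p.2) with hR
  have hl : ∀ y ∈ x :: R, y ∈ nb D a := by
    intro y hy
    rcases List.mem_cons.1 hy with rfl | hy
    · exact hx
    · obtain ⟨p, -, rfl⟩ := List.mem_map.1 hy
      exact hg p.1 p.2
  have hRmap : R.map f = line12.map γ := by
    rw [hR, List.map_map]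
    conv_rhs => rw [← List.attach_map_subtype_val line12, List.map_map]
    exact List.map_congr_left fun p _ => hge p.1 p.2
  have hprod : ((x :: R).map f).prod = 1 := by
    rw [List.map_cons, List.prod_cons, hRmap]
    have e : (line12.map γ).prod = γ 1 * γ 4 * γ 5 * γ 9 * γ 13 := by simp [line12, mul_assoc]
    rw [e, hline, sq hC.tt hq]
  have hza : Commute (x :: R).prod a := Commute.list_prod_left _ _ fun y hy => (hl y hy).2.2.symm
  rcases kernel_path hD ha hza ((hf.list_central hD hC.tt hC.center hl).2 hprod)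
    (fun u hu v hv hp => dperp_of_iso hD hC hL hiso ha hu hv hp)
    (fun u v hu hv pu pv => farPath_of_iso hD hC hL hiso ha hu hv pu pv) with h | h
  · exfalso
    have hxR : ∀ y ∈ R, y ∈ nb D x := by
      intro y hy
      obtain ⟨p, -, rfl⟩ := List.mem_map.1 hy
      have hm := hγ.mem p.1 (isPt_of_mem_line12 p.2)
      rw [← hge p.1 p.2] at hm
      exact (hf.mem_nb_iff hx (hg p.1 p.2)).1 hm
    obtain ⟨φ, hφ⟩ := hiso x hx.1
    have hc : ∀ z ∈ nb D x, Commute R.prod z := by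
      intro z hz
      have hpz : Path D a z := Path.trans' (Path.single' ha hx.1 hx.2.2) (Path.single' hx.1 hz.1 hz.2.2)
      have := hz.2.2.mul_left (h z hz.1 hpz)
      rwa [List.prod_cons, ← mul_assoc, sq hD hx.1, one_mul] at this
    have h1 := (hφ.list_central hD hC.tt hC.center hxR).1 hc
    have hnd : R.Nodup := by
      refine List.Nodup.map (fun p p' e => ?_) (List.nodup_attach.2 (by decide))
      exact Subtype.ext (hγ.inj _ _ (isPt_of_mem_line12 p.2) (isPt_of_mem_line12 p'.2)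
        (by rw [← hge p.1 p.2, ← hge p'.1 p'.2]; exact congrArg f e))
    refine hC.noRel5 (R.map φ) (hnd.map_on fun u hu v hv e => hφ.inj (hxR u hu) (hxR v hv) e) ?_ ?_ ?_ h1
    · simp [hR, line12]
    · intro u hu
      obtain ⟨v, hv, rfl⟩ := List.mem_map.1 hu
      exact hφ.mem (hxR v hv)
    · intro u hu u' hu'
      obtain ⟨v, hv, rfl⟩ := List.mem_map.1 hu
      obtain ⟨v', hv', rfl⟩ := List.mem_map.1 hu'
      refine (hφ.comm v (hxR v hv) v' (hxR v' hv')).2 ?_
      obtain ⟨p, -, rfl⟩ := List.mem_map.1 hv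
      obtain ⟨p', -, rfl⟩ := List.mem_map.1 hv'
      refine (hf.comm _ (hg _ _) _ (hg _ _)).1 ?_
      rw [hge, hge]
      exact (hγ.comm _ _ (isPt_of_mem_line12 p.2) (isPt_of_mem_line12 p'.2)).2 (line12_orth p.2 p'.2)
  · refine ⟨a :: x :: R, ⟨3, by simp [hR, line12]⟩, ?_, fun z hz hp => by rw [List.prod_cons]; exact h z hz hp⟩
    intro u hu
    rcases List.mem_cons.1 hu with rfl | hu
    · exact ⟨ha, .refl⟩
    · exact ⟨(hl u hu).1, Path.single' ha (hl u hu).1 (hl u hu).2.2⟩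

theorem conn_of_iso : Conn D := by
  refine conn_of_odd hD (fun a ha => odd_central_of_iso hD hC hL hiso ha) (fun b hb c hc hbc => ?_) fun a ha => ?_
  · obtain ⟨w, hwb, hwc⟩ : ∃ w, w ∈ nb D b ∧ (c = b ∨ w ∈ nb D c) := by
      obtain ⟨f, hf⟩ := hiso b hb
      by_cases e : c = b
      · obtain ⟨q, hq⟩ : E.Nonempty := Set.nonempty_of_ncard_ne_zero (by rw [hL.card_D]; norm_num)
        obtain ⟨w, hw, -⟩ := hf.surj hq
        exact ⟨w, hw, Or.inl e⟩
      · have hcb : c ∈ nb D b := ⟨hc, e, hbc⟩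
        obtain ⟨q, hq⟩ : (nb E (f c)).Nonempty :=
          Set.nonempty_of_ncard_ne_zero (by rw [hL.card_nb _ (hf.mem hcb)]; norm_num)
        obtain ⟨w, hw, rfl⟩ := hf.surj hq.1
        exact ⟨w, hw, Or.inr ((hf.mem_nb_iff hcb hw).1 hq)⟩
    obtain ⟨f, hf⟩ := hiso w hwb.1
    have mb := mem_nb_comm hb hwb
    have mc : c ∈ nb D w := hwc.elim (fun e => e ▸ mb) fun h => mem_nb_comm hc h
    obtain ⟨q, h1, h2⟩ := hL.exists_far_both (by norm_num) (hf.mem mb) (hf.mem mc)
    obtain ⟨y, hy, rfl⟩ := hf.surj h1.1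
    exact ⟨y, hy.1, ((hf.mem_far_iff mb hy).1 h1).2, ((hf.mem_far_iff mc hy).1 h2).2,
      Path.trans' (Path.single' hb hwb.1 hwb.2.2) (Path.single' hwb.1 hy.1 hy.2.2)⟩
  · obtain ⟨f, hf⟩ := hiso a ha
    obtain ⟨q, hq⟩ : E.Nonempty := Set.nonempty_of_ncard_ne_zero (by rw [hL.card_D]; norm_num)
    obtain ⟨q', hq'⟩ : (nb E q).Nonempty := Set.nonempty_of_ncard_ne_zero (by rw [hL.card_nb q hq]; norm_num)
    obtain ⟨u, hu, rfl⟩ := hf.surj hq
    obtain ⟨v, hv, rfl⟩ := hf.surj hq'.1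
    exact ⟨u, v, hu, hv, fun e => hq'.2.1 (by rw [e]), (hf.comm u hu v hv).1 hq'.2.2⟩

end Local

/-- A section of type M(23) is connected. -/
theorem conn23 [Finite G] (hD : TTSet D) (h : Core23 G D) : Conn D := by
  obtain ⟨h1, h2⟩ := oneClass_twinFree_of_core23 hD h
  obtain ⟨-, d, hd, -, -, -, h22, -⟩ := h
  haveI := loc_finite hD d
  have hC := cfg22_of_core22 (loc_isGroup hD d) h22
  obtain ⟨-, q, hq, -⟩ := h22
  obtain ⟨f, hf⟩ := exists_iso_loc hD h1 h2 hd
  exact conn_of_iso hD hC (lay22 hC hq) (iso_everywhere hD h1 hd hf)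

end Cfsg.Agent.TT95
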