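import Cfsg.Agent.TT95.Octad

/-!
Type M(24): the number of octads is odd.
-/

set_option autoImplicit false
set_option linter.unusedSectionVars false

namespace Cfsg.Agent.TT95

variable {G : Type*} [Group G] {D : Set G}

theorem perp_singleton (D : Set G) (u : G) : perp D {u} = nb D u := by
  ext y
  simp [perp, nb]

theorem perp_pair (D : Set G) (u v : G) : perp D {u, v} = common D u v := by
  ext y
  simp only [perp, common, nb, Set.mem_inter_iff, Set.mem_setOf_eq, Set.mem_insert_iff, Set.mem_singleton_iff,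
    forall_eq_or_imp, forall_eq]
  tauto

section Count

variable [Finite G] [DecidableEq G]

/-- The sets of `k` pairwise commuting members. -/
noncomputable def cliques (D : Set G) (k : ℕ) : Finset (Finset G) := by
  classical
  exact (@Finset.univ G (Fintype.ofFinite G)).powerset.filter fun S =>
    S.card = k ∧ (∀ u ∈ S, u ∈ D) ∧ ∀ u ∈ S, ∀ v ∈ S, Commute u v

theorem mem_cliques {k : ℕ} {S : Finset G} :
    S ∈ cliques D k ↔ S.card = k ∧ (∀ u ∈ S, u ∈ D) ∧ ∀ u ∈ S, ∀ v ∈ S, Commute u v := by
  simp [cliques]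

open scoped Classical in
theorem clique_step {k N : ℕ} (hN : ∀ S ∈ cliques D k, (perp D ↑S).ncard = N) :
    (cliques D (k + 1)).card * (k + 1) = (cliques D k).card * N := by
  haveI := Fintype.ofFinite G
  refine (Finset.card_mul_eq_card_mul (fun (S' S : Finset G) => S ⊆ S') (m := k + 1) (n := N) ?_ ?_)
  · intro S' hS'
    obtain ⟨hc, hD', hcm⟩ := mem_cliques.1 hS'
    have e : (cliques D k).bipartiteAbove (fun (S' S : Finset G) => S ⊆ S') S' = S'.powersetCard k := by
      ext S
      simp only [Finset.bipartiteAbove, Finset.mem_filter, Finset.mem_powersetCard, mem_cliques]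
      constructor
      · rintro ⟨⟨h1, -, -⟩, h2⟩
        exact ⟨h2, h1⟩
      · rintro ⟨h2, h1⟩
        exact ⟨⟨h1, fun u hu => hD' u (h2 hu), fun u hu v hv => hcm u (h2 hu) v (h2 hv)⟩, h2⟩
    rw [e, Finset.card_powersetCard, hc, Nat.choose_succ_self_right]
  · intro S hS
    obtain ⟨hc, hD', hcm⟩ := mem_cliques.1 hS
    have e : (cliques D (k + 1)).bipartiteBelow (fun (S' S : Finset G) => S ⊆ S') S =
        (perp D ↑S).toFinset.image (fun y => insert y S) := by
      ext S'
      simp only [Finset.bipartiteBelow, Finset.mem_filter, mem_cliques, Finset.mem_image, Set.mem_toFinset]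
      constructor
      · rintro ⟨⟨h1, h2, h3⟩, hsub⟩
        obtain ⟨y, hy⟩ := Finset.card_eq_one.1
          (show (S' \ S).card = 1 by rw [Finset.card_sdiff_of_subset hsub, h1, hc]; omega)
        have hy' := Finset.mem_sdiff.1 (hy ▸ Finset.mem_singleton_self y)
        refine ⟨y, ⟨h2 y hy'.1, hy'.2, fun x hx => h3 x (hsub hx) y hy'.1⟩, ?_⟩
        rw [Finset.insert_eq, ← hy, Finset.sdiff_union_of_subset hsub]
      · rintro ⟨y, ⟨hy1, hy2, hy3⟩, rfl⟩
        refine ⟨⟨by rw [Finset.card_insert_of_notMem hy2, hc], ?_, ?_⟩, Finset.subset_insert _ _⟩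
        · simp only [Finset.mem_insert, forall_eq_or_imp]
          exact ⟨hy1, hD'⟩
        · intro u hu v hv
          rcases Finset.mem_insert.1 hu with eu | hu' <;> rcases Finset.mem_insert.1 hv with ev | hv'
          · rw [eu, ev]
          · rw [eu]; exact (hy3 v hv').symm
          · rw [ev]; exact hy3 u hu'
          · exact hcm u hu' v hv'
    rw [e, Finset.card_image_of_injOn, ← Set.ncard_eq_toFinset_card', hN S hS]
    intro y hy z hz h
    simp only [Finset.mem_coe, Set.mem_toFinset] at hy hz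
    have h' : insert y S = insert z S := h
    have : y ∈ insert z S := h' ▸ Finset.mem_insert_self y S
    exact (Finset.mem_insert.1 this).resolve_right hy.2.1

variable {d : G} {q : ModCenter (Subgroup.closure (nb D d))} (hG : Cfg24 D d q)

include hG

theorem perp_one {S : Finset G} (hS : S ∈ cliques D 1) : (perp D ↑S).ncard = 31671 := by
  obtain ⟨hc, hD', -⟩ := mem_cliques.1 hS
  obtain ⟨a, rfl⟩ := Finset.card_eq_one.1 hc
  rw [Finset.coe_singleton, perp_singleton, hG.lay.card_nb a (hD' a (by simp))]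

theorem perp_two {S : Finset G} (hS : S ∈ cliques D 2) : (perp D ↑S).ncard = 3510 := by
  obtain ⟨hc, hD', hcm⟩ := mem_cliques.1 hS
  obtain ⟨a, b, hab, rfl⟩ := Finset.card_eq_two.1 hc
  rw [Finset.coe_pair, perp_pair, hG.lay.card_edge a (hD' a (by simp)) b
    ⟨hD' b (by simp), Ne.symm hab, hcm a (by simp) b (by simp)⟩]

theorem perp_three {S : Finset G} (hS : S ∈ cliques D 3) : (perp D ↑S).ncard = 693 := by
  haveI := loc_finite hG.lay.tt d
  obtain ⟨hc, hD', hcm⟩ := mem_cliques.1 hS
  obtain ⟨a, b, c, hab, hac, hbc, rfl⟩ := Finset.card_eq_three.1 hc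
  obtain ⟨f, hf⟩ := hG.step.iso a (hD' a (by simp))
  have hb : b ∈ nb D a := ⟨hD' b (by simp), Ne.symm hab, hcm a (by simp) b (by simp)⟩
  have hc' : c ∈ nb D a := ⟨hD' c (by simp), Ne.symm hac, hcm a (by simp) c (by simp)⟩
  have hcb : c ∈ nb D b := ⟨hD' c (by simp), Ne.symm hbc, hcm b (by simp) c (by simp)⟩
  rw [Finset.coe_insert, Finset.coe_pair, hf.ncard_perp (Set.insert_subset hb (Set.singleton_subset_iff.2 hc')),
    Set.image_pair, perp_pair, hG.loc.lay.card_edge _ (hf.mem hb) _ ((hf.mem_nb_iff hb hc').2 hcb)]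

theorem perp_four {S : Finset G} (hS : S ∈ cliques D 4) : (perp D ↑S).ncard = 180 := by
  haveI := loc_finite hG.lay.tt d
  haveI := loc_finite hG.loc.lay.tt q
  obtain ⟨hc, hD', hcm⟩ := mem_cliques.1 hS
  obtain ⟨a, T, haT, rfl, hT⟩ := Finset.card_eq_succ.1 hc
  obtain ⟨b, c, e, hbc, hbe, hce, rfl⟩ := Finset.card_eq_three.1 hT
  simp only [Finset.mem_insert, Finset.mem_singleton, not_or] at haT
  obtain ⟨f, hf⟩ := hG.step.iso a (hD' a (by simp))
  have hb : b ∈ nb D a := ⟨hD' b (by simp), Ne.symm haT.1, hcm a (by simp) b (by simp)⟩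
  have hc' : c ∈ nb D a := ⟨hD' c (by simp), Ne.symm haT.2.1, hcm a (by simp) c (by simp)⟩
  have he : e ∈ nb D a := ⟨hD' e (by simp), Ne.symm haT.2.2, hcm a (by simp) e (by simp)⟩
  have hcb : c ∈ nb D b := ⟨hD' c (by simp), Ne.symm hbc, hcm b (by simp) c (by simp)⟩
  have heb : e ∈ nb D b := ⟨hD' e (by simp), Ne.symm hbe, hcm b (by simp) e (by simp)⟩
  have hec : e ∈ nb D c := ⟨hD' e (by simp), Ne.symm hce, hcm c (by simp) e (by simp)⟩
  have kc := (hf.mem_nb_iff hb hc').2 hcb
  have ke := (hf.mem_nb_iff hb he).2 heb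
  obtain ⟨g, hg⟩ := hG.loc.step.iso (f b) (hf.mem hb)
  rw [Finset.coe_insert, Finset.coe_insert, Finset.coe_pair,
    hf.ncard_perp (Set.insert_subset hb (Set.insert_subset hc' (Set.singleton_subset_iff.2 he))),
    Set.image_insert_eq, Set.image_pair, hg.ncard_perp (Set.insert_subset kc (Set.singleton_subset_iff.2 ke)),
    Set.image_pair, perp_pair,
    hG.loc.step.lay.card_edge _ (hg.mem kc) _ ((hg.mem_nb_iff kc ke).2 ((hf.mem_nb_iff hc' he).2 hec))]

/-- All octads. -/
noncomputable def octs (D : Set G) : Finset (Finset G) := by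
  classical
  exact (@Finset.univ G (Fintype.ofFinite G)).powerset.filter fun O => IsOct D O

omit hG in
theorem mem_octs {O : Finset G} : O ∈ octs D ↔ IsOct D O := by simp [octs]

theorem card_octs : (octs D).card = 633363728392395 := by
  classical
  haveI := Fintype.ofFinite G
  have h0 : (cliques D 0).card = 1 := by
    refine Finset.card_eq_one.2 ⟨∅, ?_⟩
    ext S
    rw [mem_cliques, Finset.mem_singleton]
    exact ⟨fun h => Finset.card_eq_zero.1 h.1, fun h => by subst h; simp⟩
  have h1 := clique_step (D := D) (k := 0) (N := 306936) fun S hS => by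
    rw [Finset.card_eq_zero.1 (mem_cliques.1 hS).1, Finset.coe_empty, ← hG.lay.card_D]
    congr 1
    ext y
    simp [perp]
  have h2 := clique_step (D := D) (k := 1) fun S hS => perp_one hG hS
  have h3 := clique_step (D := D) (k := 2) fun S hS => perp_two hG hS
  have h4 := clique_step (D := D) (k := 3) fun S hS => perp_three hG hS
  have h5 := clique_step (D := D) (k := 4) fun S hS => perp_four hG hS
  have hsplit : cliques D 5 = (octs D).biUnion fun O => O.powersetCard 5 := by
    ext P
    simp only [mem_cliques, Finset.mem_biUnion, mem_octs, Finset.mem_powersetCard]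
    constructor
    · rintro ⟨hc, hD', hcm⟩
      obtain ⟨O, hO, hsub⟩ := exists_oct hG hc hD' hcm
      exact ⟨O, hO, hsub, hc⟩
    · rintro ⟨O, hO, hsub, hc⟩
      exact ⟨hc, fun u hu => hO.cl.1 u (hsub hu), fun u hu v hv => hO.cl.2 u (hsub hu) v (hsub hv)⟩
  have h56 : (cliques D 5).card = (octs D).card * 56 := by
    rw [hsplit, Finset.card_biUnion]
    · refine Finset.sum_const_nat fun O hO => ?_
      rw [Finset.card_powersetCard, (mem_octs.1 hO).card]
      rfl
    · intro O hO O' hO' hne
      refine Finset.disjoint_left.2 fun P hP hP' => hne ?_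
      simp only [Finset.mem_powersetCard] at hP hP'
      exact oct_unique hG (mem_octs.1 hO) (mem_octs.1 hO') hP.2 hP.1 hP'.1
  norm_num at h1 h2 h3 h4 h5
  omega

omit hG in
theorem image_conj_oct (hD : TTSet D) (g : G) {O : Finset G} (h : IsOct D O) :
    IsOct D (O.image fun x => g * x * g⁻¹) := by
  obtain ⟨l, ⟨h1, h2, h3, h4, h5⟩, rfl⟩ := h
  refine ⟨l.map fun x => g * x * g⁻¹, ⟨h1.map fun x y e => by simpa using e, by simpa using h2, ?_, ?_, ?_⟩,
    by ext; simp⟩
  · intro x hx
    obtain ⟨y, hy, rfl⟩ := List.mem_map.1 hx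
    exact conj_mem hD g (h3 y hy)
  · intro x hx y hy
    obtain ⟨u, hu, rfl⟩ := List.mem_map.1 hx
    obtain ⟨v, hv, rfl⟩ := List.mem_map.1 hy
    exact (Commute.conj_iff g).2 (h4 u hu v hv)
  · have := (map_list_prod (MulAut.conj g).toMonoidHom l).symm
    rw [h5, map_one] at this
    exact this

/-- Some class of octads has odd size. -/
theorem exists_odd_class : ∃ O, IsOct D O ∧ Odd (Set.range fun g : G => O.image fun x => g * x * g⁻¹).ncard := by
  classical
  haveI := Fintype.ofFinite G
  have hD := hG.lay.tt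
  by_contra hno
  push Not at hno
  let orb : Finset G → Finset (Finset G) := fun O => Finset.univ.image fun g : G => O.image fun x => g * x * g⁻¹
  have hcomp : ∀ (g h : G) (O : Finset G),
      (O.image fun x => h * x * h⁻¹).image (fun x => g * x * g⁻¹) = O.image fun x => g * h * x * (g * h)⁻¹ := by
    intro g h O
    rw [Finset.image_image]
    exact Finset.image_congr fun x _ => by simp [mul_assoc]
  have horb : ∀ (O O' : Finset G), O' ∈ orb O → orb O' = orb O := by
    intro O O' h
    obtain ⟨h₀, -, rfl⟩ := Finset.mem_image.1 h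
    ext A
    simp only [orb, Finset.mem_image, Finset.mem_univ, true_and]
    constructor
    · rintro ⟨g, rfl⟩
      exact ⟨g * h₀, (hcomp g h₀ O).symm⟩
    · rintro ⟨g, rfl⟩
      exact ⟨g * h₀⁻¹, by rw [hcomp, inv_mul_cancel_right]⟩
  have hself : ∀ O, O ∈ orb O := fun O => Finset.mem_image.2 ⟨1, Finset.mem_univ _, by simp⟩
  have heven : Even (octs D).card := by
    rw [Finset.card_eq_sum_card_image orb]
    refine Finset.even_sum _ fun B hB => ?_
    obtain ⟨O, hO, rfl⟩ := Finset.mem_image.1 hB
    have e : (octs D).filter (fun O' => orb O' = orb O) = orb O := by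
      ext A
      rw [Finset.mem_filter]
      constructor
      · rintro ⟨-, h⟩
        exact h ▸ hself A
      · intro h
        refine ⟨?_, horb O A h⟩
        obtain ⟨g, -, rfl⟩ := Finset.mem_image.1 h
        exact mem_octs.2 (image_conj_oct hD g (mem_octs.1 hO))
    rw [e, ← Nat.not_odd_iff_even]
    have h := hno O (mem_octs.1 hO)
    rwa [Set.ncard_eq_toFinset_card', Set.toFinset_range] at h
  rw [card_octs hG] at heven
  revert heven
  decide

end Count

end Cfsg.Agent.TT95
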