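import Cfsg.Agent.TT95.Basic
import Cfsg.Agent.TT95.SwapBasic

/-!
The commuting graph on sets of 3-transpositions: paths, common neighbours inside a closed set, and the
action of a transposition on the connected components.
-/

set_option autoImplicit false
set_option linter.unusedSectionVars false

namespace Cfsg.Agent.TT95

variable {G : Type*} [Group G]

/-- A path of commuting members inside `S`. -/
def Path (S : Set G) (x y : G) : Prop :=
  Relation.ReflTransGen (fun u v => u ∈ S ∧ v ∈ S ∧ Commute u v) x y

/-- The commuting graph on `S` is connected. -/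
def Conn (S : Set G) : Prop := ∀ x ∈ S, ∀ y ∈ S, Path S x y

/-- The members not commuting with `a`. -/
def far (D : Set G) (a : G) : Set G := {x | x ∈ D ∧ ¬ Commute a x}

/-- The common neighbours. -/
def common (D : Set G) (a b : G) : Set G := nb D a ∩ nb D b

/-- A subset of `D` closed under conjugation by its members. -/
def Closed (D S : Set G) : Prop := S ⊆ D ∧ ∀ x ∈ S, ∀ y ∈ S, x * y * x ∈ S

theorem Path.symm {S : Set G} {x y : G} (h : Path S x y) : Path S y x := by
  induction h with
  | refl => exact .refl
  | tail _ e ih =>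
    exact Relation.ReflTransGen.trans (Relation.ReflTransGen.single ⟨e.2.1, e.1, e.2.2.symm⟩) ih

theorem Path.trans' {S : Set G} {x y z : G} (h : Path S x y) (h' : Path S y z) : Path S x z :=
  Relation.ReflTransGen.trans h h'

theorem Path.single' {S : Set G} {x y : G} (hx : x ∈ S) (hy : y ∈ S) (h : Commute x y) : Path S x y :=
  Relation.ReflTransGen.single ⟨hx, hy, h⟩

theorem Path.mem {S : Set G} {x y : G} (hx : x ∈ S) (h : Path S x y) : y ∈ S := by
  induction h with
  | refl => exact hx
  | tail _ e _ => exact e.2.1

theorem Path.mono {S T : Set G} (hST : S ⊆ T) {x y : G} (h : Path S x y) : Path T x y :=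
  by
  induction h with
  | refl => exact .refl
  | tail _ e ih => exact Relation.ReflTransGen.tail ih ⟨hST e.1, hST e.2.1, e.2.2⟩

variable {D : Set G} (hD : TTSet D)

include hD

theorem closed_self : Closed D D := ⟨subset_rfl, fun _ hx _ hy => conj_mem' hD hy hx⟩

theorem nb_closed (a : G) : Closed D (nb D a) :=
  ⟨fun _ h => h.1, fun x hx y hy => by
    refine ⟨conj_mem' hD hy.1 hx.1, fun e => hy.2.1 ?_, (hx.2.2.mul_right hy.2.2).mul_right hx.2.2⟩
    have h : y = x * a * x := by
      rw [← e, show x * (x * y * x) * x = (x * x) * y * (x * x) by group, sq hD hx.1, one_mul, mul_one]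
    rw [h, hx.2.2.eq.symm, mul_assoc, sq hD hx.1, mul_one]⟩

theorem common_closed (a b : G) : Closed D (common D a b) :=
  ⟨fun _ h => h.1.1, fun x hx y hy => ⟨(nb_closed hD a).2 x hx.1 y hy.1, (nb_closed hD b).2 x hx.2 y hy.2⟩⟩

theorem Path.conj {S T : Set G} (g : G) (hST : ∀ x ∈ S, g * x * g⁻¹ ∈ T) {x y : G} (h : Path S x y) :
    Path T (g * x * g⁻¹) (g * y * g⁻¹) :=
  by
  induction h with
  | refl => exact .refl
  | tail _ e ih => exact Relation.ReflTransGen.tail ih ⟨hST _ e.1, hST _ e.2.1, (Commute.conj_iff g).2 e.2.2⟩

theorem third_symm {x y : G} (hx : x ∈ D) (hy : y ∈ D) (h : ¬ Commute x y) : x * (y * x * y) * x = y := by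
  rw [← braid hD hx hy h, show x * (x * y * x) * x = (x * x) * y * (x * x) by group, sq hD hx, one_mul, mul_one]

/-- Joined noncommuting members of a closed set have a common neighbour in it. -/
theorem common_of_path {S : Set G} (hS : Closed D S) {a y : G} (ha : a ∈ S) (h : Path S a y)
    (hay : ¬ Commute a y) : ∃ b ∈ S, b ≠ a ∧ b ≠ y ∧ Commute a b ∧ Commute b y := by
  suffices key : ∀ y, Path S a y →
      Commute a y ∨ ∃ b ∈ S, b ≠ a ∧ b ≠ y ∧ Commute a b ∧ Commute b y from (key y h).resolve_left hay
  clear h hay y
  intro y h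
  induction h with
  | refl => exact Or.inl (Commute.refl _)
  | @tail y y' _ e ih =>
    obtain ⟨hyS, hyS', hc⟩ := e
    by_cases h0 : Commute a y'
    · exact Or.inl h0
    right
    by_cases h2 : Commute a y
    · exact ⟨y, hyS, fun e => h0 (e ▸ hc), fun e => h0 (e ▸ h2), h2, hc⟩
    obtain ⟨b, hb, -, -, hab, hby⟩ := ih.resolve_left h2
    by_cases h3 : Commute b y'
    · exact ⟨b, hb, fun e => h0 (e ▸ h3), fun e => h0 (e ▸ hab), hab, h3⟩
    have hbD := hS.1 hb
    have hyD := hS.1 hyS
    have hyD' := hS.1 hyS'
    have haD := hS.1 ha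
    have t3 : y' * (a * y' * a) * y' = a := third_symm hD hyD' haD fun e => h0 e.symm
    set m := y' * b * y' with hm
    have cym : Commute y m := (hc.mul_right hby.symm).mul_right hc
    have hay' : Commute (a * y' * a) m := by
      have hgood : Commute (y' * (a * y' * a) * y') (y' * m * y') := by
        rw [t3, hm, show y' * (y' * b * y') * y' = (y' * y') * b * (y' * y') by group, sq hD hyD', one_mul,
          mul_one]
        exact hab
      have := (Commute.conj_iff y').2 hgood
      rw [inv_eq hD hyD'] at this
      rwa [show y' * (y' * (a * y' * a) * y') * y' = (y' * y') * (a * y' * a) * (y' * y') by group,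
        show y' * (y' * m * y') * y' = (y' * y') * m * (y' * y') by group, sq hD hyD', one_mul, mul_one,
        one_mul, mul_one] at this
    set w := y * (a * m * a) * y with hw
    have hwS : w ∈ S := hS.2 y hyS _ (hS.2 a ha m (hS.2 y' hyS' b hb))
    have einv : (y * a)⁻¹ = a * y := by rw [mul_inv_rev, inv_eq hD haD, inv_eq hD hyD]
    have wy : Commute w y' := by
      have := (Commute.conj_iff (y * a)).2 hay'.symm
      rw [einv] at this
      rw [show y * a * (a * y' * a) * (a * y) = y * ((a * a) * y' * (a * a)) * y by group, sq hD haD, one_mul,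
        mul_one, show y * y' * y = y' by rw [hc.eq, mul_assoc, sq hD hyD, mul_one]] at this
      rwa [show y * a * m * (a * y) = w by rw [hw]; group] at this
    have wa : Commute w a := by
      have := (Commute.conj_iff (y * a)).2 cym.symm
      rw [einv] at this
      rw [show y * a * y * (a * y) = y * (a * y * a) * y by group, third_symm hD hyD haD fun e => h2 e.symm] at this
      rwa [show y * a * m * (a * y) = w by rw [hw]; group] at this
    exact ⟨w, hwS, fun e => h0 (e ▸ wy), fun e => h0 (e ▸ wa.symm), wa.symm, wy⟩

/-- Commuting `u`, `v` send a member joined to neither into one component. -/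
theorem path_swap {S : Set G} (hS : Closed D S) {u v z : G} (hu : u ∈ S) (hv : v ∈ S) (hz : z ∈ S)
    (huv : Commute u v) (hn : ¬ Path S u z) : Path S (u * z * u) (v * z * v) := by
  by_cases e : u = v
  · subst e; exact .refl
  refine Path.single' (hS.2 u hu z hz) (hS.2 v hv z hz)
    (swap_comm hD (hS.1 hu) (hS.1 hv) (hS.1 hz) huv e (fun h => hn (Path.single' hu hz h.symm)) fun h => hn ?_)
  exact (Path.single' hu hv huv).trans' (Path.single' hv hz h.symm)

/-- All members of one component move another component to the same one. -/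
theorem path_act {S : Set G} (hS : Closed D S) {u v z : G} (hu : u ∈ S) (hz : z ∈ S) (h : Path S u v)
    (hn : ¬ Path S u z) : Path S (u * z * u) (v * z * v) := by
  induction h with
  | refl => exact .refl
  | @tail p q hp e ih =>
    exact ih.trans' (path_swap hD hS e.1 e.2.1 hz e.2.2 fun h => hn (Path.trans' hp h))

/-- A member moves every component but its own. -/
theorem not_path_conj {S : Set G} (hS : Closed D S) {y z : G} (hy : y ∈ S) (hz : z ∈ S)
    (hn : ¬ Path S y z) : ¬ Path S z (y * z * y) := by
  intro h
  have hyz : ¬ Commute y z := fun h => hn (Path.single' hy hz h)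
  have hnc : ¬ Commute z (y * z * y) := by
    intro hc
    rw [braid hD (hS.1 hy) (hS.1 hz) hyz] at hc
    apply hyz
    have := ((Commute.refl z).mul_right hc).mul_right (Commute.refl z)
    rw [show z * (z * y * z) * z = (z * z) * y * (z * z) by group, sq hD (hS.1 hz), one_mul, mul_one] at this
    exact this.symm
  obtain ⟨w, hw, -, -, hzw, hwy⟩ := common_of_path hD hS hz h hnc
  refine hn (Path.trans' (Path.single' hy hw ?_) (Path.single' hw hz hzw.symm))
  have h1 : Commute w (z * (y * z * y) * z) := (hzw.symm.mul_right hwy).mul_right hzw.symm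
  rw [third_symm hD (hS.1 hz) (hS.1 hy) fun h => hyz h.symm] at h1
  have h2 : Commute w (y * z * y) := hwy
  exact h1.symm

/-- A member sends another component to the third one. -/
theorem path_third {S : Set G} (hS : Closed D S) {y z : G} (hy : y ∈ S) (hz : z ∈ S) (hn : ¬ Path S y z) :
    ¬ Path S y (y * z * y) := by
  intro h
  apply hn
  have hmap : ∀ x ∈ S, y * x * y⁻¹ ∈ S := fun x hx => by rw [inv_eq hD (hS.1 hy)]; exact hS.2 y hy x hx
  have := Path.conj hD y hmap h
  rwa [mul_inv_cancel_right, inv_eq hD (hS.1 hy),
    show y * (y * z * y) * y = (y * y) * z * (y * y) by group, sq hD (hS.1 hy), one_mul, mul_one] at this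

end Cfsg.Agent.TT95
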