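import Cfsg.Agent.TT95.Stab

/-!
Type M(22): the action on the 45 keys of a commuting pair of transpositions, and its parity.
-/

set_option autoImplicit false
set_option linter.unusedSectionVars false

namespace Cfsg.Agent.TT95

open Cfsg.Agent.TT95.U6

theorem sign_of_involution {α : Type*} [Fintype α] [DecidableEq α] (σ : Equiv.Perm α) (h : σ * σ = 1)
    (m : ℕ) (hm : (Finset.univ.filter fun x => σ x = x).card + 2 * m = Fintype.card α) :
    Equiv.Perm.sign σ = (-1) ^ m := by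
  haveI := Fact.mk Nat.prime_two
  have h2 : σ ^ 2 = 1 := by rw [pow_two]; exact h
  have hall := Equiv.Perm.pow_prime_eq_one_iff.1 h2
  have hrep := Multiset.eq_replicate_card.2 hall
  have hsum := Equiv.Perm.sum_cycleType σ
  rw [hrep, Multiset.sum_replicate, smul_eq_mul] at hsum
  have hsplit := Finset.card_filter_add_card_filter_not (s := Finset.univ) (fun x => σ x = x)
  have hsupp : σ.support = Finset.univ.filter fun x => ¬ σ x = x := by
    ext x; simp
  rw [← hsupp, Finset.card_univ] at hsplit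
  have hcard : Multiset.card σ.cycleType = m := by omega
  rw [Equiv.Perm.sign_of_cycleType, hrep, Multiset.sum_replicate, Multiset.card_replicate, smul_eq_mul, hcard,
    show m * 2 + m = 2 * m + m by ring, pow_add, pow_mul, neg_one_sq, one_pow, one_mul]

/-- The keys as a type. -/
abbrev K45 : Type := {k : ℕ // k ∈ keySet}

theorem card_K45 : Fintype.card K45 = 45 := by rw [Fintype.card_coe, card_keySet]

theorem refMap_key_check :
    allP (fun i => allP (fun k => Nat.beq (refMap i 1) 1) keys &&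
      distinctOK (keys.map fun k => key (refMap i k)) 0) [0, 1, 2] = true := by
  decide +kernel

variable {G : Type*} [Group G] {D : Set G}

/-- The elements permuting `{a, b}`. -/
def pairStab (a b : G) : Subgroup G where
  carrier := {g | (g * a * g⁻¹ = a ∧ g * b * g⁻¹ = b) ∨ (g * a * g⁻¹ = b ∧ g * b * g⁻¹ = a)}
  one_mem' := Or.inl (by simp)
  mul_mem' := by
    intro g h hg hh
    have e : ∀ x : G, g * h * x * (g * h)⁻¹ = g * (h * x * h⁻¹) * g⁻¹ := fun x => by group
    rcases hg with ⟨g1, g2⟩ | ⟨g1, g2⟩ <;> rcases hh with ⟨h1, h2⟩ | ⟨h1, h2⟩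
    · exact Or.inl ⟨by rw [e, h1, g1], by rw [e, h2, g2]⟩
    · exact Or.inr ⟨by rw [e, h1, g2], by rw [e, h2, g1]⟩
    · exact Or.inr ⟨by rw [e, h1, g1], by rw [e, h2, g2]⟩
    · exact Or.inl ⟨by rw [e, h1, g2], by rw [e, h2, g1]⟩
  inv_mem' := by
    intro g hg
    rcases hg with ⟨g1, g2⟩ | ⟨g1, g2⟩
    · refine Or.inl ⟨?_, ?_⟩
      · conv_lhs => rw [← g1]
        group
      · conv_lhs => rw [← g2]
        group
    · refine Or.inr ⟨?_, ?_⟩
      · conv_lhs => rw [← g2]
        group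
      · conv_lhs => rw [← g1]
        group

variable (hC : Cfg22 D) {a b : G} (ha : a ∈ D) {γ : ℕ → G} (hγ : IsLocal D a γ) (hb : γ e1 = b)

include hC ha hγ hb

theorem pair_move {g : G} (hg : g ∈ pairStab a b) {x : ℕ} (hx : isR x) :
    ∃ y, isR y ∧ γ y = g * γ x * g⁻¹ := by
  obtain ⟨xa, xb, xnb⟩ := isR_commute hC ha hγ hb hx
  have xna := (hγ.mem x hx.1).2.1
  have hcc : ∀ {u v : G}, g * u * g⁻¹ = v → Commute (γ x) u → Commute (g * γ x * g⁻¹) v := by
    intro u v e h
    rw [← e]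
    exact (Commute.conj_iff g).2 h
  have hnn : ∀ {u v : G}, g * u * g⁻¹ = v → γ x ≠ u → g * γ x * g⁻¹ ≠ v := by
    intro u v e h e'
    exact h (mul_left_cancel (mul_right_cancel (e'.trans e.symm)))
  have hD' := conj_mem hC.tt g (hγ.mem x hx.1).1
  rcases hg with ⟨g1, g2⟩ | ⟨g1, g2⟩
  · exact exists_isR hC ha hγ hb hD' (hcc g1 xa) (hcc g2 xb) (hnn g1 xna) (hnn g2 xnb)
  · exact exists_isR hC ha hγ hb hD' (hcc g2 xb) (hcc g1 xa) (hnn g2 xnb) (hnn g1 xna)

theorem pair_congr {g : G} (hg : g ∈ pairStab a b) {x x' y y' : ℕ} (hx : isR x) (hx' : isR x') (hy : isR y)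
    (hy' : isR y') (e : key x = key x') (ey : γ y = g * γ x * g⁻¹) (ey' : γ y' = g * γ x' * g⁻¹) :
    key y = key y' := by
  rw [key_eq_iff hC ha hγ hb hy hy', ey, ey']
  intro z hz za zb
  have hzc : ∀ {u v : G}, g * u * g⁻¹ = v → Commute z v → Commute (g⁻¹ * z * g) u := by
    intro u v e h
    rw [← Commute.conj_iff g, show g * (g⁻¹ * z * g) * g⁻¹ = z by group, e]
    exact h
  obtain ⟨c1, c2⟩ : Commute (g⁻¹ * z * g) a ∧ Commute (g⁻¹ * z * g) b := by
    rcases hg with ⟨g1, g2⟩ | ⟨g1, g2⟩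
    · exact ⟨hzc g1 za, hzc g2 zb⟩
    · exact ⟨hzc g1 zb, hzc g2 za⟩
  have := (key_eq_iff hC ha hγ hb hx hx').1 e (g⁻¹ * z * g) (by simpa using conj_mem hC.tt g⁻¹ hz) c1 c2
  rw [← Commute.conj_iff g, ← Commute.conj_iff g (b := γ x'),
    show g * (g⁻¹ * z * g) * g⁻¹ = z by group] at this
  exact this

/-- The action on keys. -/
theorem exists_keyHom :
    ∃ Φ : pairStab a b →* Equiv.Perm K45, ∀ (g : pairStab a b) (x y : ℕ) (hx : isR x), isR y →
      γ y = (g : G) * γ x * (g : G)⁻¹ → (Φ g ⟨key x, key_mem hx⟩ : ℕ) = key y := by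
  have hex : ∀ (g : pairStab a b) (k : K45), ∃ y, isR y ∧ γ y = (g : G) * γ k.1 * (g : G)⁻¹ :=
    fun g k => pair_move hC ha hγ hb g.2 (isR_key k.2).1
  choose f hf1 hf2 using hex
  set φ : pairStab a b → K45 → K45 := fun g k => ⟨key (f g k), key_mem (hf1 g k)⟩ with hφ
  have hspec : ∀ (g : pairStab a b) (x y : ℕ) (hx : isR x), isR y → γ y = (g : G) * γ x * (g : G)⁻¹ →
      (φ g ⟨key x, key_mem hx⟩ : ℕ) = key y := fun g x y hx hy e =>
    pair_congr hC ha hγ hb g.2 (isR_key (key_mem hx)).1 hx (hf1 _ _) hy (isR_key (key_mem hx)).2 (hf2 _ _) e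
  have hone : ∀ k, φ 1 k = k := fun k => Subtype.ext (by
    have := hspec 1 k.1 k.1 (isR_key k.2).1 (isR_key k.2).1 (by simp)
    simpa only [(isR_key k.2).2] using this)
  have hmul : ∀ g g' k, φ (g * g') k = φ g (φ g' k) := fun g g' k => Subtype.ext (by
    obtain ⟨z, hz, ez⟩ := pair_move hC ha hγ hb g.2 (hf1 g' k)
    rw [hspec g (f g' k) z (hf1 g' k) hz ez]
    have := hspec (g * g') k.1 z (isR_key k.2).1 hz (by rw [ez, hf2]; push_cast; group)
    simpa only [(isR_key k.2).2] using this)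
  refine ⟨{ toFun := fun g => ⟨φ g, φ g⁻¹, fun k => by rw [← hmul, inv_mul_cancel, hone],
      fun k => by rw [← hmul, mul_inv_cancel, hone]⟩
            map_one' := Equiv.ext hone
            map_mul' := fun g g' => Equiv.ext (hmul g g') }, hspec⟩

theorem mem_pairStab_of_fix {g : G} (hga : Commute g a) (hgb : g * b * g⁻¹ = b) : g ∈ pairStab a b :=
  Or.inl ⟨conj_eq_self hC ha hγ hga, hgb⟩

variable {Φ : pairStab a b →* Equiv.Perm K45}
  (hΦ : ∀ (g : pairStab a b) (x y : ℕ) (hx : isR x), isR y →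
    γ y = (g : G) * γ x * (g : G)⁻¹ → (Φ g ⟨key x, key_mem hx⟩ : ℕ) = key y)

include hΦ

theorem sign_gen {e : ℕ} (he : isPt e = true) (he1 : orth e e1 = true) (hmem : γ e ∈ pairStab a b) :
    Equiv.Perm.sign (Φ ⟨γ e, hmem⟩) = 1 := by
  set σ := Φ ⟨γ e, hmem⟩ with hσ
  have hinv : σ * σ = 1 := by
    rw [hσ, ← map_mul, show (⟨γ e, hmem⟩ : pairStab a b) * ⟨γ e, hmem⟩ = 1 from
      Subtype.ext (sq hC.tt (hγ.mem e he).1), map_one]
  have hval : ∀ k : K45, (σ k : ℕ) = key (tv e k.1) := by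
    intro k
    obtain ⟨hkR, hkk⟩ := isR_key k.2
    obtain ⟨y, hy, ey⟩ := pair_move hC ha hγ hb hmem hkR
    have htv : γ (tv e k.1) = γ e * γ k.1 * (γ e)⁻¹ := (hγ.conj e k.1 he hkR.1).symm
    have hye : y = tv e k.1 := hγ.inj _ _ hy.1 (hγ.isPt_tv e k.1 he hkR.1) (ey.trans htv.symm)
    have := hΦ ⟨γ e, hmem⟩ k.1 y hkR hy ey
    simp only [hkk] at this
    rw [← hye]
    exact this
  have hcnt : (Finset.univ.filter fun k => σ k = k).card =
      cntP (fun k => Nat.beq (key (tv e k)) k) keys := by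
    rw [cntP_eq, List.countP_eq_length_filter, ← List.toFinset_card_of_nodup
      ((nodup_of_distinctOK keys_nodup_check).1.filter _), ← Finset.card_map ⟨Subtype.val, Subtype.val_injective⟩]
    congr 1
    ext k
    simp only [Finset.mem_map, Finset.mem_filter, Finset.mem_univ, true_and, Function.Embedding.coeFn_mk,
      List.mem_toFinset, List.mem_filter]
    constructor
    · rintro ⟨l, hl, rfl⟩
      refine ⟨List.mem_toFinset.1 l.2, ?_⟩
      rw [← hval, hl]
      simp
    · rintro ⟨hk, h⟩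
      refine ⟨⟨k, List.mem_toFinset.2 hk⟩, Subtype.ext ?_, rfl⟩
      rw [hval]
      exact Nat.eq_of_beq_eq_true h
  have hep : e ∈ perp1 := by
    have := allP_iff.1 perp1_spec e (mem_pts.2 he)
    rwa [he1, beq_iff_eq, eq_comm, inMask_maskOf] at this
  have h := allP_iff.1 key_tv_fixed e hep
  rw [Bool.or_eq_true] at h
  rcases h with h | h
  · have : cntP (fun k => Nat.beq (key (tv e k)) k) keys = 45 := by
      rw [cntP_eq, List.countP_eq_length.2 (fun k hk => allP_iff.1 h k hk), keys_length]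
    rw [sign_of_involution σ hinv 0 (by rw [hcnt, this, card_K45]), pow_zero]
  · rw [sign_of_involution σ hinv 16 (by rw [hcnt, Nat.eq_of_beq_eq_true h, card_K45])]
    norm_num

theorem sign_closure {v : G} (hv : v ∈ Subgroup.closure (γ '' {e | isPt e = true ∧ orth e e1 = true})) :
    ∃ hm : v ∈ pairStab a b, Equiv.Perm.sign (Φ ⟨v, hm⟩) = 1 := by
  induction hv using Subgroup.closure_induction with
  | mem x hx =>
    obtain ⟨e, ⟨he, he1⟩, rfl⟩ := hx
    have hm : γ e ∈ pairStab a b := mem_pairStab_of_fix hC ha hγ hb (hγ.mem e he).2.2.symm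
      (by rw [← hb, ((hγ.comm e e1 he base_isPt.1).2 he1).eq, mul_inv_cancel_right])
    exact ⟨hm, sign_gen hC ha hγ hb hΦ he he1 hm⟩
  | one => exact ⟨one_mem _, by rw [show (⟨1, one_mem _⟩ : pairStab a b) = 1 from rfl, map_one, map_one]⟩
  | mul x y _ _ hx hy =>
    obtain ⟨h1, e1'⟩ := hx
    obtain ⟨h2, e2'⟩ := hy
    refine ⟨mul_mem h1 h2, ?_⟩
    rw [show (⟨x * y, mul_mem h1 h2⟩ : pairStab a b) = ⟨x, h1⟩ * ⟨y, h2⟩ from rfl, map_mul, map_mul, e1', e2',
      one_mul]
  | inv x _ hx =>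
    obtain ⟨h1, e1'⟩ := hx
    refine ⟨inv_mem h1, ?_⟩
    rw [show (⟨x⁻¹, inv_mem h1⟩ : pairStab a b) = ⟨x, h1⟩⁻¹ from rfl, map_inv, map_inv, e1', inv_one]

theorem sign_outer {g : pairStab a b} {σ : ℕ → ℕ} (hσ : Induces γ (g : G) σ) {i : ℕ}
    (hi : i ∈ ([0, 1, 2] : List ℕ)) (hmap : ∀ x, isPt x = true → σ (refMap i x) = refMap (i + 3) x) :
    Equiv.Perm.sign (Φ g) = -1 := by
  classical
  have hlt : i < 3 := by
    simp only [List.mem_cons, List.not_mem_nil, or_false] at hi
    rcases hi with rfl | rfl | rfl <;> norm_num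
  have hchk := allP_iff.1 refMap_key_check i hi
  rw [Bool.and_eq_true] at hchk
  have hone : refMap i 1 = 1 := by
    obtain ⟨k, hk⟩ : ∃ k, k ∈ keys := ⟨_, List.mem_toFinset.1 (Finset.card_pos.1 (by rw [card_keySet]; norm_num :
      0 < keySet.card)).choose_spec⟩
    exact Nat.eq_of_beq_eq_true (allP_iff.1 hchk.1 k hk)
  have h1mem : 1 ∈ detBase := by decide
  -- the bijection of keys given by the reference map
  have hR : ∀ k : K45, isR (refMap i k.1) ∧ isR (refMap (i + 3) k.1) := by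
    intro k
    obtain ⟨⟨hk1, hk2, hk3⟩, -⟩ := isR_key k.2
    have hkp := mem_pts.2 hk1
    have hne : ∀ j < 6, refMap j 1 = 1 → isR (refMap j k.1) := by
      intro j hj h1
      refine ⟨mem_pts.1 (refMap_mem hj hkp), ?_, fun e => hk3 ?_⟩
      · show orth (refMap j k.1) 1 = true
        rw [← h1, refMap_orth hj hkp h1mem]
        exact hk2
      · refine eq_of_orth_base hkp (mem_pts.2 base_isPt.1) fun c hc => ?_
        rw [← refMap_orth hj hkp hc, e, ← refMap_orth hj (mem_pts.2 base_isPt.1) hc]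
        show orth 1 _ = orth (refMap j 1) _
        rw [h1]
    refine ⟨hne i (by omega) hone, hne (i + 3) (by omega) ?_⟩
    simp only [List.mem_cons, List.not_mem_nil, or_false] at hi
    rcases hi with rfl | rfl | rfl <;> decide +kernel
  set ψ : K45 → K45 := fun k => ⟨key (refMap i k.1), key_mem (hR k).1⟩ with hψ
  have hψinj : Function.Injective ψ := by
    intro k l e
    exact Subtype.ext (List.inj_on_of_nodup_map (nodup_of_distinctOK hchk.2).1 (List.mem_toFinset.1 k.2)
      (List.mem_toFinset.1 l.2) (congrArg Subtype.val e))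
  have hψsurj : Function.Surjective ψ := Finite.injective_iff_surjective.1 hψinj
  have hact : ∀ k, (Φ g (ψ k) : ℕ) = key (refMap (i + 3) k.1) := by
    intro k
    refine hΦ g (refMap i k.1) (refMap (i + 3) k.1) (hR k).1 (hR k).2 ?_
    rw [← hmap k.1 (isR_key k.2).1.1]
    exact (hσ _ (hR k).1.1).2
  have hfix : (Finset.univ.filter fun k => Φ g k = k).card = 15 := by
    rw [← Nat.eq_of_beq_eq_true (allP_iff.1 refMap_keys i hi), cntP_eq, List.countP_eq_length_filter,
      ← List.toFinset_card_of_nodup ((nodup_of_distinctOK keys_nodup_check).1.filter _)]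
    refine (Finset.card_bij (fun k hk => ψ ⟨k, by
      rw [List.mem_toFinset, List.mem_filter] at hk
      exact List.mem_toFinset.2 hk.1⟩) ?_ ?_ ?_).symm
    · intro k hk
      rw [List.mem_toFinset, List.mem_filter] at hk
      simp only [Finset.mem_filter, Finset.mem_univ, true_and]
      refine Subtype.ext ?_
      rw [hact]
      exact Nat.eq_of_beq_eq_true hk.2
    · intro k hk l hl e
      exact congrArg Subtype.val (hψinj e)
    · intro k hk
      simp only [Finset.mem_filter, Finset.mem_univ, true_and] at hk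
      obtain ⟨l, rfl⟩ := hψsurj k
      refine ⟨l.1, ?_, rfl⟩
      rw [List.mem_toFinset, List.mem_filter]
      refine ⟨List.mem_toFinset.1 l.2, ?_⟩
      have := congrArg Subtype.val hk
      rw [hact] at this
      simp [this, hψ]
  have hinv : Φ g * Φ g = 1 := by
    rw [← map_mul]
    refine Equiv.ext fun k => Subtype.ext ?_
    obtain ⟨hkR, hkk⟩ := isR_key k.2
    obtain ⟨w, hw, ew⟩ := refMap_surj (i := i) (by omega) (mem_pts.2 hkR.1)
    have hw' := mem_pts.1 hw
    have hfr := allP_iff.1 frob_spec w hw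
    simp only [Bool.and_eq_true] at hfr
    obtain ⟨⟨hf1, hf2⟩, -⟩ := hfr
    have hdef : ∀ x, refMap (i + 3) x = refMap i (frob x) := by
      intro x
      simp only [List.mem_cons, List.not_mem_nil, or_false] at hi
      rcases hi with rfl | rfl | rfl <;> rfl
    have h1 : σ (refMap i w) = refMap i (frob w) := (hmap w hw').trans (hdef w)
    have h2 : σ (refMap i (frob w)) = refMap i w := by
      rw [hmap _ hf1, hdef, Nat.eq_of_beq_eq_true hf2]
    obtain ⟨q1, q2⟩ := hσ (refMap i w) (mem_pts.1 (refMap_mem (by omega) hw))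
    obtain ⟨-, r2⟩ := hσ _ q1
    rw [h1, h2] at r2
    rw [h1] at q2
    have := hΦ (g * g) k.1 k.1 hkR hkR (by
      rw [← ew]
      push_cast
      rw [show (g : G) * g * γ (refMap i w) * ((g : G) * g)⁻¹ = g * (g * γ (refMap i w) * (g : G)⁻¹) * (g : G)⁻¹ by group,
        ← q2, ← r2])
    simp only [hkk] at this
    exact this
  rw [sign_of_involution (Φ g) hinv 15 (by rw [hfix, card_K45])]
  decide

/-- Even elements fixing both transpositions are generated by neighbours. -/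
theorem mem_of_even {g : G} (hga : Commute g a) (hgb : g * b * g⁻¹ = b)
    (hsign : Equiv.Perm.sign (Φ ⟨g, mem_pairStab_of_fix hC ha hγ hb hga hgb⟩) = 1) :
    g ∈ Subgroup.closure (nb D a) := by
  obtain ⟨i, hi, hspec⟩ := resid_spec hC ha hγ
  obtain ⟨u, v, hu, hv, hr, hvN, huf, hu3⟩ := reduce_to_resid hC ha hγ hga
  obtain ⟨hvm, hvs⟩ := sign_closure hC ha hγ hb hΦ (hvN (by rw [hb]; exact hgb))
  have hum : u ∈ pairStab a b :=
    mem_pairStab_of_fix hC ha hγ hb (commute_closure_nb hC.tt hu).symm (hb ▸ huf)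
  have hus : Equiv.Perm.sign (Φ ⟨u, hum⟩) = 1 := by
    have h3 : Φ ⟨u, hum⟩ * Φ ⟨u, hum⟩ * Φ ⟨u, hum⟩ = 1 := by
      rw [← map_mul, ← map_mul]
      refine Equiv.ext fun k => Subtype.ext ?_
      obtain ⟨hkR, hkk⟩ := isR_key k.2
      have := hΦ (⟨u, hum⟩ * ⟨u, hum⟩ * ⟨u, hum⟩) k.1 k.1 hkR hkR (hu3 k.1 hkR.1).symm
      simp only [hkk] at this
      exact this
    have h4 := congrArg Equiv.Perm.sign h3
    rw [map_mul, map_mul, map_one] at h4
    rcases Int.units_eq_one_or (Equiv.Perm.sign (Φ ⟨u, hum⟩)) with h | h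
    · exact h
    · rw [h] at h4; exact absurd h4 (by decide)
  rcases hspec _ hr with e | ⟨σ, hσ, hmap⟩
  · have := mul_mem (inv_mem (mul_mem hu hv)) e
    rwa [inv_mul_cancel_left] at this
  exfalso
  have hgm := mem_pairStab_of_fix hC ha hγ hb hga hgb
  have hs := sign_outer hC ha hγ hb hΦ (g := ⟨u, hum⟩ * ⟨v, hvm⟩ * ⟨g, hgm⟩) hσ hi hmap
  rw [map_mul, map_mul, map_mul, map_mul, hus, hvs, hsign] at hs
  exact absurd hs (by decide)

open scoped Classical in
theorem sign_swap {d : G} (hd : d ∈ D) (hda : ¬ Commute d a) (hdb : ¬ Commute d b)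
    (hm : swapEl a b d ∈ pairStab a b) : Equiv.Perm.sign (Φ ⟨swapEl a b d, hm⟩) = -1 := by
  obtain ⟨hbD, hba, hab⟩ := b_mem hC ha hγ hb
  set σ := Φ ⟨swapEl a b d, hm⟩ with hσ
  have hinv : σ * σ = 1 := by
    rw [hσ, ← map_mul, show (⟨swapEl a b d, hm⟩ : pairStab a b) * ⟨swapEl a b d, hm⟩ = 1 from
      Subtype.ext (swap_sq hC.tt ha hbD hd hab hba.symm hda hdb), map_one]
  have hval : ∀ k : K45, (σ k : ℕ) = sKey hC ha hγ hb hd hda hdb k.1 := by
    intro k
    obtain ⟨hkR, hkk⟩ := isR_key k.2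
    obtain ⟨s1, s2⟩ := sImg_spec hC ha hγ hb hd hda hdb hkR
    have := hΦ ⟨swapEl a b d, hm⟩ k.1 _ hkR s1 s2
    simp only [hkk] at this
    exact this
  have hfix : (Finset.univ.filter fun k => σ k = k).card = 15 := by
    rw [← fixed_fifteen hC ha hγ hb hd hda hdb, ← Finset.card_map ⟨Subtype.val, Subtype.val_injective⟩]
    congr 1
    ext k
    simp only [Finset.mem_map, Finset.mem_filter, Finset.mem_univ, true_and, Function.Embedding.coeFn_mk]
    constructor
    · rintro ⟨l, hl, rfl⟩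
      exact ⟨l.2, by rw [← hval, hl]⟩
    · rintro ⟨hk, h⟩
      exact ⟨⟨k, hk⟩, Subtype.ext (by rw [hval]; exact h), rfl⟩
  rw [sign_of_involution σ hinv 15 (by rw [hfix, card_K45])]
  decide

end Cfsg.Agent.TT95
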