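import Cfsg.Agent.TT95.Orders
import Cfsg.Agent.TT95.KeyPerm

/-!
Type M(22): the permutations induced on the six transpositions of a hexad; every involution commutes
with a transposition.
-/

set_option autoImplicit false
set_option linter.unusedSectionVars false

namespace Cfsg.Agent.TT95

open Cfsg.Agent.TT95.U6

section Linear

variable {F : Type} [Field F] [Fintype F] (hF : Fintype.card F = 4)

include hF

theorem vecOf_line12 {p : ℕ} (hp : p ∈ ([5, 9, 13] : List ℕ)) :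
    ∃ k : F, k ≠ 0 ∧ vecOf hF p = vecOf hF 1 + k • vecOf hF 4 := by
  have e : ∀ c, c < 4 → vecOf hF (1 ^^^ sc c 4) = vecOf hF 1 + fe hF c • vecOf hF 4 := by
    intro c hc
    rw [vecOf_xor hF, vecOf_sc hF hc (by norm_num)]
  simp only [List.mem_cons, List.not_mem_nil, or_false] at hp
  rcases hp with rfl | rfl | rfl
  · exact ⟨fe hF 1, by rw [fe_one]; exact one_ne_zero, e 1 (by norm_num)⟩
  · exact ⟨fe hF 2, om_ne_zero hF, e 2 (by norm_num)⟩
  · refine ⟨fe hF 3, fun h => om_ne_one hF ?_, e 3 (by norm_num)⟩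
    have h' : om hF + 1 = 0 := h
    linear_combination h' - char_two hF

end Linear

variable {G : Type*} [Group G] [Finite G] {D : Set G} (hC : Cfg22 D) [Gen D]

include hC

/-- Every element of the subgroup generated by the neighbours acts on the points linearly. -/
theorem exists_linear {F : Type} [Field F] [Fintype F] (hF : Fintype.card F = 4) {a : G} {γ : ℕ → G}
    (hγ : IsLocal D a γ) {g : G} (hg : g ∈ Subgroup.closure (nb D a)) :
    ∃ A : Cfsg.SU 6 F 2, ∀ p, isPt p = true → ∃ q, isPt q = true ∧ g * γ p * g⁻¹ = γ q ∧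
      ∃ c : F, c ≠ 0 ∧ act A (vecOf hF p) = c • vecOf hF q := by
  induction hg using Subgroup.closure_induction_left with
  | one => exact ⟨1, fun p hp => ⟨p, hp, by group, 1, one_ne_zero, by rw [act_one, one_smul]⟩⟩
  | mul_left x hx y _ ih =>
    obtain ⟨A, hA⟩ := ih
    obtain ⟨e, he, rfl⟩ := hγ.surj x hx
    refine ⟨tSU hF (vecOf hF e) * A, fun p hp => ?_⟩
    obtain ⟨q, hq, hgq, c, hc, hAq⟩ := hA p hp
    obtain ⟨hq', d, hd, hd'⟩ := vecOf_tv hF he hq
    refine ⟨tv e q, hq', ?_, c * d⁻¹, mul_ne_zero hc (inv_ne_zero hd), ?_⟩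
    · calc γ e * y * γ p * (γ e * y)⁻¹ = γ e * (y * γ p * y⁻¹) * (γ e)⁻¹ := by group
        _ = _ := by rw [hgq, hγ.conj e q he hq]
    · rw [act_mul, hAq, act_smul, hd', smul_smul, mul_assoc, inv_mul_cancel₀ hd, mul_one]
  | inv_mul_cancel x hx y _ ih =>
    obtain ⟨A, hA⟩ := ih
    obtain ⟨e, he, rfl⟩ := hγ.surj x hx
    rw [inv_eq hC.tt (hγ.mem e he).1]
    refine ⟨tSU hF (vecOf hF e) * A, fun p hp => ?_⟩
    obtain ⟨q, hq, hgq, c, hc, hAq⟩ := hA p hp
    obtain ⟨hq', d, hd, hd'⟩ := vecOf_tv hF he hq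
    refine ⟨tv e q, hq', ?_, c * d⁻¹, mul_ne_zero hc (inv_ne_zero hd), ?_⟩
    · calc γ e * y * γ p * (γ e * y)⁻¹ = γ e * (y * γ p * y⁻¹) * (γ e)⁻¹ := by group
        _ = _ := by rw [hgq, hγ.conj e q he hq]
    · rw [act_mul, hAq, act_smul, hd', smul_smul, mul_assoc, inv_mul_cancel₀ hd, mul_one]

/-- Fixing three points of a line fixes the line pointwise. -/
theorem line_rigid {a : G} (ha : a ∈ D) {γ : ℕ → G} (hγ : IsLocal D a γ) {g : G} (hga : Commute g a)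
    (h1 : g * γ e1 * g⁻¹ = γ e1) (h2 : g * γ e2 * g⁻¹ = γ e2) {r : ℕ} (hr : r ∈ ([5, 9, 13] : List ℕ))
    (h3 : g * γ r * g⁻¹ = γ r) {p : ℕ} (hp : p ∈ ([5, 9, 13] : List ℕ)) : g * γ p * g⁻¹ = γ p := by
  classical
  haveI : Fact (Nat.Prime 2) := ⟨Nat.prime_two⟩
  letI : Fintype (GaloisField 2 2) := Fintype.ofFinite _
  have hF : Fintype.card (GaloisField 2 2) = 4 := by
    rw [← Nat.card_eq_fintype_card, GaloisField.card 2 2 (by norm_num)]; norm_num
  have hmem : g ∈ Subgroup.closure (nb D a) := by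
    rw [← centralizer_eq hC ha, Subgroup.mem_centralizer_singleton_iff]
    exact hga.eq
  obtain ⟨A, hA⟩ := exists_linear hC hF hγ hmem
  have hline : ∀ t ∈ ([5, 9, 13] : List ℕ), isPt t = true := by
    intro t ht
    exact isPt_of_mem_line12 (by simp only [line12, List.mem_cons, List.not_mem_nil, or_false] at ht ⊢; omega)
  have hfix : ∀ t, isPt t = true → g * γ t * g⁻¹ = γ t →
      ∃ c : GaloisField 2 2, act A (vecOf hF t) = c • vecOf hF t := by
    intro t ht e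
    obtain ⟨q, hq, hgq, c, -, hc⟩ := hA t ht
    obtain rfl := hγ.inj q t hq ht (hgq.symm.trans e)
    exact ⟨c, hc⟩
  obtain ⟨α, hα⟩ := hfix e1 base_isPt.1 h1
  obtain ⟨β, hβ⟩ := hfix e2 base_isPt.2.1 h2
  obtain ⟨c, hc⟩ := hfix r (hline r hr) h3
  have hα' : act A (vecOf hF 1) = α • vecOf hF 1 := hα
  have hβ' : act A (vecOf hF 4) = β • vecOf hF 4 := hβ
  obtain ⟨k, hk, ek⟩ := vecOf_line12 hF hr
  have hind : ∀ s t : GaloisField 2 2, s • vecOf hF 1 = t • vecOf hF 4 → s = 0 ∧ t = 0 := by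
    intro s t h
    by_cases hs : s = 0
    · rw [hs, zero_smul] at h
      rcases smul_eq_zero.1 h.symm with e | e
      · exact ⟨hs, e⟩
      · exact absurd e (pt_ne_zero hF base_isPt.2.1)
    · exfalso
      have h' : vecOf hF 1 = (s⁻¹ * t) • vecOf hF 4 := by rw [← smul_smul, ← h, smul_smul, inv_mul_cancel₀ hs, one_smul]
      exact absurd (pt_ext hF (p := 1) (q := 4) base_isPt.1 base_isPt.2.1 h') (by norm_num)
  have heq : α = β := by
    rw [ek, act_add, act_smul, hα', hβ', smul_add, smul_smul, smul_smul] at hc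
    have h' : (α - c) • vecOf hF 1 = (c * k - k * β) • vecOf hF 4 := by
      rw [sub_smul, sub_smul]
      linear_combination (norm := module) hc
    obtain ⟨u1, u2⟩ := hind _ _ h'
    have : (c - β) * k = 0 := by linear_combination u2
    rcases mul_eq_zero.1 this with e | e
    · linear_combination u1 + e
    · exact absurd e hk
  obtain ⟨k', -, ek'⟩ := vecOf_line12 hF hp
  obtain ⟨q, hq, hgq, d, hd, hd'⟩ := hA p (hline p hp)
  have : act A (vecOf hF p) = α • vecOf hF p := by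
    rw [ek', act_add, act_smul, hα', hβ', ← heq, smul_add, smul_smul, smul_smul, mul_comm]
  rw [this] at hd'
  have e : vecOf hF q = (d⁻¹ * α) • vecOf hF p := by rw [← smul_smul, hd', smul_smul, inv_mul_cancel₀ hd, one_smul]
  rw [hgq, pt_ext hF hq (hline p hp) e]

/-- Normal form of six commuting transpositions split into two triples with equal products. -/
theorem hex_frame {u v w p q r : G} (hu : u ∈ D) (hv : v ∈ D) (hw : w ∈ D) (hp : p ∈ D) (hq : q ∈ D) (hr : r ∈ D)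
    (hne : u ≠ v ∧ u ≠ w ∧ v ≠ w) (hne' : p ≠ q ∧ p ≠ r ∧ q ≠ r) (hpu : p ≠ u ∧ p ≠ v ∧ p ≠ w)
    (huv : Commute u v) (huw : Commute u w) (hvw : Commute v w) (hpq : Commute p q) (hpr : Commute p r)
    (hqr : Commute q r) (heq : p * q * r = u * v * w) :
    ∃ γ, IsLocal D u γ ∧ γ e1 = v ∧ γ e2 = w ∧
      (∀ t, (t = p ∨ t = q ∨ t = r) ↔ (t = γ 5 ∨ t = γ 9 ∨ t = γ 13)) := by
  obtain ⟨γ, hγ, g1, g2⟩ := local_two hC hu ⟨hv, hne.1.symm, huv⟩ ⟨hw, hne.2.1.symm, huw⟩ hne.2.2.symm hvw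
  refine ⟨γ, hγ, g1, g2, ?_⟩
  obtain ⟨x, y, z, hx, hy, hz, nxy, nxz, nyz, cxy, cxz, cyz, xu, xv, xw, hprod, huniq⟩ :=
    partner hC hu hv hw hne huv huw hvw
  have hB : ∀ t, (t = p ∨ t = q ∨ t = r) ↔ (t = x ∨ t = y ∨ t = z) := by
    refine (huniq p q r hp hq hr hne' hpq hpr hqr heq).resolve_left fun h => ?_
    rcases (h p).1 (Or.inl rfl) with e | e | e
    · exact hpu.1 e
    · exact hpu.2.1 e
    · exact hpu.2.2 e
  obtain ⟨q1, q4, q5, q9, q13⟩ := five_isPt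
  have hh := line_prod hC hu hγ
  have c59 : Commute (γ 5) (γ 9) := (hγ.comm 5 9 q5 q9).2 (line12_orth (by simp [line12]) (by simp [line12]))
  have c513 : Commute (γ 5) (γ 13) := (hγ.comm 5 13 q5 q13).2 (line12_orth (by simp [line12]) (by simp [line12]))
  have c913 : Commute (γ 9) (γ 13) := (hγ.comm 9 13 q9 q13).2 (line12_orth (by simp [line12]) (by simp [line12]))
  have g1' : γ 1 = v := g1
  have g2' : γ 4 = w := g2
  have e5 : γ 5 * γ 9 * γ 13 = u * v * w := by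
    have e : γ 5 * γ 9 * γ 13 = (γ 4)⁻¹ * (γ 1)⁻¹ * u := by rw [← hh]; group
    rw [e, g1', g2', inv_eq hC.tt hw, inv_eq hC.tt hv, ← hvw.eq, (huv.mul_right huw).eq.symm, mul_assoc]
  have hA : ∀ t, (t = γ 5 ∨ t = γ 9 ∨ t = γ 13) ↔ (t = x ∨ t = y ∨ t = z) := by
    refine (huniq _ _ _ (hγ.mem 5 q5).1 (hγ.mem 9 q9).1 (hγ.mem 13 q13).1
      ⟨fun e => by simpa using hγ.inj _ _ q5 q9 e, fun e => by simpa using hγ.inj _ _ q5 q13 e,
        fun e => by simpa using hγ.inj _ _ q9 q13 e⟩ c59 c513 c913 e5).resolve_left fun h => ?_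
    rcases (h (γ 5)).1 (Or.inl rfl) with e | e | e
    · exact (hγ.mem 5 q5).2.1 e
    · exact absurd (hγ.inj _ _ q5 q1 (e.trans g1'.symm)) (by norm_num)
    · exact absurd (hγ.inj _ _ q5 q4 (e.trans g2'.symm)) (by norm_num)
  exact fun t => (hB t).trans (hA t).symm

/-- Fixing three members of one triple and one of the other fixes all six. -/
theorem hex_rigid {u v w p q r : G} (hu : u ∈ D) (hv : v ∈ D) (hw : w ∈ D) (hp : p ∈ D) (hq : q ∈ D) (hr : r ∈ D)
    (hne : u ≠ v ∧ u ≠ w ∧ v ≠ w) (hne' : p ≠ q ∧ p ≠ r ∧ q ≠ r) (hpu : p ≠ u ∧ p ≠ v ∧ p ≠ w)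
    (huv : Commute u v) (huw : Commute u w) (hvw : Commute v w) (hpq : Commute p q) (hpr : Commute p r)
    (hqr : Commute q r) (heq : p * q * r = u * v * w) {g : G} (g1 : g * u * g⁻¹ = u) (g2 : g * v * g⁻¹ = v)
    (g3 : g * w * g⁻¹ = w) (g4 : g * p * g⁻¹ = p) : g * q * g⁻¹ = q := by
  obtain ⟨γ, hγ, e1', e2', hs⟩ :=
    hex_frame hC hu hv hw hp hq hr hne hne' hpu huv huw hvw hpq hpr hqr heq
  have hget : ∀ t, (t = γ 5 ∨ t = γ 9 ∨ t = γ 13) → ∃ k ∈ ([5, 9, 13] : List ℕ), t = γ k := by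
    rintro t (h | h | h) <;> exact ⟨_, by simp, h⟩
  obtain ⟨i, hi, rfl⟩ := hget _ ((hs p).1 (Or.inl rfl))
  obtain ⟨j, hj, rfl⟩ := hget _ ((hs q).1 (Or.inr (Or.inl rfl)))
  exact line_rigid hC hu hγ (mul_inv_eq_iff_eq_mul.1 g1) (by rw [e1']; exact g2) (by rw [e2']; exact g3) hi g4 hj

/-- Three cycles. -/
theorem hex_cycle {u v w p q r : G} (hu : u ∈ D) (hv : v ∈ D) (hw : w ∈ D) (hp : p ∈ D) (hq : q ∈ D) (hr : r ∈ D)
    (hne : u ≠ v ∧ u ≠ w ∧ v ≠ w) (hne' : p ≠ q ∧ p ≠ r ∧ q ≠ r) (hpu : p ≠ u ∧ p ≠ v ∧ p ≠ w)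
    (huv : Commute u v) (huw : Commute u w) (hvw : Commute v w) (hpq : Commute p q) (hpr : Commute p r)
    (hqr : Commute q r) (heq : p * q * r = u * v * w) :
    ∃ t : G, t * u * t⁻¹ = u ∧ t * v * t⁻¹ = v ∧ t * w * t⁻¹ = w ∧
      t * p * t⁻¹ = q ∧ t * q * t⁻¹ = r ∧ t * r * t⁻¹ = p := by
  obtain ⟨γ, hγ, e1', e2', hs⟩ :=
    hex_frame hC hu hv hw hp hq hr hne hne' hpu huv huw hvw hpq hpr hqr heq
  obtain ⟨t, ht, hT⟩ := torus_elem hC hu hγ
  have hfr := allP_iff.1 torus_spec.2.1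
  have f1' : torus e1 = e1 := Nat.eq_of_beq_eq_true (hfr e1 (by simp [frame]))
  have f2' : torus e2 = e2 := Nat.eq_of_beq_eq_true (hfr e2 (by simp [frame]))
  obtain ⟨-, -, q5, q9, q13⟩ := five_isPt
  have t1 : t * v * t⁻¹ = v := by rw [← e1', (hT e1 base_isPt.1).2, f1']
  have t2 : t * w * t⁻¹ = w := by rw [← e2', (hT e2 base_isPt.2.1).2, f2']
  have t5 : t * γ 5 * t⁻¹ = γ 9 := by rw [(hT 5 q5).2, torus_spec.2.2.1]
  have t9 : t * γ 9 * t⁻¹ = γ 13 := by rw [(hT 9 q9).2, torus_spec.2.2.2.1]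
  have t13 : t * γ 13 * t⁻¹ = γ 5 := by rw [(hT 13 q13).2, torus_spec.2.2.2.2]
  have t0 := conj_fix_of_mem hC.tt ht
  have sq' : ∀ {x y z : G}, t * x * t⁻¹ = y → t * y * t⁻¹ = z → t * t * x * (t * t)⁻¹ = z := by
    intro x y z h1 h2
    rw [← h2, ← h1]; group
  rcases (hs p).1 (Or.inl rfl) with rfl | rfl | rfl <;>
    rcases (hs q).1 (Or.inr (Or.inl rfl)) with rfl | rfl | rfl <;>
    rcases (hs r).1 (Or.inr (Or.inr rfl)) with rfl | rfl | rfl <;>
    first
      | exact absurd rfl hne'.1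
      | exact absurd rfl hne'.2.1
      | exact absurd rfl hne'.2.2
      | exact ⟨t, t0, t1, t2, t5, t9, t13⟩
      | exact ⟨t, t0, t1, t2, t9, t13, t5⟩
      | exact ⟨t, t0, t1, t2, t13, t5, t9⟩
      | exact ⟨t * t, sq' t0 t0, sq' t1 t1, sq' t2 t2, sq' t5 t9, sq' t13 t5, sq' t9 t13⟩
      | exact ⟨t * t, sq' t0 t0, sq' t1 t1, sq' t2 t2, sq' t9 t13, sq' t5 t9, sq' t13 t5⟩
      | exact ⟨t * t, sq' t0 t0, sq' t1 t1, sq' t2 t2, sq' t13 t5, sq' t9 t13, sq' t5 t9⟩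

/-- No element induces three transpositions on a hexad. -/
theorem hex_no_triple_swap {a b x y z w : G} (ha : a ∈ D) (hb : b ∈ D) (hx : x ∈ D) (hy : y ∈ D) (hz : z ∈ D)
    (hw : w ∈ D) (hnd : [a, b, x, y, z, w].Nodup)
    (hcm : ∀ u ∈ [a, b, x, y, z, w], ∀ v ∈ [a, b, x, y, z, w], Commute u v) (heq : x * y * z * w = a * b)
    {g : G} (g1 : g * a * g⁻¹ = b) (g2 : g * b * g⁻¹ = a) (g3 : g * x * g⁻¹ = y) (g4 : g * y * g⁻¹ = x)
    (g5 : g * z * g⁻¹ = w) : False := by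
  have hD := hC.tt
  simp only [List.nodup_cons, List.mem_cons, List.not_mem_nil, or_false, not_or] at hnd
  obtain ⟨⟨nab, nax, nay, naz, naw⟩, ⟨nbx, nby, nbz, nbw⟩, ⟨nxy, nxz, nxw⟩, ⟨nyz, nyw⟩, nzw, -⟩ := hnd
  have cab : Commute a b := hcm a (by simp) b (by simp)
  have cax : Commute a x := hcm a (by simp) x (by simp)
  have cay : Commute a y := hcm a (by simp) y (by simp)
  have cbx : Commute b x := hcm b (by simp) x (by simp)
  have cby : Commute b y := hcm b (by simp) y (by simp)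
  have cbz : Commute b z := hcm b (by simp) z (by simp)
  have cbw : Commute b w := hcm b (by simp) w (by simp)
  have cxy : Commute x y := hcm x (by simp) y (by simp)
  have cxz : Commute x z := hcm x (by simp) z (by simp)
  have cxw : Commute x w := hcm x (by simp) w (by simp)
  have cyz : Commute y z := hcm y (by simp) z (by simp)
  have cyw : Commute y w := hcm y (by simp) w (by simp)
  have czw : Commute z w := hcm z (by simp) w (by simp)
  -- y z w = a b x and a y x = b z w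
  have hyzw : a * b * x = y * z * w := by
    rw [← heq, show x * y * z * w * x = x * (y * z * w) * x by group, ((cxy.mul_right cxz).mul_right cxw).eq,
      mul_assoc (y * z * w), sq hD hx, mul_one]
  have hayx : a * y * x = b * z * w := by
    have e : z * w = y * x * (a * b) := by
      rw [← heq, show y * x * (x * y * z * w) = y * (x * x) * y * (z * w) by group, sq hD hx, mul_one, sq hD hy,
        one_mul]
    rw [mul_assoc b z w, e, ← mul_assoc, ((cby.mul_right cbx)).eq, mul_assoc (y * x) b, ← mul_assoc b a b,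
      ← cab.eq, mul_assoc a b b, sq hD hb, mul_one, ← (cay.mul_right cax).eq, mul_assoc]
  obtain ⟨p, p1, p2, p3, p4, p5, p6⟩ := hex_cycle hC hy hz hw ha hb hx ⟨nyz, nyw, nzw⟩ ⟨nab, nax, nbx⟩
    ⟨nay, naz, naw⟩ cyz cyw czw cab cax cbx hyzw
  obtain ⟨q, q1, q2, q3, q4, q5, q6⟩ := hex_cycle hC hb hz hw ha hy hx ⟨nbz, nbw, nzw⟩ ⟨nay, nax, Ne.symm nxy⟩
    ⟨nab, naz, naw⟩ cbz cbw czw cay cax cxy.symm hayx
  -- q * p exchanges a, b and x, y and fixes z
  have hh : ∀ {s t u : G}, p * s * p⁻¹ = t → q * t * q⁻¹ = u → q * p * s * (q * p)⁻¹ = u := by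
    intro s t u h1 h2
    rw [← h2, ← h1]; group
  have ha' := hh p4 q1
  have hb' := hh p5 q6
  have hx' := hh p6 q4
  have hy' := hh p1 q5
  have hz' := hh p2 q2
  have hk : ∀ {s t u : G}, q * p * s * (q * p)⁻¹ = t → g * t * g⁻¹ = u → g * (q * p) * s * (g * (q * p))⁻¹ = u := by
    intro s t u h1 h2
    rw [← h2, ← h1]; group
  have := hex_rigid hC ha hb hx hy hz hw ⟨nab, nax, nbx⟩ ⟨nyz, nyw, nzw⟩ ⟨Ne.symm nay, Ne.symm nby, Ne.symm nxy⟩ cab cax
    cbx cyz cyw czw hyzw.symm (hk ha' g2) (hk hb' g1) (hk hx' g4) (hk hy' g3)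
  exact nzw (this.symm.trans (hk hz' g5))

end Cfsg.Agent.TT95
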