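import Cfsg.Agent.TT95.InvolFix
import Cfsg.Agent.TT95.TripleCount

/-!
Type M(22): every involution is a product of at most three commuting transpositions, and the number
of factors is determined.
-/

set_option autoImplicit false
set_option linter.unusedSectionVars false

namespace Cfsg.Agent.TT95

open Cfsg.Agent.TT95.U6

theorem U6.IsU6.involution_prod {K : Type*} [Group K] (hK : IsU6 K) {E : Set K} (hne : E.Nonempty)
    (hinv : ∀ g, ∀ x ∈ E, g * x * g⁻¹ ∈ E) (h3 : Cfsg.IsThreeTranspositionSet E) {x : K} (hx : x * x = 1) :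
    ∃ l : List K, (∀ u ∈ l, u ∈ E) ∧ l.Pairwise Commute ∧ l.prod = x := by
  classical
  obtain ⟨F, _, _, hF, ⟨f⟩⟩ := hK
  have h3' : Cfsg.IsThreeTranspositionSet (f '' E) := by
    refine ⟨?_, ?_⟩
    · rintro _ ⟨u, hu, rfl⟩; rw [MulEquiv.orderOf_eq]; exact h3.1 u hu
    · rintro _ ⟨u, hu, rfl⟩ _ ⟨v, hv, rfl⟩
      rcases h3.2 u hu v hv with h | h
      · left; rw [← map_mul, ← map_pow, h, map_one]
      · right; rw [← map_mul, ← map_pow, h, map_one]
  have hinv' : ∀ g, ∀ u ∈ f '' E, g * u * g⁻¹ ∈ f '' E := by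
    rintro g _ ⟨u, hu, rfl⟩
    exact ⟨f.symm g * u * (f.symm g)⁻¹, hinv _ u hu, by simp⟩
  have hlab := isLabel_tau hF (hne.image f) hinv' h3'
  by_cases h1 : x = 1
  · exact ⟨[], by simp, List.Pairwise.nil, by simp [h1]⟩
  obtain ⟨g, hgx, hg, -⟩ := exists_involution_lift hF (x := f x) (by simpa using h1) (by rw [← map_mul, hx, map_one])
  obtain ⟨l, hl, hp, rfl⟩ := involution_decomp hF g hg
  set h : (Fin 6 → F) → K := fun u => f.symm (pr (tSU hF u)) with hh
  refine ⟨l.map h, ?_, ?_, ?_⟩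
  · intro y hy
    obtain ⟨u, hu, rfl⟩ := List.mem_map.1 hy
    obtain ⟨hu0, huu, -⟩ := hl u hu
    obtain ⟨p, hp', c, hc, rfl⟩ := exists_pt hF hu0 huu
    obtain ⟨e, he, hee⟩ := hlab.mem p hp'
    have : h (c • vecOf hF p) = e := by
      rw [hh]
      simp only
      rw [tSU_smul hF (pt_iso hF hp') hc, show pr (tSU hF (vecOf hF p)) = tau hF p from rfl, ← hee,
        MulEquiv.symm_apply_apply]
    rw [this]
    exact he
  · rw [List.pairwise_map]
    refine hp.imp_of_mem ?_
    intro u v hu hv huv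
    have := commute_tSU_of_orth hF (hl u hu).2.1 (hl v hv).2.1 huv
    show Commute (f.symm (pr _)) (f.symm (pr _))
    exact (this.map (QuotientGroup.mk' _)).map f.symm.toMonoidHom
  · apply f.injective
    rw [map_list_prod, List.map_map, ← hgx]
    show _ = QuotientGroup.mk' _ (l.map (tSU hF)).prod
    rw [map_list_prod, List.map_map]
    congr 1
    refine List.map_congr_left fun u _ => ?_
    simp [hh, pr]

variable {G : Type*} [Group G] [Finite G] {D : Set G} (hC : Cfg22 D) [Gen D]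

include hC

/-- Four commuting transpositions have the product of at most three in their span. -/
theorem reduce_four {a b c d : G} (ha : a ∈ D) (hb : b ∈ D) (hc : c ∈ D) (hd : d ∈ D)
    (hnd : [a, b, c, d].Nodup) (hcm : ∀ u ∈ [a, b, c, d], ∀ v ∈ [a, b, c, d], Commute u v) :
    ∃ l : List G, l.length ≤ 3 ∧ (∀ u ∈ l, u ∈ D) ∧
      (∀ u ∈ l, ∀ y ∈ D, (∀ x ∈ [a, b, c, d], Commute y x) → Commute y u) ∧ l.prod = a * b * c * d := by
  classical
  have hD := hC.tt
  simp only [List.nodup_cons, List.mem_cons, List.not_mem_nil, or_false, not_or] at hnd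
  obtain ⟨⟨nab, nac, nad⟩, ⟨nbc, nbd⟩, ncd, -⟩ := hnd
  obtain ⟨γ, hγ, g1, g2⟩ := local_two hC ha ⟨hb, Ne.symm nab, hcm a (by simp) b (by simp)⟩
    ⟨hc, Ne.symm nac, hcm a (by simp) c (by simp)⟩ (Ne.symm nbc) (hcm b (by simp) c (by simp))
  obtain ⟨p, hp, rfl⟩ := hγ.surj d ⟨hd, Ne.symm nad, hcm a (by simp) d (by simp)⟩
  have p1 : orth p e1 = true := (hγ.comm p e1 hp base_isPt.1).1 (g1.symm ▸ hcm _ (by simp) b (by simp))
  have p2 : orth p e2 = true := (hγ.comm p e2 hp base_isPt.2.1).1 (g2.symm ▸ hcm _ (by simp) c (by simp))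
  obtain ⟨q1, q4, q5, q9, q13⟩ := five_isPt
  subst g1 g2
  by_cases hl : p ∈ line12
  · have hp' : p ∈ ([5, 9, 13] : List ℕ) := by
      simp only [line12, List.mem_cons, List.not_mem_nil, or_false] at hl ⊢
      rcases hl with rfl | rfl | h
      · exact absurd rfl nbd
      · exact absurd rfl ncd
      · exact h
    have hh := line_prod hC ha hγ
    have cl : ∀ i ∈ line12, ∀ j ∈ line12, Commute (γ i) (γ j) := fun i hi j hj =>
      (hγ.comm i j (isPt_of_mem_line12 hi) (isPt_of_mem_line12 hj)).2 (line12_orth hi hj)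
    have cla : ∀ i ∈ line12, Commute a (γ i) := fun i hi => (hγ.mem i (isPt_of_mem_line12 hi)).2.2
    have hpe : a * γ e1 * γ e2 = γ 5 * γ 9 * γ 13 := by
      have e : γ 5 * γ 9 * γ 13 = (γ 4)⁻¹ * (γ 1)⁻¹ * a := by rw [← hh]; group
      rw [e, inv_eq hD (hγ.mem 4 q4).1, inv_eq hD (hγ.mem 1 q1).1, ← (cl 1 (by simp [line12]) 4 (by simp [line12])).eq,
        ((cla 1 (by simp [line12])).mul_right (cla 4 (by simp [line12]))).eq.symm, mul_assoc]
      rfl
    have hperp : ∀ i ∈ line12, ∀ y ∈ D, (∀ x ∈ [a, γ e1, γ e2, γ p], Commute y x) → Commute y (γ i) := by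
      intro i hi y hy h
      by_cases hya : y = a
      · subst hya; exact cla i hi
      obtain ⟨s, hs, rfl⟩ := hγ.surj y ⟨hy, hya, (h a (by simp)).symm⟩
      have s1 := (hγ.comm s e1 hs base_isPt.1).1 (h _ (by simp))
      have s2 := (hγ.comm s e2 hs base_isPt.2.1).1 (h _ (by simp))
      have hsp := allP_iff.1 perp12_spec s (mem_pts.2 hs)
      rw [s1, s2, beq_iff_eq, eq_comm, Bool.and_self, inMask_maskOf] at hsp
      have hi1 : (orth i e1 && orth i e2) = true := by
        rw [line12_orth hi (show e1 ∈ line12 by simp [line12, e1]), line12_orth hi (show e2 ∈ line12 by simp [line12, e2])]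
        rfl
      have hline := allP_iff.1 line12_spec.1 i (mem_pts.2 (isPt_of_mem_line12 hi))
      rw [hi1, Bool.not_true, Bool.false_or, beq_iff_eq] at hline
      have hall : allP (fun y => orth i y) perp12 = true := by
        rw [hline, inMask_maskOf]; exact hi
      exact ((hγ.comm i s (isPt_of_mem_line12 hi) hs).2 (allP_iff.1 hall s hsp)).symm
    have m5 : (5 : ℕ) ∈ line12 := by simp [line12]
    have m9 : (9 : ℕ) ∈ line12 := by simp [line12]
    have m13 : (13 : ℕ) ∈ line12 := by simp [line12]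
    simp only [List.mem_cons, List.not_mem_nil, or_false] at hp'
    rcases hp' with rfl | rfl | rfl
    · refine ⟨[γ 9, γ 13], by simp, ?_, ?_, ?_⟩
      · simp [(hγ.mem 9 q9).1, (hγ.mem 13 q13).1]
      · simp only [List.mem_cons, List.not_mem_nil, or_false]
        rintro u (rfl | rfl) y hy h
        · exact hperp 9 m9 y hy (fun x hx => h x (by simpa using hx))
        · exact hperp 13 m13 y hy (fun x hx => h x (by simpa using hx))
      · rw [hpe, List.prod_cons, List.prod_cons, List.prod_nil, mul_one,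
          show γ 5 * γ 9 * γ 13 * γ 5 = γ 5 * (γ 9 * γ 13) * γ 5 by group,
          ((cl 5 m5 9 m9).mul_right (cl 5 m5 13 m13)).eq, mul_assoc (γ 9 * γ 13), sq hD (hγ.mem 5 q5).1, mul_one]
    · refine ⟨[γ 5, γ 13], by simp, ?_, ?_, ?_⟩
      · simp [(hγ.mem 5 q5).1, (hγ.mem 13 q13).1]
      · simp only [List.mem_cons, List.not_mem_nil, or_false]
        rintro u (rfl | rfl) y hy h
        · exact hperp 5 m5 y hy (fun x hx => h x (by simpa using hx))
        · exact hperp 13 m13 y hy (fun x hx => h x (by simpa using hx))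
      · rw [hpe, List.prod_cons, List.prod_cons, List.prod_nil, mul_one, mul_assoc (γ 5 * γ 9), (cl 13 m13 9 m9).eq,
          ← mul_assoc, mul_assoc (γ 5) (γ 9) (γ 9), sq hD (hγ.mem 9 q9).1, mul_one]
    · refine ⟨[γ 5, γ 9], by simp, ?_, ?_, ?_⟩
      · simp [(hγ.mem 5 q5).1, (hγ.mem 9 q9).1]
      · simp only [List.mem_cons, List.not_mem_nil, or_false]
        rintro u (rfl | rfl) y hy h
        · exact hperp 5 m5 y hy (fun x hx => h x (by simpa using hx))
        · exact hperp 9 m9 y hy (fun x hx => h x (by simpa using hx))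
      · rw [hpe, List.prod_cons, List.prod_cons, List.prod_nil, mul_one, mul_assoc _ (γ 13), sq hD (hγ.mem 13 q13).1,
          mul_one]
  -- d off the line: move it to the third base point
  obtain ⟨-, h, hh, eh⟩ := IsLocal.exists_conj hC hγ base_isPt.2.2.1 (orbit_third (mem_pts.2 hp) p1 p2 hl)
  obtain ⟨ha', hfix⟩ := IsLocal.fix hC hγ hh
  have f1' := hfix e1 base_isPt.1 (fun _ _ q => ((Bool.and_eq_true _ _).mp q).1)
  have f2' := hfix e2 base_isPt.2.1 (fun _ _ q => ((Bool.and_eq_true _ _).mp q).2)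
  have hδ : IsLocal D a (fun t => h * γ t * h⁻¹) := ha' ▸ hγ.conjugate hD h
  set δ := fun t => h * γ t * h⁻¹ with hδd
  have d1 : δ e1 = γ e1 := f1'
  have d2 : δ e2 = γ e2 := f2'
  have d3 : δ e3 = γ p := eh
  simp only [← d1, ← d2, ← d3] at nab nac nad nbc nbd ncd hcm ⊢
  clear hl hp p1 p2 eh hfix f1' f2' hδd d1 d2 d3 hd hb hc
  -- some hyperoval through the three base points has product a
  have hsix : ∀ i ∈ ([0, 1, 2] : List ℕ), ∀ u v w, hyperovals.getD i [] = [u, v, w] →
      isPt u = true ∧ isPt v = true ∧ isPt w = true ∧ Commute (δ u) (δ v) ∧ Commute (δ u) (δ w) ∧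
      Commute (δ v) (δ w) ∧ (δ u * δ v * δ w = δ e1 * δ e2 * δ e3 ∨ δ u * δ v * δ w = a * δ e1 * δ e2 * δ e3) := by
    intro i hi u v w e
    have h3 := allP_iff.1 hyper_central.2.2 i hi
    rw [e, allP_iff] at h3
    have hu := h3 u (by simp); have hv := h3 v (by simp); have hw := h3 w (by simp)
    simp only [Bool.and_eq_true, allP_iff, List.elem_eq_mem, Bool.not_eq_true', decide_eq_false_iff_not] at hu hv hw
    have cuv := (hδ.comm u v hu.1.2 hv.1.2).2 (hu.1.1 v (by simp))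
    have cuw := (hδ.comm u w hu.1.2 hw.1.2).2 (hu.1.1 w (by simp))
    have cvw := (hδ.comm v w hv.1.2 hw.1.2).2 (hv.1.1 w (by simp))
    refine ⟨hu.1.2, hv.1.2, hw.1.2, cuv, cuw, cvw, ?_⟩
    set w6 := δ e1 * δ e2 * δ e3 * (δ u * δ v * δ w) with hw6
    have m1 := base_isPt.1
    have m2 := base_isPt.2.1
    have m3 := base_isPt.2.2.1
    have hcen : ∀ y ∈ nb D a, Commute w6 y := by
      intro y hy
      obtain ⟨s, hs, rfl⟩ := hδ.surj y hy
      have hc := allP_iff.1 (allP_iff.1 hyper_central.1 i hi) s (mem_pts.2 hs)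
      rw [e] at hc
      have hval := Nat.eq_of_beq_eq_true hc
      simp only [List.cons_append, List.nil_append, List.foldr_cons, List.foldr_nil] at hval
      have s1 := hδ.isPt_tv w s hw.1.2 hs
      have s2 := hδ.isPt_tv v _ hv.1.2 s1
      have s3 := hδ.isPt_tv u _ hu.1.2 s2
      have s4 := hδ.isPt_tv e3 _ m3 s3
      have s5 := hδ.isPt_tv e2 _ m2 s4
      refine mul_inv_eq_iff_eq_mul.1 ?_
      calc w6 * δ s * w6⁻¹ = δ e1 * (δ e2 * (δ e3 * (δ u * (δ v * (δ w * δ s * (δ w)⁻¹) * (δ v)⁻¹) * (δ u)⁻¹) * (δ e3)⁻¹) *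
            (δ e2)⁻¹) * (δ e1)⁻¹ := by rw [hw6]; group
        _ = δ s := by
          rw [hδ.conj w s hw.1.2 hs, hδ.conj v _ hv.1.2 s1, hδ.conj u _ hu.1.2 s2, hδ.conj e3 _ m3 s3,
            hδ.conj e2 _ m2 s4, hδ.conj e1 _ m1 s5]
          exact congrArg δ hval
    have k := fun s (hs : isPt s = true) => (hδ.mem s hs).2.2.symm
    have hwa : Commute w6 a := (((k e1 m1).mul_left (k e2 m2)).mul_left (k e3 m3)).mul_left
      (((k u hu.1.2).mul_left (k v hv.1.2)).mul_left (k w hw.1.2))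
    have c12 : Commute (δ e1) (δ e2) := hcm _ (by simp) _ (by simp)
    have c13 : Commute (δ e1) (δ e3) := hcm _ (by simp) _ (by simp)
    have c23 : Commute (δ e2) (δ e3) := hcm _ (by simp) _ (by simp)
    have inv3 : (δ e1 * δ e2 * δ e3)⁻¹ = δ e1 * δ e2 * δ e3 := by
      rw [mul_inv_rev (δ e1 * δ e2) (δ e3), mul_inv_rev (δ e1) (δ e2), inv_eq hD (hδ.mem e1 m1).1,
        inv_eq hD (hδ.mem e2 m2).1, inv_eq hD (hδ.mem e3 m3).1, ← c12.eq, (c13.mul_left c23).eq]
    rcases kernel_lemma hC ha hwa hcen with h1 | h1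
    · left
      rw [hw6] at h1
      rw [eq_inv_of_mul_eq_one_right h1, inv3]
    · right
      rw [hw6] at h1
      calc δ u * δ v * δ w = (δ e1 * δ e2 * δ e3)⁻¹ * a := by rw [← h1]; group
        _ = _ := by
          rw [inv3, ← ((((k e1 m1).symm).mul_right (k e2 m2).symm).mul_right (k e3 m3).symm).eq]
          group
  obtain ⟨u, v, w, huvw, hu, hv, hw, cuv, cuw, cvw, hprod⟩ : ∃ u v w, (u ≠ v ∧ u ≠ w ∧ v ≠ w) ∧ isPt u = true ∧ isPt v = true ∧ isPt w = true ∧
      Commute (δ u) (δ v) ∧ Commute (δ u) (δ w) ∧ Commute (δ v) (δ w) ∧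
      δ u * δ v * δ w = a * δ e1 * δ e2 * δ e3 := by
    obtain ⟨a1, a2, a3, a4, a5, a6, a7⟩ := hsix 0 (by simp) 21 45 57 rfl
    obtain ⟨b1, b2, b3, b4, b5, b6, b7⟩ := hsix 1 (by simp) 25 37 61 rfl
    rcases a7 with a7 | a7
    · rcases b7 with b7 | b7
      · exfalso
        have hn : ∀ {i j}, isPt i = true → isPt j = true → i ≠ j → δ i ≠ δ j := fun hi hj h e => h (hδ.inj _ _ hi hj e)
        have m1 := base_isPt.1
        have m2 := base_isPt.2.1
        have m3 := base_isPt.2.2.1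
        obtain ⟨x, y, z, -, -, -, -, -, -, -, -, -, -, -, -, -, huniq⟩ :=
          partner hC (hδ.mem e1 m1).1 (hδ.mem e2 m2).1 (hδ.mem e3 m3).1 ⟨nbc, nbd, ncd⟩
            (hcm _ (by simp) _ (by simp)) (hcm _ (by simp) _ (by simp)) (hcm _ (by simp) _ (by simp))
        have get : ∀ {i j l : ℕ}, isPt i = true → isPt j = true → isPt l = true → i ≠ j → i ≠ l → j ≠ l →
            i ≠ e1 → i ≠ e2 → i ≠ e3 →
            Commute (δ i) (δ j) → Commute (δ i) (δ l) → Commute (δ j) (δ l) →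
            δ i * δ j * δ l = δ e1 * δ e2 * δ e3 →
            ∀ t, (t = δ i ∨ t = δ j ∨ t = δ l) ↔ (t = x ∨ t = y ∨ t = z) := by
          intro i j l hi hj hl ij il jl n1 n2 n3 cij cil cjl e
          refine (huniq _ _ _ (hδ.mem i hi).1 (hδ.mem j hj).1 (hδ.mem l hl).1
            ⟨hn hi hj ij, hn hi hl il, hn hj hl jl⟩ cij cil cjl e).resolve_left fun hh => ?_
          rcases (hh _).1 (Or.inl rfl) with r | r | r
          · exact hn hi m1 n1 r
          · exact hn hi m2 n2 r
          · exact hn hi m3 n3 r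
        have hA := get a1 a2 a3 (by norm_num) (by norm_num) (by norm_num) (by simp [e1]) (by simp [e2]) (by simp [e3])
          a4 a5 a6 a7
        have hB := get b1 b2 b3 (by norm_num) (by norm_num) (by norm_num) (by simp [e1]) (by simp [e2]) (by simp [e3])
          b4 b5 b6 b7
        rcases (hB (δ 21)).2 ((hA _).1 (Or.inl rfl)) with r | r | r
        · exact hn a1 b1 (by norm_num) r
        · exact hn a1 b2 (by norm_num) r
        · exact hn a1 b3 (by norm_num) r
      · exact ⟨25, 37, 61, by norm_num, b1, b2, b3, b4, b5, b6, b7⟩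
    · exact ⟨21, 45, 57, by norm_num, a1, a2, a3, a4, a5, a6, a7⟩
  refine ⟨[δ u, δ v, δ w], by simp, ?_, ?_, ?_⟩
  · simp [(hδ.mem u hu).1, (hδ.mem v hv).1, (hδ.mem w hw).1]
  · simp only [List.mem_cons, List.not_mem_nil, or_false]
    intro t ht y hy hcy
    by_cases hya : y = a
    · subst hya
      rcases ht with rfl | rfl | rfl
      · exact (hδ.mem u hu).2.2
      · exact (hδ.mem v hv).2.2
      · exact (hδ.mem w hw).2.2
    have c : Commute y (δ u * δ v * δ w) := hprod ▸ (((hcy a (Or.inl rfl)).mul_right (hcy _ (Or.inr (Or.inl rfl)))).mul_right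
      (hcy _ (Or.inr (Or.inr (Or.inl rfl))))).mul_right (hcy _ (Or.inr (Or.inr (Or.inr rfl))))
    have hne3 : δ u ≠ δ v ∧ δ u ≠ δ w ∧ δ v ≠ δ w :=
      ⟨fun e => huvw.1 (hδ.inj _ _ hu hv e), fun e => huvw.2.1 (hδ.inj _ _ hu hw e),
        fun e => huvw.2.2 (hδ.inj _ _ hv hw e)⟩
    obtain ⟨k1, k2, k3⟩ := (ThreeTransp.centralize_three hD.1 (hδ.mem u hu).1 (hδ.mem v hv).1 (hδ.mem w hw).1 hy
      hne3.1 hne3.2.1 hne3.2.2 cuv cuw cvw).1 c
    rcases ht with rfl | rfl | rfl
    · exact k1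
    · exact k2
    · exact k3
  · rw [← hprod]
    simp [mul_assoc]

end Cfsg.Agent.TT95
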