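import Cfsg.Agent.TT95.HexPerm

/-!
Type M(22): every involution commutes with a transposition.
-/

set_option autoImplicit false
set_option linter.unusedSectionVars false

namespace Cfsg.Agent.TT95

open Cfsg.Agent.TT95.U6

variable {G : Type*} [Group G] [Finite G] {D : Set G} (hC : Cfg22 D) [Gen D]

include hC

theorem fixed_third {a b : G} (ha : a ∈ D) (hb : b ∈ D) (h : ¬ Commute a b) {g : G}
    (h1 : g * a * g⁻¹ = b) (h2 : g * b * g⁻¹ = a) : ∃ c ∈ D, g * c * g⁻¹ = c := by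
  refine ⟨a * b * a, conj_mem' hC.tt hb ha, ?_⟩
  calc g * (a * b * a) * g⁻¹ = g * a * g⁻¹ * (g * b * g⁻¹) * (g * a * g⁻¹) := by group
    _ = a * b * a := by rw [h1, h2]; exact (braid hC.tt ha hb h).symm

theorem exchange_fixes {a b : G} (ha : a ∈ D) (hb : b ∈ D) (hne : a ≠ b) (hab : Commute a b) {g : G}
    (hg : g * g = 1) (h1 : g * a * g⁻¹ = b) : ∃ c ∈ D, g * c * g⁻¹ = c := by
  classical
  have inv : ∀ {u v : G}, g * u * g⁻¹ = v → g * v * g⁻¹ = u := by
    intro u v e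
    rw [← e, show g * (g * u * g⁻¹) * g⁻¹ = g * g * u * (g * g)⁻¹ by group, hg]
    group
  by_contra hno
  push Not at hno
  obtain ⟨γ, hγ, hbe⟩ := local_one hC ha (b := b) ⟨hb, hne.symm, hab⟩
  obtain ⟨Φ, hΦ⟩ := exists_keyHom hC ha hγ hbe
  set gs : pairStab a b := ⟨g, Or.inr ⟨h1, inv h1⟩⟩ with hgs
  set σ := Φ gs with hσ
  have hσ2 : σ * σ = 1 := by
    rw [hσ, ← map_mul, show gs * gs = 1 from Subtype.ext hg, map_one]
  obtain ⟨k, hk⟩ : ∃ k : K45, σ k = k := by
    by_contra hh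
    push Not at hh
    have hsupp : σ.support = Finset.univ := Finset.eq_univ_of_forall fun k => Equiv.Perm.mem_support.2 (hh k)
    have h2 : 2 ∣ σ.support.card := by
      haveI : Fact (Nat.Prime 2) := ⟨Nat.prime_two⟩
      have := Equiv.Perm.card_compl_support_modEq (n := 1) (p := 2) (σ := σ) (by rw [pow_one, pow_two, hσ2])
      rw [hsupp, Finset.compl_univ, Finset.card_empty, card_K45] at this
      exact absurd this (by decide)
    rw [hsupp, Finset.card_univ, card_K45] at h2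
    norm_num at h2
  obtain ⟨hkR, hkk⟩ := isR_key k.2
  have hkf : k.1 ∈ fibre k.1 := by
    have := mem_fibre hkR
    rwa [hkk] at this
  obtain ⟨y, z, w, hF, n1, n2, n3, n4, n5, n6, hprod⟩ := fibre_prod hC ha hγ hbe hkf
  have hRF : ∀ t ∈ fibre k.1, isR t ∧ key t = k.1 := fun t ht => fibre_spec ht
  have himg : ∀ t ∈ fibre k.1, ∃ t' ∈ fibre k.1, g * γ t * g⁻¹ = γ t' := by
    intro t ht
    obtain ⟨tR, tk⟩ := hRF t ht
    obtain ⟨t', t'R, e⟩ := pair_move hC ha hγ hbe gs.2 tR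
    refine ⟨t', ?_, e.symm⟩
    have h' := hΦ gs t t' tR t'R e
    have e2 : (⟨key t, key_mem tR⟩ : K45) = k := Subtype.ext tk
    rw [e2, ← hσ, hk] at h'
    have := mem_fibre t'R
    rwa [← h'] at this
  have hmem : ∀ t ∈ fibre k.1, γ t ∈ D ∧ γ t ≠ a ∧ γ t ≠ b ∧ Commute (γ t) a ∧ Commute (γ t) b := fun t ht => by
    obtain ⟨tR, -⟩ := hRF t ht
    obtain ⟨c1, c2, c3⟩ := isR_commute hC ha hγ hbe tR
    exact ⟨(hγ.mem t tR.1).1, (hγ.mem t tR.1).2.1, c3, c1, c2⟩
  have hcc : ∀ t ∈ fibre k.1, ∀ t' ∈ fibre k.1, Commute (γ t) (γ t') := fun t ht t' ht' =>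
    (hγ.comm t t' (hRF t ht).1.1 (hRF t' ht').1.1).2 (fibre_orth ht ht')
  have hin : ∀ t ∈ fibre k.1, ∀ t' ∈ fibre k.1, γ t = γ t' → t = t' := fun t ht t' ht' e =>
    hγ.inj t t' (hRF t ht).1.1 (hRF t' ht').1.1 e
  have hall : ∀ t, t ∈ fibre k.1 ↔ (t = k.1 ∨ t = y ∨ t = z ∨ t = w) := fun t => by
    rw [hF]; simp [Finset.mem_insert]
  have hcl : ∀ {p q r s : ℕ}, (∀ t, t ∈ fibre k.1 ↔ (t = p ∨ t = q ∨ t = r ∨ t = s)) → p ≠ q → p ≠ r → p ≠ s →
      q ≠ r → q ≠ s → r ≠ s → γ p * γ q * γ r * γ s = a * b → g * γ p * g⁻¹ = γ q → False := by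
    intro p q r s hh pq pr ps qr qs rs hpr hgp
    have mp := (hh p).2 (Or.inl rfl)
    have mq := (hh q).2 (Or.inr (Or.inl rfl))
    have mr := (hh r).2 (Or.inr (Or.inr (Or.inl rfl)))
    have ms := (hh s).2 (Or.inr (Or.inr (Or.inr rfl)))
    have hgr : g * γ r * g⁻¹ = γ s := by
      obtain ⟨r', hr', e⟩ := himg r mr
      rcases (hh r').1 hr' with h | h | h | h <;> subst h
      · exact absurd (hin _ mq _ mr (hgp.symm.trans (inv e))) qr
      · exact absurd (hin _ mp _ mr (mul_left_cancel (mul_right_cancel (hgp.trans e.symm)))) pr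
      · exact absurd e (hno _ (hmem _ mr).1)
      · exact e
    refine hex_no_triple_swap hC ha hb (hmem p mp).1 (hmem q mq).1 (hmem r mr).1 (hmem s ms).1 ?_ ?_ hpr
      h1 (inv h1) hgp (inv hgp) hgr
    · have d : ∀ {i j}, i ∈ fibre k.1 → j ∈ fibre k.1 → i ≠ j → γ i ≠ γ j := fun hi hj h e => h (hin _ hi _ hj e)
      simp [hne, (hmem p mp).2.1.symm, (hmem q mq).2.1.symm, (hmem r mr).2.1.symm, (hmem s ms).2.1.symm,
        (hmem p mp).2.2.1.symm, (hmem q mq).2.2.1.symm, (hmem r mr).2.2.1.symm, (hmem s ms).2.2.1.symm,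
        d mp mq pq, d mp mr pr, d mp ms ps, d mq mr qr, d mq ms qs, d mr ms rs]
    · have key : ∀ u ∈ [a, b, γ p, γ q, γ r, γ s], u = a ∨ u = b ∨ ∃ t ∈ fibre k.1, u = γ t := by
        intro u hu
        simp only [List.mem_cons, List.not_mem_nil, or_false] at hu
        rcases hu with h | h | h | h | h | h
        · exact Or.inl h
        · exact Or.inr (Or.inl h)
        all_goals exact Or.inr (Or.inr ⟨_, ‹_›, h⟩)
      intro u hu v hv
      rcases key u hu with rfl | rfl | ⟨t, ht, rfl⟩ <;> rcases key v hv with rfl | rfl | ⟨t', ht', rfl⟩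
      · exact Commute.refl _
      · exact hab
      · exact (hmem t' ht').2.2.2.1.symm
      · exact hab.symm
      · exact Commute.refl _
      · exact (hmem t' ht').2.2.2.2.symm
      · exact (hmem t ht).2.2.2.1
      · exact (hmem t ht).2.2.2.2
      · exact hcc t ht t' ht'
  obtain ⟨k', hk', e⟩ := himg k.1 hkf
  rcases (hall k').1 hk' with h | h | h | h <;> subst h
  · exact hno _ (hmem _ hkf).1 e
  · exact hcl hall n1 n2 n3 n4 n5 n6 hprod e
  · refine hcl (q := k') (r := y) (s := w) (fun t => (hall t).trans ⟨?_, ?_⟩) n2 n1 n3 n4.symm n6 n5 ?_ e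
    · rintro (h | h | h | h) <;> simp [h]
    · rintro (h | h | h | h) <;> simp [h]
    · rw [← hprod, mul_assoc (γ k.1), mul_assoc (γ k.1) (γ y),
        (hcc _ ((hall k').2 (by simp)) _ ((hall y).2 (by simp))).eq]
  · refine hcl (q := k') (r := y) (s := z) (fun t => (hall t).trans ⟨?_, ?_⟩) n3 n1 n2 n5.symm n6.symm n4 ?_ e
    · rintro (h | h | h | h) <;> simp [h]
    · rintro (h | h | h | h) <;> simp [h]
    · rw [← hprod, mul_assoc (γ k.1) (γ k'), mul_assoc (γ k.1) (γ k' * γ y),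
        mul_assoc (γ k.1) (γ y), mul_assoc (γ k.1) (γ y * γ z), mul_assoc (γ k') (γ y) (γ z),
        ((hcc _ ((hall k').2 (by simp)) _ ((hall y).2 (by simp))).mul_right
          (hcc _ ((hall k').2 (by simp)) _ ((hall z).2 (by simp)))).eq]

/-- Every involution commutes with a transposition. -/
theorem involution_fixes (hcore : Core22 G D) {g : G} (hg : g * g = 1) : ∃ c ∈ D, Commute g c := by
  classical
  suffices h : ∃ c ∈ D, g * c * g⁻¹ = c by
    obtain ⟨c, hc, e⟩ := h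
    exact ⟨c, hc, mul_inv_eq_iff_eq_mul.1 e⟩
  haveI : Fact (Nat.Prime 2) := ⟨Nat.prime_two⟩
  have hgp : IsPGroup 2 (Subgroup.zpowers g) := by
    refine IsPGroup.of_card (n := if g = 1 then 0 else 1) ?_
    rw [Nat.card_zpowers]
    split_ifs with h
    · simp [h]
    · rw [pow_one]; exact orderOf_eq_prime (by rw [pow_two, hg]) h
  obtain ⟨P, hP⟩ := hgp.exists_le_sylow
  have hgP : g ∈ (P : Subgroup G) := hP (Subgroup.mem_zpowers g)
  -- an orbit of the Sylow subgroup with at most two members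
  letI := Fintype.ofFinite G
  let act' : MulAction P D :=
    { smul := fun p d => ⟨(p : G) * d * (p : G)⁻¹, conj_mem hC.tt _ d.2⟩
      one_smul := fun d => Subtype.ext (by show ((1 : P) : G) * (d : G) * ((1 : P) : G)⁻¹ = d; simp)
      mul_smul := fun p q d => Subtype.ext (by
        show ((p * q : P) : G) * (d : G) * ((p * q : P) : G)⁻¹ = (p : G) * ((q : G) * d * (q : G)⁻¹) * (p : G)⁻¹
        rw [Subgroup.coe_mul]; group) }
  obtain ⟨a, ha⟩ : ∃ a : D, Nat.card (MulAction.orbit P a) ≤ 2 := by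
    by_contra hh
    push Not at hh
    have h4 : ∀ a : D, 4 ∣ Nat.card (MulAction.orbit P a) := by
      intro a
      obtain ⟨n, hn⟩ := P.2.card_orbit (α := D) a
      have := hh a
      rw [hn] at this ⊢
      match n, this with
      | 0, h => simp at h
      | 1, h => simp at h
      | n + 2, _ => exact ⟨2 ^ n, by ring⟩
    have e : Nat.card D = ∑ o : MulAction.orbitRel.Quotient P D, Nat.card o.orbit := by
      rw [Nat.card_congr (MulAction.selfEquivSigmaOrbits' P D), Nat.card_sigma]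
    have hdvd : 4 ∣ Nat.card D := by
      rw [e]
      refine Finset.dvd_sum fun o _ => ?_
      induction o using Quotient.inductionOn' with
      | h a => rw [MulAction.orbitRel.Quotient.orbit_mk]; exact h4 a
    obtain ⟨d0, hd0, -⟩ := hcore.2
    rw [Nat.card_coe_set_eq, ncard_D hC hd0] at hdvd
    norm_num at hdvd
  by_cases hfa : g * (a : G) * g⁻¹ = a
  · exact ⟨a, a.2, hfa⟩
  by_cases hab : Commute (a : G) (g * a * g⁻¹)
  · exact exchange_fixes hC a.2 (conj_mem hC.tt g a.2) (Ne.symm hfa) hab hg rfl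
  refine fixed_third hC a.2 (conj_mem hC.tt g a.2) hab rfl ?_
  rw [show g * (g * (a : G) * g⁻¹) * g⁻¹ = g * g * a * (g * g)⁻¹ by group, hg]
  group

end Cfsg.Agent.TT95
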