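import Cfsg.Agent.TT95.OctChart
import Cfsg.Agent.TT95.K45.Displace

/-!
Type M(24): every involution commutes with a transposition.
-/

set_option autoImplicit false
set_option linter.unusedSectionVars false

namespace Cfsg.Agent.TT95

open Cfsg.Agent.TT95.K45G

theorem line45_check : ((List.range 45).all fun i => (List.range 45).all fun j => !adj i j ||
    (adj j i && Nat.beq (common45 i j).length 3 && decide ((i :: j :: common45 i j).Nodup) &&
      ((common45 i j).all fun r => (common45 i j).all fun t => Nat.beq r t || adj r t))) = true := by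
  decide +kernel

theorem line45 {i j : Fin 45} (h : adj (i : ℕ) (j : ℕ) = true) :
    adj (j : ℕ) (i : ℕ) = true ∧ ((i : ℕ) :: (j : ℕ) :: common45 i j).Nodup ∧ (common45 i j).length = 3 ∧
      ∀ r ∈ common45 i j, ∀ t ∈ common45 i j, r = t ∨ adj r t = true := by
  have := List.all_eq_true.1 (List.all_eq_true.1 line45_check i (List.mem_range.2 i.2)) j (List.mem_range.2 j.2)
  simp only [h, Bool.not_true, Bool.false_or, Bool.and_eq_true, decide_eq_true_eq, List.all_eq_true,
    Bool.or_eq_true] at this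
  exact ⟨this.1.1.1, this.1.2, Nat.eq_of_beq_eq_true this.1.1.2,
    fun r hr t ht => (this.2 r hr t ht).imp_left Nat.eq_of_beq_eq_true⟩

/-- The keys on the line through two adjacent keys. -/
def lineKeys (i j : Fin 45) : Finset (Fin 45) := (i :: j :: (common45 i j).map ix).toFinset

theorem mem_lineKeys {i j r : Fin 45} :
    r ∈ lineKeys i j ↔ r = i ∨ r = j ∨ (adj (i : ℕ) (r : ℕ) = true ∧ adj (j : ℕ) (r : ℕ) = true) := by
  simp only [lineKeys, List.mem_toFinset, List.mem_cons, List.mem_map, common45, List.mem_filter, List.mem_range,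
    Bool.and_eq_true]
  refine or_congr Iff.rfl (or_congr Iff.rfl ⟨?_, fun h => ⟨r, ⟨r.2, h⟩, ix_val r⟩⟩)
  rintro ⟨x, ⟨hx, h⟩, rfl⟩
  rwa [val_ix hx]

theorem card_lineKeys {i j : Fin 45} (h : adj (i : ℕ) (j : ℕ) = true) : (lineKeys i j).card = 5 := by
  obtain ⟨-, hnd, hlen, -⟩ := line45 h
  have hlt : ∀ r ∈ common45 i j, r < 45 := fun r hr => List.mem_range.1 (List.mem_filter.1 hr).1
  rw [lineKeys, List.toFinset_card_of_nodup]
  · simp [hlen]
  refine List.Nodup.of_map Fin.val ?_
  simp only [List.map_cons, List.map_map]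
  rwa [List.map_congr_left (f := Fin.val ∘ ix) (g := id) (fun r hr => val_ix (hlt r hr)), List.map_id]

theorem mul_pairs {G : Type*} [Group G] {P Y R S P' Y' R' S' : G} (h1 : Commute Y P') (h2 : Commute R P')
    (h3 : Commute S P') (h4 : Commute R Y') (h5 : Commute S Y') (h6 : Commute S R') :
    (P * Y * R * S) * (P' * Y' * R' * S') = (P * P') * (Y * Y') * (R * R') * (S * S') := by
  rw [((h3.mul_right h5).mul_right h6).mul_mul_mul_comm (P * Y * R) S',
    (h2.mul_right h4).mul_mul_mul_comm (P * Y) R', h1.mul_mul_mul_comm P Y']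

variable {G : Type*} [Group G] [Finite G] [DecidableEq G] {D : Set G} {d : G}
  {q : ModCenter (Subgroup.closure (nb D d))} (hG : Cfg24 D d q)

include hG

/-- The twenty-four members over a line of keys. -/
theorem sextet {W : Finset G} (hW : W ∈ cliques D 4) {ι : Fin 45 → Finset G} (hι : OctChart D W ι)
    {i j : Fin 45} (hij : adj (i : ℕ) (j : ℕ) = true) :
    let M := W ∪ (lineKeys i j).biUnion ι
    (∀ x ∈ M, x ∈ D) ∧ (∀ x ∈ M, ∀ y ∈ M, Commute x y) ∧ M.card = 24 ∧
      ∀ x ∈ D, (∀ y ∈ M, Commute x y) → x ∈ M := by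
  intro M
  obtain ⟨hc, hD', hcm⟩ := mem_cliques.1 hW
  obtain ⟨hji, hnd, hlen, hcom⟩ := line45 hij
  have hadj : ∀ r ∈ lineKeys i j, ∀ t ∈ lineKeys i j, r = t ∨ adj (r : ℕ) (t : ℕ) = true := by
    intro r hr t ht
    rcases mem_lineKeys.1 hr with rfl | rfl | ⟨r1, r2⟩ <;> rcases mem_lineKeys.1 ht with rfl | rfl | ⟨t1, t2⟩
    all_goals first
      | exact Or.inl rfl
      | exact Or.inr hij
      | exact Or.inr hji
      | exact Or.inr t1
      | exact Or.inr t2
      | exact Or.inr (line45 r1).1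
      | exact Or.inr (line45 r2).1
      | exact (hcom r (by simp [common45, r1, r2]) t (by simp [common45, t1, t2])).imp_left Fin.ext
  have hmem : ∀ x ∈ M, x ∈ W ∨ ∃ k ∈ lineKeys i j, x ∈ ι k \ W := by
    intro x hx
    by_cases hxW : x ∈ W
    · exact Or.inl hxW
    rcases Finset.mem_union.1 hx with h | h
    · exact absurd h hxW
    obtain ⟨k, hk, hxk⟩ := Finset.mem_biUnion.1 h
    exact Or.inr ⟨k, hk, Finset.mem_sdiff.2 ⟨hxk, hxW⟩⟩
  refine ⟨?_, ?_, ?_, ?_⟩
  · intro x hx
    rcases hmem x hx with h | ⟨k, -, h⟩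
    · exact hD' x h
    · exact (hι.oct k).1.cl.1 x (Finset.mem_sdiff.1 h).1
  · intro x hx y hy
    rcases hmem x hx with h | ⟨k, hk, h⟩ <;> rcases hmem y hy with h' | ⟨l, hl, h'⟩
    · exact hcm x h y h'
    · exact (hι.oct l).1.cl.2 x ((hι.oct l).2 h) y (Finset.mem_sdiff.1 h').1
    · exact (hι.oct k).1.cl.2 x (Finset.mem_sdiff.1 h).1 y ((hι.oct k).2 h')
    · rcases hadj k hk l hl with rfl | e
      · exact (hι.oct k).1.cl.2 x (Finset.mem_sdiff.1 h).1 y (Finset.mem_sdiff.1 h').1
      · by_cases ek : k = l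
        · subst ek
          exact (hι.oct k).1.cl.2 x (Finset.mem_sdiff.1 h).1 y (Finset.mem_sdiff.1 h').1
        · exact (hι.comm k l ek x h y h').2 e
  · have e : M = W ∪ (lineKeys i j).biUnion fun k => ι k \ W := by
      ext x
      simp only [M, Finset.mem_union, Finset.mem_biUnion, Finset.mem_sdiff]
      constructor
      · rintro (h | ⟨k, hk, h⟩)
        · exact Or.inl h
        · by_cases hxW : x ∈ W
          · exact Or.inl hxW
          · exact Or.inr ⟨k, hk, h, hxW⟩
      · rintro (h | ⟨k, hk, h, -⟩)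
        · exact Or.inl h
        · exact Or.inr ⟨k, hk, h⟩
    rw [e, Finset.card_union_of_disjoint, Finset.card_biUnion]
    · rw [Finset.sum_congr rfl (fun k _ => by
        rw [Finset.card_sdiff_of_subset (hι.oct k).2, (hι.oct k).1.card, hc] : ∀ k ∈ lineKeys i j, (ι k \ W).card = 4)]
      simp [hc, card_lineKeys hij]
    · intro k _ l _ hkl
      rw [Function.onFun, Finset.disjoint_left]
      intro x hx hx'
      refine hkl (hι.inj (oct_unique hG (hι.oct k).1 (hι.oct l).1 (P := insert x W) ?_ ?_ ?_))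
      · rw [Finset.card_insert_of_notMem (Finset.mem_sdiff.1 hx).2, hc]
      · exact Finset.insert_subset (Finset.mem_sdiff.1 hx).1 (hι.oct k).2
      · exact Finset.insert_subset (Finset.mem_sdiff.1 hx').1 (hι.oct l).2
    · rw [Finset.disjoint_left]
      intro x hx hx'
      obtain ⟨k, -, h⟩ := Finset.mem_biUnion.1 hx'
      exact (Finset.mem_sdiff.1 h).2 hx
  · intro x hxD hx
    by_contra hxM
    have hxW : x ∉ W := fun h => hxM (Finset.mem_union_left _ h)
    obtain ⟨k, hk⟩ := hι.cover x ⟨hxD, hxW, fun w hw => (hx w (Finset.mem_union_left _ hw)).symm⟩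
    have hkL : k ∉ lineKeys i j := fun h => hxM (Finset.mem_union_right _ (Finset.mem_biUnion.2 ⟨k, h, hk⟩))
    have hnb : ∀ r ∈ lineKeys i j, adj (r : ℕ) (k : ℕ) = true := by
      intro r hr
      obtain ⟨y, hy⟩ : (ι r \ W).Nonempty := by
        rw [← Finset.card_pos, Finset.card_sdiff_of_subset (hι.oct r).2, (hι.oct r).1.card, hc]; norm_num
      exact (hι.comm r k (fun e => hkL (e ▸ hr)) y hy x (Finset.mem_sdiff.2 ⟨hk, hxW⟩)).1
        (hx y (Finset.mem_union_right _ (Finset.mem_biUnion.2 ⟨r, hr, (Finset.mem_sdiff.1 hy).1⟩))).symm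
    exact hkL (mem_lineKeys.2 (Or.inr (Or.inr ⟨hnb i (mem_lineKeys.2 (Or.inl rfl)),
      hnb j (mem_lineKeys.2 (Or.inr (Or.inl rfl)))⟩)))

/-- A maximal commuting set contains every octad meeting it in five. -/
theorem oct_subset {M : Finset G} (hMD : ∀ x ∈ M, x ∈ D) (hMc : ∀ x ∈ M, ∀ y ∈ M, Commute x y)
    (hMx : ∀ x ∈ D, (∀ y ∈ M, Commute x y) → x ∈ M) {X P : Finset G} (hX : IsOct D X) (hP : P.card = 5)
    (h : P ⊆ X) (h' : P ⊆ M) : X ⊆ M := fun x hx =>
  hMx x (hX.cl.1 x hx) fun y hy =>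
    (oct_commute_rest hG hX hP h (hMD y hy) (fun p hp => hMc y hy p (h' hp)) x hx).symm

section Involution

variable {g : G} (hg : g * g = 1) (hno : ∀ x ∈ D, g * x * g⁻¹ ≠ x)

include hg

omit hG in
theorem flip_flip (x : G) : g * (g * x * g⁻¹) * g⁻¹ = x := by
  rw [show g * (g * x * g⁻¹) * g⁻¹ = g * g * x * (g * g)⁻¹ by group, hg]
  group

include hno

theorem flip_commute {x : G} (hx : x ∈ D) : Commute x (g * x * g⁻¹) := by
  have hD := hG.lay.tt
  by_contra h
  have hy := conj_mem hD g hx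
  refine hno (x * (g * x * g⁻¹) * x) (conj_mem' hD hy hx) ?_
  calc g * (x * (g * x * g⁻¹) * x) * g⁻¹
      = g * x * g⁻¹ * (g * (g * x * g⁻¹) * g⁻¹) * (g * x * g⁻¹) := by group
    _ = x * (g * x * g⁻¹) * x := by rw [flip_flip hg]; exact (braid hD hx hy h).symm

theorem four_clique {a b : G} (ha : a ∈ D) (hb : b ∈ D) (hba : b ≠ a) (hba' : b ≠ g * a * g⁻¹)
    (h1 : Commute a b) (h2 : Commute (g * a * g⁻¹) b) :
    ({a, g * a * g⁻¹, b, g * b * g⁻¹} : Finset G) ∈ cliques D 4 ∧
      ({a, g * a * g⁻¹, b, g * b * g⁻¹} : Finset G).image (fun x => g * x * g⁻¹) =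
        {a, g * a * g⁻¹, b, g * b * g⁻¹} := by
  have hD := hG.lay.tt
  set a' := g * a * g⁻¹ with ha'
  set b' := g * b * g⁻¹ with hb'
  have e : g * b' * g⁻¹ = b := flip_flip hg b
  have e' : g * a' * g⁻¹ = a := flip_flip hg a
  have n1 : a ≠ a' := fun h => hno a ha h.symm
  have n2 : b ≠ b' := fun h => hno b hb h.symm
  have n3 : a ≠ b' := fun h => hba' (by rw [← e, ← h])
  have n4 : a' ≠ b' := fun h => hba (by rw [← e, ← h, e'])
  have c4 : Commute a' b' := (Commute.conj_iff g).2 h1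
  have c3 : Commute a b' := by
    have := (Commute.conj_iff g).2 h2
    rwa [e'] at this
  have c1 : Commute a a' := flip_commute hG hg hno ha
  have c2 : Commute b b' := flip_commute hG hg hno hb
  refine ⟨mem_cliques.2 ⟨?_, ?_, ?_⟩, ?_⟩
  · rw [Finset.card_insert_of_notMem (by simp [n1, hba.symm, n3]),
      Finset.card_insert_of_notMem (by simp [hba'.symm, n4]), Finset.card_pair n2]
  · intro u hu
    simp only [Finset.mem_insert, Finset.mem_singleton] at hu
    rcases hu with rfl | rfl | rfl | rfl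
    exacts [ha, conj_mem hD g ha, hb, conj_mem hD g hb]
  · intro u hu v hv
    simp only [Finset.mem_insert, Finset.mem_singleton] at hu hv
    rcases hu with rfl | rfl | rfl | rfl <;> rcases hv with h | h | h | h <;> subst h <;>
      first | exact Commute.refl _ | assumption | (apply Commute.symm; assumption)
  · ext x
    simp only [Finset.image_insert, Finset.image_singleton, ← ha', ← hb', e, e', Finset.mem_insert,
      Finset.mem_singleton]
    tauto

set_option maxHeartbeats 2000000 in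
theorem octs_fixed {W O : Finset G} (hW : W ∈ cliques D 4) (hWg : W.image (fun x => g * x * g⁻¹) = W)
    (hO : IsOct D O) (hWO : W ⊆ O) : O.image (fun x => g * x * g⁻¹) = O := by
  have hD := hG.lay.tt
  obtain ⟨hc, hD', hcm⟩ := mem_cliques.1 hW
  obtain ⟨ι, hι⟩ := exists_octChart hG hW
  have himg : ∀ k, ∃ l, ι l = (ι k).image fun x => g * x * g⁻¹ := fun k =>
    hι.surj _ (image_conj_oct hD g (hι.oct k).1) (hWg ▸ Finset.image_subset_image (hι.oct k).2)
  choose s hs using himg
  have hss : ∀ k, s (s k) = k := fun k => hι.inj (by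
    rw [hs, hs, Finset.image_image]
    exact (Finset.image_congr fun x _ => flip_flip hg x).trans Finset.image_id)
  set σ : Equiv.Perm (Fin 45) := ⟨s, s, hss, hss⟩ with hσ
  have hgW : ∀ {x}, x ∉ W → g * x * g⁻¹ ∉ W := fun {x} h h' => h (by
    rw [← hWg, Finset.mem_image] at h'
    obtain ⟨y, hy, e⟩ := h'
    rwa [← mul_left_cancel (mul_right_cancel e)])
  have hout : ∀ k, ∀ x ∈ ι k \ W, g * x * g⁻¹ ∈ ι (s k) \ W := fun k x hx => by
    obtain ⟨h1, h2⟩ := Finset.mem_sdiff.1 hx
    exact Finset.mem_sdiff.2 ⟨by rw [hs]; exact Finset.mem_image_of_mem _ h1, hgW h2⟩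
  have hne : ∀ k, (ι k \ W).Nonempty := fun k => by
    rw [← Finset.card_pos, Finset.card_sdiff_of_subset (hι.oct k).2, (hι.oct k).1.card, hc]; norm_num
  have haut : σ ∈ autGraph := by
    intro k l
    show adj (s k : ℕ) (s l : ℕ) = adj (k : ℕ) (l : ℕ)
    by_cases hkl : k = l
    · subst hkl
      have h0 : ∀ r : Fin 45, adj (r : ℕ) (r : ℕ) = false := by
        intro r
        by_contra h
        obtain ⟨-, h', -⟩ := line45 (Bool.not_eq_false _ ▸ h)
        simp at h'
      rw [h0, h0]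
    obtain ⟨x, hx⟩ := hne k
    obtain ⟨y, hy⟩ := hne l
    rw [Bool.eq_iff_iff, ← hι.comm k l hkl x hx y hy,
      ← hι.comm (s k) (s l) (fun e => hkl (by rw [← hss k, ← hss l, e])) _ (hout k x hx) _ (hout l y hy),
      Commute.conj_iff]
  have hdisp : ∀ k : Fin 45, σ k = k ∨ adj (k : ℕ) (σ k) = true := by
    intro k
    show s k = k ∨ adj (k : ℕ) (s k : ℕ) = true
    by_cases hk : s k = k
    · exact Or.inl hk
    obtain ⟨x, hx⟩ := hne k
    exact Or.inr ((hι.comm k (s k) (Ne.symm hk) x hx _ (hout k x hx)).1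
      (flip_commute hG hg hno ((hι.oct k).1.cl.1 x (Finset.mem_sdiff.1 hx).1)))
  rcases displace45 haut hss hdisp with h1 | ⟨i, hi, -, hfix⟩
  · obtain ⟨k, rfl⟩ := hι.surj O hO hWO
    rw [← hs, show s k = k from congrArg (fun e : Equiv.Perm (Fin 45) => e k) h1]
  exfalso
  -- exactly one pair of octads on the line is exchanged
  change s i ≠ i at hi
  set j := s i with hj
  have hij : adj (i : ℕ) (j : ℕ) = true := (hdisp i).resolve_left hi
  obtain ⟨hMD, hMc, -, hMx⟩ := sextet hG hW hι hij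
  set M := W ∪ (lineKeys i j).biUnion ι with hM
  have hsub : ∀ k ∈ lineKeys i j, ι k ⊆ M := fun k hk x hx =>
    Finset.mem_union_right _ (Finset.mem_biUnion.2 ⟨k, hk, hx⟩)
  have hiL : i ∈ lineKeys i j := mem_lineKeys.2 (Or.inl rfl)
  have hjL : j ∈ lineKeys i j := mem_lineKeys.2 (Or.inr (Or.inl rfl))
  have hfixk : ∀ k ∈ lineKeys i j, k = i ∨ k = j ∨ s k = k := by
    intro k hk
    rcases mem_lineKeys.1 hk with h | h | ⟨h1, h2⟩
    · exact Or.inl h
    · exact Or.inr (Or.inl h)
    · refine Or.inr (Or.inr ?_)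
      have := hfix (k : ℕ) (List.mem_filter.2 ⟨List.mem_range.2 k.2, by
        show (adj (i : ℕ) (k : ℕ) && adj (j : ℕ) (k : ℕ)) = true
        rw [h1, h2]; rfl⟩)
      rwa [ix_val] at this
  obtain ⟨a, ha⟩ : W.Nonempty := by rw [← Finset.card_pos, hc]; norm_num
  set a' := g * a * g⁻¹ with ha'def
  have ha' : a' ∈ W := hWg ▸ Finset.mem_image_of_mem _ ha
  have hTi : (ι i \ W).card = 4 := by rw [Finset.card_sdiff_of_subset (hι.oct i).2, (hι.oct i).1.card, hc]
  obtain ⟨y1, hy1, y2, hy2, hy12⟩ := Finset.one_lt_card.1 (by omega : 1 < (ι i \ W).card)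
  have hTdis : ∀ k l, k ≠ l → ∀ x ∈ ι k \ W, x ∉ ι l \ W := fun k l hkl x hx hx' =>
    hkl (hι.inj (oct_unique hG (hι.oct k).1 (hι.oct l).1 (P := insert x W)
      (by rw [Finset.card_insert_of_notMem (Finset.mem_sdiff.1 hx).2, hc])
      (Finset.insert_subset (Finset.mem_sdiff.1 hx).1 (hι.oct k).2)
      (Finset.insert_subset (Finset.mem_sdiff.1 hx').1 (hι.oct l).2)))
  have naa : a ≠ a' := fun h => hno a (hD' a ha) h.symm
  -- the octad through a pair of W, two members over i and one over a fixed key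
  have hoct : ∀ k ∈ lineKeys i j, k ≠ i → k ≠ j → ∃ X : Finset G, IsOct D X ∧ X ⊆ M ∧
      ({a, a', y1, y2} : Finset G) ⊆ X ∧ (X ∩ W).card = 2 ∧ (X ∩ (ι i \ W)).card = 2 ∧
      2 ≤ (X ∩ (ι k \ W)).card ∧ ∀ l ∈ lineKeys i j, Even (X ∩ (ι l \ W)).card := by
    intro k hk hki hkj
    obtain ⟨r, hr⟩ := hne k
    have nr : r ≠ y1 ∧ r ≠ y2 := ⟨fun e => hTdis k i hki r hr (e ▸ hy1), fun e => hTdis k i hki r hr (e ▸ hy2)⟩
    have nWy : ∀ {w y : G} {l : Fin 45}, w ∈ W → y ∈ ι l \ W → w ≠ y := fun hw hy e =>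
      (Finset.mem_sdiff.1 hy).2 (e ▸ hw)
    set P : Finset G := {a, a', y1, y2, r} with hP
    have hPc : P.card = 5 := by
      rw [hP, Finset.card_insert_of_notMem (by simp [naa, nWy ha hy1, nWy ha hy2, nWy ha hr]),
        Finset.card_insert_of_notMem (by simp [nWy ha' hy1, nWy ha' hy2, nWy ha' hr]),
        Finset.card_insert_of_notMem (by simp [hy12, nr.1.symm]), Finset.card_pair nr.2.symm]
    have hPM : P ⊆ M := by
      intro x hx
      simp only [hP, Finset.mem_insert, Finset.mem_singleton] at hx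
      rcases hx with rfl | rfl | rfl | rfl | rfl
      exacts [Finset.mem_union_left _ ha, Finset.mem_union_left _ ha', hsub i hiL (Finset.mem_sdiff.1 hy1).1,
        hsub i hiL (Finset.mem_sdiff.1 hy2).1, hsub k hk (Finset.mem_sdiff.1 hr).1]
    obtain ⟨X, hX, hPX⟩ := exists_oct hG hPc (fun u hu => hMD u (hPM hu))
      (fun u hu v hv => hMc u (hPM hu) v (hPM hv))
    have hXM := oct_subset hG hMD hMc hMx hX hPc hPX hPM
    have hev : ∀ l ∈ lineKeys i j, Even ((X ∩ W).card + (X ∩ (ι l \ W)).card) := by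
      intro l hl
      have h := oct_even hG (hι.oct l).1 hX fun o ho x hx => hMc o (hsub l hl ho) x (hXM hx)
      have e : X ∩ ι l = (X ∩ W) ∪ (X ∩ (ι l \ W)) := by
        ext x
        simp only [Finset.mem_inter, Finset.mem_union, Finset.mem_sdiff]
        constructor
        · intro h; tauto
        · rintro (⟨h1, h2⟩ | ⟨h1, h2, -⟩)
          · exact ⟨h1, (hι.oct l).2 h2⟩
          · exact ⟨h1, h2⟩
      have e2 : Disjoint (X ∩ W) (X ∩ (ι l \ W)) := by
        rw [Finset.disjoint_left]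
        intro x h1 h2
        exact (Finset.mem_sdiff.1 (Finset.mem_inter.1 h2).2).2 (Finset.mem_inter.1 h1).2
      have h8 := Finset.card_sdiff_add_card_inter X (ι l)
      rw [hX.card, e, Finset.card_union_of_disjoint e2] at h8
      rw [Nat.even_iff] at h ⊢
      omega
    have hsum : (X ∩ W).card + ∑ l ∈ lineKeys i j, (X ∩ (ι l \ W)).card = 8 := by
      rw [← hX.card, ← Finset.card_biUnion, ← Finset.card_union_of_disjoint]
      · congr 1
        ext x
        simp only [Finset.mem_union, Finset.mem_inter, Finset.mem_biUnion, Finset.mem_sdiff]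
        constructor
        · rintro (⟨h, -⟩ | ⟨l, -, h, -⟩) <;> exact h
        · intro h
          by_cases hxW : x ∈ W
          · exact Or.inl ⟨h, hxW⟩
          rcases Finset.mem_union.1 (hXM h) with h' | h'
          · exact absurd h' hxW
          obtain ⟨l, hl, h''⟩ := Finset.mem_biUnion.1 h'
          exact Or.inr ⟨l, hl, h, h'', hxW⟩
      · rw [Finset.disjoint_left]
        intro x h1 h2
        obtain ⟨l, -, h⟩ := Finset.mem_biUnion.1 h2
        exact (Finset.mem_sdiff.1 (Finset.mem_inter.1 h).2).2 (Finset.mem_inter.1 h1).2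
      · intro l _ l' _ hll
        rw [Function.onFun, Finset.disjoint_left]
        exact fun x h1 h2 => hTdis l l' hll x (Finset.mem_inter.1 h1).2 (Finset.mem_inter.1 h2).2
    have h2W : 2 ≤ (X ∩ W).card := by
      rw [← Finset.card_pair naa]
      refine Finset.card_le_card ?_
      intro x hx
      simp only [Finset.mem_insert, Finset.mem_singleton] at hx
      rcases hx with rfl | rfl
      · exact Finset.mem_inter.2 ⟨hPX (by simp [hP]), ha⟩
      · exact Finset.mem_inter.2 ⟨hPX (by simp [hP]), ha'⟩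
    have h2i : 2 ≤ (X ∩ (ι i \ W)).card := by
      rw [← Finset.card_pair hy12]
      refine Finset.card_le_card ?_
      intro x hx
      simp only [Finset.mem_insert, Finset.mem_singleton] at hx
      rcases hx with rfl | rfl
      · exact Finset.mem_inter.2 ⟨hPX (by simp [hP]), hy1⟩
      · exact Finset.mem_inter.2 ⟨hPX (by simp [hP]), hy2⟩
    have h1k : 1 ≤ (X ∩ (ι k \ W)).card := Finset.card_pos.2 ⟨r, Finset.mem_inter.2 ⟨hPX (by simp [hP]), hr⟩⟩
    have hsplit : ∑ l ∈ lineKeys i j, (X ∩ (ι l \ W)).card =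
        (X ∩ (ι i \ W)).card + ((X ∩ (ι k \ W)).card +
          ∑ l ∈ ((lineKeys i j).erase i).erase k, (X ∩ (ι l \ W)).card) := by
      rw [← Finset.add_sum_erase _ _ hiL, ← Finset.add_sum_erase _ _ (Finset.mem_erase.2 ⟨hki, hk⟩)]
    have evW : Even (X ∩ W).card := by
      by_contra ho
      have hodd : ∀ l ∈ lineKeys i j, 1 ≤ (X ∩ (ι l \ W)).card := fun l hl => by
        have := hev l hl
        rw [Nat.even_iff] at this ho
        omega
      have h3 : 3 ≤ ∑ l ∈ ((lineKeys i j).erase i).erase k, (X ∩ (ι l \ W)).card := by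
        have hc3 : (((lineKeys i j).erase i).erase k).card = 3 := by
          rw [Finset.card_erase_of_mem (Finset.mem_erase.2 ⟨hki, hk⟩), Finset.card_erase_of_mem hiL, card_lineKeys hij]
        rw [← hc3, Finset.card_eq_sum_ones]
        exact Finset.sum_le_sum fun l hl => hodd l (Finset.mem_of_mem_erase (Finset.mem_of_mem_erase hl))
      have := hev i hiL
      rw [Nat.even_iff] at this ho
      omega
    have evT : ∀ l ∈ lineKeys i j, Even (X ∩ (ι l \ W)).card := fun l hl =>
      (Nat.even_add.1 (hev l hl)).1 evW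
    have ev1 := evT i hiL
    have ev2 := evT k hk
    rw [Nat.even_iff] at ev1 ev2 evW
    have hrI : X ≠ ι i := fun e => hTdis k i hki r hr
      (Finset.mem_sdiff.2 ⟨e ▸ hPX (by simp [hP]), (Finset.mem_sdiff.1 hr).2⟩)
    have h4W : (X ∩ W).card ≠ 4 := fun h4 => by
      have hT : W ⊆ X := by
        have : X ∩ W = W := Finset.eq_of_subset_of_card_le Finset.inter_subset_right (by rw [h4, hc])
        exact this ▸ Finset.inter_subset_left
      exact hrI (oct_unique hG hX (hι.oct i).1 (P := insert y1 W)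
        (by rw [Finset.card_insert_of_notMem (Finset.mem_sdiff.1 hy1).2, hc])
        (Finset.insert_subset (hPX (by simp [hP])) hT)
        (Finset.insert_subset (Finset.mem_sdiff.1 hy1).1 (hι.oct i).2))
    have h4i : (X ∩ (ι i \ W)).card ≠ 4 := fun h4 => by
      have hT : ι i \ W ⊆ X := by
        have : X ∩ (ι i \ W) = ι i \ W :=
          Finset.eq_of_subset_of_card_le Finset.inter_subset_right (by rw [h4, hTi])
        exact this ▸ Finset.inter_subset_left
      exact hrI (oct_unique hG hX (hι.oct i).1 (P := insert a (ι i \ W))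
        (by rw [Finset.card_insert_of_notMem (fun h => (Finset.mem_sdiff.1 h).2 ha), hTi])
        (Finset.insert_subset (hPX (by simp [hP])) hT)
        (Finset.insert_subset ((hι.oct i).2 ha) Finset.sdiff_subset))
    refine ⟨X, hX, hXM, ?_, by omega, by omega, by omega, evT⟩
    exact Finset.Subset.trans (fun x hx => by simp only [hP, Finset.mem_insert, Finset.mem_singleton] at hx ⊢; tauto) hPX
  obtain ⟨k, hk, hki, hkj, X, hX, hXM, hQX, hXW, hXi, hXk, hXev, hXj⟩ :
      ∃ k ∈ lineKeys i j, k ≠ i ∧ k ≠ j ∧ ∃ X : Finset G, IsOct D X ∧ X ⊆ M ∧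
        ({a, a', y1, y2} : Finset G) ⊆ X ∧ (X ∩ W).card = 2 ∧ (X ∩ (ι i \ W)).card = 2 ∧
        2 ≤ (X ∩ (ι k \ W)).card ∧ (∀ l ∈ lineKeys i j, Even (X ∩ (ι l \ W)).card) ∧ X ∩ (ι j \ W) = ∅ := by
    by_contra hh
    set K := ((lineKeys i j).erase i).erase j with hK
    have hKc : K.card = 3 := by
      rw [Finset.card_erase_of_mem (Finset.mem_erase.2 ⟨hi, hjL⟩), Finset.card_erase_of_mem hiL, card_lineKeys hij]
    have hKm : ∀ {k}, k ∈ K → k ∈ lineKeys i j ∧ k ≠ i ∧ k ≠ j := fun {k} h =>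
      ⟨Finset.mem_of_mem_erase (Finset.mem_of_mem_erase h), Finset.ne_of_mem_erase (Finset.mem_of_mem_erase h),
        Finset.ne_of_mem_erase h⟩
    choose! X hX using fun k (h : k ∈ K) => hoct k (hKm h).1 (hKm h).2.1 (hKm h).2.2
    have hj2 : ∀ k ∈ K, 2 ≤ (X k ∩ (ι j \ W)).card := by
      intro k hk
      obtain ⟨hX', hXM, hQX, hXW, hXi, hXk, hXev⟩ := hX k hk
      have hne0 : (X k ∩ (ι j \ W)).card ≠ 0 := fun h0 => hh ⟨k, (hKm hk).1, (hKm hk).2.1, (hKm hk).2.2, X k, hX',
        hXM, hQX, hXW, hXi, hXk, hXev, Finset.card_eq_zero.1 h0⟩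
      have := hXev j hjL
      rw [Nat.even_iff] at this
      omega
    have hdis : ∀ k ∈ K, ∀ l ∈ K, k ≠ l → Disjoint (X k ∩ (ι j \ W)) (X l ∩ (ι j \ W)) := by
      intro k hk l hl hkl
      rw [Finset.disjoint_left]
      intro x h1 h2
      obtain ⟨hX', hXM, hQX, hXW, hXi, hXk, hXev⟩ := hX k hk
      obtain ⟨hX'', hXM'', hQX'', -, -, hXl, -⟩ := hX l hl
      obtain ⟨hxk, hxj⟩ := Finset.mem_inter.1 h1
      have hxQ : x ∉ ({a, a', y1, y2} : Finset G) := by
        simp only [Finset.mem_insert, Finset.mem_singleton]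
        rintro (h | h | h | h)
        · exact (Finset.mem_sdiff.1 hxj).2 (h ▸ ha)
        · exact (Finset.mem_sdiff.1 hxj).2 (h ▸ ha')
        · exact hTdis j i hi x hxj (h ▸ hy1)
        · exact hTdis j i hi x hxj (h ▸ hy2)
      have hQc : ({a, a', y1, y2} : Finset G).card = 4 := by
        have nWy : ∀ {w y : G}, w ∈ W → y ∈ ι i \ W → w ≠ y := fun hw hy e => (Finset.mem_sdiff.1 hy).2 (e ▸ hw)
        rw [Finset.card_insert_of_notMem (by simp [naa, nWy ha hy1, nWy ha hy2]),
          Finset.card_insert_of_notMem (by simp [nWy ha' hy1, nWy ha' hy2]), Finset.card_pair hy12]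
      have heq : X k = X l := oct_unique hG hX' hX'' (P := insert x {a, a', y1, y2})
        (by rw [Finset.card_insert_of_notMem hxQ, hQc]) (Finset.insert_subset hxk hQX)
        (Finset.insert_subset (Finset.mem_inter.1 h2).1 hQX'')
      -- then the octad would have more than eight members
      rw [← heq] at hXl
      have hle : ∀ A B C E F : Finset G, Disjoint A B → Disjoint A C → Disjoint A E → Disjoint A F → Disjoint B C →
          Disjoint B E → Disjoint B F → Disjoint C E → Disjoint C F → Disjoint E F →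
          A ⊆ X k → B ⊆ X k → C ⊆ X k → E ⊆ X k → F ⊆ X k →
          A.card + B.card + C.card + E.card + F.card ≤ 8 := by
        intro A B C E F d1 d2 d3 d4 d5 d6 d7 d8 d9 d10 s1 s2 s3 s4 s5
        rw [← hX'.card, ← Finset.card_union_of_disjoint d1, ← Finset.card_union_of_disjoint (by simp [d2, d5]),
          ← Finset.card_union_of_disjoint (by simp [d3, d6, d8]),
          ← Finset.card_union_of_disjoint (by simp [d4, d7, d9, d10])]
        exact Finset.card_le_card (by simp [Finset.union_subset_iff, s1, s2, s3, s4, s5])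
      have dT : ∀ u v : Fin 45, u ≠ v → Disjoint (X k ∩ (ι u \ W)) (X k ∩ (ι v \ W)) := fun u v huv => by
        rw [Finset.disjoint_left]
        exact fun z h1 h2 => hTdis u v huv z (Finset.mem_inter.1 h1).2 (Finset.mem_inter.1 h2).2
      have dW : ∀ u : Fin 45, Disjoint (X k ∩ W) (X k ∩ (ι u \ W)) := fun u => by
        rw [Finset.disjoint_left]
        exact fun z h1 h2 => (Finset.mem_sdiff.1 (Finset.mem_inter.1 h2).2).2 (Finset.mem_inter.1 h1).2
      have := hle _ _ _ _ _ (dW i) (dW j) (dW k) (dW l) (dT i j (Ne.symm hi)) (dT i k (Ne.symm (hKm hk).2.1))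
        (dT i l (Ne.symm (hKm hl).2.1)) (dT j k (Ne.symm (hKm hk).2.2)) (dT j l (Ne.symm (hKm hl).2.2)) (dT k l hkl)
        Finset.inter_subset_left Finset.inter_subset_left Finset.inter_subset_left Finset.inter_subset_left
        Finset.inter_subset_left
      have := hj2 k hk
      omega
    have h6 : 6 ≤ (K.biUnion fun k => X k ∩ (ι j \ W)).card := by
      rw [Finset.card_biUnion fun k hk l hl => hdis k hk l hl]
      calc 6 = ∑ _k ∈ K, 2 := by simp [hKc]
        _ ≤ _ := Finset.sum_le_sum hj2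
    have h4 : (K.biUnion fun k => X k ∩ (ι j \ W)).card ≤ 4 := by
      refine (Finset.card_le_card (t := ι j \ W) ?_).trans (le_of_eq ?_)
      · exact Finset.biUnion_subset.2 fun k _ => Finset.inter_subset_right
      · rw [Finset.card_sdiff_of_subset (hι.oct j).2, (hι.oct j).1.card, hc]
    omega
  -- the two remaining members of the line
  obtain ⟨l, hl, hli, hlj, hlk, hl2, hk2, hrest⟩ : ∃ l ∈ lineKeys i j, l ≠ i ∧ l ≠ j ∧ l ≠ k ∧
      (X ∩ (ι l \ W)).card = 2 ∧ (X ∩ (ι k \ W)).card = 2 ∧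
      ∀ x ∈ X, x ∈ W ∨ x ∈ ι i \ W ∨ x ∈ ι k \ W ∨ x ∈ ι l \ W := by
    set K := (((lineKeys i j).erase i).erase j).erase k with hK
    have hkK : k ∈ ((lineKeys i j).erase i).erase j := Finset.mem_erase.2 ⟨hkj, Finset.mem_erase.2 ⟨hki, hk⟩⟩
    obtain ⟨u, v, huv, hKuv⟩ := Finset.card_eq_two.1 (show K.card = 2 by
      rw [Finset.card_erase_of_mem hkK, Finset.card_erase_of_mem (Finset.mem_erase.2 ⟨hi, hjL⟩),
        Finset.card_erase_of_mem hiL, card_lineKeys hij])
    have hu : u ∈ lineKeys i j ∧ u ≠ i ∧ u ≠ j ∧ u ≠ k := by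
      have : u ∈ K := by rw [hKuv]; simp
      simp only [hK, Finset.mem_erase] at this; tauto
    have hv : v ∈ lineKeys i j ∧ v ≠ i ∧ v ≠ j ∧ v ≠ k := by
      have : v ∈ K := by rw [hKuv]; simp
      simp only [hK, Finset.mem_erase] at this; tauto
    have hall : ∀ x ∈ X, x ∈ W ∨ x ∈ X ∩ (ι i \ W) ∨ x ∈ X ∩ (ι k \ W) ∨ x ∈ X ∩ (ι u \ W) ∨
        x ∈ X ∩ (ι v \ W) := by
      intro x hx
      by_cases hxW : x ∈ W
      · exact Or.inl hxW
      rcases Finset.mem_union.1 (hXM hx) with h' | h'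
      · exact absurd h' hxW
      obtain ⟨t, ht, hxt⟩ := Finset.mem_biUnion.1 h'
      have hxT : x ∈ X ∩ (ι t \ W) := Finset.mem_inter.2 ⟨hx, Finset.mem_sdiff.2 ⟨hxt, hxW⟩⟩
      have : t = i ∨ t = j ∨ t = k ∨ t ∈ K := by
        simp only [hK, Finset.mem_erase]; tauto
      rw [hKuv, Finset.mem_insert, Finset.mem_singleton] at this
      rcases this with rfl | rfl | rfl | rfl | rfl
      · exact Or.inr (Or.inl hxT)
      · rw [hXj] at hxT; simp at hxT
      · exact Or.inr (Or.inr (Or.inl hxT))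
      · exact Or.inr (Or.inr (Or.inr (Or.inl hxT)))
      · exact Or.inr (Or.inr (Or.inr (Or.inr hxT)))
    have dT : ∀ s t : Fin 45, s ≠ t → Disjoint (X ∩ (ι s \ W)) (X ∩ (ι t \ W)) := fun s t hst => by
      rw [Finset.disjoint_left]
      exact fun z h1 h2 => hTdis s t hst z (Finset.mem_inter.1 h1).2 (Finset.mem_inter.1 h2).2
    have dW : ∀ t : Fin 45, Disjoint (X ∩ W) (X ∩ (ι t \ W)) := fun t => by
      rw [Finset.disjoint_left]
      exact fun z h1 h2 => (Finset.mem_sdiff.1 (Finset.mem_inter.1 h2).2).2 (Finset.mem_inter.1 h1).2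
    have e8 : (X ∩ W).card + (X ∩ (ι i \ W)).card + (X ∩ (ι k \ W)).card + (X ∩ (ι u \ W)).card +
        (X ∩ (ι v \ W)).card = 8 := by
      rw [← hX.card, ← Finset.card_union_of_disjoint (dW i),
        ← Finset.card_union_of_disjoint (by simp [dW k, dT i k (Ne.symm hki)]),
        ← Finset.card_union_of_disjoint (by simp [dW u, dT i u (Ne.symm hu.2.1), dT k u (Ne.symm hu.2.2.2)]),
        ← Finset.card_union_of_disjoint (by simp [dW v, dT i v (Ne.symm hv.2.1), dT k v (Ne.symm hv.2.2.2), dT u v huv])]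
      congr 1
      ext x
      simp only [Finset.mem_union]
      constructor
      · rintro ((((h | h) | h) | h) | h) <;> exact (Finset.mem_inter.1 h).1
      · intro h
        rcases hall x h with hw | h' | h' | h' | h'
        · exact Or.inl (Or.inl (Or.inl (Or.inl (Finset.mem_inter.2 ⟨h, hw⟩))))
        all_goals tauto
    have hkle : (X ∩ (ι k \ W)).card ≠ 4 := fun h4 => by
      have hT : ι k \ W ⊆ X := by
        have : X ∩ (ι k \ W) = ι k \ W := Finset.eq_of_subset_of_card_le Finset.inter_subset_right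
          (by rw [h4, Finset.card_sdiff_of_subset (hι.oct k).2, (hι.oct k).1.card, hc])
        exact this ▸ Finset.inter_subset_left
      have haX : a ∈ X := hQX (by simp)
      have heq : X = ι k := oct_unique hG hX (hι.oct k).1 (P := insert a (ι k \ W))
        (by rw [Finset.card_insert_of_notMem (fun h => (Finset.mem_sdiff.1 h).2 ha),
          Finset.card_sdiff_of_subset (hι.oct k).2, (hι.oct k).1.card, hc])
        (Finset.insert_subset haX hT) (Finset.insert_subset ((hι.oct k).2 ha) Finset.sdiff_subset)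
      exact hTdis i k (Ne.symm hki) y1 hy1 (Finset.mem_sdiff.2 ⟨heq ▸ hQX (by simp), (Finset.mem_sdiff.1 hy1).2⟩)
    have eu := hXev u hu.1
    have ev := hXev v hv.1
    have ek := hXev k hk
    rw [Nat.even_iff] at eu ev ek
    rcases Nat.eq_zero_or_pos (X ∩ (ι v \ W)).card with h0 | h0
    · refine ⟨u, hu.1, hu.2.1, hu.2.2.1, hu.2.2.2, by omega, by omega, fun x hx => ?_⟩
      rcases hall x hx with h | h | h | h | h
      · exact Or.inl h
      · exact Or.inr (Or.inl (Finset.mem_inter.1 h).2)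
      · exact Or.inr (Or.inr (Or.inl (Finset.mem_inter.1 h).2))
      · exact Or.inr (Or.inr (Or.inr (Finset.mem_inter.1 h).2))
      · rw [Finset.card_eq_zero.1 h0] at h; simp at h
    · have hu0 : (X ∩ (ι u \ W)).card = 0 := by omega
      refine ⟨v, hv.1, hv.2.1, hv.2.2.1, hv.2.2.2, by omega, by omega, fun x hx => ?_⟩
      rcases hall x hx with h | h | h | h | h
      · exact Or.inl h
      · exact Or.inr (Or.inl (Finset.mem_inter.1 h).2)
      · exact Or.inr (Or.inr (Or.inl (Finset.mem_inter.1 h).2))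
      · rw [Finset.card_eq_zero.1 hu0] at h; simp at h
      · exact Or.inr (Or.inr (Or.inr (Finset.mem_inter.1 h).2))
  obtain ⟨r1, r2, hr12, hR⟩ := Finset.card_eq_two.1 hk2
  obtain ⟨s1, s2, hs12, hS⟩ := Finset.card_eq_two.1 hl2
  have hXW' : X ∩ W = {a, a'} := by
    refine (Finset.eq_of_subset_of_card_le (fun x hx => ?_) (by rw [hXW, Finset.card_pair naa])).symm
    simp only [Finset.mem_insert, Finset.mem_singleton] at hx
    rcases hx with rfl | rfl
    · exact Finset.mem_inter.2 ⟨hQX (by simp), ha⟩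
    · exact Finset.mem_inter.2 ⟨hQX (by simp), ha'⟩
  have hXi' : X ∩ (ι i \ W) = {y1, y2} := by
    refine (Finset.eq_of_subset_of_card_le (fun x hx => ?_) (by rw [hXi, Finset.card_pair hy12])).symm
    simp only [Finset.mem_insert, Finset.mem_singleton] at hx
    rcases hx with rfl | rfl
    · exact Finset.mem_inter.2 ⟨hQX (by simp), hy1⟩
    · exact Finset.mem_inter.2 ⟨hQX (by simp), hy2⟩
  have hr1 : r1 ∈ X ∩ (ι k \ W) := by rw [hR]; simp
  have hr2 : r2 ∈ X ∩ (ι k \ W) := by rw [hR]; simp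
  have hs1 : s1 ∈ X ∩ (ι l \ W) := by rw [hS]; simp
  have hs2 : s2 ∈ X ∩ (ι l \ W) := by rw [hS]; simp
  have hset : ∀ x, x ∈ X → x ∈ [a, a', y1, y2, r1, r2, s1, s2] := by
    intro x hx
    simp only [List.mem_cons, List.not_mem_nil, or_false]
    rcases hrest x hx with h | h | h | h
    · have : x ∈ X ∩ W := Finset.mem_inter.2 ⟨hx, h⟩
      rw [hXW'] at this; simp at this; tauto
    · have : x ∈ X ∩ (ι i \ W) := Finset.mem_inter.2 ⟨hx, h⟩
      rw [hXi'] at this; simp at this; tauto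
    · have : x ∈ X ∩ (ι k \ W) := Finset.mem_inter.2 ⟨hx, h⟩
      rw [hR] at this; simp at this; tauto
    · have : x ∈ X ∩ (ι l \ W) := Finset.mem_inter.2 ⟨hx, h⟩
      rw [hS] at this; simp at this; tauto
  have heq8 : [a, a', y1, y2, r1, r2, s1, s2].toFinset = X := by
    refine (Finset.eq_of_subset_of_card_le (fun x hx => List.mem_toFinset.2 (hset x hx)) ?_).symm
    rw [hX.card]
    exact (List.toFinset_card_le _).trans (le_of_eq rfl)
  have hnd8 : [a, a', y1, y2, r1, r2, s1, s2].Nodup := by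
    have h := List.card_toFinset [a, a', y1, y2, r1, r2, s1, s2]
    rw [heq8, hX.card] at h
    exact List.dedup_eq_self.1 ((List.dedup_sublist _).eq_of_length (by rw [← h]; rfl))
  have hp := (hX.rel hnd8 heq8).2.2.2.2
  simp only [List.prod_cons, List.prod_nil, mul_one] at hp
  -- the product of a set outside W of an octad
  have hTprod : ∀ t, ∀ u v w z : G, [u, v, w, z].Nodup → ι t \ W = {u, v, w, z} →
      u * v * (w * z) = (W.toList.prod)⁻¹ := by
    intro t u v w z hnd' he
    have hr : IsRel D 8 (W.toList ++ [u, v, w, z]) := by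
      refine (hι.oct t).1.rel (List.nodup_append.2 ⟨W.nodup_toList, hnd', ?_⟩) ?_
      · rintro x hx y hy rfl
        have : x ∈ ι t \ W := by
          rw [he]; simpa using hy
        exact (Finset.mem_sdiff.1 this).2 (Finset.mem_toList.1 hx)
      · ext x
        simp only [List.toFinset_append, Finset.mem_union, Finset.toList_toFinset]
        constructor
        · rintro (h | h)
          · exact (hι.oct t).2 h
          · have : x ∈ ι t \ W := by rw [he]; simpa using h
            exact (Finset.mem_sdiff.1 this).1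
        · intro h
          by_cases hxW : x ∈ W
          · exact Or.inl h |>.imp (fun _ => hxW) id
          · right
            have : x ∈ ι t \ W := Finset.mem_sdiff.2 ⟨h, hxW⟩
            rw [he] at this; simpa using this
    have hpr := hr.2.2.2.2
    rw [List.prod_append] at hpr
    rw [← eq_inv_of_mul_eq_one_right hpr]
    simp [mul_assoc]
  set w0 := (W.toList.prod)⁻¹ with hw0
  have hpairs : ∀ t ∈ lineKeys i j, s t = t → ∀ u v : G, u ≠ v → u ∈ ι t \ W → v ∈ ι t \ W →
      u * v * (g * u * g⁻¹ * (g * v * g⁻¹)) = 1 ∨ u * v * (g * u * g⁻¹ * (g * v * g⁻¹)) = w0 := by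
    intro t htL hst u v huv hu hv
    have huD := (hι.oct t).1.cl.1 u (Finset.mem_sdiff.1 hu).1
    have hvD := (hι.oct t).1.cl.1 v (Finset.mem_sdiff.1 hv).1
    have hgu : g * u * g⁻¹ ∈ ι t \ W := hst ▸ hout t u hu
    have hgv : g * v * g⁻¹ ∈ ι t \ W := hst ▸ hout t v hv
    have cuv : Commute u v := (hι.oct t).1.cl.2 u (Finset.mem_sdiff.1 hu).1 v (Finset.mem_sdiff.1 hv).1
    by_cases h : g * u * g⁻¹ = v
    · left
      have h' : g * v * g⁻¹ = u := by rw [← h]; exact flip_flip hg u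
      rw [h, h', ← cuv.eq, mul_assoc u v, ← mul_assoc v u v, ← cuv.eq, mul_assoc u v v, sq hD hvD, mul_one,
        sq hD huD]
    · right
      have n1 : g * u * g⁻¹ ≠ g * v * g⁻¹ := fun e => huv (mul_left_cancel (mul_right_cancel e))
      have n2 : g * v * g⁻¹ ≠ u := fun e => h (by rw [← e]; exact flip_flip hg v)
      have n3 : u ≠ g * u * g⁻¹ := fun e => hno u huD e.symm
      have n4 : v ≠ g * v * g⁻¹ := fun e => hno v hvD e.symm
      have hnd4 : [u, v, g * u * g⁻¹, g * v * g⁻¹].Nodup := by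
        simp [huv, n3, Ne.symm n2, Ne.symm h, n4, n1]
      refine hTprod t u v _ _ hnd4 ((Finset.eq_of_subset_of_card_le ?_ ?_).symm)
      · intro x hx
        simp only [Finset.mem_insert, Finset.mem_singleton] at hx
        rcases hx with rfl | rfl | rfl | rfl <;> assumption
      · rw [Finset.card_sdiff_of_subset (hι.oct t).2, (hι.oct t).1.card, hc,
          show ({u, v, g * u * g⁻¹, g * v * g⁻¹} : Finset G) = [u, v, g * u * g⁻¹, g * v * g⁻¹].toFinset by simp,
          List.toFinset_card_of_nodup hnd4]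
        rfl
  have hrx := Finset.mem_inter.1 hr1
  have hrx2 := Finset.mem_inter.1 hr2
  have hsx := Finset.mem_inter.1 hs1
  have hsx2 := Finset.mem_inter.1 hs2
  have hkf : s k = k := ((hfixk k hk).resolve_left hki).resolve_left hkj
  have hlf : s l = l := ((hfixk l hl).resolve_left hli).resolve_left hlj
  have qR := hpairs k hk hkf r1 r2 hr12 hrx.2 hrx2.2
  have qS := hpairs l hl hlf s1 s2 hs12 hsx.2 hsx2.2
  set P0 := a * a' with hP0
  set Y0 := y1 * y2 with hY0
  set R0 := r1 * r2 with hR0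
  set S0 := s1 * s2 with hS0
  set y1' := g * y1 * g⁻¹ with hy1'
  set y2' := g * y2 * g⁻¹ with hy2'
  have hM8 : ∀ x ∈ X, g * x * g⁻¹ ∈ M := by
    intro x hx
    rcases hrest x hx with h | h | h | h
    · exact Finset.mem_union_left _ (hWg ▸ Finset.mem_image_of_mem _ h)
    · exact hsub j hjL (Finset.mem_sdiff.1 (hout i x h)).1
    · exact hsub k hk (Finset.mem_sdiff.1 (hkf ▸ hout k x h)).1
    · exact hsub l hl (Finset.mem_sdiff.1 (hlf ▸ hout l x h)).1
  have haX : a ∈ X := hQX (by simp)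
  have ha'X : a' ∈ X := hQX (by simp)
  have hyX : y1 ∈ X ∧ y2 ∈ X := ⟨hQX (by simp), hQX (by simp)⟩
  have cM : ∀ u ∈ X, ∀ v ∈ X, Commute u (g * v * g⁻¹) := fun u hu v hv => hMc u (hXM hu) _ (hM8 v hv)
  have cross : ∀ u v u' v' : G, u ∈ X → v ∈ X → u' ∈ X → v' ∈ X →
      Commute (u * v) (g * u' * g⁻¹ * (g * v' * g⁻¹)) := fun u v u' v' h1 h2 h3 h4 =>
    ((cM u h1 u' h3).mul_right (cM u h1 v' h4)).mul_left ((cM v h2 u' h3).mul_right (cM v h2 v' h4))
  have hmul := mul_pairs (P := P0) (Y := Y0) (R := R0) (S := S0) (P' := g * a * g⁻¹ * (g * a' * g⁻¹))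
    (Y' := y1' * y2') (R' := g * r1 * g⁻¹ * (g * r2 * g⁻¹)) (S' := g * s1 * g⁻¹ * (g * s2 * g⁻¹))
    (cross y1 y2 a a' hyX.1 hyX.2 haX ha'X) (cross r1 r2 a a' hrx.1 hrx2.1 haX ha'X)
    (cross s1 s2 a a' hsx.1 hsx2.1 haX ha'X) (cross r1 r2 y1 y2 hrx.1 hrx2.1 hyX.1 hyX.2)
    (cross s1 s2 y1 y2 hsx.1 hsx2.1 hyX.1 hyX.2) (cross s1 s2 r1 r2 hsx.1 hsx2.1 hrx.1 hrx2.1)
  have hL : P0 * Y0 * R0 * S0 = 1 := by rw [← hp]; simp only [hP0, hY0, hR0, hS0]; group
  have hR' : g * a * g⁻¹ * (g * a' * g⁻¹) * (y1' * y2') * (g * r1 * g⁻¹ * (g * r2 * g⁻¹)) *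
      (g * s1 * g⁻¹ * (g * s2 * g⁻¹)) = 1 := by
    have h1 : g * (P0 * Y0 * R0 * S0) * g⁻¹ = 1 := by rw [hL]; group
    rw [← h1]
    simp only [hy1', hy2', hP0, hY0, hR0, hS0]
    group
  rw [hL, hR', one_mul] at hmul
  have hPP : P0 * (g * a * g⁻¹ * (g * a' * g⁻¹)) = 1 := by
    rw [hP0, show g * a' * g⁻¹ = a from flip_flip hg a, ← ha'def,
      show a * a' * (a' * a) = a * (a' * a') * a by group, sq hD (hD' a' ha'), mul_one, sq hD (hD' a ha)]
  rw [hPP, one_mul] at hmul
  have hw02 : w0 * w0 = 1 := by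
    have hpw : ∀ l : List G, (∀ x ∈ l, x ∈ M) → l.prod * l.prod = 1 := by
      intro l hl
      induction l with
      | nil => simp
      | cons x l ih =>
        have hx := hl x List.mem_cons_self
        have hl' := fun y hy => hl y (List.mem_cons_of_mem _ hy)
        rw [List.prod_cons, (Commute.list_prod_left l x fun y hy => hMc y (hl' y hy) x hx).mul_mul_mul_comm x _,
          sq hD (hMD x hx), ih hl', one_mul]
    rw [hw0, ← mul_inv_rev, hpw _ fun x hx => Finset.mem_union_left _ (Finset.mem_toList.1 hx), inv_one]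
  -- so the images of y1, y2 are y1, y2 or the other two over i
  have hYY : Y0 * (y1' * y2') = 1 ∨ Y0 * (y1' * y2') = w0 := by
    rcases qR with e | e <;> rcases qS with e' | e' <;> rw [e, e'] at hmul
    · left; simpa using hmul.symm
    · right
      simp only [mul_one] at hmul
      rw [eq_inv_of_mul_eq_one_left hmul.symm, inv_eq_of_mul_eq_one_right hw02]
    · right
      simp only [mul_one] at hmul
      rw [eq_inv_of_mul_eq_one_left hmul.symm, inv_eq_of_mul_eq_one_right hw02]
    · left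
      rw [mul_assoc, hw02, mul_one] at hmul
      exact hmul.symm
  have hyD1 := (hι.oct i).1.cl.1 y1 (Finset.mem_sdiff.1 hy1).1
  have hyD2 := (hι.oct i).1.cl.1 y2 (Finset.mem_sdiff.1 hy2).1
  have cy : Commute y1 y2 := (hι.oct i).1.cl.2 y1 (Finset.mem_sdiff.1 hy1).1 y2 (Finset.mem_sdiff.1 hy2).1
  have cy' : Commute y1' y2' := (Commute.conj_iff g).2 cy
  have hj1 : y1' ∈ ι j \ W := hout i y1 hy1
  have hY02 : Y0 * Y0 = 1 := by
    rw [hY0, show y1 * y2 * (y1 * y2) = y1 * (y2 * y1) * y2 by group, ← cy.eq,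
      show y1 * (y1 * y2) * y2 = (y1 * y1) * (y2 * y2) by group, sq hD hyD1, sq hD hyD2, one_mul]
  rcases hYY with e | e
  · have e2 : y1 * y2 = y1' * y2' := by
      show Y0 = _
      exact (eq_inv_of_mul_eq_one_right hY02).trans (eq_inv_of_mul_eq_one_right e).symm
    rcases pair_unique hD hG.lay.tf hyD1 hyD2 (conj_mem hD g hyD1) (conj_mem hD g hyD2) hy12 cy cy' e2
      with ⟨h, -⟩ | ⟨h, -⟩
    · exact hTdis i j (Ne.symm hi) y1 hy1 (h ▸ hj1)
    · exact hTdis i j (Ne.symm hi) y2 hy2 (h ▸ hj1)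
  · obtain ⟨y3, y4, hy34, hY34⟩ := Finset.card_eq_two.1 (show ((ι i \ W) \ {y1, y2}).card = 2 by
      rw [Finset.card_sdiff_of_subset (by simp [Finset.insert_subset_iff, hy1, hy2]), hTi, Finset.card_pair hy12])
    have m3 : y3 ∈ (ι i \ W) \ {y1, y2} := by rw [hY34]; simp
    have m4 : y4 ∈ (ι i \ W) \ {y1, y2} := by rw [hY34]; simp
    rw [Finset.mem_sdiff, Finset.mem_insert, Finset.mem_singleton, not_or] at m3 m4
    have hnd4 : [y1, y2, y3, y4].Nodup := by
      simp [hy12, hy34, Ne.symm m3.2.1, Ne.symm m3.2.2, Ne.symm m4.2.1, Ne.symm m4.2.2]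
    have he4 : ι i \ W = {y1, y2, y3, y4} := by
      ext x
      have hx : x ∈ (ι i \ W) \ {y1, y2} ↔ x ∈ ({y3, y4} : Finset G) := by rw [hY34]
      simp only [Finset.mem_sdiff, Finset.mem_insert, Finset.mem_singleton, not_or] at hx ⊢
      constructor
      · intro h; tauto
      · rintro (rfl | rfl | h)
        · exact Finset.mem_sdiff.1 hy1
        · exact Finset.mem_sdiff.1 hy2
        · exact (hx.2 h).1
    have e3 := hTprod i y1 y2 y3 y4 hnd4 he4
    have e2 : y3 * y4 = y1' * y2' := mul_left_cancel (e3.trans e.symm)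
    have hyD3 := (hι.oct i).1.cl.1 y3 (Finset.mem_sdiff.1 m3.1).1
    have hyD4 := (hι.oct i).1.cl.1 y4 (Finset.mem_sdiff.1 m4.1).1
    have c34 : Commute y3 y4 := (hι.oct i).1.cl.2 y3 (Finset.mem_sdiff.1 m3.1).1 y4 (Finset.mem_sdiff.1 m4.1).1
    rcases pair_unique hD hG.lay.tf hyD3 hyD4 (conj_mem hD g hyD1) (conj_mem hD g hyD2) hy34 c34 cy' e2
      with ⟨h, -⟩ | ⟨h, -⟩
    · exact hTdis i j (Ne.symm hi) y3 m3.1 (h ▸ hj1)
    · exact hTdis i j (Ne.symm hi) y4 m4.1 (h ▸ hj1)

end Involution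

/-- An involution commutes with a transposition. -/
theorem involution_fixes24 {g : G} (hg : g * g = 1) : ∃ c ∈ D, Commute g c := by
  by_contra hh
  push Not at hh
  have hno : ∀ x ∈ D, g * x * g⁻¹ ≠ x := fun x hx e => hh x hx (mul_inv_eq_iff_eq_mul.1 e)
  have hD := hG.lay.tt
  set c : G → G := fun x => g * x * g⁻¹ with hcdef
  have hcc : ∀ x, c (c x) = x := flip_flip hg
  have ha := hG.mem
  set a' := c d with ha'def
  have ha'D : a' ∈ D := conj_mem hD g ha
  have naa : a' ≠ d := hno d ha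
  have caa : Commute d a' := flip_commute hG hg hno ha
  obtain ⟨b, hb⟩ : (perp D ↑({d, a'} : Finset G)).Nonempty := by
    refine Set.nonempty_of_ncard_ne_zero ?_
    rw [perp_two hG (S := {d, a'}) (mem_cliques.2 ⟨Finset.card_pair naa.symm, by simp [ha, ha'D], by
      simp [caa, caa.symm, Commute.refl]⟩)]
    norm_num
  obtain ⟨hbD, hbn, hbc⟩ := hb
  simp only [Finset.coe_insert, Finset.coe_singleton, Set.mem_insert_iff, Set.mem_singleton_iff, not_or] at hbn
  obtain ⟨hW, hWg⟩ := four_clique hG hg hno ha hbD hbn.1 hbn.2 (hbc d (by simp)) (hbc _ (by simp [ha'def, hcdef]))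
  obtain ⟨ι, hι⟩ := exists_octChart hG hW
  obtain ⟨h01, -⟩ := common01
  obtain ⟨hMD, hMc, hM24, hMx⟩ := sextet hG hW hι (i := (0 : Fin 45)) (j := (1 : Fin 45)) h01
  set W : Finset G := {d, g * d * g⁻¹, b, g * b * g⁻¹} with hWdef
  set M := W ∪ (lineKeys 0 1).biUnion ι with hM
  have hMg : ∀ x ∈ M, c x ∈ M := by
    intro x hx
    rcases Finset.mem_union.1 hx with h | h
    · exact Finset.mem_union_left _ (hWg ▸ Finset.mem_image_of_mem _ h)
    · obtain ⟨k, hk, hxk⟩ := Finset.mem_biUnion.1 h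
      refine Finset.mem_union_right _ (Finset.mem_biUnion.2 ⟨k, hk, ?_⟩)
      rw [← octs_fixed hG hg hno hW hWg (hι.oct k).1 (hι.oct k).2]
      exact Finset.mem_image_of_mem _ hxk
  have hdM : d ∈ M := Finset.mem_union_left _ (by simp [hWdef])
  have ha'M : a' ∈ M := hMg d hdM
  set M' := (M.erase d).erase a' with hM'
  have hM'c : M'.card = 22 := by
    rw [hM', Finset.card_erase_of_mem (Finset.mem_erase.2 ⟨naa, ha'M⟩), Finset.card_erase_of_mem hdM, hM24]
  have hM'm : ∀ x ∈ M', x ∈ M ∧ x ≠ d ∧ x ≠ a' := fun x hx =>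
    ⟨Finset.mem_of_mem_erase (Finset.mem_of_mem_erase hx), Finset.ne_of_mem_erase (Finset.mem_of_mem_erase hx),
      Finset.ne_of_mem_erase hx⟩
  have hcM' : ∀ x ∈ M', c x ∈ M' := fun x hx => by
    obtain ⟨h1, h2, h3⟩ := hM'm x hx
    exact Finset.mem_erase.2 ⟨fun e => h2 (by rw [← hcc x, e, ha'def, hcc]),
      Finset.mem_erase.2 ⟨fun e => h3 (by rw [← hcc x, e]), hMg x h1⟩⟩
  set S := (M' ×ˢ M').filter fun p => p.2 ≠ p.1 ∧ p.2 ≠ c p.1 with hS
  -- the fixed octad through d, a' and a pair of pairs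
  have hblock : ∀ x ∈ M', ∀ y ∈ M', y ≠ x → y ≠ c x → ∃ X, IsOct D X ∧
      ({d, a', x, c x, y} : Finset G) ⊆ X ∧ X ⊆ M ∧ c y ∈ X ∧ X.image c = X := by
    intro x hx y hy n1 n2
    obtain ⟨hxM, xd, xa⟩ := hM'm x hx
    obtain ⟨hyM, yd, ya⟩ := hM'm y hy
    obtain ⟨hcxM, cxd, cxa⟩ := hM'm _ (hcM' x hx)
    have ncx : c x ≠ x := hno x (hMD x hxM)
    have hPc : ({d, a', x, c x, y} : Finset G).card = 5 := by
      rw [Finset.card_insert_of_notMem (by simp [naa.symm, xd.symm, cxd.symm, yd.symm]),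
        Finset.card_insert_of_notMem (by simp [xa.symm, cxa.symm, ya.symm]),
        Finset.card_insert_of_notMem (by simp [ncx.symm, n1.symm]), Finset.card_pair n2.symm]
    have hPM : ({d, a', x, c x, y} : Finset G) ⊆ M := by
      intro u hu
      simp only [Finset.mem_insert, Finset.mem_singleton] at hu
      rcases hu with rfl | rfl | rfl | rfl | rfl <;> assumption
    obtain ⟨X, hX, hPX⟩ := exists_oct hG hPc (fun u hu => hMD u (hPM hu))
      (fun u hu v hv => hMc u (hPM hu) v (hPM hv))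
    have hV := four_clique hG hg hno ha (hMD x hxM) xd xa (hMc d hdM x hxM) (hMc a' ha'M x hxM)
    have hfix : X.image c = X := octs_fixed hG hg hno hV.1 hV.2 hX (fun u hu => hPX (by
      simp only [hcdef, ha'def, Finset.mem_insert, Finset.mem_singleton] at hu ⊢; tauto))
    refine ⟨X, hX, hPX, oct_subset hG hMD hMc hMx hX hPc hPX hPM, ?_, hfix⟩
    rw [← hfix]; exact Finset.mem_image_of_mem _ (hPX (by simp))
  choose! B hB using fun p (hp : p ∈ S) => hblock p.1 (Finset.mem_product.1 (Finset.mem_filter.1 hp).1).1 p.2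
    (Finset.mem_product.1 (Finset.mem_filter.1 hp).1).2 (Finset.mem_filter.1 hp).2.1 (Finset.mem_filter.1 hp).2.2
  have hfib : ∀ X ∈ S.image B, (S.filter fun p => B p = X).card = 24 := by
    intro X hX
    obtain ⟨p, hp, rfl⟩ := Finset.mem_image.1 hX
    obtain ⟨hX', hPX, hXM, -, hfix⟩ := hB p hp
    set X := B p
    set X' := (X.erase d).erase a' with hX'def
    have hdX : d ∈ X := hPX (by simp)
    have ha'X : a' ∈ X := hPX (by simp)
    have hX6 : X'.card = 6 := by
      rw [hX'def, Finset.card_erase_of_mem (Finset.mem_erase.2 ⟨naa, ha'X⟩), Finset.card_erase_of_mem hdX, hX'.card]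
    have hcX : ∀ x ∈ X', c x ∈ X' := fun x hx => by
      have h1 := Finset.mem_of_mem_erase (Finset.mem_of_mem_erase hx)
      exact Finset.mem_erase.2 ⟨fun e => Finset.ne_of_mem_erase (Finset.mem_of_mem_erase hx)
          (by rw [← hcc x, e, ha'def, hcc]),
        Finset.mem_erase.2 ⟨fun e => Finset.ne_of_mem_erase hx (by rw [← hcc x, e]),
          hfix ▸ Finset.mem_image_of_mem _ h1⟩⟩
    have hXM' : X' ⊆ M' := Finset.erase_subset_erase _ (Finset.erase_subset_erase _ hXM)
    have e : (S.filter fun r => B r = X) = (X' ×ˢ X').filter fun r => r.2 ≠ r.1 ∧ r.2 ≠ c r.1 := by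
      ext ⟨x, y⟩
      simp only [Finset.mem_filter, Finset.mem_product, hS]
      constructor
      · rintro ⟨⟨⟨hx, hy⟩, hne⟩, hBX⟩
        obtain ⟨-, h5, -, -, -⟩ := hB (x, y) (Finset.mem_filter.2 ⟨Finset.mem_product.2 ⟨hx, hy⟩, hne⟩)
        rw [hBX] at h5
        obtain ⟨-, x1, x2⟩ := hM'm x hx
        obtain ⟨-, y1, y2⟩ := hM'm y hy
        exact ⟨⟨Finset.mem_erase.2 ⟨x2, Finset.mem_erase.2 ⟨x1, h5 (by simp)⟩⟩,
          Finset.mem_erase.2 ⟨y2, Finset.mem_erase.2 ⟨y1, h5 (by simp)⟩⟩⟩, hne⟩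
      · rintro ⟨⟨hx, hy⟩, hne⟩
        refine ⟨⟨⟨hXM' hx, hXM' hy⟩, hne⟩, ?_⟩
        obtain ⟨h1, h5, -, -, -⟩ := hB (x, y)
          (Finset.mem_filter.2 ⟨Finset.mem_product.2 ⟨hXM' hx, hXM' hy⟩, hne⟩)
        obtain ⟨hxM, xd, xa⟩ := hM'm x (hXM' hx)
        obtain ⟨hyM, yd, ya⟩ := hM'm y (hXM' hy)
        obtain ⟨hcxM, cxd, cxa⟩ := hM'm _ (hcM' x (hXM' hx))
        refine oct_unique hG h1 hX' (P := {d, a', x, c x, y}) ?_ h5 ?_
        · rw [Finset.card_insert_of_notMem (by simp [naa.symm, xd.symm, cxd.symm, yd.symm]),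
            Finset.card_insert_of_notMem (by simp [xa.symm, cxa.symm, ya.symm]),
            Finset.card_insert_of_notMem (by simp [(hno x (hMD x hxM)).symm, hne.1.symm, hcdef]),
            Finset.card_pair hne.2.symm]
        · intro u hu
          simp only [Finset.mem_insert, Finset.mem_singleton] at hu
          rcases hu with rfl | rfl | rfl | rfl | rfl
          exacts [hdX, ha'X, Finset.mem_of_mem_erase (Finset.mem_of_mem_erase hx),
            Finset.mem_of_mem_erase (Finset.mem_of_mem_erase (hcX x hx)),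
            Finset.mem_of_mem_erase (Finset.mem_of_mem_erase hy)]
    rw [e, Finset.card_filter, Finset.sum_product, Finset.sum_congr rfl (g := fun _ => 4) (fun x hx => ?_),
      Finset.sum_const, hX6, smul_eq_mul]
    rw [← Finset.card_filter]
    have : (X'.filter fun y => y ≠ x ∧ y ≠ c x) = (X'.erase x).erase (c x) := by
      ext y; simp only [Finset.mem_filter, Finset.mem_erase]; tauto
    rw [this, Finset.card_erase_of_mem (Finset.mem_erase.2
        ⟨hno x (hMD x (hM'm x (hXM' hx)).1), hcX x hx⟩), Finset.card_erase_of_mem hx, hX6]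
  have hS440 : S.card = 440 := by
    rw [hS, Finset.card_filter, Finset.sum_product, Finset.sum_congr rfl (g := fun _ => 20) (fun x hx => ?_),
      Finset.sum_const, hM'c, smul_eq_mul]
    rw [← Finset.card_filter]
    have : (M'.filter fun y => y ≠ x ∧ y ≠ c x) = (M'.erase x).erase (c x) := by
      ext y; simp only [Finset.mem_filter, Finset.mem_erase]; tauto
    rw [this, Finset.card_erase_of_mem (Finset.mem_erase.2
        ⟨hno x (hMD x (hM'm x hx).1), hcM' x hx⟩), Finset.card_erase_of_mem hx, hM'c]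
  have h24 : (24 : ℕ) ∣ S.card := by
    rw [Finset.card_eq_sum_card_image B]
    exact Finset.dvd_sum fun X hX => by rw [hfib X hX]
  rw [hS440] at h24
  norm_num at h24

end Cfsg.Agent.TT95
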