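import Cfsg.Agent.TT95.Lay

/-!
The neighbours of a transposition as a copy of the transpositions of the local group.
-/

set_option autoImplicit false
set_option linter.unusedSectionVars false

namespace Cfsg.Agent.TT95

variable {G : Type*} [Group G] {K : Type*} [Group K]

/-- `f` identifies the neighbours of `a` with `E`, and inner maps of the latter lift. -/
structure Iso (D : Set G) (a : G) (E : Set K) (f : G → K) : Prop where
  bij : Set.BijOn f (nb D a) E
  comm : ∀ x ∈ nb D a, ∀ y ∈ nb D a, (Commute (f x) (f y) ↔ Commute x y)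
  conj : ∀ x ∈ nb D a, ∀ y ∈ nb D a, f (x * y * x) = f x * f y * f x
  lift : ∀ q : K, ∃ h : G, h ∈ Subgroup.closure (nb D a) ∧ ∀ x ∈ nb D a, f (h * x * h⁻¹) = q * f x * q⁻¹

variable {D : Set G} {E : Set K} {a : G} {f : G → K}

theorem Iso.mem (h : Iso D a E f) {x : G} (hx : x ∈ nb D a) : f x ∈ E := h.bij.mapsTo hx

theorem Iso.inj (h : Iso D a E f) {x y : G} (hx : x ∈ nb D a) (hy : y ∈ nb D a) (e : f x = f y) : x = y :=
  h.bij.injOn hx hy e

theorem Iso.surj (h : Iso D a E f) {q : K} (hq : q ∈ E) : ∃ x ∈ nb D a, f x = q := h.bij.surjOn hq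

theorem Iso.ncard (h : Iso D a E f) : (nb D a).ncard = E.ncard := by
  rw [← h.bij.image_eq, h.bij.injOn.ncard_image]

theorem Iso.mem_nb_iff (h : Iso D a E f) {x y : G} (hx : x ∈ nb D a) (hy : y ∈ nb D a) :
    f y ∈ nb E (f x) ↔ y ∈ nb D x :=
  ⟨fun e => ⟨hy.1, fun e' => e.2.1 (by rw [e']), (h.comm x hx y hy).1 e.2.2⟩,
    fun e => ⟨h.mem hy, fun e' => e.2.1 (h.inj hy hx e'), (h.comm x hx y hy).2 e.2.2⟩⟩

theorem Iso.mem_far_iff (h : Iso D a E f) {x y : G} (hx : x ∈ nb D a) (hy : y ∈ nb D a) :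
    f y ∈ far E (f x) ↔ y ∈ far D x :=
  ⟨fun e => ⟨hy.1, fun e' => e.2 ((h.comm x hx y hy).2 e')⟩,
    fun e => ⟨h.mem hy, fun e' => e.2 ((h.comm x hx y hy).1 e')⟩⟩

theorem Iso.image_nb (h : Iso D a E f) {x : G} (hx : x ∈ nb D a) :
    f '' (common D a x) = nb E (f x) := by
  ext q
  constructor
  · rintro ⟨y, ⟨hy, hyx⟩, rfl⟩
    exact (h.mem_nb_iff hx hy).2 hyx
  · intro hq
    obtain ⟨y, hy, rfl⟩ := h.surj hq.1
    exact ⟨y, ⟨hy, (h.mem_nb_iff hx hy).1 hq⟩, rfl⟩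

theorem Iso.image_far (h : Iso D a E f) {x : G} (hx : x ∈ nb D a) :
    f '' (nb D a ∩ far D x) = far E (f x) := by
  ext q
  constructor
  · rintro ⟨y, ⟨hy, hyx⟩, rfl⟩
    exact (h.mem_far_iff hx hy).2 hyx
  · intro hq
    obtain ⟨y, hy, rfl⟩ := h.surj hq.1
    exact ⟨y, ⟨hy, (h.mem_far_iff hx hy).1 hq⟩, rfl⟩

theorem Iso.image_common (h : Iso D a E f) {x y : G} (hx : x ∈ nb D a) (hy : y ∈ nb D a) :
    f '' (nb D a ∩ common D x y) = common E (f x) (f y) := by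
  ext q
  constructor
  · rintro ⟨z, ⟨hz, hzx, hzy⟩, rfl⟩
    exact ⟨(h.mem_nb_iff hx hz).2 hzx, (h.mem_nb_iff hy hz).2 hzy⟩
  · intro hq
    obtain ⟨z, hz, rfl⟩ := h.surj hq.1.1
    exact ⟨z, ⟨hz, (h.mem_nb_iff hx hz).1 hq.1, (h.mem_nb_iff hy hz).1 hq.2⟩, rfl⟩

theorem Iso.ncard_image (h : Iso D a E f) {S : Set G} (hS : S ⊆ nb D a) : (f '' S).ncard = S.ncard :=
  (h.bij.injOn.mono hS).ncard_image

/-- Paths in the image come back. -/
theorem Iso.conn_pull (h : Iso D a E f) {S : Set G} (hS : S ⊆ nb D a) (hc : Conn (f '' S)) : Conn S := by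
  have key : ∀ p q, Path (f '' S) p q → ∀ x ∈ S, f x = p → ∃ y ∈ S, f y = q ∧ Path S x y := by
    intro p q hp
    induction hp with
    | refl => exact fun x hx e => ⟨x, hx, e, .refl⟩
    | @tail u v _ e ih =>
      intro x hx ex
      obtain ⟨y, hy, ey, hxy⟩ := ih x hx ex
      obtain ⟨-, ⟨z, hz, ez⟩, hc'⟩ := e
      exact ⟨z, hz, ez, hxy.trans' (Path.single' hy hz ((h.comm y (hS hy) z (hS hz)).1 (by rw [ey, ez]; exact hc')))⟩
  intro x hx y hy
  obtain ⟨y', hy', e, hp⟩ := key _ _ (hc _ ⟨x, hx, rfl⟩ _ ⟨y, hy, rfl⟩) x hx rfl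
  rwa [h.inj (hS hy') (hS hy) e] at hp

variable (hD : TTSet D)

include hD

theorem Iso.lift_to (h : Iso D a E f) (q : K) :
    ∃ g : G, g * a * g⁻¹ = a ∧ ∀ x ∈ nb D a, ∀ y ∈ nb D a, q * f x * q⁻¹ = f y → g * x * g⁻¹ = y := by
  obtain ⟨g, hg, hgx⟩ := h.lift q
  exact ⟨g, conj_fix_of_mem hD hg, fun x hx y hy e =>
    h.inj (conj_mem_nb hD hg hx) hy ((hgx x hx).trans e)⟩

theorem Iso.transport (h : Iso D a E f) (g : G) :
    Iso D (g * a * g⁻¹) E (fun x => f (g⁻¹ * x * g)) where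
  bij := by
    have hin : ∀ x ∈ nb D (g * a * g⁻¹), g⁻¹ * x * g ∈ nb D a := fun x hx => by
      rw [← nb_conj hD g]
      simpa [mul_assoc] using hx
    refine ⟨fun x hx => h.mem (hin x hx), fun x hx y hy e => ?_, fun q hq => ?_⟩
    · simpa using h.inj (hin x hx) (hin y hy) e
    · obtain ⟨x, hx, rfl⟩ := h.surj hq
      exact ⟨g * x * g⁻¹, (nb_conj hD g a x).2 hx, congrArg f (by group)⟩
  comm x hx y hy := by
    have hin : ∀ x ∈ nb D (g * a * g⁻¹), g⁻¹ * x * g ∈ nb D a := fun x hx => by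
      rw [← nb_conj hD g]
      simpa [mul_assoc] using hx
    rw [h.comm _ (hin x hx) _ (hin y hy), ← Commute.conj_iff g]
    simp [mul_assoc]
  conj x hx y hy := by
    have hin : ∀ x ∈ nb D (g * a * g⁻¹), g⁻¹ * x * g ∈ nb D a := fun x hx => by
      rw [← nb_conj hD g]
      simpa [mul_assoc] using hx
    rw [← h.conj _ (hin x hx) _ (hin y hy)]
    congr 1
    group
  lift q := by
    obtain ⟨k, hk, hkx⟩ := h.lift q
    refine ⟨g * k * g⁻¹, ?_, fun x hx => ?_⟩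
    · have : Subgroup.closure (nb D a) ≤ (Subgroup.closure (nb D (g * a * g⁻¹))).comap (MulAut.conj g).toMonoidHom := by
        rw [Subgroup.closure_le]
        exact fun x hx => Subgroup.subset_closure ((nb_conj hD g a x).2 hx)
      exact this hk
    · have hx' : g⁻¹ * x * g ∈ nb D a := by
        rw [← nb_conj hD g]
        simpa [mul_assoc] using hx
      rw [← hkx _ hx']
      exact congrArg f (by group)

theorem iso_everywhere (hone : OneClass D) {d : G} (hd : d ∈ D) (h : Iso D d E f) :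
    ∀ a ∈ D, ∃ f', Iso D a E f' := fun a ha => by
  obtain ⟨g, hg⟩ := hone d hd a ha
  exact ⟨_, hg ▸ h.transport hD g⟩

/-- The local group at a member of a class without twins. -/
theorem exists_iso_loc [Finite G] (hone : OneClass D) (htf : TwinFree D) {d : G} (hd : d ∈ D) :
    ∃ f, Iso D d (locSet D d) f := by
  classical
  refine ⟨fun x => if h : x ∈ nb D d then mkNb h else 1, ⟨?_, ?_, ?_⟩, ?_, ?_, ?_⟩
  · intro x hx
    simp only [dif_pos hx]
    exact mkNb_mem hD hx (mkNb_ne_one hD hone htf hd hx)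
  · intro x hx y hy e
    simp only [dif_pos hx, dif_pos hy] at e
    exact eq_of_mkNb_eq hD hx hy (mkNb_ne_one hD hone htf hd hx) e
  · intro q hq
    obtain ⟨x, hx, e, -⟩ := exists_of_mem_locSet hD hq
    exact ⟨x, hx, by simp only [dif_pos hx]; exact e⟩
  · intro x hx y hy
    simp only [dif_pos hx, dif_pos hy]
    exact ⟨commute_of_mkNb hD hx hy, mkNb_commute hD hx hy⟩
  · intro x hx y hy
    simp only [dif_pos hx, dif_pos hy, dif_pos ((nb_closed hD d).2 x hx y hy)]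
    rfl
  · intro q
    obtain ⟨⟨h, hh⟩, rfl⟩ := QuotientGroup.mk_surjective q
    refine ⟨h, hh, fun x hx => ?_⟩
    simp only [dif_pos hx, dif_pos (conj_mem_nb hD hh hx)]
    rfl

end Cfsg.Agent.TT95
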