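import Cfsg.Agent.TT95.NormWit
import Cfsg.Agent.TT95.LayBase

/-!
Type M(22): subgroups of order 11, 7, 5 in the centraliser of a transposition, with their fixed
transpositions.
-/

set_option autoImplicit false
set_option linter.unusedSectionVars false

namespace Cfsg.Agent.TT95

open Cfsg.Agent.TT95.U6

variable {G : Type*} [Group G] [Finite G] {D : Set G} (hC : Cfg22 D) [Gen D] (hcore : Core22 G D) {a : G}
  (ha : a ∈ D)

/-- The members of `D` centralising a subgroup. -/
def fixD (D : Set G) (X : Subgroup G) : Set G := D ∩ (Subgroup.centralizer (X : Set G) : Set G)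

include hC hcore ha

theorem exists_adapted {X : Subgroup G} {r : ℕ} (hr : r.Prime) (hodd : Odd r) (h2 : ¬ r ^ 2 ∣ 18393661440)
    {w : List ℕ} {steps : List (List ℕ)} {reps : List ℕ} (hd : dataOK r w steps reps = true)
    (hXH : X ≤ Subgroup.centralizer ({a} : Set G)) (hX : Nat.card X = r) :
    ∃ γ y, IsWit D a γ r w y ∧ Subgroup.zpowers y = X := by
  obtain ⟨γ, hγ⟩ := hC.loc a ha
  have hy := isWit_yEl hC ha hγ hr hodd hd
  set y := yEl γ w r with hy0
  have hyH : Subgroup.zpowers y ≤ Subgroup.centralizer ({a} : Set G) := by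
    rw [Subgroup.zpowers_le, centralizer_eq hC ha]
    exact hy.mem
  obtain ⟨h, hh, e⟩ := (sylow_count _ _ hyH hr (by rw [Nat.card_zpowers, hy.order])
    (by rw [card_centralizer hC ha hcore]; exact h2)).1 X hXH hX
  have hfix : h * a * h⁻¹ = a := mul_inv_eq_iff_eq_mul.2 (Subgroup.mem_centralizer_singleton_iff.1 hh)
  have hγ' : IsLocal D a (fun p => h * γ p * h⁻¹) := hfix ▸ hγ.conjugate hC.tt h
  refine ⟨_, _, isWit_yEl hC ha hγ' hr hodd hd, ?_⟩
  rw [yEl_conj_fun, ← hy0, ← e, MonoidHom.map_zpowers]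
  rfl

theorem conj_in_centralizer {X Y : Subgroup G} {r : ℕ} (hr : r.Prime) (h2 : ¬ r ^ 2 ∣ 18393661440)
    (hXH : X ≤ Subgroup.centralizer ({a} : Set G)) (hX : Nat.card X = r)
    (hYH : Y ≤ Subgroup.centralizer ({a} : Set G)) (hY : Nat.card Y = r) :
    ∃ g : G, X.map (MulAut.conj g).toMonoidHom = Y := by
  obtain ⟨h, -, e⟩ := (sylow_count _ _ hXH hr hX (by rw [card_centralizer hC ha hcore]; exact h2)).1 Y hYH hY
  exact ⟨h, e⟩

omit hC hcore ha in
theorem le_centralizer_of_fix {X : Subgroup G} {v : G} (hv : v ∈ Subgroup.centralizer (X : Set G)) :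
    X ≤ Subgroup.centralizer ({v} : Set G) := fun _ hx =>
  Subgroup.mem_centralizer_singleton_iff.2 (Subgroup.mem_centralizer_iff.1 hv _ hx)

omit hC hcore ha in
theorem self_mem_fixD {X : Subgroup G} {a : G} (ha : a ∈ D) (hXH : X ≤ Subgroup.centralizer ({a} : Set G)) :
    a ∈ fixD D X :=
  ⟨ha, Subgroup.mem_centralizer_iff.2 fun _ hx => Subgroup.mem_centralizer_singleton_iff.1 (hXH hx)⟩

omit hcore ha in
theorem conj_fixD {X : Subgroup G} {g : G} (hg : g ∈ Subgroup.normalizer (X : Set G)) {v : G}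
    (hv : v ∈ fixD D X) : g * v * g⁻¹ ∈ fixD D X := by
  refine ⟨conj_mem hC.tt g hv.1, Subgroup.mem_centralizer_iff.2 fun x hx => ?_⟩
  have h1 : g⁻¹ * x * g ∈ X := by
    have := (Subgroup.mem_normalizer_iff.1 (inv_mem hg) x).1 hx
    rwa [inv_inv] at this
  have h2 := Subgroup.mem_centralizer_iff.1 hv.2 _ h1
  calc x * (g * v * g⁻¹) = g * ((g⁻¹ * x * g) * v) * g⁻¹ := by group
    _ = g * (v * (g⁻¹ * x * g)) * g⁻¹ := by rw [h2]
    _ = g * v * g⁻¹ * x := by group

theorem card_cent_far {e : G} (he : e ∈ far D a) :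
    Nat.card (Subgroup.centralizer ({a} : Set G) ⊓ Subgroup.centralizer {e} : Subgroup G) = 6531840 := by
  set H := Subgroup.centralizer ({a} : Set G) with hH
  have hfix : ∀ {g : G}, g ∈ H → g * a * g⁻¹ = a := fun h =>
    mul_inv_eq_iff_eq_mul.2 (Subgroup.mem_centralizer_singleton_iff.1 h)
  have hr : Set.range (fun g : H => (g : G) * e * (g : G)⁻¹) = far D a := by
    ext x
    constructor
    · rintro ⟨⟨g, hg⟩, rfl⟩
      refine ⟨conj_mem hC.tt g he.1, fun h => he.2 ?_⟩
      rw [← hfix hg] at h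
      exact (Commute.conj_iff g).1 h
    · intro hx
      obtain ⟨g, g1, g2⟩ := transFar22 hC a e a x ha he ha hx
      exact ⟨⟨g, Subgroup.mem_centralizer_singleton_iff.2 (mul_inv_eq_iff_eq_mul.1 g1)⟩, g2⟩
  have := card_eq_mul_of_fibres (fun g : H => (g : G) * e * (g : G)⁻¹) ((Subgroup.centralizer {e}).subgroupOf H)
    fun g g' => by rw [Subgroup.mem_subgroupOf]; exact conj_eq_conj_iff
  rw [hr, card_centralizer hC ha hcore, ← Subgroup.inf_subgroupOf_left,
    Nat.card_congr (Subgroup.subgroupOfEquivOfLe inf_le_left).toEquiv] at this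
  have hsplit := Lay.card_split (lay22 hC ha) ha (Set.toFinite D)
  rw [show (far D a).ncard = 2816 by omega] at this
  omega

/-- The normaliser inside the centraliser is transitive on fixed members not commuting with `a`. -/
theorem far_trans {X : Subgroup G} {r : ℕ} (hr : r.Prime) (h2 : ¬ r ^ 2 ∣ 6531840)
    (hXH : X ≤ Subgroup.centralizer ({a} : Set G)) (hX : Nat.card X = r) {e e' : G}
    (he : e ∈ far D a ∩ fixD D X) (he' : e' ∈ far D a ∩ fixD D X) :
    ∃ n ∈ Subgroup.centralizer ({a} : Set G) ⊓ Subgroup.normalizer (X : Set G), n * e * n⁻¹ = e' := by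
  obtain ⟨h, h1, h2'⟩ := transFar22 hC a e a e' ha he.1 ha he'.1
  have hhH : h ∈ Subgroup.centralizer ({a} : Set G) :=
    Subgroup.mem_centralizer_singleton_iff.2 (mul_inv_eq_iff_eq_mul.1 h1)
  set K := Subgroup.centralizer ({a} : Set G) ⊓ Subgroup.centralizer {e'} with hK
  have hXK : X ≤ K := le_inf hXH (le_centralizer_of_fix he'.2.2)
  have hX'K : X.map (MulAut.conj h).toMonoidHom ≤ K := by
    intro x hx
    obtain ⟨x, hx, rfl⟩ := hx
    show h * x * h⁻¹ ∈ K
    refine Subgroup.mem_inf.2 ⟨mul_mem (mul_mem hhH (hXH hx)) (inv_mem hhH), Subgroup.mem_centralizer_singleton_iff.2 ?_⟩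
    rw [← h2']
    exact ((Commute.conj_iff h).2 (Subgroup.mem_centralizer_iff.1 he.2.2 x hx)).eq
  obtain ⟨k, hk, e1⟩ := (sylow_count K _ hX'K hr
    (by rw [Nat.card_congr (Subgroup.equivMapOfInjective X _ (MulAut.conj h).injective).symm.toEquiv, hX])
    (by rw [card_cent_far hC hcore ha he'.1]; exact h2)).1 X hXK hX
  refine ⟨k * h, Subgroup.mem_inf.2 ⟨mul_mem (Subgroup.mem_inf.1 hk).1 hhH, ?_⟩, ?_⟩
  · rw [Subgroup.mem_normalizer_iff]
    intro x
    have : X.map (MulAut.conj (k * h)).toMonoidHom = X := by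
      conv_rhs => rw [← e1]
      rw [Subgroup.map_map]
      congr 1
      ext z
      show k * h * z * (k * h)⁻¹ = k * (h * z * h⁻¹) * k⁻¹
      group
    conv_rhs => rw [← this, mem_map_conj_iff]
    group
  · rw [show k * h * e * (k * h)⁻¹ = k * (h * e * h⁻¹) * k⁻¹ by group, h2']
    exact mul_inv_eq_iff_eq_mul.2 (Subgroup.mem_centralizer_singleton_iff.1 hk.2)

theorem far_orbit_dvd {X : Subgroup G} {r : ℕ} (hr : r.Prime) (h2 : ¬ r ^ 2 ∣ 6531840)
    (hXH : X ≤ Subgroup.centralizer ({a} : Set G)) (hX : Nat.card X = r) (hne : (far D a ∩ fixD D X).Nonempty) :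
    (far D a ∩ fixD D X).ncard ∣
      Nat.card (Subgroup.centralizer ({a} : Set G) ⊓ Subgroup.normalizer (X : Set G) : Subgroup G) := by
  set N := Subgroup.centralizer ({a} : Set G) ⊓ Subgroup.normalizer (X : Set G) with hN
  obtain ⟨e, he⟩ := hne
  have hr' : Set.range (fun g : N => (g : G) * e * (g : G)⁻¹) = far D a ∩ fixD D X := by
    ext x
    constructor
    · rintro ⟨⟨g, hg⟩, rfl⟩
      refine ⟨⟨conj_mem hC.tt g he.1.1, fun h => he.1.2 ?_⟩, conj_fixD hC hg.2 he.2⟩
      rw [show a = g * a * g⁻¹ from (mul_inv_eq_iff_eq_mul.2 (Subgroup.mem_centralizer_singleton_iff.1 hg.1)).symm] at h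
      exact (Commute.conj_iff g).1 h
    · intro hx
      obtain ⟨n, hn, e1⟩ := far_trans hC hcore ha hr h2 hXH hX he hx
      exact ⟨⟨n, hn⟩, e1⟩
  have := card_eq_mul_of_fibres (fun g : N => (g : G) * e * (g : G)⁻¹) ((Subgroup.centralizer {e}).subgroupOf N)
    fun g g' => by rw [Subgroup.mem_subgroupOf]; exact conj_eq_conj_iff
  rw [hr'] at this
  exact Dvd.intro _ this.symm

omit hcore in
/-- A fixed neighbour yields a four-group in the centraliser. -/
theorem four_dvd_of_fix {X : Subgroup G} (hXH : X ≤ Subgroup.centralizer ({a} : Set G)) {b : G}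
    (hb : b ∈ nb D a) (hbX : b ∈ Subgroup.centralizer (X : Set G)) :
    4 ∣ Nat.card (Subgroup.centralizer ({a} : Set G) ⊓ Subgroup.centralizer (X : Set G) : Subgroup G) := by
  set C := Subgroup.centralizer ({a} : Set G) ⊓ Subgroup.centralizer (X : Set G) with hCd
  have haC : Subgroup.zpowers a ≤ C := Subgroup.zpowers_le.2
    ⟨Subgroup.mem_centralizer_singleton_iff.2 rfl, (self_mem_fixD ha hXH).2⟩
  have hbC : Subgroup.zpowers b ≤ C := Subgroup.zpowers_le.2
    ⟨Subgroup.mem_centralizer_singleton_iff.2 hb.2.2.symm.eq, hbX⟩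
  have hdis : Disjoint (Subgroup.zpowers a) (Subgroup.zpowers b) := by
    have two : ∀ {c : G}, c ∈ D → ∀ x ∈ Subgroup.zpowers c, x = 1 ∨ x = c := by
      intro c hc x hx
      obtain ⟨i, rfl⟩ := Subgroup.mem_zpowers_iff.1 hx
      rw [← zpow_mod_orderOf, hC.tt.1.1 c hc]
      rcases Int.emod_two_eq_zero_or_one i with hi | hi
      · exact Or.inl (by simp [hi])
      · exact Or.inr (by simp [hi])
    rw [Subgroup.disjoint_def]
    intro x hxa hxb
    refine (two ha x hxa).resolve_right fun e => ?_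
    rcases two hb.1 x hxb with e' | e'
    · exact ne_one hC.tt ha (e.symm.trans e')
    · exact hb.2.1 (e'.symm.trans e)
  have hcomm : ∀ (u : Subgroup.zpowers a) (v : Subgroup.zpowers b), Commute (u : G) v := by
    rintro ⟨u, hu⟩ ⟨v, hv⟩
    obtain ⟨i, rfl⟩ := Subgroup.mem_zpowers_iff.1 hu
    obtain ⟨j, rfl⟩ := Subgroup.mem_zpowers_iff.1 hv
    exact hb.2.2.zpow_zpow i j
  set f := (Subgroup.zpowers a).subtype.noncommCoprod (Subgroup.zpowers b).subtype hcomm with hf
  have hinj : Function.Injective f := by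
    rw [injective_iff_map_eq_one]
    rintro ⟨u, v⟩ h
    have h' : (u : G) * v = 1 := h
    have hu : (u : G) = 1 := Subgroup.disjoint_def.1 hdis u.2 (by
      rw [eq_inv_of_mul_eq_one_left h']; exact inv_mem v.2)
    rw [hu, one_mul] at h'
    exact Prod.ext (Subtype.ext hu) (Subtype.ext h')
  have hle : f.range ≤ C := by
    rintro _ ⟨⟨u, v⟩, rfl⟩
    exact mul_mem (haC u.2) (hbC v.2)
  have := Subgroup.card_dvd_of_le hle
  rwa [← Nat.card_congr (MonoidHom.ofInjective hinj).toEquiv, Nat.card_prod, Nat.card_zpowers, Nat.card_zpowers,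
    hC.tt.1.1 a ha, hC.tt.1.1 b hb.1] at this

theorem two_r_dvd {X : Subgroup G} {r : ℕ} (hodd : Odd r) (hX : Nat.card X = r)
    (hXH : X ≤ Subgroup.centralizer ({a} : Set G)) (hab : ∀ x ∈ X, ∀ y ∈ X, x * y = y * x) :
    2 * r ∣ Nat.card (Subgroup.centralizer ({a} : Set G) ⊓ Subgroup.centralizer (X : Set G) : Subgroup G) := by
  refine Nat.Coprime.mul_dvd_of_dvd_of_dvd (Nat.coprime_two_left.2 hodd) ?_ ?_
  · rw [← hC.tt.1.1 a ha]
    exact Subgroup.orderOf_dvd_natCard _
      ⟨Subgroup.mem_centralizer_singleton_iff.2 rfl, (self_mem_fixD ha hXH).2⟩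
  · rw [← hX]
    exact Subgroup.card_dvd_of_le (le_inf hXH fun x hx => Subgroup.mem_centralizer_iff.2 fun y hy => hab y hy x hx)

omit hC hcore ha in
theorem comm_of_zpowers {X : Subgroup G} {y : G} (h : Subgroup.zpowers y = X) : ∀ x ∈ X, ∀ z ∈ X, x * z = z * x := by
  subst h
  intro x hx z hz
  obtain ⟨i, rfl⟩ := Subgroup.mem_zpowers_iff.1 hx
  obtain ⟨j, rfl⟩ := Subgroup.mem_zpowers_iff.1 hz
  exact (Commute.zpow_zpow (Commute.refl y) i j).eq

end Cfsg.Agent.TT95
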