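import Cfsg.Agent.TT95.NormSearch
import Cfsg.Agent.TT95.NormOrder3Data

/-!
Kernel checks of the certificate for the elements of order three of the point model.
-/

set_option autoImplicit false

namespace Cfsg.Agent.TT95.U6

instance : Inhabited Ent := ⟨⟨[], 0, [], 0, [], 0, []⟩⟩

def ent (i : ℕ) : Ent := (syl3Parts.getD (Nat.div i 27) []).getD (Nat.mod i 27) ⟨[], 0, [], 0, [], 0, []⟩

/-- The word of a list of generators. -/
noncomputable def flatW (path : List ℕ) : List ℕ :=
  List.rec [] (fun k _ ih => syl3Gens.getD k [] ++ ih) path

noncomputable def enc (l : List ℕ) : ℕ :=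
  List.rec (fun acc => acc) (fun x _ ih acc => ih (Nat.add (Nat.mul acc 4096) x)) l 0

noncomputable def incOK (l : List ℕ) : ℕ → Bool :=
  List.rec (fun _ => true) (fun i _ ih b => Nat.blt i 729 && Nat.blt b (enc (ent i).img) && ih (enc (ent i).img)) l

theorem gens_check :
    allP (fun w => allP isPt w) syl3Gens && Nat.beq syl3Gens.length 4 && allP (fun w => allP isPt w) syl3Reps &&
      eqL (ent 0).img base9 && eqL (ent 0).path [] = true := by
  decide +kernel

theorem order_check : incOK syl3Order 0 = true ∧ syl3Order.length = 729 := by decide +kernel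

theorem path_check :
    allP (fun i => Nat.beq i 0 ||
      (Nat.blt (ent i).parent i && Nat.blt ((ent i).path.headD 9) 4 &&
        eqL (ent i).path ((ent i).path.headD 9 :: (ent (ent i).parent).path) &&
        Nat.beq ((ent (ent i).parent).next.getD ((ent i).path.headD 9) 729) i)) (List.range 729) = true := by
  decide +kernel

theorem close_check :
    allP (fun i => allP (fun k => Nat.blt ((ent i).next.getD k 729) 729 &&
      eqL ((ent i).img.map (pim (syl3Gens.getD k []))) (ent ((ent i).next.getD k 729)).img) (List.range 4))
      (List.range 729) = true := by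
  decide +kernel

theorem kind_check :
    allP (fun i => Nat.beq i 0 ||
      cond (Nat.beq (ent i).kind 0)
        (inMask (maskOf base9) (ent i).wit && !Nat.beq (iterP (flatW (ent i).path) 3 (ent i).wit) (ent i).wit)
        (Nat.ble (ent i).kind 3 && allP isPt (ent i).conj &&
          eqL (base9.map (pim ((ent i).conj ++ syl3Reps.getD (Nat.sub (ent i).kind 1) [] ++ (ent i).conj.reverse)))
            (ent i).img)) (List.range 729) = true := by
  decide +kernel

/-- The fixed points of the second and third representatives fall into pairwise orthogonal sets of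
pairwise non-orthogonal points. -/
noncomputable def partsOK (R : List ℕ) (P : List (List ℕ)) : Bool :=
  allP (fun x => Nat.beq (pim R x) x == !allP (fun c => !inMask (maskOf c) x) P) pts &&
    allP (fun c => allP (fun x => allP (fun d => allP (fun y =>
      orth x y == (Nat.beq x y || !inMask (maskOf c) y)) d) P) c) P

def parts2 : List (List ℕ) := [[16, 1024, 1040], [397, 645, 905], [457, 717, 965]]

def parts3 : List (List ℕ) :=
  [[397, 645, 905, 1201, 1588, 2193, 2580, 3233, 3620], [457, 717, 965, 1249, 1828, 2289, 2868, 3281, 3860]]

theorem parts_check :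
    (partsOK [1, 64, 4, 256] parts2 = true ∧ partsOK [1, 64, 4, 256, 16, 1024] parts3 = true) ∧
    syl3Reps = [[1, 64], [1, 64, 4, 256], [1, 64, 4, 256, 16, 1024]] ∧
    allP (fun R => allP (fun x => Nat.beq (iterP R 3 x) x) pts) syl3Reps = true := by
  refine ⟨⟨?_, ?_⟩, rfl, ?_⟩ <;> decide +kernel

end Cfsg.Agent.TT95.U6
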