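import Cfsg.Agent.TT95.NormFix
import Cfsg.Agent.TT95.NormOrder3Check

/-!
Type M(22): the elements of order three centralising a transposition act on its neighbours as one, two or
three commuting products of two non-commuting transpositions.
-/

set_option autoImplicit false
set_option linter.unusedSectionVars false

namespace Cfsg.Agent.TT95

open Cfsg.Agent.TT95.U6

theorem pim_append : ∀ (u v : List ℕ) (x : ℕ), pim (u ++ v) x = pim u (pim v x)
  | [], _, _ => rfl
  | e :: u, v, x => by
    show tv e (pim (u ++ v) x) = tv e (pim u (pim v x))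
    rw [pim_append u v x]

theorem allP_append {u v : List ℕ} (hu : allP isPt u = true) (hv : allP isPt v = true) :
    allP isPt (u ++ v) = true :=
  allP_iff.2 fun e he => (List.mem_append.1 he).elim (allP_iff.1 hu e) (allP_iff.1 hv e)

theorem allP_reverse {u : List ℕ} (hu : allP isPt u = true) : allP isPt u.reverse = true :=
  allP_iff.2 fun e he => allP_iff.1 hu e (List.mem_reverse.1 he)

theorem gen_isPt {k : ℕ} (hk : k < 4) : allP isPt (syl3Gens.getD k []) = true := by
  have h := gens_check
  simp only [Bool.and_eq_true] at h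
  obtain ⟨⟨⟨⟨h1, h2⟩, -⟩, -⟩, -⟩ := h
  have hlen : syl3Gens.length = 4 := Nat.eq_of_beq_eq_true h2
  rw [List.getD_eq_getElem _ _ (by omega)]
  exact allP_iff.1 h1 _ (List.getElem_mem _)

theorem next_spec {i k : ℕ} (hi : i < 729) (hk : k < 4) :
    (ent i).next.getD k 729 < 729 ∧
      (ent i).img.map (pim (syl3Gens.getD k [])) = (ent ((ent i).next.getD k 729)).img := by
  have h := allP_iff.1 (allP_iff.1 close_check i (List.mem_range.2 hi)) k (List.mem_range.2 hk)
  rw [Bool.and_eq_true] at h
  exact ⟨Nat.le_of_ble_eq_true h.1, eqL_eq h.2⟩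

theorem path_spec : ∀ i < 729, allP isPt (flatW (ent i).path) = true ∧ (∀ k ∈ (ent i).path, k < 4) ∧
    base9.map (pim (flatW (ent i).path)) = (ent i).img := by
  intro i
  induction i using Nat.strong_induction_on with
  | _ i ih =>
    intro hi
    by_cases h0 : i = 0
    · subst h0
      have h := gens_check
      simp only [Bool.and_eq_true] at h
      have hp := eqL_eq (of_decide_eq_true h.2)
      rw [hp]
      refine ⟨rfl, by simp, ?_⟩
      rw [eqL_eq h.1.2]
      exact List.map_id'' (fun _ => rfl) _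
    have h := allP_iff.1 path_check i (List.mem_range.2 hi)
    simp only [Bool.or_eq_true, Bool.and_eq_true] at h
    obtain ⟨⟨⟨h1, h2⟩, h3⟩, h4⟩ := h.resolve_left fun e => h0 (Nat.eq_of_beq_eq_true e)
    set j := (ent i).parent with hj
    set k := (ent i).path.headD 9 with hk
    have hji : j < i := Nat.le_of_ble_eq_true h1
    have hk4 : k < 4 := Nat.le_of_ble_eq_true h2
    obtain ⟨p1, p2, p3⟩ := ih j hji (by omega)
    have he : (ent i).path = k :: (ent j).path := eqL_eq h3
    rw [he]
    have hflat : flatW (k :: (ent j).path) = syl3Gens.getD k [] ++ flatW (ent j).path := rfl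
    rw [hflat]
    refine ⟨allP_append (gen_isPt hk4) p1, ?_, ?_⟩
    · intro q hq
      rcases List.mem_cons.1 hq with rfl | hq
      · exact hk4
      · exact p2 q hq
    · have hnext := (next_spec (i := j) (by omega) hk4).2
      rw [Nat.eq_of_beq_eq_true h4] at hnext
      rw [← hnext, ← p3, List.map_map]
      exact List.map_congr_left fun b _ => pim_append _ _ b

theorem enc_inj_aux : ∀ (L : List ℕ) (b : ℕ), incOK L b = true →
    (∀ i ∈ L, i < 729 ∧ b < enc (ent i).img) ∧ L.Pairwise fun i j => enc (ent i).img < enc (ent j).img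
  | [], _, _ => ⟨by simp, List.Pairwise.nil⟩
  | x :: L, b, h => by
    have he : incOK (x :: L) b =
        (Nat.blt x 729 && Nat.blt b (enc (ent x).img) && incOK L (enc (ent x).img)) := rfl
    rw [he] at h
    simp only [Bool.and_eq_true] at h
    obtain ⟨⟨h1, h2⟩, h3⟩ := h
    obtain ⟨i1, i2⟩ := enc_inj_aux L _ h3
    have h2' : b < enc (ent x).img := Nat.le_of_ble_eq_true h2
    refine ⟨fun i hi => ?_, List.pairwise_cons.2 ⟨fun i hi => (i1 i hi).2, i2⟩⟩
    rcases List.mem_cons.1 hi with rfl | hi
    · exact ⟨Nat.le_of_ble_eq_true h1, h2'⟩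
    · exact ⟨(i1 i hi).1, lt_trans h2' (i1 i hi).2⟩

theorem img_inj : Set.InjOn (fun i => (ent i).img) {i | i < 729} := by
  obtain ⟨h1, h2⟩ := enc_inj_aux syl3Order 0 order_check.1
  have hnd : (syl3Order.map fun i => enc (ent i).img).Nodup :=
    (List.pairwise_map.2 h2).imp fun h => ne_of_lt h
  have hnd' : syl3Order.Nodup := List.Nodup.of_map _ hnd
  have hall : ∀ i < 729, i ∈ syl3Order := by
    intro i hi
    have : syl3Order.toFinset = Finset.range 729 := by
      refine Finset.eq_of_subset_of_card_le ?_ ?_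
      · exact fun x hx => Finset.mem_range.2 (h1 x (List.mem_toFinset.1 hx)).1
      · rw [Finset.card_range, List.toFinset_card_of_nodup hnd', order_check.2]
    exact List.mem_toFinset.1 (this ▸ Finset.mem_range.2 hi)
  intro i hi j hj e
  exact List.inj_on_of_nodup_map hnd (hall i hi) (hall j hj) (congrArg enc e)

variable {G : Type*} [Group G] [Finite G] {D : Set G} (hC : Cfg22 D) [Gen D] (hcore : Core22 G D) {a : G}
  (ha : a ∈ D)

include hC ha

theorem wordEl_append (γ : ℕ → G) (u v : List ℕ) : wordEl γ (u ++ v) = wordEl γ u * wordEl γ v := by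
  simp [wordEl]

theorem wordEl_reverse {γ : ℕ → G} (hγ : IsLocal D a γ) :
    ∀ {v : List ℕ}, allP isPt v = true → wordEl γ v.reverse = (wordEl γ v)⁻¹
  | [], _ => by simp [wordEl]
  | e :: v, h => by
    have he : allP isPt (e :: v) = (isPt e && allP isPt v) := rfl
    rw [he, Bool.and_eq_true] at h
    rw [List.reverse_cons, wordEl_append hC ha, wordEl_reverse hγ h.2]
    simp [wordEl, inv_eq hC.tt (hγ.mem e h.1).1]

include hcore

/-- Every element of order three centralising `a` acts as one of the three representatives. -/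
theorem order3_class {w : G} (hw : orderOf w = 3) (hwa : Commute w a) :
    ∃ γ, IsLocal D a γ ∧ ∃ R ∈ syl3Reps,
      (∀ p, isPt p = true → isPt (pim R p) = true ∧ w * γ p * w⁻¹ = γ (pim R p)) ∧
      (R = [1, 64] → w = γ 1 * γ 64) := by
  classical
  obtain ⟨γ, hγ⟩ := hC.loc a ha
  set H := Subgroup.centralizer ({a} : Set G) with hH
  set L := Subgroup.closure (Set.range fun k : Fin 4 => wordEl γ (syl3Gens.getD k [])) with hL
  set tup : G → List G := fun g => base9.map (fun b => g * γ b * g⁻¹) with htup
  have hbase : ∀ b ∈ base9, isPt b = true := by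
    have : allP isPt base9 = true := by decide +kernel
    exact allP_iff.1 this
  have hwordtup : ∀ v, allP isPt v = true → tup (wordEl γ v) = (base9.map (pim v)).map γ := by
    intro v hv
    rw [htup, List.map_map]
    exact List.map_congr_left fun b hb => ((wordEl_spec hC ha hγ hv).2 b (hbase b hb)).2
  -- the action of L on the tuples
  have hact : ∀ g ∈ L, ∀ i < 729, ∃ j < 729,
      ((ent i).img.map γ).map (fun x => g * x * g⁻¹) = (ent j).img.map γ := by
    set good : G → Prop := fun g => ∀ i < 729, ∃ j < 729,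
      ((ent i).img.map γ).map (fun x => g * x * g⁻¹) = (ent j).img.map γ with hgood
    have hone : good 1 := fun i hi => ⟨i, hi, by simp⟩
    have hmul : ∀ g g', good g → good g' → good (g * g') := by
      intro g g' h h' i hi
      obtain ⟨j, hj, e⟩ := h' i hi
      obtain ⟨k, hk, e'⟩ := h j hj
      refine ⟨k, hk, ?_⟩
      rw [← e', ← e]
      simp only [List.map_map]
      exact List.map_congr_left fun x _ => by simp only [Function.comp]; group
    have hgen : ∀ k : Fin 4, good (wordEl γ (syl3Gens.getD k [])) := by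
      intro k i hi
      obtain ⟨n1, n2⟩ := next_spec hi k.2
      refine ⟨_, n1, ?_⟩
      rw [← n2, ← (path_spec i hi).2.2]
      simp only [List.map_map]
      refine List.map_congr_left fun b hb => ?_
      simp only [Function.comp]
      have hp := ((wordEl_spec hC ha hγ (path_spec i hi).1).2 b (hbase b hb)).1
      exact ((wordEl_spec hC ha hγ (gen_isPt k.2)).2 _ hp).2
    have hpow : ∀ g, good g → ∀ n : ℕ, good (g ^ n) := by
      intro g hg n
      induction n with
      | zero => rwa [pow_zero]
      | succ n ih => rw [pow_succ]; exact hmul _ _ ih hg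
    intro g hg
    induction hg using Subgroup.closure_induction'' with
    | mem x hx => obtain ⟨k, rfl⟩ := hx; exact hgen k
    | inv_mem x hx =>
      obtain ⟨k, rfl⟩ := hx
      obtain ⟨n, hn⟩ := (mem_powers_iff_mem_zpowers).2 (inv_mem (Subgroup.mem_zpowers (wordEl γ (syl3Gens.getD k []))))
      have hn' : wordEl γ (syl3Gens.getD k []) ^ n = (wordEl γ (syl3Gens.getD k []))⁻¹ := hn
      rw [← hn']
      exact hpow _ (hgen k) n
    | one => exact hone
    | mul x y _ _ hx hy => exact hmul _ _ hx hy
  have hLH : L ≤ Subgroup.closure (nb D a) := by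
    rw [hL, Subgroup.closure_le]
    rintro _ ⟨k, rfl⟩
    exact (wordEl_spec hC ha hγ (gen_isPt k.2)).1
  have hattain : ∀ i < 729, wordEl γ (flatW (ent i).path) ∈ L := by
    intro i hi
    have key : ∀ l : List ℕ, (∀ k ∈ l, k < 4) → wordEl γ (flatW l) ∈ L := by
      intro l
      induction l with
      | nil => exact fun _ => by simp [wordEl, flatW]
      | cons k l ih =>
        intro h
        have he : flatW (k :: l) = syl3Gens.getD k [] ++ flatW l := rfl
        rw [he, wordEl_append hC ha]
        exact mul_mem (Subgroup.subset_closure ⟨⟨k, h k List.mem_cons_self⟩, rfl⟩)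
          (ih fun q hq => h q (List.mem_cons_of_mem _ hq))
    exact key _ (path_spec i hi).2.1
  have h0 : (ent 0).img = base9 := by
    have h := gens_check
    simp only [Bool.and_eq_true] at h
    exact eqL_eq h.1.2
  have htupL : ∀ g ∈ L, ∃ j < 729, tup g = (ent j).img.map γ := by
    intro g hg
    obtain ⟨j, hj, e⟩ := hact g hg 0 (by norm_num)
    refine ⟨j, hj, ?_⟩
    rw [← e, h0, htup, List.map_map]
    rfl
  -- order of L
  have hrange : Set.range (fun g : L => tup g) = (fun i => (ent i).img.map γ) '' {i | i < 729} := by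
    ext t
    constructor
    · rintro ⟨⟨g, hg⟩, rfl⟩
      obtain ⟨j, hj, e⟩ := htupL g hg
      exact ⟨j, hj, e.symm⟩
    · rintro ⟨i, hi, rfl⟩
      exact ⟨⟨_, hattain i hi⟩, by show tup _ = _; rw [hwordtup _ (path_spec i hi).1, (path_spec i hi).2.2]⟩
  have hrcard : (Set.range (fun g : L => tup g)).ncard = 729 := by
    rw [hrange, Set.InjOn.ncard_image ?_, show {i : ℕ | i < 729} = ((Finset.range 729 : Finset ℕ) : Set ℕ) by ext; simp,
      Set.ncard_coe_finset, Finset.card_range]
    intro i hi j hj e
    refine img_inj hi hj ?_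
    show (ent i).img = (ent j).img
    simp only [← (path_spec i hi).2.2, ← (path_spec j hj).2.2, List.map_map, List.map_inj_left] at e ⊢
    intro b hb
    exact hγ.inj _ _ ((wordEl_spec hC ha hγ (path_spec i hi).1).2 b (hbase b hb)).1
      ((wordEl_spec hC ha hγ (path_spec j hj).1).2 b (hbase b hb)).1 (e b hb)
  set S := (Subgroup.centralizer (γ '' {b | b ∈ base9})).subgroupOf L with hS
  have hcard := card_eq_mul_of_fibres (fun g : L => tup g) S (fun g g' => by
    rw [hS, Subgroup.mem_subgroupOf, Subgroup.mem_centralizer_iff]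
    simp only [htup, List.map_inj_left, conj_eq_conj_iff, Subgroup.mem_centralizer_singleton_iff, Subgroup.coe_mul,
      Subgroup.coe_inv]
    constructor
    · rintro h _ ⟨b, hb, rfl⟩
      exact (h b hb).symm
    · exact fun h b hb => (h _ ⟨b, hb, rfl⟩).symm)
  rw [hrcard] at hcard
  have hS2 : Nat.card S ≤ 2 := by
    have hmem : ∀ s : S, ((s : L) : G) = 1 ∨ ((s : L) : G) = a := by
      rintro ⟨⟨g, hg⟩, hs⟩
      rw [hS, Subgroup.mem_subgroupOf, Subgroup.mem_centralizer_iff] at hs
      exact eq_or_self_of_fix9 hC ha hγ (hLH hg) fun b hb =>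
        mul_inv_eq_iff_eq_mul.2 (hs _ ⟨b, hb, rfl⟩).symm
    have : Function.Injective (fun s : S => decide (((s : L) : G) = 1)) := by
      intro s t e
      simp only [decide_eq_decide] at e
      refine Subtype.ext (Subtype.ext ?_)
      rcases hmem s with h | h
      · rw [h, e.1 h]
      · rcases hmem t with h' | h'
        · rw [e.2 h', h']
        · rw [h, h']
    exact (Nat.card_le_card_of_injective _ this).trans (by simp)
  -- a Sylow subgroup inside L
  haveI := Fact.mk Nat.prime_three
  obtain ⟨P0, hP0⟩ := Sylow.exists_subgroup_card_pow_prime (G := L) 3 (n := 6) (Dvd.intro _ hcard.symm)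
  set PG := P0.map L.subtype with hPG
  have hPH : PG ≤ H := by
    intro x hx
    have := hLH (Subgroup.map_subtype_le P0 hx)
    rwa [hH, centralizer_eq hC ha]
  have hfac : (Nat.card H).factorization 3 = 6 := by
    rw [card_centralizer hC ha hcore]
    refine le_antisymm ?_ ((Nat.prime_three.pow_dvd_iff_le_factorization (by norm_num)).1 (by norm_num))
    by_contra h
    push Not at h
    exact absurd ((Nat.prime_three.pow_dvd_iff_le_factorization (by norm_num)).2 h) (by norm_num)
  set P : Sylow 3 H := Sylow.ofCard (PG.subgroupOf H) (by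
    rw [hfac, Nat.card_congr (Subgroup.subgroupOfEquivOfLe hPH).toEquiv, hPG,
      ← Nat.card_congr (Subgroup.equivMapOfInjective P0 L.subtype L.subtype_injective).toEquiv, hP0]) with hPdef
  have hwH : w ∈ H := Subgroup.mem_centralizer_singleton_iff.2 hwa.eq
  obtain ⟨Q, hQ⟩ := IsPGroup.exists_le_sylow (p := 3) (P := Subgroup.zpowers (⟨w, hwH⟩ : H))
    (IsPGroup.of_card (n := 1) (by rw [Nat.card_zpowers, ← Subgroup.orderOf_coe, hw, pow_one]))
  obtain ⟨h, hh⟩ := MulAction.exists_smul_eq H Q P
  set w' := (h : G) * w * (h : G)⁻¹ with hw'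
  have hw'L : w' ∈ L := by
    have hm : h * ⟨w, hwH⟩ * h⁻¹ ∈ (P : Subgroup H) := by
      rw [← hh]
      exact ⟨⟨w, hwH⟩, hQ (Subgroup.mem_zpowers _), rfl⟩
    rw [hPdef, Sylow.coe_ofCard, Subgroup.mem_subgroupOf] at hm
    exact Subgroup.map_subtype_le P0 hm
  have hw'3 : orderOf w' = 3 := by
    rw [hw', show (h : G) * w * (h : G)⁻¹ = (MulAut.conj (h : G)) w from rfl, MulEquiv.orderOf_eq, hw]
  obtain ⟨i, hi, ei⟩ := htupL w' hw'L
  have hw'H : w' ∈ Subgroup.closure (nb D a) := hLH hw'L
  have hagree : ∀ y ∈ Subgroup.closure (nb D a), tup y = tup w' → w' = y ∨ w' = y * a := by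
    intro y hy e
    have := eq_or_self_of_fix9 hC ha hγ (z := y⁻¹ * w') (mul_mem (inv_mem hy) hw'H) fun b hb => by
      have h1 : y * γ b * y⁻¹ = w' * γ b * w'⁻¹ := List.map_inj_left.1 e b hb
      rw [show y⁻¹ * w' * γ b * (y⁻¹ * w')⁻¹ = y⁻¹ * (w' * γ b * w'⁻¹) * y by group, ← h1]; group
    rcases this with h1 | h1
    · exact Or.inl (by rw [← mul_inv_cancel_left y w', h1, mul_one])
    · exact Or.inr (by rw [← mul_inv_cancel_left y w', h1])
  have hi0 : i ≠ 0 := by
    intro e
    subst e
    rcases hagree 1 (one_mem _) (by rw [ei, h0]; simp [htup]) with h1 | h1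
    · rw [h1, orderOf_one] at hw'3; omega
    · rw [h1, one_mul, hC.tt.1.1 a ha] at hw'3; omega
  have hk := allP_iff.1 kind_check i (List.mem_range.2 hi)
  rw [Bool.or_eq_true] at hk
  replace hk := hk.resolve_left fun e => hi0 (Nat.eq_of_beq_eq_true e)
  cases hkind : Nat.beq (ent i).kind 0 with
  | true =>
    -- order nine
    exfalso
    rw [hkind, cond_true, Bool.and_eq_true, Bool.not_eq_true', inMask_maskOf] at hk
    obtain ⟨hb, hne⟩ := hk
    obtain ⟨p1, -, p3⟩ := path_spec i hi
    set y := wordEl γ (flatW (ent i).path) with hy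
    have hym : y ∈ Subgroup.closure (nb D a) := (wordEl_spec hC ha hγ p1).1
    have hyw := hagree y hym (by rw [hwordtup _ p1, p3, ei])
    have hwb : w' ^ 3 * γ (ent i).wit * (w' ^ 3)⁻¹ = γ (ent i).wit := by
      rw [← hw'3, pow_orderOf_eq_one]; group
    have hy3 : y ^ 3 * γ (ent i).wit * (y ^ 3)⁻¹ = γ (ent i).wit := by
      rcases hyw with e | e
      · rw [e] at hwb; exact hwb
      · have hca : Commute y a := (commute_closure_nb hC.tt hym).symm
        rw [e, hca.mul_pow, pow_succ a, pow_two, sq hC.tt ha, one_mul] at hwb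
        rw [show y ^ 3 * a * γ (ent i).wit * (y ^ 3 * a)⁻¹ = y ^ 3 * (a * γ (ent i).wit * a⁻¹) * (y ^ 3)⁻¹ by group,
          inv_eq hC.tt ha, conj_fix hC.tt ha (hγ.mem _ (hbase _ hb)).2.2] at hwb
        exact hwb
    obtain ⟨q1, q2⟩ := pow_wordEl hC ha hγ p1 3 _ (hbase _ hb)
    rw [q2] at hy3
    rw [hγ.inj _ _ q1 (hbase _ hb) hy3] at hne
    simp at hne
  | false =>
    rw [hkind, cond_false] at hk
    simp only [Bool.and_eq_true] at hk
    obtain ⟨⟨hle, hv⟩, himg⟩ := hk
    set R := syl3Reps.getD (Nat.sub (ent i).kind 1) [] with hR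
    have hlen : syl3Reps.length = 3 := by rw [parts_check.2.1]; rfl
    have hidx : Nat.sub (ent i).kind 1 < syl3Reps.length := by
      have h1 : (ent i).kind ≤ 3 := Nat.le_of_ble_eq_true hle
      have h2 : (ent i).kind ≠ 0 := fun e => by rw [e] at hkind; exact Bool.noConfusion hkind
      show (ent i).kind - 1 < _
      omega
    have hRmem : R ∈ syl3Reps := by
      rw [hR, List.getD_eq_getElem _ _ hidx]
      exact List.getElem_mem _
    have hRpt : allP isPt R = true := by
      have h := gens_check
      simp only [Bool.and_eq_true] at h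
      exact allP_iff.1 h.1.1.2 R hRmem
    have hRiter : ∀ x ∈ pts, iterP R 3 x = x := fun x hx =>
      Nat.eq_of_beq_eq_true (allP_iff.1 (allP_iff.1 parts_check.2.2 R hRmem) x hx)
    set V := wordEl γ (ent i).conj with hV
    set r := wordEl γ R ^ 4 with hr
    obtain ⟨hVm, hVact⟩ := wordEl_spec hC ha hγ hv
    obtain ⟨hRm, hRact⟩ := wordEl_spec hC ha hγ hRpt
    have hr3 : r ^ 3 = 1 := by
      have hz := eq_or_self_of_fix hC ha hγ (pow_mem hRm 3) fun p hp => by
        rw [(pow_wordEl hC ha hγ hRpt 3 p hp).2, hRiter p (mem_pts.2 hp)]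
      rw [hr, ← pow_mul, show 4 * 3 = 3 * 4 from rfl, pow_mul]
      rcases hz with e | e <;> rw [e]
      · exact one_pow 4
      · rw [pow_succ, pow_succ, pow_two, sq hC.tt ha, one_mul, sq hC.tt ha]
    have hract : ∀ p, isPt p = true → isPt (pim R p) = true ∧ r * γ p * r⁻¹ = γ (pim R p) := by
      intro p hp
      refine ⟨(hRact p hp).1, ?_⟩
      rw [hr, (pow_wordEl hC ha hγ hRpt 4 p hp).2]
      show γ (pim R (iterP R 3 p)) = _
      rw [hRiter p (mem_pts.2 hp)]
    set y := V * r * V⁻¹ with hy
    have hym : y ∈ Subgroup.closure (nb D a) :=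
      mul_mem (mul_mem hVm (pow_mem hRm 4)) (inv_mem hVm)
    have hytup : tup y = tup w' := by
      rw [ei, ← eqL_eq himg, htup, List.map_map]
      refine List.map_congr_left fun b hb => ?_
      obtain ⟨s1, s2⟩ := (wordEl_spec hC ha hγ (allP_reverse hv)).2 b (hbase b hb)
      obtain ⟨t1, t2⟩ := hract _ s1
      obtain ⟨-, u2⟩ := hVact _ t1
      show _ = γ (pim _ b)
      rw [pim_append, pim_append, ← u2, ← t2, ← s2, wordEl_reverse hC ha hγ hv, hy, hV]
      group
    have hy3 : y ^ 3 = 1 := by rw [hy, conj_pow, hr3]; group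
    have hwy : w' = y := by
      rcases hagree y hym hytup with e | e
      · exact e
      exfalso
      have := pow_orderOf_eq_one w'
      rw [hw'3, e, ((commute_closure_nb hC.tt hym).symm).mul_pow, hy3, one_mul, pow_succ, pow_two, sq hC.tt ha,
        one_mul] at this
      exact ne_one hC.tt ha this
    set t := (h : G)⁻¹ * V with ht
    have hta : t * a * t⁻¹ = a := by
      refine mul_inv_eq_iff_eq_mul.2 ?_
      have h1 : Commute (h : G) a := Subgroup.mem_centralizer_singleton_iff.1 h.2
      exact (h1.inv_left.mul_left (commute_closure_nb hC.tt hVm).symm).eq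
    have hw_eq : w = t * r * t⁻¹ := by
      rw [show w = (h : G)⁻¹ * w' * h by rw [hw']; group, hwy, hy, ht]; group
    refine ⟨fun p => t * γ p * t⁻¹, hta ▸ hγ.conjugate hC.tt t, R, hRmem, fun p hp => ?_, fun e => ?_⟩
    · obtain ⟨t1, t2⟩ := hract p hp
      refine ⟨t1, ?_⟩
      show w * (t * γ p * t⁻¹) * w⁻¹ = t * γ (pim R p) * t⁻¹
      rw [hw_eq, ← t2]; group
    · rw [hw_eq, hr, e]
      have hpq : ¬ Commute (γ 1) (γ 64) := fun hc => by
        have h1 := (hγ.comm 1 64 base_isPt.1 base_isPt.2.2.2.1).1 hc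
        exact absurd h1 (by decide +kernel)
      have h3 := ThreeTransp.pow_three_of_not_commute hC.tt.1 (hγ.mem 1 base_isPt.1).1
        (hγ.mem 64 base_isPt.2.2.2.1).1 hpq
      rw [show wordEl γ [1, 64] = γ 1 * γ 64 by simp [wordEl], pow_succ _ 3, h3, one_mul]
      group

end Cfsg.Agent.TT95
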