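import Cfsg.Agent.TT95.NormFix

/-!
Type M(22): the idempotent of the eigenvalue 63 of the commuting graph, and the traces it forces on
fixed-point-free elements of order three.
-/

set_option autoImplicit false
set_option linter.unusedSectionVars false

namespace Cfsg.Agent.TT95

open scoped Classical

theorem exists_trace_natCast {ι : Type*} [Fintype ι] [DecidableEq ι] {M : Matrix ι ι ℚ} (h : M * M = M) :
    ∃ n : ℕ, M.trace = n ∧ n = Module.finrank ℚ (LinearMap.range (Matrix.toLin' M)) := by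
  have hp : IsIdempotentElem (Matrix.toLin' M) := by
    show Matrix.toLin' M * Matrix.toLin' M = Matrix.toLin' M
    rw [Module.End.mul_eq_comp, ← Matrix.toLin'_mul, h]
  refine ⟨_, ?_, rfl⟩
  rw [← Matrix.trace_toLin'_eq]
  exact (LinearMap.IsIdempotentElem.isProj_range _ hp).trace

/-- A map squaring to a negative scalar on the image of an idempotent makes the rank even. -/
theorem even_rank_of_sq_neg {ι : Type*} [Fintype ι] [DecidableEq ι] {M C : Matrix ι ι ℚ} (hM : M * M = M)
    (hMC : M * C = C) (hC2 : C * C = (-3 : ℚ) • M) {n : ℕ}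
    (hn : n = Module.finrank ℚ (LinearMap.range (Matrix.toLin' M))) : Even n := by
  set W := LinearMap.range (Matrix.toLin' M) with hW
  have hmaps : ∀ x ∈ W, Matrix.toLin' C x ∈ W := fun x _ => ⟨Matrix.toLin' C x, by
    rw [← Matrix.toLin'_mul_apply, hMC]⟩
  set f := (Matrix.toLin' C).restrict hmaps with hf
  have hff : f * f = (-3 : ℚ) • (1 : Module.End ℚ W) := by
    ext ⟨x, hx⟩
    obtain ⟨z, rfl⟩ := hx
    show _ = _
    simp only [Module.End.mul_apply, LinearMap.smul_apply, Module.End.one_apply, hf, LinearMap.restrict_apply,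
      SetLike.val_smul]
    have e : Matrix.toLin' C (Matrix.toLin' C (Matrix.toLin' M z)) = (-3 : ℚ) • Matrix.toLin' M z := by
      rw [← Matrix.toLin'_mul_apply C C, hC2, map_smul, LinearMap.smul_apply, ← Matrix.toLin'_mul_apply, hM]
    exact congrFun e _
  have hd := congrArg LinearMap.det hff
  rw [map_mul, LinearMap.det_smul, map_one, mul_one, ← hn] at hd
  by_contra hodd
  rw [Nat.not_even_iff_odd] at hodd
  rw [hodd.neg_pow] at hd
  nlinarith [mul_self_nonneg (LinearMap.det f), pow_pos (show (0 : ℚ) < 3 by norm_num) n]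

variable {G : Type*} [Group G] [Finite G] {D : Set G} (hD : TTSet D)

noncomputable local instance instFintypeD : Fintype D := Fintype.ofFinite D

noncomputable local instance instFintypeSub (M : Subgroup G) : Fintype M := Fintype.ofFinite M

/-- Conjugation of the members. -/
def cnj (g : G) (x : D) : D := ⟨g * x * g⁻¹, conj_mem hD g x.2⟩

/-- The matrix of a conjugation. -/
noncomputable def permM (g : G) : Matrix D D ℚ := Matrix.of fun x y => if cnj hD g x = y then 1 else 0

/-- The adjacency matrix. -/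
noncomputable def adjM (D : Set G) : Matrix D D ℚ := Matrix.of fun x y => if (y : G) ∈ nb D x then 1 else 0

def allM (D : Set G) : Matrix D D ℚ := Matrix.of fun _ _ => 1

/-- The idempotent of the eigenvalue 63. -/
noncomputable def eM (D : Set G) : Matrix D D ℚ :=
  (1 / 72 : ℚ) • (adjM D + (9 : ℚ) • (1 : Matrix D D ℚ) - (1 / 5 : ℚ) • allM D)

/-- The number of members sent to a neighbour. -/
noncomputable def disp63 (D : Set G) (g : G) : ℕ := {x : G | x ∈ D ∧ x ∈ nb D (g * x * g⁻¹)}.ncard

theorem cnj_cnj (g h : G) (x : D) : cnj hD h (cnj hD g x) = cnj hD (h * g) x :=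
  Subtype.ext (show h * (g * x * g⁻¹) * h⁻¹ = h * g * x * (h * g)⁻¹ by group)

theorem permM_mul_apply (g : G) (M : Matrix D D ℚ) (x z : D) : (permM hD g * M) x z = M (cnj hD g x) z := by
  simp [Matrix.mul_apply, permM]

theorem mul_permM_apply (g : G) (M : Matrix D D ℚ) (x z : D) : (M * permM hD g) x z = M x (cnj hD g⁻¹ z) := by
  rw [Matrix.mul_apply, Finset.sum_eq_single (cnj hD g⁻¹ z)]
  · have e : cnj hD g (cnj hD g⁻¹ z) = z := Subtype.ext (by simp [cnj, mul_assoc])
    simp [permM, e]
  · intro y _ hy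
    have : ¬ cnj hD g y = z := fun e => hy (by rw [← e, cnj_cnj]; simp [cnj])
    simp [permM, this]
  · simp

theorem permM_mul (g h : G) : permM hD g * permM hD h = permM hD (h * g) := by
  ext x z
  rw [permM_mul_apply, permM, permM, Matrix.of_apply, Matrix.of_apply, cnj_cnj]

theorem permM_one : permM hD (1 : G) = 1 := by
  ext x z
  simp [permM, cnj, Matrix.one_apply]

include hD

theorem permM_comm_adj (g : G) : permM hD g * adjM D = adjM D * permM hD g := by
  ext x z
  rw [permM_mul_apply, mul_permM_apply]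
  show (if (z : G) ∈ nb D (g * x * g⁻¹) then (1 : ℚ) else 0) = if (g⁻¹ * z * g⁻¹⁻¹ : G) ∈ nb D x then 1 else 0
  rw [← nb_conj hD g (x : G) (g⁻¹ * z * g⁻¹⁻¹), show g * (g⁻¹ * (z : G) * g⁻¹⁻¹) * g⁻¹ = z by group]

theorem permM_comm_eM (g : G) : permM hD g * eM D = eM D * permM hD g := by
  have hJ : permM hD g * allM D = allM D * permM hD g := by
    ext x z; rw [permM_mul_apply, mul_permM_apply]; rfl
  simp only [eM, mul_smul_comm, smul_mul_assoc, mul_add, add_mul, mul_sub, sub_mul, permM_comm_adj hD g, hJ,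
    mul_one, one_mul]

variable (hC : Cfg22 D) [Gen D] {a : G} (ha : a ∈ D)

include hC ha

theorem adjM_sq : adjM D * adjM D = (54 : ℚ) • adjM D + (567 : ℚ) • (1 : Matrix D D ℚ) + (126 : ℚ) • allM D := by
  ext x z
  have hval : (adjM D * adjM D) x z = ((nb D (x : G) ∩ nb D z).ncard : ℚ) := by
    have e : ∀ y : D, adjM D x y * adjM D y z = if (y : G) ∈ nb D x ∩ nb D z then 1 else 0 := by
      intro y
      simp only [adjM, Matrix.of_apply, ite_zero_mul_ite_zero, one_mul]
      congr 1
      exact propext ⟨fun h => ⟨h.1, mem_nb_comm y.2 h.2⟩, fun h => ⟨h.1, mem_nb_comm z.2 h.2⟩⟩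
    rw [Matrix.mul_apply, Finset.sum_congr rfl fun y _ => e y, Finset.sum_boole, Nat.cast_inj,
      ← Set.ncard_coe_finset, ← Set.ncard_image_of_injective _ Subtype.val_injective]
    congr 1
    ext y
    simp only [Set.mem_image, Finset.mem_coe, Finset.mem_filter, Finset.mem_univ, true_and, Set.mem_ofPred_eq]
    exact ⟨fun ⟨w, hw, e⟩ => e ▸ hw, fun hy => ⟨⟨y, hy.1.1⟩, hy, rfl⟩⟩
  rw [hval]
  simp only [Matrix.add_apply, Matrix.smul_apply, adjM, allM, Matrix.of_apply, Matrix.one_apply, smul_eq_mul]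
  rcases mem_nb_or_far (a := (x : G)) z.2 with h | h | h
  · have hzx : x = z := Subtype.ext h.symm
    subst hzx
    rw [Set.inter_self, ncard_nb hC x.2, if_neg (fun e : (x : G) ∈ nb D x => e.2.1 rfl), if_pos rfl]
    norm_num
  · have hne : x ≠ z := fun e => h.2.1 (by rw [e])
    rw [show (nb D (x : G) ∩ nb D z).ncard = 180 from edge22 hC x.2 h, if_pos h, if_neg hne]
    norm_num
  · have hne : x ≠ z := fun e => h.2 (by rw [e])
    rw [show (nb D (x : G) ∩ nb D z).ncard = 126 from far22 hC x.2 h, if_neg (fun e : (z : G) ∈ nb D x => h.2 e.2.2),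
      if_neg hne]
    norm_num

theorem adjM_all : adjM D * allM D = (693 : ℚ) • allM D ∧ allM D * adjM D = (693 : ℚ) • allM D ∧
    allM D * allM D = (3510 : ℚ) • allM D := by
  have hrow : ∀ x : D, (∑ y, adjM D x y) = 693 := by
    intro x
    simp only [adjM, Matrix.of_apply]
    rw [Finset.sum_boole, ← Set.ncard_coe_finset, ← Set.ncard_image_of_injective _ Subtype.val_injective]
    rw [show (Subtype.val '' (↑(Finset.univ.filter fun y : D => (y : G) ∈ nb D x) : Set D)) = nb D x from ?_,
      ncard_nb hC x.2]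
    · norm_num
    · ext y
      simp only [Set.mem_image, Finset.mem_coe, Finset.mem_filter, Finset.mem_univ, true_and, Set.mem_ofPred_eq]
      exact ⟨fun ⟨w, hw, e⟩ => e ▸ hw, fun hy => ⟨⟨y, hy.1⟩, hy, rfl⟩⟩
  have hsymm : ∀ x y : D, adjM D x y = adjM D y x := fun x y => by
    simp only [adjM, Matrix.of_apply]
    congr 1
    exact propext ⟨fun h => mem_nb_comm x.2 h, fun h => mem_nb_comm y.2 h⟩
  refine ⟨?_, ?_, ?_⟩ <;> ext x z <;>
    simp only [Matrix.mul_apply, Matrix.smul_apply, allM, Matrix.of_apply, mul_one, one_mul, smul_eq_mul]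
  · exact hrow x
  · rw [Finset.sum_congr rfl fun y _ => hsymm y z]; exact hrow z
  · rw [Finset.sum_const, Finset.card_univ, ← Nat.card_eq_fintype_card, Nat.card_coe_set_eq, ncard_D hC ha]
    norm_num

theorem eM_sq : eM D * eM D = eM D := by
  obtain ⟨h1, h2, h3⟩ := adjM_all hD hC ha
  simp only [eM, mul_smul_comm, smul_mul_assoc, mul_add, add_mul, mul_sub, sub_mul, mul_one, one_mul,
    adjM_sq hD hC ha, h1, h2, h3, smul_smul, smul_add, smul_sub]
  match_scalars <;> norm_num

theorem trace_permM_eM (g : G) :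
    (permM hD g * eM D).trace =
      ((disp63 D g : ℚ) + 9 * ({x : G | x ∈ D ∧ Commute g x}.ncard : ℚ) - 702) / 72 := by
  have hA : (permM hD g * adjM D).trace = (disp63 D g : ℚ) := by
    simp only [Matrix.trace, Matrix.diag, permM_mul_apply, adjM, Matrix.of_apply, disp63]
    rw [Finset.sum_boole, ← Set.ncard_coe_finset, ← Set.ncard_image_of_injective _ Subtype.val_injective]
    congr 2
    ext y
    simp only [Set.mem_image, Finset.mem_coe, Finset.mem_filter, Finset.mem_univ, true_and, Set.mem_ofPred_eq]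
    exact ⟨fun ⟨w, hw, e⟩ => e ▸ ⟨w.2, hw⟩, fun hy => ⟨⟨y, hy.1⟩, hy.2, rfl⟩⟩
  have hP : (permM hD g).trace = ({x : G | x ∈ D ∧ Commute g x}.ncard : ℚ) := by
    simp only [Matrix.trace, Matrix.diag, permM, Matrix.of_apply]
    rw [Finset.sum_boole, ← Set.ncard_coe_finset, ← Set.ncard_image_of_injective _ Subtype.val_injective]
    congr 2
    ext y
    simp only [Set.mem_image, Finset.mem_coe, Finset.mem_filter, Finset.mem_univ, true_and, Set.mem_ofPred_eq]
    exact ⟨fun ⟨w, hw, e⟩ => e ▸ ⟨w.2, mul_inv_eq_iff_eq_mul.1 (congrArg Subtype.val hw : g * (w : G) * g⁻¹ = w)⟩,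
      fun hy => ⟨⟨y, hy.1⟩, Subtype.ext (mul_inv_eq_iff_eq_mul.2 hy.2.eq), rfl⟩⟩
  have hJ : (permM hD g * allM D).trace = (3510 : ℚ) := by
    simp only [Matrix.trace, Matrix.diag, permM_mul_apply, allM, Matrix.of_apply]
    rw [Finset.sum_const, Finset.card_univ, ← Nat.card_eq_fintype_card, Nat.card_coe_set_eq, ncard_D hC ha]
    norm_num
  simp only [eM, mul_smul_comm, mul_add, mul_sub, mul_one, Matrix.trace_smul, Matrix.trace_add, Matrix.trace_sub,
    smul_eq_mul, hA, hP, hJ]
  ring

/-- The average over a subgroup. -/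
noncomputable def avgM (M : Subgroup G) : Matrix D D ℚ :=
  (Nat.card M : ℚ)⁻¹ • ∑ g : M, permM hD (g : G)

omit hC ha in
theorem avgM_absorb (M : Subgroup G) {g : G} (hg : g ∈ M) :
    avgM hD M * permM hD g = avgM hD M ∧ permM hD g * avgM hD M = avgM hD M := by
  simp only [avgM, smul_mul_assoc, mul_smul_comm, Finset.sum_mul, Finset.mul_sum, permM_mul]
  constructor <;> congr 1
  · exact Fintype.sum_equiv (Equiv.mulLeft (⟨g, hg⟩ : M)) _ _ fun h => rfl
  · exact Fintype.sum_equiv (Equiv.mulRight (⟨g, hg⟩ : M)) _ _ fun h => rfl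

omit hC ha in
theorem avgM_sq (M : Subgroup G) : avgM hD M * avgM hD M = avgM hD M := by
  conv_lhs => arg 2; rw [avgM]
  rw [mul_smul_comm, Finset.mul_sum, Finset.sum_congr rfl fun g _ => (avgM_absorb hD M g.2).1, Finset.sum_const,
    Finset.card_univ, ← Nat.card_eq_fintype_card, ← Nat.cast_smul_eq_nsmul ℚ, smul_smul,
    inv_mul_cancel₀ (Nat.cast_ne_zero.2 Nat.card_pos.ne'), one_smul]

omit hC ha in
theorem avgM_comm (M : Subgroup G) : avgM hD M * eM D = eM D * avgM hD M := by
  simp only [avgM, smul_mul_assoc, mul_smul_comm, Finset.sum_mul, Finset.mul_sum, permM_comm_eM hD]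

theorem avg_eM_sq (M : Subgroup G) : (avgM hD M * eM D) * (avgM hD M * eM D) = avgM hD M * eM D := by
  calc (avgM hD M * eM D) * (avgM hD M * eM D) = avgM hD M * (eM D * avgM hD M) * eM D := by simp only [mul_assoc]
    _ = avgM hD M * avgM hD M * (eM D * eM D) := by rw [← avgM_comm hD M]; simp only [mul_assoc]
    _ = _ := by rw [avgM_sq, eM_sq hD hC ha]

/-- A fixed-point-free subgroup displacing like a fixed-point-free Sylow element has order dividing 429. -/
theorem dvd_of_free (M : Subgroup G) (hfree : ∀ g ∈ M, g ≠ 1 → disp63 D g = 702 ∧ ∀ x ∈ D, ¬ Commute g x) :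
    Nat.card M ∣ 429 := by
  obtain ⟨n, hn, -⟩ := exists_trace_natCast (avg_eM_sq hD hC ha M)
  refine ⟨n, ?_⟩
  have key : (avgM hD M * eM D).trace = (Nat.card M : ℚ)⁻¹ * 429 := by
    simp only [avgM, smul_mul_assoc, Finset.sum_mul, Matrix.trace_smul, Matrix.trace_sum, smul_eq_mul]
    congr 1
    rw [Finset.sum_eq_single (1 : M)]
    · rw [trace_permM_eM hD hC ha, Subgroup.coe_one]
      have h0 : disp63 D (1 : G) = 0 := by
        rw [disp63, Set.ncard_eq_zero, Set.eq_empty_iff_forall_notMem]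
        rintro x ⟨-, hx⟩
        exact hx.2.1 (by group)
      have h1 : {x : G | x ∈ D ∧ Commute (1 : G) x} = D := by ext x; simp
      rw [h0, h1, ncard_D hC ha]
      norm_num
    · intro g _ hg
      obtain ⟨h1, h2⟩ := hfree g g.2 fun e => hg (Subtype.ext e)
      rw [trace_permM_eM hD hC ha, h1,
        show {x : G | x ∈ D ∧ Commute (g : G) x} = (∅ : Set G) from Set.eq_empty_iff_forall_notMem.2 fun x hx =>
          h2 x hx.1 hx.2, Set.ncard_empty]
      norm_num
    · simp
  rw [key] at hn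
  have : (429 : ℚ) = Nat.card M * n := by
    rw [← hn, ← mul_assoc, mul_inv_cancel₀ (Nat.cast_ne_zero.2 Nat.card_pos.ne'), one_mul]
  exact_mod_cast this

/-- The displacement count of a fixed-point-free element of order three. -/
theorem disp_form {w : G} (hw : orderOf w = 3) (hfree : ∀ x ∈ D, ¬ Commute w x) :
    ∃ m : ℕ, m ≤ 429 ∧ Odd m ∧ (disp63 D w : ℤ) = 702 + 36 * (3 * m - 429) := by
  set P := permM hD w with hP
  set Q := avgM hD (Subgroup.zpowers w) with hQ
  set E := eM D with hE
  have hw3 : w * w * w = 1 := by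
    have := pow_orderOf_eq_one w
    rwa [hw, pow_succ, pow_two] at this
  have hPP : P * P = permM hD (w * w) := permM_mul hD w w
  have hP3 : P * P * P = 1 := by rw [hPP, permM_mul, ← mul_assoc, hw3, permM_one]
  have hQ3 : Q = (3 : ℚ)⁻¹ • (1 + P + P * P) := by
    rw [hQ, avgM, Nat.card_zpowers, hw]
    congr 1
    rw [show (∑ g : Subgroup.zpowers w, permM hD (g : G)) = _ from
        (Finset.sum_map Finset.univ ⟨Subtype.val, Subtype.val_injective⟩ (fun g => permM hD g)).symm,
      show Finset.univ.map ⟨Subtype.val, Subtype.val_injective⟩ = ({1, w, w * w} : Finset G) from ?_]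
    · have n1 : (1 : G) ≠ w := fun e => by rw [← e, orderOf_one] at hw; omega
      have n2 : (1 : G) ≠ w * w := fun e => by rw [← e, one_mul] at hw3; exact n1 hw3.symm
      have n3 : w ≠ w * w := fun e => n1 (left_eq_mul.1 e).symm
      rw [Finset.sum_insert (by simp [n1, n2]), Finset.sum_insert (by simp [n3]), Finset.sum_singleton,
        permM_one, hPP, hP, add_assoc]
    · ext g
      simp only [Finset.mem_map, Finset.mem_univ, true_and, Function.Embedding.coeFn_mk, Finset.mem_insert,
        Finset.mem_singleton]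
      constructor
      · rintro ⟨⟨g, hg⟩, rfl⟩
        obtain ⟨n, rfl⟩ := (mem_powers_iff_mem_zpowers (x := w)).2 hg
        show w ^ n = 1 ∨ w ^ n = w ∨ w ^ n = w * w
        rw [← pow_mod_orderOf, hw]
        rcases (show n % 3 = 0 ∨ n % 3 = 1 ∨ n % 3 = 2 by omega) with h | h | h <;> rw [h]
        · exact Or.inl (pow_zero w)
        · exact Or.inr (Or.inl (pow_one w))
        · exact Or.inr (Or.inr (pow_two w))
      · rintro (rfl | rfl | rfl)
        · exact ⟨1, rfl⟩
        · exact ⟨⟨g, Subgroup.mem_zpowers g⟩, rfl⟩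
        · exact ⟨⟨w * w, mul_mem (Subgroup.mem_zpowers w) (Subgroup.mem_zpowers w)⟩, rfl⟩
  have hPE : P * E = E * P := permM_comm_eM hD w
  have hQP : Q * P = Q ∧ P * Q = Q := avgM_absorb hD _ (Subgroup.mem_zpowers w)
  have hQE : Q * E = E * Q := avgM_comm hD _
  obtain ⟨m, hm, -⟩ := exists_trace_natCast (avg_eM_sq hD hC ha (Subgroup.zpowers w))
  -- the complementary idempotent
  set M := E - Q * E with hMdef
  have hEQE : E * (Q * E) = Q * E := by rw [← mul_assoc, ← hQE, mul_assoc, eM_sq hD hC ha]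
  have hQEQE : Q * E * (Q * E) = Q * E := avg_eM_sq hD hC ha _
  have hM : M * M = M := by
    rw [hMdef, sub_mul, mul_sub, mul_sub, eM_sq hD hC ha, hEQE, hQEQE, mul_assoc, eM_sq hD hC ha]
    abel
  obtain ⟨n, hn, hn'⟩ := exists_trace_natCast hM
  set C := (P - P * P) * E with hC'
  have hCcomm : E * (P - P * P) = (P - P * P) * E := by
    rw [mul_sub, sub_mul, hPE, ← mul_assoc, ← hPE, mul_assoc, ← hPE, ← mul_assoc]
  have hQd : Q * (P - P * P) = 0 := by rw [mul_sub, ← mul_assoc, hQP.1, hQP.1, sub_self]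
  have hMC : M * C = C := by
    have e1 : E * C = C := by rw [hC', ← mul_assoc, hCcomm, mul_assoc, eM_sq hD hC ha]
    rw [hMdef, sub_mul, mul_assoc, e1, hC', ← mul_assoc, hQd, zero_mul, sub_zero]
  have hC2 : C * C = (-3 : ℚ) • M := by
    have hdd : (P - P * P) * (P - P * P) = (-3 : ℚ) • (1 - Q) := by
      have e1 : P * (P * P) = 1 := by rw [← mul_assoc, hP3]
      have e2 : P * P * (P * P) = P := by rw [← mul_assoc, hP3, one_mul]
      rw [hQ3, sub_mul, mul_sub, mul_sub, e2, hP3, e1]
      module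
    calc C * C = (P - P * P) * (E * (P - P * P)) * E := by rw [hC']; simp only [mul_assoc]
      _ = (P - P * P) * (P - P * P) * (E * E) := by rw [hCcomm]; simp only [mul_assoc]
      _ = (-3 : ℚ) • M := by rw [hdd, eM_sq hD hC ha, smul_mul_assoc, sub_mul, one_mul]
  obtain ⟨j, hj⟩ := even_rank_of_sq_neg hM hMC hC2 hn'
  -- traces
  have hf0 : ∀ g : G, g ∈ Subgroup.zpowers w → g ≠ 1 → ({x : G | x ∈ D ∧ Commute g x}).ncard = 0 := by
    intro g hg hg1
    rw [Set.ncard_eq_zero, Set.eq_empty_iff_forall_notMem]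
    rintro x ⟨hx, hc⟩
    obtain ⟨k, rfl⟩ := (mem_powers_iff_mem_zpowers (x := w)).2 hg
    simp only [← pow_mod_orderOf w k, hw] at hc hg1
    rcases (show k % 3 = 0 ∨ k % 3 = 1 ∨ k % 3 = 2 by omega) with h | h | h <;> rw [h] at hc hg1
    · exact hg1 (pow_zero w)
    · exact hfree x hx (by simpa using hc)
    · have := hc.pow_left 2
      rw [← pow_mul, ← pow_mod_orderOf, hw] at this
      exact hfree x hx (by simpa using this)
  have hdisp : disp63 D (w * w) = disp63 D w := by
    have hww : w * w = w⁻¹ := eq_inv_of_mul_eq_one_left hw3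
    rw [hww, disp63, disp63]
    refine Set.ncard_congr (fun x _ => w⁻¹ * x * w⁻¹⁻¹) (fun x hx => ⟨conj_mem hD _ hx.1, ?_⟩)
      (fun x y _ _ e => mul_left_cancel (mul_right_cancel e)) (fun y hy => ⟨w * y * w⁻¹, ⟨conj_mem hD _ hy.1, ?_⟩, ?_⟩)
    · rw [show w * (w⁻¹ * x * w⁻¹⁻¹) * w⁻¹ = x by group]
      exact mem_nb_comm (conj_mem hD _ hx.1) hx.2
    · rw [show w⁻¹ * (w * y * w⁻¹) * w⁻¹⁻¹ = y by group]
      exact mem_nb_comm (conj_mem hD _ hy.1) hy.2
    · group
  have n1 : w ≠ 1 := fun e => by rw [e, orderOf_one] at hw; omega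
  have n2 : w * w ≠ 1 := fun e => n1 (by rw [e, one_mul] at hw3; exact hw3)
  have tP := trace_permM_eM hD hC ha w
  rw [hf0 w (Subgroup.mem_zpowers w) n1] at tP
  have tPP := trace_permM_eM hD hC ha (w * w)
  rw [hdisp, hf0 _ (mul_mem (Subgroup.mem_zpowers w) (Subgroup.mem_zpowers w)) n2, ← hPP] at tPP
  have t1 : E.trace = 429 := by
    have := trace_permM_eM hD hC ha 1
    rw [permM_one, one_mul] at this
    have h0 : disp63 D (1 : G) = 0 := by
      rw [disp63, Set.ncard_eq_zero, Set.eq_empty_iff_forall_notMem]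
      rintro x ⟨-, hx⟩
      exact hx.2.1 (by group)
    have h1 : {x : G | x ∈ D ∧ Commute (1 : G) x} = D := by ext x; simp
    rw [h0, h1, ncard_D hC ha] at this
    rw [this]; norm_num
  have hm' : (m : ℚ) = (3 : ℚ)⁻¹ * (429 + 2 * (((disp63 D w : ℚ) - 702) / 72)) := by
    rw [← hm]
    show (Q * E).trace = _
    rw [hQ3, smul_mul_assoc, Matrix.trace_smul, add_mul, add_mul, one_mul, Matrix.trace_add, Matrix.trace_add, t1,
      tPP, show P * E = permM hD w * eM D from rfl, tP, smul_eq_mul]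
    push_cast
    ring
  have hmn : (n : ℚ) = 429 - m := by rw [← hn, hMdef, Matrix.trace_sub, t1, ← hm]
  have hle : m ≤ 429 := by
    have : (m : ℚ) ≤ 429 := by linarith [show (0 : ℚ) ≤ n from Nat.cast_nonneg n]
    exact_mod_cast this
  refine ⟨m, hle, ?_, ?_⟩
  · have : n + m = 429 := by
      have : ((n + m : ℕ) : ℚ) = 429 := by push_cast; linarith
      exact_mod_cast this
    rw [Nat.odd_iff]
    omega
  · have : (disp63 D w : ℚ) = 702 + 36 * (3 * m - 429) := by rw [hm']; ring
    exact_mod_cast this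

end Cfsg.Agent.TT95
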