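import Cfsg.Agent.TT95.NormOrder3
import Cfsg.Agent.TT95.NormTrace

/-!
Type M(22): no element of order three fixing a transposition commutes with an element of order thirteen.
-/

set_option autoImplicit false
set_option linter.unusedSectionVars false

namespace Cfsg.Agent.TT95

open Cfsg.Agent.TT95.U6

variable {G : Type*} [Group G] [Finite G] {D : Set G}

/-- The fixed members next to a member. -/
def fnb (D : Set G) (w v : G) : Set G := {x | x ∈ nb D v ∧ Commute w x}

/-- The class of `x` among them. -/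
def fcls (D : Set G) (w v x : G) : Set G := {y | y ∈ fnb D w v ∧ (y = x ∨ ¬ Commute x y)}

/-- The fixed members next to `v` form classes of size `s`, members of different classes commuting. -/
structure Multi (D : Set G) (w v : G) (d s : ℕ) : Prop where
  kind : (d = 9 ∧ s = 3) ∨ (d = 18 ∧ s = 9)
  card : (fnb D w v).ncard = d
  cls : ∀ x ∈ fnb D w v, (fcls D w v x).ncard = s
  trans : ∀ x ∈ fnb D w v, ∀ y ∈ fnb D w v, ∀ u ∈ fnb D w v, ¬ Commute x y → ¬ Commute y u → x = u ∨ ¬ Commute x u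

/-- The members with the same fixed neighbours, and those neighbours. -/
def fcomp (D : Set G) (w v : G) : Set G := {x | x ∈ D ∧ Commute w x ∧ fnb D w x = fnb D w v} ∪ fnb D w v

theorem multi_checks :
    allP (fun R => cond (eqL R [1, 64]) true
      (let s := cond (eqL R [1, 64, 4, 256]) 3 9
       let d := cond (eqL R [1, 64, 4, 256]) 9 18
       let F := List.filter (fun x => Nat.beq (pim R x) x) pts
       Nat.beq (cntP (fun x => Nat.beq (pim R x) x) pts) d &&
       allP (fun x => Nat.beq (cntP (fun t => Nat.beq (pim R t) t && (Nat.beq t x || !orth x t)) pts) s) F &&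
       allP (fun x => allP (fun y => orth x y || allP (fun u => orth y u || Nat.beq x u || !orth x u) F) F) F))
      syl3Reps = true := by
  decide +kernel

variable (hC : Cfg22 D) [Gen D] (hcore : Core22 G D)

include hC hcore

theorem no_z_product {x y z : G} (hx : x ∈ D) (hy : y ∈ D) (hxy : ¬ Commute x y) (hz : orderOf z = 13)
    (hzw : Commute z (x * y)) : False := by
  have hD := hC.tt
  have hfix : ∀ v ∈ D, Commute (x * y) v → Commute v x ∧ Commute v y := by
    intro v hv hc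
    have hvv : v * (x * y) * v = x * y := by rw [hc.symm.eq, mul_assoc, sq hD hv, mul_one]
    by_cases h : Commute v x
    · refine ⟨h, ?_⟩
      have := h.mul_right hc.symm
      rwa [← mul_assoc, sq hD hx, one_mul] at this
    exfalso
    have h' : ¬ Commute v y := fun e => h (by
      have := hc.symm.mul_right e
      rwa [mul_assoc, sq hD hy, mul_one] at this)
    have e1 : x * v * x * (y * v * y) = x * y := by
      rw [← braid hD hv hx h, ← braid hD hv hy h', show v * x * v * (v * y * v) = v * (x * (v * v) * y) * v by group,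
        sq hD hv, mul_one, hvv]
    have e2 : v * (x * y) * v * y = y := by
      calc v * (x * y) * v * y = x * x * (v * (x * y) * v * y) := by rw [sq hD hx, one_mul]
        _ = x * (x * v * x * (y * v * y)) := by group
        _ = y := by rw [e1, ← mul_assoc, sq hD hx, one_mul]
    have e3 : v * (x * y) * v = 1 := mul_right_cancel (e2.trans (one_mul y).symm)
    rw [hvv] at e3
    exact hxy (by rw [eq_inv_of_mul_eq_one_left e3, inv_eq hD hy])
  have hpair : ∀ x' y', x' ∈ D → y' ∈ D → ¬ Commute x' y' → x' * y' = x * y →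
      (∀ v ∈ D, Commute (x * y) v → Commute v x') → x' = x ∨ x' = y ∨ x' = x * y * x := by
    intro x' y' hx' hy' hne he hc'
    by_cases hc : Commute x x'
    · left
      have h1 : x' * (x * y) * x' = y * x := by
        rw [← he, show x' * (x' * y') * x' = (x' * x') * y' * x' by group, sq hD hx', one_mul]
        have : (x' * y')⁻¹ = (x * y)⁻¹ := by rw [he]
        rwa [mul_inv_rev, mul_inv_rev, inv_eq hD hx', inv_eq hD hy', inv_eq hD hx, inv_eq hD hy] at this
      have h2 : x' * y * x' = x * y * x := by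
        calc x' * y * x' = x * (x * x') * y * x' := by rw [← mul_assoc, sq hD hx, one_mul]
          _ = x * (x' * (x * y) * x') := by rw [hc.eq]; group
          _ = x * y * x := by rw [h1]; group
      have hn : ¬ Commute x' y := fun e => hxy (by
        rw [e.eq, mul_assoc, sq hD hx', mul_one] at h2
        show x * y = y * x
        calc x * y = x * y * (x * x) := by rw [sq hD hx, mul_one]
          _ = (x * y * x) * x := by group
          _ = y * x := by rw [← h2])
      rw [braid hD hx' hy hn, braid hD hx hy hxy] at h2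
      exact mul_left_cancel (mul_right_cancel h2)
    · have hfar : x' ∈ far D x := ⟨hx', hc⟩
      rcases (lay22 hC hx).dperp x hx y ⟨hy, hxy⟩ x' hfar (fun b hb => hc' b hb.1.1
          (hb.1.2.2.mul_left hb.2.2.2)) with h | h
      · exact Or.inr (Or.inl h)
      · exact Or.inr (Or.inr h)
  have hxy' : ¬ Commute (z * x * z⁻¹) (z * y * z⁻¹) := fun e => hxy ((Commute.conj_iff z).1 e)
  have heq : z * x * z⁻¹ * (z * y * z⁻¹) = x * y := by
    rw [show z * x * z⁻¹ * (z * y * z⁻¹) = z * (x * y) * z⁻¹ by group, hzw.eq, mul_inv_cancel_right]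
  have hcv : ∀ v ∈ D, Commute (x * y) v → Commute v (z * x * z⁻¹) := by
    intro v hv hc
    have h1 : Commute (x * y) (z⁻¹ * v * z) := by
      rw [← Commute.conj_iff z, hzw.eq, mul_inv_cancel_right, show z * (z⁻¹ * v * z) * z⁻¹ = v by group]
      exact hc
    have h2 := (hfix _ (by simpa using conj_mem hD z⁻¹ hv) h1).1
    rw [← Commute.conj_iff z, show z * (z⁻¹ * v * z) * z⁻¹ = v by group] at h2
    exact h2
  have hzx := hpair _ _ (conj_mem hD z hx) (conj_mem hD z hy) hxy' heq hcv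
  set T : Set G := {t | t = x ∨ t = y ∨ t = x * y * x} with hT
  have hzy : z * y * z⁻¹ = z * x * z⁻¹ * (x * y) := by
    rw [← heq, ← mul_assoc, ← mul_assoc, sq hD (conj_mem hD z hx), one_mul]
  have hinv : ∀ t ∈ T, z * t * z⁻¹ ∈ T := by
    have e1 : x * (x * y) = y := by rw [← mul_assoc, sq hD hx, one_mul]
    have e2 : y * (x * y) = x * y * x := by rw [← mul_assoc, braid hD hx hy hxy]
    have e3 : x * y * x * (x * y) = x := by
      rw [show x * y * x * (x * y) = x * y * (x * x) * y by group, sq hD hx, mul_one, mul_assoc, sq hD hy, mul_one]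
    have h0 : ∀ t ∈ T, t * (x * y) ∈ T := by
      rintro t (rfl | rfl | rfl)
      · exact Or.inr (Or.inl e1)
      · exact Or.inr (Or.inr e2)
      · exact Or.inl e3
    rintro t (rfl | rfl | rfl)
    · exact hzx
    · rw [hzy]; exact h0 _ hzx
    · have hx1 : z * (x * y * x) * z⁻¹ = z * y * z⁻¹ * (x * y) := by
        rw [← e2, show z * (y * (x * y)) * z⁻¹ = z * y * z⁻¹ * (z * (x * y) * z⁻¹) by group, hzw.eq,
          mul_inv_cancel_right]
      rw [hx1, hzy]; exact h0 _ (h0 _ hzx)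
  have hpowT : ∀ g ∈ Subgroup.zpowers z, ∀ t ∈ T, g * t * g⁻¹ ∈ T := by
    intro g hg t ht
    obtain ⟨n, rfl⟩ := (mem_powers_iff_mem_zpowers (x := z)).2 hg
    clear hg
    show z ^ n * t * (z ^ n)⁻¹ ∈ T
    induction n with
    | zero => simpa using ht
    | succ n ih =>
      rw [show z ^ (n + 1) * t * (z ^ (n + 1))⁻¹ = z * (z ^ n * t * (z ^ n)⁻¹) * z⁻¹ by rw [pow_succ']; group]
      exact hinv _ ih
  have hmod := fixed_mod (Subgroup.zpowers z) (by norm_num : Nat.Prime 13) (by rw [Nat.card_zpowers, hz]) T hpowT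
  have hT3 : T.ncard ≤ 3 := by
    have : T = {x, y, x * y * x} := by ext t; simp [hT]
    rw [this]
    exact (Set.ncard_insert_le _ _).trans (by have := Set.ncard_insert_le y ({x * y * x} : Set G); simp at this ⊢; omega)
  have hpos : 0 < T.ncard := (Set.ncard_pos).2 ⟨x, Or.inl rfl⟩
  obtain ⟨v, hvT, hvz⟩ : (T ∩ (Subgroup.centralizer ((Subgroup.zpowers z : Subgroup G) : Set G) : Set G)).Nonempty := by
    apply Set.nonempty_of_ncard_ne_zero
    omega
  have hvD : v ∈ D := by
    rcases hvT with rfl | rfl | rfl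
    · exact hx
    · exact hy
    · exact conj_mem' hD hy hx
  have hzv : z ∈ Subgroup.centralizer ({v} : Set G) :=
    Subgroup.mem_centralizer_singleton_iff.2 (mem_centralizer_zpowers.1 hvz).symm.eq
  have := Subgroup.orderOf_dvd_natCard _ hzv
  rw [hz, card_centralizer hC hvD hcore] at this
  omega

variable {w : G} (hw : orderOf w = 3)

include hw

theorem multi_or_product {v : G} (hv : v ∈ D) (hwv : Commute w v) :
    (∃ x y, x ∈ D ∧ y ∈ D ∧ ¬ Commute x y ∧ w = x * y) ∨ ∃ d s, Multi D w v d s := by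
  obtain ⟨γ, hγ, R, hR, hact, hR1⟩ := order3_class hC hcore hv hw hwv
  by_cases h1 : R = [1, 64]
  · refine Or.inl ⟨_, _, (hγ.mem 1 base_isPt.1).1, (hγ.mem 64 base_isPt.2.2.2.1).1, fun hc => ?_, hR1 h1⟩
    exact absurd ((hγ.comm 1 64 base_isPt.1 base_isPt.2.2.2.1).1 hc) (by decide +kernel)
  right
  have hck := allP_iff.1 multi_checks R hR
  have he : eqL R [1, 64] = false := Bool.eq_false_iff.2 fun e => h1 (eqL_eq e)
  rw [he, cond_false] at hck
  set d := cond (eqL R [1, 64, 4, 256]) 9 18 with hd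
  set s := cond (eqL R [1, 64, 4, 256]) 3 9 with hs
  simp only [Bool.and_eq_true, allP_iff] at hck
  obtain ⟨⟨c1, c2⟩, c3⟩ := hck
  have hfix : ∀ t, isPt t = true → (Commute w (γ t) ↔ Nat.beq (pim R t) t = true) := by
    intro t ht
    obtain ⟨p1, p2⟩ := hact t ht
    constructor
    · intro h
      rw [h.eq, mul_inv_cancel_right] at p2
      rw [← hγ.inj t _ ht p1 p2]
      exact Nat.beq_refl t
    · intro h
      rw [Nat.eq_of_beq_eq_true h] at p2
      exact mul_inv_eq_iff_eq_mul.1 p2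
  have hmem : ∀ x ∈ fnb D w v, ∃ t, isPt t = true ∧ γ t = x ∧ t ∈ pts.filter (fun x => Nat.beq (pim R x) x) := by
    rintro x ⟨hx, hwx⟩
    obtain ⟨t, ht, rfl⟩ := hγ.surj x hx
    exact ⟨t, ht, rfl, List.mem_filter.2 ⟨mem_pts.2 ht, (hfix t ht).1 hwx⟩⟩
  have hbad : ∀ {p q : ℕ}, isPt p = true → isPt q = true → ¬ Commute (γ p) (γ q) → orth p q = false :=
    fun hp hq h => Bool.eq_false_iff.2 fun e => h ((hγ.comm _ _ hp hq).2 e)
  refine ⟨d, s, ?_, ?_, ?_, ?_⟩
  · rw [hd, hs]
    cases eqL R [1, 64, 4, 256] <;> simp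
  · rw [show fnb D w v = {x | x ∈ nb D v ∧ Commute w x} from rfl,
      ncard_loc hC hv hγ (fun x => Commute w x) (fun t => Nat.beq (pim R t) t) hfix]
    exact Nat.eq_of_beq_eq_true c1
  · intro x hx
    obtain ⟨p, hp, rfl, hpF⟩ := hmem x hx
    have e : fcls D w v (γ p) = {y | y ∈ nb D v ∧ (Commute w y ∧ (y = γ p ∨ ¬ Commute (γ p) y))} := by
      ext y; simp [fcls, fnb, and_assoc]
    rw [e, ncard_loc hC hv hγ _ (fun t => Nat.beq (pim R t) t && (Nat.beq t p || !orth p t)) fun t ht => ?_]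
    · exact Nat.eq_of_beq_eq_true (c2 p hpF)
    · rw [Bool.and_eq_true, Bool.or_eq_true, Bool.not_eq_true', hfix t ht]
      refine and_congr Iff.rfl (or_congr ⟨fun e => by rw [hγ.inj t p ht hp e]; exact Nat.beq_refl p,
        fun e => by rw [Nat.eq_of_beq_eq_true e]⟩ ?_)
      rw [hγ.comm p t hp ht, Bool.not_eq_true]
  · intro x hx y hy u hu h1 h2
    obtain ⟨p, hp, rfl, hpF⟩ := hmem x hx
    obtain ⟨q, hq, rfl, hqF⟩ := hmem y hy
    obtain ⟨t, ht, rfl, htF⟩ := hmem u hu
    have h := c3 p hpF q hqF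
    rw [hbad hp hq h1, Bool.false_or, allP_iff] at h
    have h' := h t htF
    rw [hbad hq ht h2, Bool.false_or, Bool.or_eq_true, Bool.not_eq_true'] at h'
    refine h'.imp (fun e => by rw [Nat.eq_of_beq_eq_true e]) fun e hc => ?_
    rw [(hγ.comm p t hp ht).1 hc] at e
    exact Bool.noConfusion e

omit hw in
theorem mem_fnb_symm {a b : G} (ha : a ∈ D) (hwa : Commute w a) (hb : b ∈ fnb D w a) : a ∈ fnb D w b :=
  ⟨mem_nb_comm ha hb.1, hwa⟩

variable (hmulti : ∀ v ∈ D, Commute w v → ∃ d s, Multi D w v d s)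

include hmulti

theorem multi_same {a b : G} (ha : a ∈ D) (hwa : Commute w a) (hb : b ∈ fnb D w a) {d s d' s' : ℕ}
    (h : Multi D w a d s) (h' : Multi D w b d' s') : d = d' ∧ s = s' := by
  have hset : fnb D w a \ fcls D w a b = fnb D w b \ fcls D w b a := by
    ext x
    simp only [Set.mem_sdiff, fcls, Set.mem_ofPred_eq, not_and, not_or, not_not]
    constructor
    · rintro ⟨hx, h1⟩
      obtain ⟨hne, hc⟩ := h1 hx
      exact ⟨⟨⟨hx.1.1, hne, hc⟩, hx.2⟩, fun _ => ⟨hx.1.2.1, hx.1.2.2⟩⟩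
    · rintro ⟨hx, h1⟩
      obtain ⟨hne, hc⟩ := h1 hx
      exact ⟨⟨⟨hx.1.1, hne, hc⟩, hx.2⟩, fun _ => ⟨hx.1.2.1, hx.1.2.2⟩⟩
  have e1 : (fnb D w a \ fcls D w a b).ncard = d - s := by
    rw [Set.ncard_sdiff (fun x hx => hx.1), h.card, h.cls b hb]
  have e2 : (fnb D w b \ fcls D w b a).ncard = d' - s' := by
    rw [Set.ncard_sdiff (fun x hx => hx.1), h'.card, h'.cls a (mem_fnb_symm hC hcore ha hwa hb)]
  rw [hset, e2] at e1
  rcases h.kind with ⟨rfl, rfl⟩ | ⟨rfl, rfl⟩ <;> rcases h'.kind with ⟨rfl, rfl⟩ | ⟨rfl, rfl⟩ <;> omega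

theorem fnb_eq_of_far {a b x : G} (ha : a ∈ D) (hwa : Commute w a) (hb : b ∈ fnb D w a) (hx : x ∈ fnb D w b)
    (hax : ¬ Commute a x) : fnb D w x = fnb D w a := by
  obtain ⟨d, s, h⟩ := hmulti a ha hwa
  -- a fixed neighbour commuting with the middle one
  have key : ∀ {b x : G}, b ∈ fnb D w a → x ∈ fnb D w b → ¬ Commute a x →
      ∀ q ∈ fnb D w a, q ≠ b → Commute b q → q ∈ fnb D w x := by
    intro b x hb hx hax q hq hqb hc
    obtain ⟨d', s', h'⟩ := hmulti b hb.1.1 hb.2
    have hqb' : q ∈ fnb D w b := ⟨⟨hq.1.1, hqb, hc⟩, hq.2⟩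
    refine ⟨⟨hq.1.1, fun e => hax (e ▸ hq.1.2.2), ?_⟩, hq.2⟩
    by_contra hn
    rcases h'.trans a (mem_fnb_symm hC hcore ha hwa hb) x hx q hqb' hax hn with e | e
    · exact hq.1.2.1 e.symm
    · exact e hq.1.2.2
  have hsub : fnb D w a ⊆ fnb D w x := by
    intro b' hb'
    by_cases h1 : b' = b
    · subst h1
      exact mem_fnb_symm hC hcore hb'.1.1 hb'.2 hx
    by_cases h2 : Commute b b'
    · exact key hb hx hax b' hb' h1 h2
    obtain ⟨q, hq, hq'⟩ : (fnb D w a \ fcls D w a b).Nonempty := by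
      apply Set.nonempty_of_ncard_ne_zero
      rw [Set.ncard_sdiff (fun x hx => hx.1), h.card, h.cls b hb]
      rcases h.kind with ⟨rfl, rfl⟩ | ⟨rfl, rfl⟩ <;> norm_num
    simp only [fcls, Set.mem_ofPred_eq, not_and, not_or, not_not] at hq'
    obtain ⟨hqb, hbq⟩ := hq' hq
    have hxq : x ∈ fnb D w q := mem_fnb_symm hC hcore hx.1.1 hx.2 (key hb hx hax q hq hqb hbq)
    have hb'q : b' ≠ q := fun e => h2 (e ▸ hbq)
    refine key hq hxq hax b' hb' hb'q ?_
    by_contra hn
    rcases h.trans b hb b' hb' q hq h2 (fun e => hn e.symm) with e | e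
    · exact hqb e.symm
    · exact e hbq
  obtain ⟨d', s', h'⟩ := hmulti b hb.1.1 hb.2
  obtain ⟨d'', s'', h''⟩ := hmulti x hx.1.1 hx.2
  obtain ⟨e1, -⟩ := multi_same hC hcore hw hmulti ha hwa hb h h'
  obtain ⟨e2, -⟩ := multi_same hC hcore hw hmulti hb.1.1 hb.2 hx h' h''
  refine (Set.eq_of_subset_of_ncard_le hsub ?_).symm
  rw [h.card, h''.card, e1, e2]

theorem same_fnb_eq {a b : G} (ha : a ∈ D) (hwa : Commute w a) (hb : b ∈ fnb D w a) :
    {x | x ∈ D ∧ Commute w x ∧ fnb D w x = fnb D w a} = fcls D w b a := by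
  ext x
  constructor
  · rintro ⟨hx, hwx, e⟩
    have hbx : b ∈ fnb D w x := by rw [e]; exact hb
    refine ⟨mem_fnb_symm hC hcore hx hwx hbx, ?_⟩
    by_contra h
    push Not at h
    have : x ∈ fnb D w a := ⟨⟨hx, h.1, h.2⟩, hwx⟩
    rw [← e] at this
    exact this.1.2.1 rfl
  · rintro ⟨hx, rfl | hax⟩
    · exact ⟨ha, hwa, rfl⟩
    · exact ⟨hx.1.1, hx.2, fnb_eq_of_far hC hcore hw hmulti ha hwa hb hx hax⟩

theorem fnb_split {a b : G} (ha : a ∈ D) (hwa : Commute w a) (hb : b ∈ fnb D w a) :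
    fnb D w a = fcls D w a b ∪ (fnb D w a ∩ fnb D w b) := by
  ext x
  refine ⟨fun hx => ?_, fun hx => hx.elim (fun h => h.1) (fun h => h.1)⟩
  by_cases h1 : x = b
  · exact Or.inl ⟨hx, Or.inl h1⟩
  by_cases h2 : Commute b x
  · exact Or.inr ⟨hx, ⟨hx.1.1, h1, h2⟩, hx.2⟩
  · exact Or.inl ⟨hx, Or.inr h2⟩

theorem fcomp_eq {a y : G} (ha : a ∈ D) (hwa : Commute w a) (hy : y ∈ fcomp D w a) :
    fcomp D w y = fcomp D w a := by
  rcases hy with ⟨-, -, e⟩ | hy
  · simp only [fcomp, e]
  · have hay := mem_fnb_symm hC hcore ha hwa hy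
    simp only [fcomp]
    rw [same_fnb_eq hC hcore hw hmulti ha hwa hy, same_fnb_eq hC hcore hw hmulti hy.1.1 hy.2 hay]
    conv_lhs => rw [fnb_split hC hcore hw hmulti hy.1.1 hy.2 hay]
    conv_rhs => rw [fnb_split hC hcore hw hmulti ha hwa hy, Set.inter_comm]
    exact Set.union_left_comm _ _ _

theorem fcomp_card {a : G} (ha : a ∈ D) (hwa : Commute w a) :
    (fcomp D w a).ncard = 12 ∨ (fcomp D w a).ncard = 27 := by
  obtain ⟨d, s, h⟩ := hmulti a ha hwa
  obtain ⟨b, hb⟩ : (fnb D w a).Nonempty := by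
    apply Set.nonempty_of_ncard_ne_zero
    rw [h.card]
    rcases h.kind with ⟨rfl, -⟩ | ⟨rfl, -⟩ <;> norm_num
  obtain ⟨d', s', h'⟩ := hmulti b hb.1.1 hb.2
  obtain ⟨-, es⟩ := multi_same hC hcore hw hmulti ha hwa hb h h'
  have hdis : Disjoint {x | x ∈ D ∧ Commute w x ∧ fnb D w x = fnb D w a} (fnb D w a) :=
    Set.disjoint_left.2 fun x hx hx' => by
      rw [← hx.2.2] at hx'
      exact hx'.1.2.1 rfl
  rw [fcomp, Set.ncard_union_eq hdis, same_fnb_eq hC hcore hw hmulti ha hwa hb,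
    h'.cls a (mem_fnb_symm hC hcore ha hwa hb), h.card, ← es]
  rcases h.kind with ⟨rfl, rfl⟩ | ⟨rfl, rfl⟩ <;> simp

open scoped Classical in
theorem fix_card_le : {x | x ∈ D ∧ Commute w x}.ncard ≤ 135 := by
  obtain ⟨-, a, ha, -⟩ := id hcore
  letI : Fintype D := Fintype.ofFinite D
  set S : Finset D := Finset.univ.filter fun x : D => Commute w (x : G) with hS
  have hf : {x | x ∈ D ∧ Commute w x}.ncard = S.card := by
    rw [← Set.ncard_coe_finset, ← Set.ncard_image_of_injective _ Subtype.val_injective]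
    congr 1
    ext x
    simp [hS, and_comm]
  have hdeg : ∀ x ∈ S, ((S.filter fun y : D => (y : G) ∈ nb D x).card : ℚ) ≤ 18 := by
    intro x hx
    simp only [hS, Finset.mem_filter, Finset.mem_univ, true_and] at hx
    obtain ⟨d, s, h⟩ := hmulti x x.2 hx
    have e : (S.filter fun y : D => (y : G) ∈ nb D x).card = d := by
      rw [← h.card, ← Set.ncard_coe_finset, ← Set.ncard_image_of_injective _ Subtype.val_injective]
      congr 1
      ext y
      simp only [fnb, Set.mem_image, Finset.mem_coe, Finset.mem_filter, hS, Finset.mem_univ, true_and]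
      exact ⟨fun ⟨u, hu, e⟩ => e ▸ ⟨hu.2, hu.1⟩, fun hy => ⟨⟨y, hy.1.1⟩, ⟨hy.2, hy.1⟩, rfl⟩⟩
    rw [e]
    rcases h.kind with ⟨rfl, -⟩ | ⟨rfl, -⟩ <;> norm_num
  have hsym : ∀ x y : D, eM D x y = eM D y x := by
    intro x y
    have h1 : ((y : G) ∈ nb D x) = ((x : G) ∈ nb D y) :=
      propext ⟨fun h => mem_nb_comm x.2 h, fun h => mem_nb_comm y.2 h⟩
    simp only [eM, adjM, allM, Matrix.smul_apply, Matrix.sub_apply, Matrix.add_apply, Matrix.of_apply,
      Matrix.one_apply, h1, eq_comm (a := x) (b := y)]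
  have hpos : 0 ≤ ∑ x ∈ S, ∑ y ∈ S, eM D x y := by
    have : ∑ x ∈ S, ∑ y ∈ S, eM D x y = ∑ z : D, (∑ x ∈ S, eM D z x) ^ 2 := by
      have e : ∀ x y, eM D x y = ∑ z, eM D z x * eM D z y := by
        intro x y
        conv_lhs => rw [← eM_sq hC.tt hC ha, Matrix.mul_apply]
        exact Finset.sum_congr rfl fun z _ => by rw [hsym x z]
      rw [Finset.sum_congr rfl fun x _ => Finset.sum_congr rfl fun y _ => e x y,
        Finset.sum_congr rfl fun x _ => Finset.sum_comm, Finset.sum_comm]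
      refine Finset.sum_congr rfl fun z _ => ?_
      rw [pow_two, Finset.sum_mul_sum]
    rw [this]
    exact Finset.sum_nonneg fun z _ => by positivity
  have hle : ∑ x ∈ S, ∑ y ∈ S, eM D x y ≤ (S.card : ℚ) * ((1 / 72) * (18 + 9 - (S.card : ℚ) / 5)) := by
    rw [← nsmul_eq_mul, ← Finset.sum_const]
    refine Finset.sum_le_sum fun x hx => ?_
    simp only [eM, adjM, allM, Matrix.smul_apply, Matrix.sub_apply, Matrix.add_apply, Matrix.of_apply,
      Matrix.one_apply, smul_eq_mul, mul_one, mul_ite, mul_zero, ← Finset.mul_sum, Finset.sum_sub_distrib,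
      Finset.sum_add_distrib, Finset.sum_const, Finset.sum_ite_eq, if_pos hx, Finset.sum_boole, nsmul_eq_mul]
    have := hdeg x hx
    linarith
  have := hpos.trans hle
  rw [hf]
  by_contra hgt
  push Not at hgt
  have h136 : (136 : ℚ) ≤ S.card := by exact_mod_cast hgt
  nlinarith

omit hmulti in
/-- An element of order three fixing a transposition commutes with no element of order thirteen. -/
theorem no_z_of_fix {z : G} (hz : orderOf z = 13) (hzw : Commute z w) {v : G} (hv : v ∈ D) (hwv : Commute w v) :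
    False := by
  have hD := hC.tt
  by_cases hp : ∃ x y, x ∈ D ∧ y ∈ D ∧ ¬ Commute x y ∧ w = x * y
  · obtain ⟨x, y, hx, hy, hxy, rfl⟩ := hp
    exact no_z_product hC hcore hx hy hxy hz hzw
  have hm : ∀ u ∈ D, Commute w u → ∃ d s, Multi D w u d s := fun u hu hwu =>
    (multi_or_product hC hcore hw hu hwu).resolve_left hp
  have hzc : ∀ (i : ℕ) {u : G}, Commute w u → Commute w (z ^ i * u * (z ^ i)⁻¹) := by
    intro i u h
    have hi : z ^ i * w * (z ^ i)⁻¹ = w := mul_inv_eq_iff_eq_mul.2 (hzw.pow_left i).eq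
    have := (Commute.conj_iff (z ^ i)).2 h
    rwa [hi] at this
  have hfn : ∀ (i : ℕ) (u x : G), x ∈ fnb D w u → z ^ i * x * (z ^ i)⁻¹ ∈ fnb D w (z ^ i * u * (z ^ i)⁻¹) :=
    fun i u x hx => ⟨(nb_conj hD _ u x).2 hx.1, hzc i hx.2⟩
  have hnofix : ∀ u ∈ D, ¬ Commute z u := fun u hu h => by
    have := Subgroup.orderOf_dvd_natCard _ (Subgroup.mem_centralizer_singleton_iff.2 h.eq :
      z ∈ Subgroup.centralizer ({u} : Set G))
    rw [hz, card_centralizer hC hu hcore] at this
    omega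
  have hfc : ∀ (i : ℕ) (u x : G), x ∈ fcomp D w u → z ^ i * x * (z ^ i)⁻¹ ∈ fcomp D w (z ^ i * u * (z ^ i)⁻¹) := by
    have hpow : ∀ i : ℕ, ∃ j : ℕ, z ^ j = (z ^ i)⁻¹ := fun i =>
      (mem_powers_iff_mem_zpowers (x := z)).2 (inv_mem (pow_mem (Subgroup.mem_zpowers z) i))
    rintro i u x (⟨hx, hwx, e⟩ | hx)
    · refine Or.inl ⟨conj_mem hD _ hx, hzc i hwx, ?_⟩
      obtain ⟨j, hj⟩ := hpow i
      have hsub : ∀ p q : G, fnb D w p = fnb D w q →
          fnb D w (z ^ i * p * (z ^ i)⁻¹) ⊆ fnb D w (z ^ i * q * (z ^ i)⁻¹) := by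
        intro p q e t ht
        have h1 := hfn j _ t ht
        rw [hj, show (z ^ i)⁻¹ * (z ^ i * p * (z ^ i)⁻¹) * (z ^ i)⁻¹⁻¹ = p by group, e] at h1
        have h2 := hfn i _ _ h1
        rwa [show z ^ i * ((z ^ i)⁻¹ * t * (z ^ i)⁻¹⁻¹) * (z ^ i)⁻¹ = t by group] at h2
      exact Set.Subset.antisymm (hsub x u e) (hsub u x e.symm)
    · exact Or.inr (hfn i u x hx)
  set u : ℕ → G := fun i => z ^ i * v * (z ^ i)⁻¹ with hu
  have huD : ∀ i, u i ∈ D ∧ Commute w (u i) := fun i => ⟨conj_mem hD _ hv, hzc i hwv⟩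
  have hcard := fcomp_card hC hcore hw hm hv hwv
  have hdis : ∀ i < 13, ∀ j < 13, i < j → Disjoint (fcomp D w (u i)) (fcomp D w (u j)) := by
    intro i hi j hj hij
    rw [Set.disjoint_left]
    intro x hxi hxj
    have e : fcomp D w (u i) = fcomp D w (u j) :=
      (fcomp_eq hC hcore hw hm (huD i).1 (huD i).2 hxi).symm.trans (fcomp_eq hC hcore hw hm (huD j).1 (huD j).2 hxj)
    set k := j - i with hk
    haveI := Fact.mk (show Nat.Prime 13 by norm_num)
    have hzk : orderOf (z ^ k) = 13 := by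
      refine orderOf_eq_prime (by rw [← pow_mul, mul_comm, pow_mul, ← hz, pow_orderOf_eq_one, one_pow]) ?_
      exact pow_ne_one_of_lt_orderOf (by omega) (by rw [hz]; omega)
    have hinv : ∀ g ∈ Subgroup.zpowers (z ^ k), ∀ t ∈ fcomp D w (u i), g * t * g⁻¹ ∈ fcomp D w (u i) := by
      intro g hg t ht
      obtain ⟨n, rfl⟩ := (mem_powers_iff_mem_zpowers (x := z ^ k)).2 hg
      clear hg
      show (z ^ k) ^ n * t * ((z ^ k) ^ n)⁻¹ ∈ _
      induction n with
      | zero => simpa using ht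
      | succ n ih =>
        have h1 := hfc k (u i) _ ih
        rw [show z ^ k * u i * (z ^ k)⁻¹ = u j by
          simp only [hu]; rw [show j = k + i by omega, pow_add]; group, ← e] at h1
        rwa [show (z ^ k) ^ (n + 1) * t * ((z ^ k) ^ (n + 1))⁻¹ =
          z ^ k * ((z ^ k) ^ n * t * ((z ^ k) ^ n)⁻¹) * (z ^ k)⁻¹ by rw [pow_succ']; group]
    have hmod := fixed_mod (Subgroup.zpowers (z ^ k)) (by norm_num : Nat.Prime 13)
      (by rw [Nat.card_zpowers, hzk]) _ hinv
    obtain ⟨t, ht, htc⟩ : (fcomp D w (u i) ∩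
        (Subgroup.centralizer ((Subgroup.zpowers (z ^ k) : Subgroup G) : Set G) : Set G)).Nonempty := by
      apply Set.nonempty_of_ncard_ne_zero
      rcases fcomp_card hC hcore hw hm (huD i).1 (huD i).2 with h | h <;> rw [h] at hmod <;> omega
    have htD : t ∈ D := ht.elim (fun h => h.1) (fun h => h.1.1)
    have hzt : Commute z t := by
      obtain ⟨m, hm'⟩ := Subgroup.mem_zpowers_iff.1 (show z ∈ Subgroup.zpowers (z ^ k) by
        have hle : Subgroup.zpowers (z ^ k) ≤ Subgroup.zpowers z :=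
          Subgroup.zpowers_le.2 (pow_mem (Subgroup.mem_zpowers z) k)
        rw [Subgroup.eq_of_le_of_card_ge hle (by rw [Nat.card_zpowers, Nat.card_zpowers, hz, hzk])]
        exact Subgroup.mem_zpowers z)
      rw [← hm']
      exact (mem_centralizer_zpowers.1 htc).symm.zpow_left m
    exact hnofix t htD hzt
  have hsum : ∀ n ≤ 13, 12 * n ≤ (⋃ i ∈ Finset.range n, fcomp D w (u i)).ncard := by
    intro n hn
    induction n with
    | zero => simp
    | succ n ih =>
      rw [Finset.range_add_one, Finset.set_biUnion_insert, Set.ncard_union_eq ?_]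
      · have := ih (by omega)
        rcases fcomp_card hC hcore hw hm (huD n).1 (huD n).2 with h | h <;> omega
      · rw [Set.disjoint_iUnion₂_right]
        intro i hi
        have := Finset.mem_range.1 hi
        exact (hdis i (by omega) n (by omega) this).symm
  have hsub : (⋃ i ∈ Finset.range 13, fcomp D w (u i)) ⊆ {x | x ∈ D ∧ Commute w x} := by
    intro x hx
    simp only [Set.mem_iUnion] at hx
    obtain ⟨i, -, hx⟩ := hx
    exact hx.elim (fun h => ⟨h.1, h.2.1⟩) (fun h => ⟨h.1.1, h.2⟩)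
  have := (hsum 13 le_rfl).trans (Set.ncard_le_ncard hsub)
  have := fix_card_le hC hcore hw hm
  omega

end Cfsg.Agent.TT95
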