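import Cfsg.Agent.TT95.U6Rigid
import Cfsg.Agent.TT95.NormData

/-!
Kernel searches for the maps of the point model that preserve orthogonality and commute with one of the
words of order 11, 7, 5.
-/

set_option autoImplicit false

namespace Cfsg.Agent.TT95.U6

/-- The action of a word of transvections, rightmost first. -/
noncomputable def pim (w : List ℕ) (x : ℕ) : ℕ := List.rec x (fun e _ ih => tv e ih) w

/-- Iterated action of a word. -/
noncomputable def iterP (w : List ℕ) (n x : ℕ) : ℕ := Nat.rec x (fun _ ih => pim w ih) n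

/-- The first nine points of `detBase`. -/
def base9 : List ℕ := [1, 64, 4, 256, 16, 1024, 5, 17, 9]

/-- The orbit of a point, as long as the given list. -/
noncomputable def orb (w : List ℕ) (o : List ℕ) : ℕ → List ℕ :=
  List.rec (fun _ => []) (fun _ _ ih c => c :: ih (pim w c)) o

def sameB (a b : Bool) : Bool := cond a b (!b)

/-- `x ↦ c` is compatible with the pairs chosen so far. -/
noncomputable def okA (x c : ℕ) (A : List (ℕ × ℕ)) : Bool :=
  allP (fun p => sameB (orth x p.1) (orth c p.2)) A

/-- Backtracking over the images of the orbit heads. -/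
noncomputable def srch (fin : List (ℕ × ℕ) → Bool) (w : List ℕ) (L : List (List ℕ × List ℕ)) :
    List (ℕ × ℕ) → Bool :=
  List.rec (fun A => fin A)
    (fun s _ ih A => allP (fun c => !okA (s.1.headD 0) c A ||
      (!okA (s.1.headD 0) c (s.1.zip (orb w s.1 c)) || ih (s.1.zip (orb w s.1 c) ++ A))) s.2) L

noncomputable def lk (A : List (ℕ × ℕ)) (b : ℕ) : ℕ :=
  List.rec 0 (fun p _ ih => cond (Nat.beq p.1 b) p.2 ih) A

noncomputable def eqL (l m : List ℕ) : Bool := zipAll Nat.beq l m

noncomputable def memL (S : List (List ℕ)) (l : List ℕ) : Bool := !allP (fun s => !eqL s l) S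

noncomputable def finS (S : List (List ℕ)) (A : List (ℕ × ℕ)) : Bool :=
  allP (fun b => !Nat.beq (lk A b) 0) base9 && memL S (base9.map (lk A))

/-- The product of the hermitian products around a triangle. -/
def phi (x y z : ℕ) : ℕ := sc (sc (h x y) (h y z)) (h z x)

noncomputable def fin5 (A : List (ℕ × ℕ)) : Bool :=
  allP (fun b => !Nat.beq (lk A b) 0) [1, 2436, 409] &&
    (!Nat.beq (phi (lk A 1) (lk A 2436) (lk A 409)) (phi 1 2436 409) || finS sols5 A)

/-- The candidates for each orbit. -/
def levels (steps : List (List ℕ)) (reps : List ℕ) : List (List ℕ × List ℕ) :=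
  steps.zip (reps :: List.replicate steps.length pts)

noncomputable def dataOK (r : ℕ) (w : List ℕ) (steps : List (List ℕ)) (reps : List ℕ) : Bool :=
  allP isPt w && allP (fun x => Nat.beq (iterP w r x) x) pts && !Nat.beq (pim w 1) 1 &&
    allP (fun x => !allP (fun i => !inMask (maskOf reps) (iterP w i x)) (List.range r)) pts &&
    allP (fun o => allP isPt o && eqL o (orb w o (o.headD 0))) steps &&
    Nat.beq ((steps.headD []).headD 0) 1

theorem data11 : dataOK 11 word11 steps11 reps11 = true := by decide +kernel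

theorem data7 : dataOK 7 word7 steps7 reps7 = true := by decide +kernel

theorem data5 : dataOK 5 word5 steps5 reps5 = true := by decide +kernel

theorem search11 : srch (finS sols11) word11 (levels steps11 reps11) [] = true := by decide +kernel

theorem search7 : srch (finS sols7) word7 (levels steps7 reps7) [] = true := by decide +kernel

theorem inner_check :
    allP isPt inner7 && allP (fun x => Nat.beq (pim inner7 (pim word7 x)) (iterP word7 3 (pim inner7 x))) pts &&
      (allP isPt inner5 && allP (fun x => Nat.beq (pim inner5 (pim word5 x)) (iterP word5 2 (pim inner5 x))) pts) =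
      true := by
  decide +kernel

theorem fix5_check :
    allP (fun x => Nat.beq (pim word5 x) x == inMask (maskOf fix5) x) pts && allP isPt fix5 &&
      allP (fun x => allP (fun y => Nat.beq x y || !orth x y) fix5) fix5 = true := by
  decide +kernel

/-- A map of the points preserving orthogonality and commuting with a word. -/
structure Pres (w : List ℕ) (σ : ℕ → ℕ) : Prop where
  mem : ∀ x ∈ pts, σ x ∈ pts
  pres : ∀ x ∈ pts, ∀ y ∈ pts, orth (σ x) (σ y) = orth x y
  comm : ∀ x ∈ pts, σ (pim w x) = pim w (σ x)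

theorem eqL_eq : ∀ {l m : List ℕ}, eqL l m = true → l = m
  | [], [], _ => rfl
  | [], _ :: _, h => absurd h Bool.false_ne_true
  | _ :: _, [], h => absurd h Bool.false_ne_true
  | a :: l, b :: m, h => by
    have he : eqL (a :: l) (b :: m) = (Nat.beq a b && eqL l m) := rfl
    rw [he, Bool.and_eq_true] at h
    rw [Nat.eq_of_beq_eq_true h.1, eqL_eq h.2]

theorem memL_mem {S : List (List ℕ)} {l : List ℕ} (h : memL S l = true) : l ∈ S := by
  simp only [memL, Bool.not_eq_true'] at h
  by_contra hn
  rw [Bool.eq_false_iff] at h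
  apply h
  rw [allP_iff]
  intro s hs
  rw [Bool.not_eq_true', Bool.eq_false_iff]
  exact fun e => hn (eqL_eq e ▸ hs)

theorem lk_mem : ∀ {A : List (ℕ × ℕ)} {b : ℕ}, lk A b ≠ 0 → (b, lk A b) ∈ A
  | [], _, h => absurd rfl h
  | (p, q) :: A, b, h => by
    have he : lk ((p, q) :: A) b = cond (Nat.beq p b) q (lk A b) := rfl
    rw [he] at h ⊢
    cases hp : Nat.beq p b with
    | true => rw [cond_true, Nat.eq_of_beq_eq_true hp]; exact List.mem_cons_self
    | false =>
      rw [hp, cond_false] at h
      rw [cond_false]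
      exact List.mem_cons_of_mem _ (lk_mem h)

/-- The pairs lie on the graph of `σ`. -/
def GraphOf (σ : ℕ → ℕ) (A : List (ℕ × ℕ)) : Prop := ∀ p ∈ A, p.1 ∈ pts ∧ σ p.1 = p.2

theorem lk_graph {σ : ℕ → ℕ} {A : List (ℕ × ℕ)} (hA : GraphOf σ A) {b : ℕ}
    (h : Nat.beq (lk A b) 0 = false) : σ b = lk A b :=
  (hA _ (lk_mem fun e => by rw [e] at h; simp at h)).2

theorem pim_pts {w : List ℕ} (hw : allP isPt w = true)
    (htv : ∀ e p, isPt e = true → isPt p = true → isPt (tv e p) = true) :
    ∀ {x : ℕ}, x ∈ pts → pim w x ∈ pts := by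
  induction w with
  | nil => exact fun hx => hx
  | cons e w ih =>
    intro x hx
    have h' := allP_iff.1 hw
    exact mem_pts.2 (htv e _ (h' e List.mem_cons_self)
      (mem_pts.1 (ih (allP_iff.2 fun a ha => h' a (List.mem_cons_of_mem _ ha)) hx)))

variable {w : List ℕ} {σ : ℕ → ℕ} (hσ : Pres w σ) (hw : ∀ x ∈ pts, pim w x ∈ pts)

include hσ hw

theorem orb_graph : ∀ (o : List ℕ) {x : ℕ}, x ∈ pts → o = orb w o x →
    GraphOf σ (o.zip (orb w o (σ x)))
  | [], _, _, _ => fun p hp => by simp at hp
  | a :: o, x, hx, e => by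
    have he : orb w (a :: o) x = x :: orb w o (pim w x) := rfl
    rw [he] at e
    obtain ⟨rfl, e'⟩ := List.cons.inj e
    intro p hp
    have he' : orb w (a :: o) (σ a) = σ a :: orb w o (pim w (σ a)) := rfl
    rw [he', List.zip_cons_cons, List.mem_cons] at hp
    rcases hp with rfl | hp
    · exact ⟨hx, rfl⟩
    · rw [← hσ.comm a hx] at hp
      exact orb_graph o (hw a hx) e' p hp

omit hw in
theorem okA_graph {x : ℕ} (hx : x ∈ pts) {A : List (ℕ × ℕ)} (hA : GraphOf σ A) : okA x (σ x) A = true := by
  rw [okA, allP_iff]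
  intro p hp
  obtain ⟨h1, h2⟩ := hA p hp
  rw [← h2, hσ.pres x hx _ h1]
  cases orth x p.1 <;> rfl

theorem srch_sound {fin : List (ℕ × ℕ) → Bool} : ∀ (L : List (List ℕ × List ℕ)) (A : List (ℕ × ℕ)),
    srch fin w L A = true →
    (∀ s ∈ L, s.1.headD 0 ∈ pts ∧ s.1 = orb w s.1 (s.1.headD 0) ∧ σ (s.1.headD 0) ∈ s.2) →
    GraphOf σ A → ∃ B, fin B = true ∧ GraphOf σ B
  | [], A, h, _, hA => ⟨A, h, hA⟩
  | s :: L, A, h, hL, hA => by
    have he : srch fin w (s :: L) A = allP (fun c => !okA (s.1.headD 0) c A ||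
        (!okA (s.1.headD 0) c (s.1.zip (orb w s.1 c)) ||
          srch fin w L (s.1.zip (orb w s.1 c) ++ A))) s.2 := rfl
    rw [he] at h
    obtain ⟨h1, h2, h3⟩ := hL s List.mem_cons_self
    have hg := orb_graph hσ hw s.1 h1 h2
    have := allP_iff.1 h _ h3
    rw [okA_graph hσ h1 hA, okA_graph hσ h1 hg, Bool.not_true, Bool.false_or, Bool.false_or] at this
    refine srch_sound L _ this (fun t ht => hL t (List.mem_cons_of_mem _ ht)) fun p hp => ?_
    rcases List.mem_append.1 hp with hp | hp
    · exact hg p hp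
    · exact hA p hp

end Cfsg.Agent.TT95.U6
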