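import Cfsg.Agent.TT95.NormSearch

/-!
The kernel search for the word of order 5.
-/

set_option autoImplicit false

namespace Cfsg.Agent.TT95.U6

theorem search5 : srch fin5 word5 (levels steps5 reps5) [] = true := by decide +kernel

end Cfsg.Agent.TT95.U6
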