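import Cfsg.Agent.TT95.HexPerm
import Cfsg.Agent.TT95.InvolFix
import Cfsg.Agent.TT95.NormBasic
import Cfsg.Agent.TT95.NormSearch
import Cfsg.Agent.TT95.NormSearch5

/-!
Type M(22): elements of order 11, 7, 5 fixing a transposition, and the orders of their normalisers in its
centraliser.
-/

set_option autoImplicit false
set_option linter.unusedSectionVars false

namespace Cfsg.Agent.TT95

open Cfsg.Agent.TT95.U6

variable {G : Type*} [Group G]

/-- The product of the transpositions labelled by a word. -/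
def wordEl (γ : ℕ → G) (w : List ℕ) : G := (w.map γ).prod

/-- The power of it that has odd order. -/
def yEl (γ : ℕ → G) (w : List ℕ) (r : ℕ) : G := wordEl γ w ^ (r + 1)

theorem wordEl_conj_fun (γ : ℕ → G) (g : G) (w : List ℕ) :
    wordEl (fun p => g * γ p * g⁻¹) w = g * wordEl γ w * g⁻¹ := by
  induction w with
  | nil => simp [wordEl]
  | cons e w ih =>
    simp only [wordEl, List.map_cons, List.prod_cons] at ih ⊢
    rw [ih]; group

theorem yEl_conj_fun (γ : ℕ → G) (g : G) (w : List ℕ) (r : ℕ) :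
    yEl (fun p => g * γ p * g⁻¹) w r = g * yEl γ w r * g⁻¹ := by
  rw [yEl, yEl, wordEl_conj_fun, conj_pow]

variable [Finite G] {D : Set G} (hC : Cfg22 D) [Gen D] {a : G} (ha : a ∈ D)

include hC ha

theorem wordEl_spec {γ : ℕ → G} (hγ : IsLocal D a γ) : ∀ {w : List ℕ}, allP isPt w = true →
    wordEl γ w ∈ Subgroup.closure (nb D a) ∧
      ∀ p, isPt p = true → isPt (pim w p) = true ∧ wordEl γ w * γ p * (wordEl γ w)⁻¹ = γ (pim w p)
  | [], _ => ⟨one_mem _, fun p hp => ⟨hp, by simp [wordEl]; rfl⟩⟩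
  | e :: w, h => by
    have he : allP isPt (e :: w) = (isPt e && allP isPt w) := rfl
    rw [he, Bool.and_eq_true] at h
    obtain ⟨h1, h2⟩ := wordEl_spec hγ h.2
    have hw : wordEl γ (e :: w) = γ e * wordEl γ w := by simp [wordEl]
    refine ⟨hw ▸ mul_mem (Subgroup.subset_closure (hγ.mem e h.1)) h1, fun p hp => ?_⟩
    obtain ⟨q1, q2⟩ := h2 p hp
    refine ⟨hγ.isPt_tv e _ h.1 q1, ?_⟩
    rw [hw, show γ e * wordEl γ w * γ p * (γ e * wordEl γ w)⁻¹ =
      γ e * (wordEl γ w * γ p * (wordEl γ w)⁻¹) * (γ e)⁻¹ by group, q2, hγ.conj e _ h.1 q1]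
    rfl

theorem pow_wordEl {γ : ℕ → G} (hγ : IsLocal D a γ) {w : List ℕ} (hw : allP isPt w = true) :
    ∀ (n p : ℕ), isPt p = true → isPt (iterP w n p) = true ∧
      wordEl γ w ^ n * γ p * (wordEl γ w ^ n)⁻¹ = γ (iterP w n p)
  | 0, p, hp => ⟨hp, by simp; rfl⟩
  | n + 1, p, hp => by
    obtain ⟨q1, q2⟩ := pow_wordEl hγ hw n p hp
    obtain ⟨r1, r2⟩ := (wordEl_spec hC ha hγ hw).2 _ q1
    refine ⟨r1, ?_⟩
    rw [pow_succ', show wordEl γ w * wordEl γ w ^ n * γ p * (wordEl γ w * wordEl γ w ^ n)⁻¹ =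
      wordEl γ w * (wordEl γ w ^ n * γ p * (wordEl γ w ^ n)⁻¹) * (wordEl γ w)⁻¹ by group, q2, r2]
    rfl

theorem eq_or_self_of_fix {γ : ℕ → G} (hγ : IsLocal D a γ) {z : G} (hz : z ∈ Subgroup.closure (nb D a))
    (h : ∀ p, isPt p = true → z * γ p * z⁻¹ = γ p) : z = 1 ∨ z = a := by
  refine kernel_lemma hC ha (commute_closure_nb hC.tt hz).symm fun b hb => ?_
  obtain ⟨p, hp, rfl⟩ := hγ.surj b hb
  exact mul_inv_eq_iff_eq_mul.1 (h p hp)

/-- Fixing the first nine base points fixes all neighbours. -/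
theorem eq_or_self_of_fix9 {γ : ℕ → G} (hγ : IsLocal D a γ) {z : G} (hz : z ∈ Subgroup.closure (nb D a))
    (h : ∀ b ∈ base9, z * γ b * z⁻¹ = γ b) : z = 1 ∨ z = a := by
  obtain ⟨σ, hσ⟩ := exists_induces hC ha hγ (commute_closure_nb hC.tt hz).symm
  refine eq_or_self_of_fix hC ha hγ hz fun p hp => ?_
  have h9 : ∀ k < 9, σ (refMap 0 (detBase.getD k 0)) = refMap 0 (detBase.getD k 0) := by
    intro k hk
    have hb : detBase.getD k 0 ∈ base9 := by
      interval_cases k <;> simp [detBase, base9]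
    obtain ⟨h1, h2⟩ := detBase_mem (k := k) (by omega)
    exact induces_eq hC ha hγ hσ (mem_pts.1 h1) (mem_pts.1 h1) (h _ hb)
  have := rigid (i := 0) (j := 0) (by norm_num) (by norm_num) σ (fun x hx => mem_pts.2 (hσ x (mem_pts.1 hx)).1)
    (fun x hx y hy => induces_orth hC ha hγ hσ (mem_pts.1 hx) (mem_pts.1 hy)) h9 p (mem_pts.2 hp)
  have e : σ p = p := this
  rw [← (hσ p hp).2, e]

omit hC ha in
theorem sc_lt4 : ∀ a < 4, ∀ b < 4, sc a b < 4 := by decide

omit hC ha in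
theorem fe_phi {F : Type} [Field F] [Fintype F] (hF : Fintype.card F = 4) {x y z : ℕ} (hx : isPt x = true)
    (hy : isPt y = true) (hz : isPt z = true) :
    fe hF (phi x y z) = hf (vecOf hF x) (vecOf hF y) * hf (vecOf hF y) (vecOf hF z) * hf (vecOf hF z) (vecOf hF x) := by
  rw [phi, hf_vecOf hF (isPt_spec hx).1 (isPt_spec hy).1, hf_vecOf hF (isPt_spec hy).1 (isPt_spec hz).1,
    hf_vecOf hF (isPt_spec hz).1 (isPt_spec hx).1, ← fe_fmul hF (h_lt _ _) (h_lt _ _),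
    ← fe_fmul hF (by exact sc_lt4 _ (h_lt _ _) _ (h_lt _ _)) (h_lt _ _)]
  rfl

/-- The hermitian triangle invariant. -/
theorem phi_induces {γ : ℕ → G} (hγ : IsLocal D a γ) {g : G} (hg : g ∈ Subgroup.closure (nb D a)) {σ : ℕ → ℕ}
    (hσ : Induces γ g σ) {x y z : ℕ} (hx : isPt x = true) (hy : isPt y = true) (hz : isPt z = true) :
    phi (σ x) (σ y) (σ z) = phi x y z := by
  haveI : Fact (Nat.Prime 2) := ⟨Nat.prime_two⟩
  letI : Fintype (GaloisField 2 2) := Fintype.ofFinite _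
  have hF : Fintype.card (GaloisField 2 2) = 4 := by
    rw [← Nat.card_eq_fintype_card, GaloisField.card 2 2 (by norm_num)]; norm_num
  obtain ⟨A, hA⟩ := exists_linear hC hF hγ hg
  have key : ∀ p, isPt p = true → ∃ c : GaloisField 2 2, c ≠ 0 ∧ act A (vecOf hF p) = c • vecOf hF (σ p) := by
    intro p hp
    obtain ⟨q, hq, e, c, hc, hAc⟩ := hA p hp
    exact ⟨c, hc, by rw [induces_eq hC ha hγ hσ hp hq e]; exact hAc⟩
  obtain ⟨cx, nx, ex⟩ := key x hx
  obtain ⟨cy, ny, ey⟩ := key y hy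
  obtain ⟨cz, nz, ez⟩ := key z hz
  refine fe_inj hF (sc_lt4 _ (sc_lt4 _ (h_lt _ _) _ (h_lt _ _)) _ (h_lt _ _))
    (sc_lt4 _ (sc_lt4 _ (h_lt _ _) _ (h_lt _ _)) _ (h_lt _ _)) ?_
  rw [fe_phi hF (hσ x hx).1 (hσ y hy).1 (hσ z hz).1, fe_phi hF hx hy hz]
  rw [← hf_act A (vecOf hF x), ← hf_act A (vecOf hF y) (vecOf hF z), ← hf_act A (vecOf hF z), ex, ey, ez]
  rw [hf_smul_left hF, hf_smul_right hF, hf_smul_left hF, hf_smul_right hF, hf_smul_left hF, hf_smul_right hF]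
  have h3 : cx ^ 3 * cy ^ 3 * cz ^ 3 = 1 := by
    rw [cube_eq_one hF nx, cube_eq_one hF ny, cube_eq_one hF nz]; ring
  linear_combination (-(hf (vecOf hF (σ x)) (vecOf hF (σ y)) * hf (vecOf hF (σ y)) (vecOf hF (σ z)) *
    hf (vecOf hF (σ z)) (vecOf hF (σ x)))) * h3

omit hC ha in
theorem dataOK_spec {r : ℕ} {w : List ℕ} {steps : List (List ℕ)} {reps : List ℕ}
    (h : dataOK r w steps reps = true) :
    allP isPt w = true ∧ (∀ x ∈ pts, iterP w r x = x) ∧ pim w 1 ≠ 1 ∧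
      (∀ x ∈ pts, ∃ i < r, iterP w i x ∈ reps) ∧
      (∀ o ∈ steps, o.headD 0 = 0 ∨ o.headD 0 ∈ pts) ∧ (∀ o ∈ steps, o = orb w o (o.headD 0)) ∧
      (steps.headD []).headD 0 = 1 := by
  simp only [dataOK, Bool.and_eq_true] at h
  obtain ⟨⟨⟨⟨⟨h1, h2⟩, h3⟩, h4⟩, h5⟩, h6⟩ := h
  refine ⟨h1, fun x hx => Nat.eq_of_beq_eq_true (allP_iff.1 h2 x hx), fun e => ?_, fun x hx => ?_, ?_, ?_,
    Nat.eq_of_beq_eq_true h6⟩
  · rw [e] at h3; exact absurd h3 (by decide)
  · have := allP_iff.1 h4 x hx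
    rw [Bool.not_eq_true', Bool.eq_false_iff] at this
    by_contra hn
    push Not at hn
    apply this
    rw [allP_iff]
    intro i hi
    rw [Bool.not_eq_true', Bool.eq_false_iff, ne_eq, inMask_maskOf]
    exact hn i (List.mem_range.1 hi)
  · intro o ho
    have := allP_iff.1 h5 o ho
    rw [Bool.and_eq_true] at this
    cases o with
    | nil => exact Or.inl rfl
    | cons x o => exact Or.inr (mem_pts.2 (allP_iff.1 this.1 x List.mem_cons_self))
  · intro o ho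
    have := allP_iff.1 h5 o ho
    rw [Bool.and_eq_true] at this
    exact eqL_eq this.2

/-- The search applied to a map of the neighbours. -/
theorem search_apply {γ : ℕ → G} (hγ : IsLocal D a γ) {r : ℕ} {w : List ℕ} {steps : List (List ℕ)}
    {reps : List ℕ} (hd : dataOK r w steps reps = true) {fin : List (ℕ × ℕ) → Bool}
    (hs : srch fin w (levels steps reps) [] = true) {σ : ℕ → ℕ} (hσ : Pres w σ) (h1 : σ 1 ∈ reps)
    (hne : ∀ o ∈ steps, o.headD 0 ≠ 0) :
    ∃ B, fin B = true ∧ GraphOf σ B := by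
  obtain ⟨hw, -, -, -, h5, h6, h7⟩ := dataOK_spec hd
  refine srch_sound hσ (fun x hx => pim_pts hw hγ.isPt_tv hx) _ [] hs ?_ (by simp [GraphOf])
  intro s hs'
  have hmem : s.1 ∈ steps := (List.of_mem_zip (a := s.1) (b := s.2) hs').1
  refine ⟨(h5 _ hmem).resolve_left (hne _ hmem), h6 _ hmem, ?_⟩
  cases steps with
  | nil => simp at hmem
  | cons o rest =>
    rw [levels, List.zip_cons_cons, List.mem_cons] at hs'
    rcases hs' with rfl | hs'
    · show σ (o.headD 0) ∈ reps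
      rw [show o.headD 0 = 1 from h7]
      exact h1
    · have := (List.of_mem_zip (a := s.1) (b := s.2) hs').2
      rw [List.eq_of_mem_replicate this]
      exact hσ.mem _ ((h5 _ hmem).resolve_left (hne _ hmem))

omit hC ha in
theorem finS_spec {S : List (List ℕ)} {σ : ℕ → ℕ} {B : List (ℕ × ℕ)} (h : finS S B = true) (hB : GraphOf σ B) :
    base9.map σ ∈ S := by
  simp only [finS, Bool.and_eq_true] at h
  have e : base9.map σ = base9.map (lk B) := List.map_inj_left.2 fun b hb =>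
    lk_graph hB (by simpa using allP_iff.1 h.1 b hb)
  rw [e]
  exact memL_mem h.2

theorem sols11_spec {γ : ℕ → G} (hγ : IsLocal D a γ) {g : G} (_hg : g ∈ Subgroup.closure (nb D a)) {σ : ℕ → ℕ}
    (_hi : Induces γ g σ) (hσ : Pres word11 σ) (h1 : σ 1 ∈ reps11) : base9.map σ ∈ sols11 := by
  obtain ⟨B, hB, hg'⟩ := search_apply hC ha hγ data11 search11 hσ h1 (by decide)
  exact finS_spec hB hg'

theorem sols7_spec {γ : ℕ → G} (hγ : IsLocal D a γ) {g : G} (_hg : g ∈ Subgroup.closure (nb D a)) {σ : ℕ → ℕ}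
    (_hi : Induces γ g σ) (hσ : Pres word7 σ) (h1 : σ 1 ∈ reps7) : base9.map σ ∈ sols7 := by
  obtain ⟨B, hB, hg'⟩ := search_apply hC ha hγ data7 search7 hσ h1 (by decide)
  exact finS_spec hB hg'

theorem sols5_spec {γ : ℕ → G} (hγ : IsLocal D a γ) {g : G} (hg : g ∈ Subgroup.closure (nb D a)) {σ : ℕ → ℕ}
    (hi : Induces γ g σ) (hσ : Pres word5 σ) (h1 : σ 1 ∈ reps5) : base9.map σ ∈ sols5 := by
  obtain ⟨B, hB, hg'⟩ := search_apply hC ha hγ data5 search5 hσ h1 (by decide)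
  simp only [fin5, Bool.and_eq_true, allP_iff, Bool.or_eq_true, Bool.not_eq_true'] at hB
  obtain ⟨hn, hor⟩ := hB
  refine finS_spec (hor.resolve_left fun hh => ?_) hg'
  have q : isPt 1 = true ∧ isPt 2436 = true ∧ isPt 409 = true := by decide +kernel
  have := phi_induces hC ha hγ hg hi q.1 q.2.1 q.2.2
  rw [lk_graph hg' (hn 1 (by simp)), lk_graph hg' (hn 2436 (by simp)), lk_graph hg' (hn 409 (by simp))] at this
  rw [this, Nat.beq_refl] at hh
  exact Bool.noConfusion hh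

/-- An element of odd prime order acting as the word. -/
structure IsWit (D : Set G) (a : G) (γ : ℕ → G) (r : ℕ) (w : List ℕ) (y : G) : Prop where
  loc : IsLocal D a γ
  mem : y ∈ Subgroup.closure (nb D a)
  order : orderOf y = r
  act : ∀ p, isPt p = true → isPt (pim w p) = true ∧ y * γ p * y⁻¹ = γ (pim w p)

theorem isWit_yEl {γ : ℕ → G} (hγ : IsLocal D a γ) {r : ℕ} (hr : r.Prime) (hodd : Odd r) {w : List ℕ}
    {steps : List (List ℕ)} {reps : List ℕ} (hd : dataOK r w steps reps = true) :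
    IsWit D a γ r w (yEl γ w r) := by
  obtain ⟨hw, h2, h3, -⟩ := dataOK_spec hd
  obtain ⟨hm, hact⟩ := wordEl_spec hC ha hγ hw
  have hrz : wordEl γ w ^ r = 1 ∨ wordEl γ w ^ r = a := eq_or_self_of_fix hC ha hγ (pow_mem hm r) fun p hp => by
    rw [(pow_wordEl hC ha hγ hw r p hp).2, h2 p (mem_pts.2 hp)]
  have h2r : (wordEl γ w ^ r) ^ 2 = 1 := by
    rcases hrz with e | e <;> rw [e]
    · exact one_pow 2
    · rw [pow_two, sq hC.tt ha]
  have hy : ∀ p, isPt p = true → isPt (pim w p) = true ∧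
      yEl γ w r * γ p * (yEl γ w r)⁻¹ = γ (pim w p) := by
    intro p hp
    refine ⟨(hact p hp).1, ?_⟩
    obtain ⟨q1, q2⟩ := pow_wordEl hC ha hγ hw (r + 1) p hp
    rw [yEl, q2]
    show γ (pim w (iterP w r p)) = _
    rw [h2 p (mem_pts.2 hp)]
  refine ⟨hγ, pow_mem hm _, ?_, hy⟩
  haveI := Fact.mk hr
  refine orderOf_eq_prime ?_ fun e => h3 ?_
  · obtain ⟨m, rfl⟩ := hodd
    rw [yEl, ← pow_mul, show (2 * m + 1 + 1) * (2 * m + 1) = (2 * m + 1) * 2 * (m + 1) by ring, pow_mul, pow_mul,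
      h2r, one_pow]
  · have h1 : isPt 1 = true := base_isPt.1
    obtain ⟨q1, q2⟩ := hy 1 h1
    rw [e, one_mul, inv_one, mul_one] at q2
    exact (hγ.inj 1 _ h1 q1 q2).symm

variable {γ : ℕ → G} {r : ℕ} {w : List ℕ} {y : G}

theorem IsWit.pow_act (hy : IsWit D a γ r w y) : ∀ (n p : ℕ), isPt p = true →
    isPt (iterP w n p) = true ∧ y ^ n * γ p * (y ^ n)⁻¹ = γ (iterP w n p)
  | 0, p, hp => ⟨hp, by simp; rfl⟩
  | n + 1, p, hp => by
    obtain ⟨q1, q2⟩ := IsWit.pow_act hy n p hp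
    obtain ⟨r1, r2⟩ := hy.act _ q1
    refine ⟨r1, ?_⟩
    rw [pow_succ', show y * y ^ n * γ p * (y * y ^ n)⁻¹ = y * (y ^ n * γ p * (y ^ n)⁻¹) * y⁻¹ by group, q2, r2]
    rfl

theorem IsWit.card_cent_le (hy : IsWit D a γ r w y) {reps : List ℕ} {sols : List (List ℕ)}
    (hreps : ∀ x ∈ pts, ∃ i < r, iterP w i x ∈ reps)
    (hsol : ∀ g ∈ Subgroup.closure (nb D a), ∀ σ, Induces γ g σ → Pres w σ → σ 1 ∈ reps → base9.map σ ∈ sols) :
    Nat.card (Subgroup.centralizer ({a} : Set G) ⊓ Subgroup.centralizer {y} : Subgroup G) ≤ r * sols.length * 2 := by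
  classical
  set C : Subgroup G := Subgroup.centralizer ({a} : Set G) ⊓ Subgroup.centralizer {y} with hCdef
  set T : Finset (ℕ × List ℕ) := Finset.range r ×ˢ sols.toFinset with hT
  have key : ∀ g : C, ∃ p : T, base9.map (fun b => y ^ (p : ℕ × List ℕ).1 * g * γ b * (y ^ (p : ℕ × List ℕ).1 * g)⁻¹) =
      (p : ℕ × List ℕ).2.map γ := by
    rintro ⟨g, hga, hgy⟩
    rw [centralizer_eq hC ha] at hga
    have hgy' : Commute g y := Subgroup.mem_centralizer_singleton_iff.1 hgy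
    obtain ⟨τ, hτ⟩ := exists_induces hC ha hy.loc (commute_closure_nb hC.tt hga).symm
    have h1p : isPt 1 = true := base_isPt.1
    obtain ⟨i, hi, him⟩ := hreps _ (mem_pts.2 (hτ 1 h1p).1)
    have hm : y ^ i * g ∈ Subgroup.closure (nb D a) := mul_mem (pow_mem hy.mem i) hga
    obtain ⟨σ, hσ⟩ := exists_induces hC ha hy.loc (commute_closure_nb hC.tt hm).symm
    have hσ1 : σ 1 ∈ reps := by
      obtain ⟨q1, q2⟩ := IsWit.pow_act hC ha hy i (τ 1) (hτ 1 h1p).1
      rw [induces_eq hC ha hy.loc hσ h1p q1 ?_]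
      · exact him
      · rw [show y ^ i * g * γ 1 * (y ^ i * g)⁻¹ = y ^ i * (g * γ 1 * g⁻¹) * (y ^ i)⁻¹ by group, ← (hτ 1 h1p).2, q2]
    have hc : Commute (y ^ i * g) y := ((Commute.refl y).pow_left i).mul_left hgy'
    have hP : Pres w σ := by
      refine ⟨fun x hx => mem_pts.2 (hσ x (mem_pts.1 hx)).1,
        fun x hx z hz => induces_orth hC ha hy.loc hσ (mem_pts.1 hx) (mem_pts.1 hz), fun x hx => ?_⟩
      obtain ⟨p1, p2⟩ := hy.act x (mem_pts.1 hx)
      obtain ⟨s1, s2⟩ := hσ x (mem_pts.1 hx)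
      obtain ⟨t1, t2⟩ := hy.act _ s1
      refine induces_eq hC ha hy.loc hσ p1 t1 ?_
      rw [← p2, ← t2, s2, show y ^ i * g * (y * γ x * y⁻¹) * (y ^ i * g)⁻¹ =
        (y ^ i * g * y) * γ x * (y ^ i * g * y)⁻¹ by group, hc.eq]
      group
    have hs := hsol _ hm σ hσ hP hσ1
    refine ⟨⟨(i, base9.map σ), Finset.mem_product.2 ⟨Finset.mem_range.2 hi, List.mem_toFinset.2 hs⟩⟩, ?_⟩
    show _ = (base9.map σ).map γ
    rw [List.map_map]
    refine List.map_inj_left.2 fun b hb => ?_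
    have hbp : isPt b = true := by
      have : allP isPt base9 = true := by decide +kernel
      exact allP_iff.1 this b hb
    exact ((hσ b hbp).2).symm
  choose Ψ hΨ using key
  have fib : ∀ g g' : C, Ψ g = Ψ g' → (g : G)⁻¹ * g' = 1 ∨ (g : G)⁻¹ * g' = a := by
    intro g g' e
    have hmem : (g : G)⁻¹ * g' ∈ Subgroup.closure (nb D a) := by
      have h1 := g.2.1; have h2 := g'.2.1
      rw [centralizer_eq hC ha] at h1 h2
      exact mul_mem (inv_mem h1) h2
    refine eq_or_self_of_fix9 hC ha hy.loc hmem fun b hb => ?_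
    have h := List.map_inj_left.1 ((hΨ g).trans ((e ▸ hΨ g').symm)) b hb
    have h' := mul_left_cancel (mul_right_cancel (show y ^ (Ψ g : ℕ × List ℕ).1 * (↑g * γ b * (↑g)⁻¹) *
      (y ^ (Ψ g : ℕ × List ℕ).1)⁻¹ = y ^ (Ψ g : ℕ × List ℕ).1 * (↑g' * γ b * (↑g')⁻¹) *
      (y ^ (Ψ g : ℕ × List ℕ).1)⁻¹ by simpa [mul_assoc] using h))
    rw [show (g : G)⁻¹ * g' * γ b * ((g : G)⁻¹ * g')⁻¹ = (g : G)⁻¹ * (↑g' * γ b * (↑g')⁻¹) * g by group, ← h']
    group
  have hex : ∀ p, ∃ g0 : C, (∃ g, Ψ g = p) → Ψ g0 = p := fun p => by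
    by_cases h : ∃ g, Ψ g = p
    · exact ⟨h.choose, fun _ => h.choose_spec⟩
    · exact ⟨1, fun h' => absurd h' h⟩
  choose rep hrep using hex
  have hinj : Function.Injective (fun g : C => (Ψ g, decide (g = rep (Ψ g)))) := by
    intro g g' e
    simp only [Prod.mk.injEq, decide_eq_decide] at e
    obtain ⟨e1, e2⟩ := e
    have h0 := hrep (Ψ g) ⟨g, rfl⟩
    by_cases hg : g = rep (Ψ g)
    · rw [hg, e2.1 hg, e1]
    · have hg' : ¬ g' = rep (Ψ g') := fun h => hg (e2.2 h)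
      rw [← e1] at hg'
      have k1 := (fib _ g h0).resolve_left fun h => hg (Subtype.ext (inv_mul_eq_one.1 h)).symm
      have k2 := (fib _ g' (h0.trans e1)).resolve_left fun h => hg' (Subtype.ext (inv_mul_eq_one.1 h)).symm
      exact Subtype.ext (mul_left_cancel (k1.trans k2.symm))
  refine (Nat.card_le_card_of_injective _ hinj).trans ?_
  rw [Nat.card_prod, Nat.card_eq_fintype_card (α := Bool), Fintype.card_bool, Nat.card_eq_fintype_card,
    Fintype.card_coe, hT, Finset.card_product, Finset.card_range]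
  exact Nat.mul_le_mul_right 2 (Nat.mul_le_mul_left r (List.toFinset_card_le sols))

/-- A word conjugating `y` to a power. -/
theorem IsWit.exists_inner (hy : IsWit D a γ r w y) (hodd : Odd r) {v : List ℕ} (hv : allP isPt v = true) {k : ℕ}
    (hcheck : ∀ x ∈ pts, pim v (pim w x) = iterP w k (pim v x)) :
    ∃ h ∈ Subgroup.centralizer ({a} : Set G), h * y * h⁻¹ = y ^ k := by
  obtain ⟨hm, hact⟩ := wordEl_spec hC ha hy.loc hv
  set h := wordEl γ v with hh
  refine ⟨h, by rw [centralizer_eq hC ha]; exact hm, ?_⟩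
  set z := (y ^ k * h)⁻¹ * (h * y) with hz
  have hzm : z ∈ Subgroup.closure (nb D a) :=
    mul_mem (inv_mem (mul_mem (pow_mem hy.mem k) hm)) (mul_mem hm hy.mem)
  have hfix : ∀ p, isPt p = true → z * γ p * z⁻¹ = γ p := by
    intro p hp
    obtain ⟨p1, p2⟩ := hy.act p hp
    obtain ⟨q1, q2⟩ := hact _ p1
    obtain ⟨s1, s2⟩ := hact p hp
    obtain ⟨t1, t2⟩ := IsWit.pow_act hC ha hy k _ s1
    rw [hz, show (y ^ k * h)⁻¹ * (h * y) * γ p * ((y ^ k * h)⁻¹ * (h * y))⁻¹ =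
      (y ^ k * h)⁻¹ * (h * (y * γ p * y⁻¹) * h⁻¹) * (y ^ k * h) by group, p2, q2, hcheck p (mem_pts.2 hp),
      ← t2, ← s2]
    group
  have e : h * y * h⁻¹ = y ^ k * (h * z * h⁻¹) := by rw [hz]; group
  rcases eq_or_self_of_fix hC ha hy.loc hzm hfix with h1 | h1
  · rw [e, h1, mul_one, mul_inv_cancel, mul_one]
  exfalso
  rw [h1, conj_fix_of_mem hC.tt hm] at e
  have := congrArg (fun t => t ^ r) e
  rw [conj_pow, ← hy.order, pow_orderOf_eq_one, mul_one, mul_inv_cancel,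
    ((commute_closure_nb hC.tt hy.mem).symm.pow_left k).mul_pow, ← pow_mul, mul_comm k, pow_mul, pow_orderOf_eq_one,
    one_pow, one_mul, hy.order] at this
  obtain ⟨m, rfl⟩ := hodd
  rw [pow_succ, pow_mul, pow_two, sq hC.tt ha, one_pow, one_mul] at this
  exact ne_one hC.tt ha this.symm

end Cfsg.Agent.TT95
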