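import Cfsg.Agent.TT95.OctEven
import Cfsg.Agent.TT95.Count24
import Cfsg.Agent.TT95.K45.Keys
import Cfsg.Agent.TT95.Swap

/-!
Type M(24): the forty-five octads through four commuting transpositions, indexed by the 45 keys.
-/

set_option autoImplicit false
set_option linter.unusedSectionVars false

namespace Cfsg.Agent.TT95

open Cfsg.Agent.TT95.U6 Cfsg.Agent.TT95.K45G

/-- An indexing of the octads through `W` by the keys. -/
structure OctChart {G : Type*} [Group G] [DecidableEq G] (D : Set G) (W : Finset G) (ι : Fin 45 → Finset G) : Prop where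
  oct : ∀ i, IsOct D (ι i) ∧ W ⊆ ι i
  inj : Function.Injective ι
  surj : ∀ X, IsOct D X → W ⊆ X → ∃ i, ι i = X
  cover : ∀ z ∈ perp D ↑W, ∃ i, z ∈ ι i
  comm : ∀ i j : Fin 45, i ≠ j → ∀ x ∈ ι i \ W, ∀ y ∈ ι j \ W, (Commute x y ↔ adj (i : ℕ) (j : ℕ) = true)

theorem kv_inj {i j : Fin 45} (h : kv i = kv j) : i = j := by
  have := List.all_eq_true.1 keyList_check i (List.mem_range.2 i.2)
  rw [Bool.and_eq_true, List.all_eq_true] at this
  have h2 := (Bool.and_eq_true_iff.1 (this.2 j (List.mem_range.2 j.2))).1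
  rw [Bool.or_eq_true] at h2
  rcases h2 with e | e
  · exact Fin.ext (by simpa using e)
  · simp [h] at e

theorem kv_mem (i : Fin 45) : kv i ∈ keySet := by
  have := List.all_eq_true.1 keyList_check i (List.mem_range.2 i.2)
  rw [Bool.and_eq_true] at this
  exact List.mem_toFinset.2 (List.elem_iff.1 this.1)

theorem kv_adj {i j : Fin 45} (h : i ≠ j) : adj (i : ℕ) (j : ℕ) = orth (kv i) (kv j) := by
  have := List.all_eq_true.1 keyList_check i (List.mem_range.2 i.2)
  rw [Bool.and_eq_true, List.all_eq_true] at this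
  have h2 := (Bool.and_eq_true_iff.1 (this.2 j (List.mem_range.2 j.2))).2
  rw [beq_iff_eq] at h2
  rw [h2, bne_iff_ne.2 (fun e => h (Fin.ext e)), Bool.true_and]

theorem kv_surj {k : ℕ} (hk : k ∈ keySet) : ∃ i : Fin 45, kv i = k := by
  have hf : Function.Injective fun i : Fin 45 => (⟨kv i, kv_mem i⟩ : {x // x ∈ keySet}) :=
    fun i j h => kv_inj (congrArg Subtype.val h)
  have hb := (Fintype.bijective_iff_injective_and_card _).2 ⟨hf, by simp [card_keySet]⟩
  obtain ⟨i, e⟩ := hb.2 ⟨k, hk⟩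
  exact ⟨i, congrArg Subtype.val e⟩

variable {G : Type*} [Group G] [Finite G] [DecidableEq G] {D : Set G} {d : G}
  {q : ModCenter (Subgroup.closure (nb D d))} (hG : Cfg24 D d q)

include hG

theorem exists_octChart {W : Finset G} (hW : W ∈ cliques D 4) : ∃ ι, OctChart D W ι := by
  classical
  have hD := hG.lay.tt
  haveI := loc_finite hD d
  haveI := loc_finite hG.loc.lay.tt q
  obtain ⟨hc, hD', hcm⟩ := mem_cliques.1 hW
  obtain ⟨a, T, haT, rfl, hT⟩ := Finset.card_eq_succ.1 hc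
  obtain ⟨b, c, e, hbc, hbe, hce, rfl⟩ := Finset.card_eq_three.1 hT
  simp only [Finset.mem_insert, Finset.mem_singleton, not_or] at haT
  obtain ⟨f, hf⟩ := hG.step.iso a (hD' a (by simp))
  have hb : b ∈ nb D a := ⟨hD' b (by simp), Ne.symm haT.1, hcm a (by simp) b (by simp)⟩
  have hc' : c ∈ nb D a := ⟨hD' c (by simp), Ne.symm haT.2.1, hcm a (by simp) c (by simp)⟩
  have he : e ∈ nb D a := ⟨hD' e (by simp), Ne.symm haT.2.2, hcm a (by simp) e (by simp)⟩
  have hcb : c ∈ nb D b := ⟨hD' c (by simp), Ne.symm hbc, hcm b (by simp) c (by simp)⟩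
  have heb : e ∈ nb D b := ⟨hD' e (by simp), Ne.symm hbe, hcm b (by simp) e (by simp)⟩
  have hec : e ∈ nb D c := ⟨hD' e (by simp), Ne.symm hce, hcm c (by simp) e (by simp)⟩
  have kc := (hf.mem_nb_iff hb hc').2 hcb
  have ke := (hf.mem_nb_iff hb he).2 heb
  obtain ⟨g, hg⟩ := hG.loc.step.iso (f b) (hf.mem hb)
  have hC22 := hG.loc.loc
  have kQ := hg.mem kc
  obtain ⟨γ, hγ, hγe⟩ := local_one hC22 kQ (b := g (f e)) ((hg.mem_nb_iff kc ke).2 ((hf.mem_nb_iff hc' he).2 hec))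
  set W : Finset G := insert a {b, c, e} with hWdef
  set E2 := locSet (locSet D d) q with hE2
  have hWc : (↑W : Set G) = insert a (insert b ({c, e} : Set G)) := by simp [hWdef]
  obtain ⟨s1, e1⟩ := hf.image_perp (Set.insert_subset hb (Set.insert_subset hc' (Set.singleton_subset_iff.2 he)))
  rw [← hWc, Set.image_insert_eq, Set.image_pair] at e1
  rw [← hWc] at s1
  obtain ⟨s2, e2⟩ := hg.image_perp (S := {f c, f e}) (Set.insert_subset kc (Set.singleton_subset_iff.2 ke))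
  rw [Set.image_pair] at e2
  have hφ : ∀ z ∈ perp D ↑W, ∃ x, isR x ∧ γ x = g (f z) := by
    intro z hz
    have hm : g (f z) ∈ perp E2 {g (f c), g (f e)} := e2 ▸ ⟨f z, e1 ▸ ⟨z, hz, rfl⟩, rfl⟩
    obtain ⟨m1, m2, m3⟩ := hm
    refine exists_isR hC22 kQ hγ hγe m1 (m3 _ (Or.inl rfl)).symm (m3 _ (Or.inr rfl)).symm ?_ ?_
    · exact fun h => m2 (Or.inl h)
    · exact fun h => m2 (Or.inr h)
  have hψ : ∀ x, isR x → ∃ z ∈ perp D ↑W, γ x = g (f z) := by
    intro x hx
    obtain ⟨x1, x2, x3⟩ := isR_commute hC22 kQ hγ hγe hx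
    have hm : γ x ∈ perp E2 {g (f c), g (f e)} := by
      refine ⟨(hγ.mem x hx.1).1, ?_, ?_⟩
      · rintro (h | h)
        · exact (hγ.mem x hx.1).2.1 h
        · exact x3 h
      · rintro w (rfl | rfl)
        · exact x1.symm
        · exact x2.symm
    rw [← e2, ← e1] at hm
    obtain ⟨_, ⟨z, hz, rfl⟩, h⟩ := hm
    exact ⟨z, hz, h.symm⟩
  have hco : ∀ z ∈ perp D ↑W, ∀ z' ∈ perp D ↑W, (Commute (g (f z)) (g (f z')) ↔ Commute z z') :=
    fun z hz z' hz' => by
      rw [hg.comm _ (s2 (e1 ▸ ⟨z, hz, rfl⟩)) _ (s2 (e1 ▸ ⟨z', hz', rfl⟩)), hf.comm z (s1 hz) z' (s1 hz')]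
  have hphinj : ∀ z ∈ perp D ↑W, ∀ z' ∈ perp D ↑W, g (f z) = g (f z') → z = z' := fun z hz z' hz' h =>
    hf.inj (s1 hz) (s1 hz') (hg.inj (s2 (e1 ▸ ⟨z, hz, rfl⟩)) (s2 (e1 ▸ ⟨z', hz', rfl⟩)) h)
  choose lab hlabR hlab using hφ
  choose rep hrep hrep' using fun i : Fin 45 => hψ (kv i) (isR_key (kv_mem i)).1
  have key_iff : ∀ z (hz : z ∈ perp D ↑W) z' (hz' : z' ∈ perp D ↑W),
      key (lab z hz) = key (lab z' hz') ↔ ∀ t ∈ perp D ↑W, (Commute t z ↔ Commute t z') := by
    intro z hz z' hz'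
    rw [key_eq_iff hC22 kQ hγ hγe (hlabR z hz) (hlabR z' hz'), hlab, hlab]
    constructor
    · intro h t ht
      have hm : g (f t) ∈ perp E2 {g (f c), g (f e)} := e2 ▸ ⟨f t, e1 ▸ ⟨t, ht, rfl⟩, rfl⟩
      have := h _ hm.1 (hm.2.2 _ (Or.inl rfl)).symm (hm.2.2 _ (Or.inr rfl)).symm
      rwa [hco t ht z hz, hco t ht z' hz'] at this
    · intro h t htD hta htb
      by_cases t1 : t = g (f c)
      · subst t1
        have m1 : g (f z) ∈ perp E2 {g (f c), g (f e)} := e2 ▸ ⟨f z, e1 ▸ ⟨z, hz, rfl⟩, rfl⟩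
        have m2 : g (f z') ∈ perp E2 {g (f c), g (f e)} := e2 ▸ ⟨f z', e1 ▸ ⟨z', hz', rfl⟩, rfl⟩
        exact iff_of_true (m1.2.2 _ (Or.inl rfl)) (m2.2.2 _ (Or.inl rfl))
      by_cases t2 : t = g (f e)
      · subst t2
        have m1 : g (f z) ∈ perp E2 {g (f c), g (f e)} := e2 ▸ ⟨f z, e1 ▸ ⟨z, hz, rfl⟩, rfl⟩
        have m2 : g (f z') ∈ perp E2 {g (f c), g (f e)} := e2 ▸ ⟨f z', e1 ▸ ⟨z', hz', rfl⟩, rfl⟩
        exact iff_of_true (m1.2.2 _ (Or.inr rfl)) (m2.2.2 _ (Or.inr rfl))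
      have hm : t ∈ perp E2 {g (f c), g (f e)} := by
        refine ⟨htD, ?_, ?_⟩
        · rintro (h' | h')
          · exact t1 h'
          · exact t2 h'
        · rintro w (rfl | rfl)
          · exact hta.symm
          · exact htb.symm
      rw [← e2, ← e1] at hm
      obtain ⟨_, ⟨t', ht', rfl⟩, rfl⟩ := hm
      rw [hco t' ht' z hz, hco t' ht' z' hz']
      exact h t' ht'
  have hnd5 : ∀ z ∈ perp D ↑W, (insert z W).card = 5 ∧ (∀ u ∈ insert z W, u ∈ D) ∧
      ∀ u ∈ insert z W, ∀ v ∈ insert z W, Commute u v := by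
    intro z hz
    refine ⟨by rw [Finset.card_insert_of_notMem hz.2.1, hc], ?_, ?_⟩
    · intro u hu
      rcases Finset.mem_insert.1 hu with rfl | hu
      · exact hz.1
      · exact hD' u hu
    · intro u hu v hv
      rcases Finset.mem_insert.1 hu with rfl | hu <;> rcases Finset.mem_insert.1 hv with h | hv
      · rw [h]
      · exact (hz.2.2 v hv).symm
      · rw [h]; exact hz.2.2 u hu
      · exact hcm u hu v hv
  choose oc hoc hoc5 using fun z (hz : z ∈ perp D ↑W) =>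
    exists_oct hG (hnd5 z hz).1 (hnd5 z hz).2.1 (hnd5 z hz).2.2
  -- the members of the octad outside `W`
  have hout : ∀ (X : Finset G), IsOct D X → W ⊆ X → ∀ x ∈ X \ W, x ∈ perp D ↑W := by
    intro X hX hWX x hx
    obtain ⟨h1, h2⟩ := Finset.mem_sdiff.1 hx
    exact ⟨hX.cl.1 x h1, h2, fun w hw => hX.cl.2 w (hWX hw) x h1⟩
  have huniq : ∀ (X : Finset G), IsOct D X → W ⊆ X → ∀ x (hx : x ∈ perp D ↑W), x ∈ X → X = oc x hx := by
    intro X hX hWX x hx hxX
    exact oct_unique hG hX (hoc x hx) (hnd5 x hx).1 (Finset.insert_subset hxX hWX) (hoc5 x hx)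
  have hsame : ∀ z (hz : z ∈ perp D ↑W) z' (hz' : z' ∈ perp D ↑W),
      z' ∈ oc z hz ↔ key (lab z' hz') = key (lab z hz) := by
    intro z hz z' hz'
    have hfw : ∀ z' (hz' : z' ∈ perp D ↑W), z' ∈ oc z hz → key (lab z' hz') = key (lab z hz) := by
      intro z' hz' hm
      have e' : oc z' hz' = oc z hz := (huniq _ (hoc z hz) ((Finset.subset_insert _ _).trans (hoc5 z hz)) z' hz' hm).symm
      rw [key_iff z' hz' z hz]
      intro t ht
      constructor
      · intro h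
        refine oct_commute_rest hG (hoc z' hz') (hnd5 z' hz').1 (hoc5 z' hz') ht.1 (fun x hx => ?_) z ?_
        · rcases Finset.mem_insert.1 hx with rfl | hx
          · exact h
          · exact (ht.2.2 x hx).symm
        · rw [e']; exact hoc5 z hz (Finset.mem_insert_self _ _)
      · intro h
        refine oct_commute_rest hG (hoc z hz) (hnd5 z hz).1 (hoc5 z hz) ht.1 (fun x hx => ?_) z' hm
        rcases Finset.mem_insert.1 hx with rfl | hx
        · exact h
        · exact (ht.2.2 x hx).symm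
    refine ⟨hfw z' hz', fun h => ?_⟩
    have hWs : W ⊆ oc z hz := (Finset.subset_insert _ _).trans (hoc5 z hz)
    have hmap : ∀ x ∈ oc z hz \ W, ∃ r ∈ fibre (key (lab z hz)), γ r = g (f x) := fun x hx => by
      have hxp := hout _ (hoc z hz) hWs x hx
      exact ⟨lab x hxp, hfw x hxp (Finset.mem_sdiff.1 hx).1 ▸ mem_fibre (hlabR x hxp), hlab x hxp⟩
    have hkR := hlabR z hz
    have h4 : ((fibre (key (lab z hz))).image γ).card ≤ 4 :=
      Finset.card_image_le.trans (le_of_eq (fibre_card (key_mem hkR)))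
    have him : ((oc z hz \ W).image fun x => g (f x)) = (fibre (key (lab z hz))).image γ := by
      refine Finset.eq_of_subset_of_card_le (fun w hw => ?_) (h4.trans (le_of_eq ?_))
      · obtain ⟨x, hx, rfl⟩ := Finset.mem_image.1 hw
        obtain ⟨r, hr, e'⟩ := hmap x hx
        exact Finset.mem_image.2 ⟨r, hr, e'⟩
      · rw [Finset.card_image_of_injOn, Finset.card_sdiff_of_subset hWs, (hoc z hz).card, hc]
        intro x hx y hy exy
        exact hphinj x (hout _ (hoc z hz) hWs x hx) y (hout _ (hoc z hz) hWs y hy) exy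
    have : g (f z') ∈ (fibre (key (lab z hz))).image γ :=
      Finset.mem_image.2 ⟨lab z' hz', h ▸ mem_fibre (hlabR z' hz'), hlab z' hz'⟩
    rw [← him] at this
    obtain ⟨x, hx, ex⟩ := Finset.mem_image.1 this
    rw [← hphinj x (hout _ (hoc z hz) hWs x hx) z' hz' ex]
    exact (Finset.mem_sdiff.1 hx).1
  have hkrep : ∀ i, key (lab (rep i) (hrep i)) = kv i := by
    intro i
    obtain ⟨kR, kk⟩ := isR_key (kv_mem i)
    have : lab (rep i) (hrep i) = kv i :=
      hγ.inj _ _ (hlabR _ _).1 kR.1 (by rw [hlab, hrep'])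
    rw [this, kk]
  refine ⟨fun i => oc (rep i) (hrep i), fun i => ⟨hoc _ _, (Finset.subset_insert _ _).trans (hoc5 _ _)⟩, ?_, ?_, ?_, ?_⟩
  · intro i j h
    have hm : rep j ∈ oc (rep i) (hrep i) := by
      rw [show oc (rep i) (hrep i) = oc (rep j) (hrep j) from h]; exact hoc5 _ _ (Finset.mem_insert_self _ _)
    have := (hsame _ _ _ (hrep j)).1 hm
    rw [hkrep, hkrep] at this
    exact (kv_inj this).symm
  · intro X hX hWX
    obtain ⟨x, hx⟩ : (X \ W).Nonempty := by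
      rw [← Finset.card_pos, Finset.card_sdiff_of_subset hWX, hX.card, hc]; norm_num
    have hxp := hout X hX hWX x hx
    obtain ⟨i, hi⟩ := kv_surj (key_mem (hlabR x hxp))
    refine ⟨i, (huniq X hX hWX (rep i) (hrep i) ?_).symm⟩
    rw [huniq X hX hWX x hxp (Finset.mem_sdiff.1 hx).1, hsame x hxp (rep i) (hrep i), hkrep, hi]
  · intro z hz
    obtain ⟨i, hi⟩ := kv_surj (key_mem (hlabR z hz))
    exact ⟨i, (hsame _ _ _ hz).2 (by rw [hkrep, hi])⟩
  · intro i j hij x hx y hy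
    have hxp := hout _ (hoc _ _) ((Finset.subset_insert _ _).trans (hoc5 _ _)) x hx
    have hyp := hout _ (hoc _ _) ((Finset.subset_insert _ _).trans (hoc5 _ _)) y hy
    rw [← hco x hxp y hyp, ← hlab x hxp, ← hlab y hyp, orth_keys hC22 kQ hγ hγe (hlabR x hxp) (hlabR y hyp),
      (hsame _ _ x hxp).1 (Finset.mem_sdiff.1 hx).1, (hsame _ _ y hyp).1 (Finset.mem_sdiff.1 hy).1, hkrep, hkrep,
      kv_adj hij]

end Cfsg.Agent.TT95
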