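import Cfsg.Agent.TT95.PairQuot
import Cfsg.Agent.Lib.LargeExtraspecial.Pullback

/-!
Type M(22): the kernel of the action of a pair stabiliser on the 45 keys, of order 2^10: a direct product
of a group of order two and an extraspecial group of order 2^9.
-/

set_option autoImplicit false
set_option linter.unusedSectionVars false

namespace Cfsg.Agent.TT95

open Cfsg.Agent.TT95.U6 Cfsg.Agent.TT95.K45G

/-- The structure of the kernel. -/
structure PairCore {G : Type*} [Group G] (a b : G) (E : Subgroup G) : Prop where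
  card : Nat.card E = 1024
  pair : a ∈ E ∧ b ∈ E
  le_fix : ∀ g ∈ E, g * a * g⁻¹ = a ∧ g * b * g⁻¹ = b
  comm : ∀ x ∈ E, ∀ y ∈ E, x * y * x⁻¹ * y⁻¹ = 1 ∨ x * y * x⁻¹ * y⁻¹ = a * b
  squares : ∀ x ∈ E, x * x = 1 ∨ x * x = a * b
  center : ∀ x ∈ E, (∀ y ∈ E, Commute x y) → x = 1 ∨ x = a ∨ x = b ∨ x = a * b
  noncomm : ∃ x ∈ E, ∃ y ∈ E, ¬ Commute x y
  split : ∃ F : Subgroup G, F ≤ E ∧ a ∉ F ∧ a * b ∈ F ∧ Nat.card F = 512

variable {G : Type*} [Group G] [Finite G] {D : Set G} (hC : Cfg22 D) [Gen D] {a b : G} (ha : a ∈ D)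
  {γ : ℕ → G} (hγ : IsLocal D a γ) (hb : γ e1 = b)

include hC ha hγ hb

theorem fibre_four_prod {k x y p q : ℕ} (hx : x ∈ fibre k) (hy : y ∈ fibre k) (hp : p ∈ fibre k) (hq : q ∈ fibre k)
    (n1 : x ≠ y) (n2 : x ≠ p) (n3 : x ≠ q) (n4 : y ≠ p) (n5 : y ≠ q) (n6 : p ≠ q) :
    γ x * γ y * γ p * γ q = a * b := by
  obtain ⟨u, v, w, hF, -, -, -, m1, m2, m3, hprod⟩ := fibre_prod hC ha hγ hb hx
  rw [hF] at hy hp hq
  simp only [Finset.mem_insert, Finset.mem_singleton] at hy hp hq
  have hk : ∀ t, t ∈ ({x, u, v, w} : Finset ℕ) → t ∈ fibre k := fun t ht => hF ▸ ht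
  have hcc : ∀ t ∈ ({x, u, v, w} : Finset ℕ), ∀ t' ∈ ({x, u, v, w} : Finset ℕ), Commute (γ t) (γ t') :=
    fun t ht t' ht' => (hγ.comm t t' (fibre_spec (hk t ht)).1.1 (fibre_spec (hk t' ht')).1.1).2
      (fibre_orth (hk t ht) (hk t' ht'))
  have hsub : [y, p, q] ⊆ [u, v, w] := by
    intro t ht
    simp only [List.mem_cons, List.not_mem_nil, or_false] at ht ⊢
    rcases ht with rfl | rfl | rfl
    · exact hy.resolve_left (Ne.symm n1)
    · exact hp.resolve_left (Ne.symm n2)
    · exact hq.resolve_left (Ne.symm n3)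
  have hnd : [y, p, q].Nodup := by simp [n4, n5, n6]
  have hperm : [y, p, q].Perm [u, v, w] := (hnd.subperm hsub).perm_of_length_le (by simp)
  have hpw : ([y, p, q].map γ).Pairwise Commute := List.pairwise_of_forall_mem_list fun s0 hs0 t0 ht0 => by
    obtain ⟨s, hs, rfl⟩ := List.mem_map.1 hs0
    obtain ⟨t, ht, rfl⟩ := List.mem_map.1 ht0
    have hs' := hsub hs
    have ht' := hsub ht
    simp only [List.mem_cons, List.not_mem_nil, or_false] at hs' ht'
    refine hcc s ?_ t ?_ <;> simp only [Finset.mem_insert, Finset.mem_singleton]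
    · exact Or.inr hs'
    · exact Or.inr ht'
  have e := (hperm.map γ).prod_eq' hpw
  simp only [List.map_cons, List.map_nil, List.prod_cons, List.prod_nil, mul_one] at e
  rw [← hprod]
  simp only [mul_assoc]
  rw [e]

/-- The kernel of the action on keys. -/
theorem exists_pairCore (hcore : Core22 G D) {Ψ : pairStab a b →* autGraph} (hsurj : Function.Surjective Ψ)
    (hspec : ∀ (g : pairStab a b) (i : Fin 45) (y : ℕ), isR y → γ y = (g : G) * γ (kv i) * (g : G)⁻¹ →
      kv (((Ψ g).1 i : Fin 45) : ℕ) = key y) :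
    PairCore a b (Ψ.ker.map (pairStab a b).subtype) ∧
      ∀ g : pairStab a b, (∀ z ∈ Ψ.ker.map (pairStab a b).subtype, (g : G) * z * (g : G)⁻¹ = z) → Ψ g = 1 := by
  classical
  have hD := hC.tt
  obtain ⟨hbD, hba, hab⟩ := b_mem hC ha hγ hb
  set E := Ψ.ker.map (pairStab a b).subtype with hE
  obtain ⟨e, he⟩ := exists_index
  have hkR : ∀ i : Fin 45, isR (kv i) ∧ key (kv i) = kv i := fun i => he i ▸ isR_key (e i).2
  have hkinj : ∀ {i j : Fin 45}, kv i = kv j → i = j := fun {i j} h => e.injective (Subtype.ext (by rw [he, he, h]))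
  have hEcard : Nat.card E = 1024 := by
    have h := Subgroup.card_eq_card_quotient_mul_card_subgroup Ψ.ker
    rw [card_pairStab hC ha hγ hb hcore, Nat.card_congr (QuotientGroup.quotientKerEquivOfSurjective Ψ hsurj).toEquiv,
      card_autGraph] at h
    rw [hE, ← Nat.card_congr (Ψ.ker.equivMapOfInjective _ (pairStab a b).subtype_injective).toEquiv]
    omega
  -- elements acting trivially on the key representatives
  have hkerI : ∀ g (hg : g ∈ pairStab a b), (∀ i : Fin 45, ∃ y, isR y ∧ γ y = g * γ (kv i) * g⁻¹ ∧ key y = kv i) →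
      g ∈ E := by
    intro g hg h
    refine ⟨⟨g, hg⟩, ?_, rfl⟩
    show Ψ ⟨g, hg⟩ = 1
    refine Subtype.ext (Equiv.ext fun i => ?_)
    obtain ⟨y, hy, ey, ky⟩ := h i
    exact hkinj ((hspec ⟨g, hg⟩ i y hy ey).trans ky)
  have haR : ∀ {x}, isR x → Commute (γ x) a ∧ Commute (γ x) b := fun hx =>
    ⟨(isR_commute hC ha hγ hb hx).1, (isR_commute hC ha hγ hb hx).2.1⟩
  have haP : a ∈ pairStab a b :=
    Or.inl ⟨by rw [mul_inv_cancel_right], by rw [hab.eq, mul_inv_cancel_right]⟩
  have hbP : b ∈ pairStab a b :=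
    Or.inl ⟨by rw [← hab.eq, mul_inv_cancel_right], by rw [mul_inv_cancel_right]⟩
  have haE : a ∈ E := hkerI a haP fun i => ⟨kv i, (hkR i).1, by rw [(haR (hkR i).1).1.eq.symm, mul_inv_cancel_right], (hkR i).2⟩
  have hbE : b ∈ E := hkerI b hbP fun i => ⟨kv i, (hkR i).1, by rw [(haR (hkR i).1).2.eq.symm, mul_inv_cancel_right], (hkR i).2⟩
  have hjE : a * b ∈ E := mul_mem haE hbE
  set P : Fin 8 → ℕ × ℕ := fun i => basePairs.getD i (0, 0) with hP
  set u : Fin 8 → G := fun i => γ (P i).1 * γ (P i).2 with hu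
  have hpc : ∀ i : Fin 8, isR (P i).1 ∧ isR (P i).2 ∧ key (P i).1 = key (P i).2 ∧ (P i).1 ≠ (P i).2 ∧
      (∀ k ∈ keys, key (tv (P i).1 (tv (P i).2 k)) = k) ∧ ∀ j : Fin 8,
        (K45G.flip (P i) (P j) = (decide ((i : ℕ) / 2 = (j : ℕ) / 2) && decide ((i : ℕ) ≠ j))) ∧
        (K45G.flip (P i) (P j) = true →
          let p := tv (P j).1 (tv (P j).2 (P i).1)
          let q := tv (P j).1 (tv (P j).2 (P i).2)
          key p = key (P i).1 ∧ key q = key (P i).1 ∧ p ≠ q ∧ p ≠ (P i).1 ∧ p ≠ (P i).2 ∧ q ≠ (P i).1 ∧ q ≠ (P i).2) := by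
    intro i
    have h := List.all_eq_true.1 pair_check i (List.mem_range.2 i.2)
    simp only [Bool.and_eq_true, List.all_eq_true, beq_iff_eq, bne_iff_ne, inRes_iff] at h
    obtain ⟨⟨⟨⟨⟨h1, h2⟩, h3⟩, h4⟩, h5⟩, h6⟩ := h
    refine ⟨h1, h2, h3, h4, h5, fun j => ?_⟩
    have h7 := h6 j (List.mem_range.2 j.2)
    simp only [Bool.or_eq_true, Bool.and_eq_true, Bool.not_eq_true', beq_iff_eq, bne_iff_ne] at h7
    refine ⟨?_, fun hf => ?_⟩
    · refine h7.1.trans ?_
      rw [Bool.eq_iff_iff]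
      simp
    · obtain ⟨⟨⟨⟨⟨⟨k1, k2⟩, k3⟩, k4⟩, k5⟩, k6⟩, k7⟩ := h7.2.resolve_left (by rw [hP] at hf; simp only [hf]; simp)
      exact ⟨k1, k2, k3, k4, k5, k6, k7⟩
  have hmem : ∀ i, u i ∈ pairStab a b := fun i =>
    mul_mem (gen_mem hC ha hγ hb (hpc i).1) (gen_mem hC ha hγ hb (hpc i).2.1)
  have hconj2 : ∀ (i : Fin 8) (x : ℕ), isPt x = true →
      u i * γ x * (u i)⁻¹ = γ (tv (P i).1 (tv (P i).2 x)) := by
    intro i x hx
    rw [hu, show γ (P i).1 * γ (P i).2 * γ x * (γ (P i).1 * γ (P i).2)⁻¹ =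
      γ (P i).1 * (γ (P i).2 * γ x * (γ (P i).2)⁻¹) * (γ (P i).1)⁻¹ by group,
      hγ.conj _ _ (hpc i).2.1.1 hx, hγ.conj _ _ (hpc i).1.1 (hγ.isPt_tv _ _ (hpc i).2.1.1 hx)]
  have hconjR : ∀ (i : Fin 8) (x : ℕ), isR x → isR (tv (P i).1 (tv (P i).2 x)) := by
    intro i x hx
    obtain ⟨y, hy, ey⟩ := pair_move hC ha hγ hb (hmem i) hx
    have := hγ.inj _ _ hy.1 (hγ.isPt_tv _ _ (hpc i).1.1 (hγ.isPt_tv _ _ (hpc i).2.1.1 hx.1))
      (ey.trans (hconj2 i x hx.1))
    rwa [← this]
  have huE : ∀ i, u i ∈ E := fun i => hkerI _ (hmem i) fun k =>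
    ⟨_, hconjR i _ (hkR k).1, (hconj2 i _ (hkR k).1.1).symm,
      (hpc i).2.2.2.2.1 _ (by
        have := List.all_eq_true.1 keyList_check k (List.mem_range.2 k.2)
        rw [Bool.and_eq_true] at this
        exact List.elem_iff.1 this.1)⟩
  have hfib : ∀ i, (P i).1 ∈ fibre (key (P i).1) ∧ (P i).2 ∈ fibre (key (P i).1) := fun i =>
    ⟨mem_fibre (hpc i).1, by rw [(hpc i).2.2.1]; exact mem_fibre (hpc i).2.1⟩
  have cP : ∀ i, Commute (γ (P i).1) (γ (P i).2) := fun i =>
    (hγ.comm _ _ (hpc i).1.1 (hpc i).2.1.1).2 (fibre_orth (hfib i).1 (hfib i).2)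
  have husq : ∀ i, u i * u i = 1 := fun i => by
    rw [hu]
    show γ (P i).1 * γ (P i).2 * (γ (P i).1 * γ (P i).2) = 1
    rw [show γ (P i).1 * γ (P i).2 * (γ (P i).1 * γ (P i).2) =
      γ (P i).1 * (γ (P i).2 * γ (P i).1) * γ (P i).2 by group, ← (cP i).eq, ← mul_assoc,
      sq hD (hγ.mem _ (hpc i).1.1).1, one_mul, sq hD (hγ.mem _ (hpc i).2.1.1).1]
  have hcomm : ∀ i j, u j * u i * (u j)⁻¹ = if K45G.flip (P i) (P j) = true then u i * (a * b) else u i := by
    intro i j
    set p := tv (P j).1 (tv (P j).2 (P i).1) with hp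
    set q := tv (P j).1 (tv (P j).2 (P i).2) with hq
    have e0 : u j * u i * (u j)⁻¹ = γ p * γ q := by
      rw [hp, hq, ← hconj2 j _ (hpc i).1.1, ← hconj2 j _ (hpc i).2.1.1, hu]; group
    rw [e0]
    split_ifs with hf
    · obtain ⟨k1, k2, k3, k4, k5, k6, k7⟩ := ((hpc i).2.2.2.2.2 j).2 hf
      have mp : p ∈ fibre (key (P i).1) := k1 ▸ mem_fibre (hconjR j _ (hpc i).1)
      have mq : q ∈ fibre (key (P i).1) := k2 ▸ mem_fibre (hconjR j _ (hpc i).2.1)
      rw [← fibre_four_prod hC ha hγ hb (hfib i).1 (hfib i).2 mp mq (hpc i).2.2.2.1 k4.symm k6.symm k5.symm k7.symm k3,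
        ← mul_assoc, ← mul_assoc]
      show γ p * γ q = u i * u i * γ p * γ q
      rw [husq i, one_mul]
    · simp only [K45G.flip, Bool.not_eq_true', Bool.not_eq_false, Bool.or_eq_true, Bool.and_eq_true,
        beq_iff_eq] at hf
      rcases hf with ⟨h1, h2⟩ | ⟨h1, h2⟩
      · rw [hp, hq, h1, h2]
      · rw [hp, hq, h1, h2]; exact (cP i).eq.symm
  -- the pairing
  have hjone : a * b ≠ 1 := fun h => hba (by rw [eq_inv_of_mul_eq_one_left h, inv_eq hD hbD])
  have hj2 : a * b * (a * b) = 1 := by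
    rw [show a * b * (a * b) = a * (b * a) * b by group, ← hab.eq, ← mul_assoc, sq hD ha, one_mul, sq hD hbD]
  have hjc : ∀ g ∈ E, Commute g (a * b) := by
    rintro _ ⟨g, -, rfl⟩
    exact Subgroup.mem_centralizer_singleton_iff.1 ((pairStab_eq hC ha hbD hba.symm hab).le g.2)
  set F := Subgroup.closure (Set.range u ∪ {a * b}) with hF
  have hFE : F ≤ E := by
    rw [hF, Subgroup.closure_le]
    rintro x (⟨i, rfl⟩ | rfl)
    · exact huE i
    · exact hjE
  set E0 := F ⊔ Subgroup.closure ({a} : Set G) with hE0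
  have hE0le : E0 ≤ E := sup_le hFE ((Subgroup.closure_le _).2 (by simpa using haE))
  have hugen : ∀ i, u i ∈ F := fun i => Subgroup.subset_closure (Or.inl ⟨i, rfl⟩)
  have hjF : a * b ∈ F := Subgroup.subset_closure (Or.inr rfl)
  have hau : ∀ i, Commute a (u i) := fun i => ((haR (hpc i).1).1.symm).mul_right (haR (hpc i).2.1).1.symm
  have hbu : ∀ i, Commute b (u i) := fun i => ((haR (hpc i).1).2.symm).mul_right (haR (hpc i).2.1).2.symm
  -- commutation with the eight generators
  have hgood : ∀ x ∈ E0, ∀ i, x * u i * x⁻¹ = u i ∨ x * u i * x⁻¹ = u i * (a * b) := by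
    intro x hx
    rw [hE0, hF, ← Subgroup.closure_union] at hx
    induction hx using Subgroup.closure_induction with
    | mem g hg =>
      intro i
      rcases hg with (⟨j, rfl⟩ | rfl) | rfl
      · rw [hcomm]; split_ifs <;> simp
      · left; rw [((hau i).mul_left (hbu i)).eq, mul_inv_cancel_right]
      · left; rw [(hau i).eq, mul_inv_cancel_right]
    | one => intro i; left; group
    | mul g h hg hh eg eh =>
      intro i
      have hgj : g * (a * b) * g⁻¹ = a * b := by
        rw [Subgroup.closure_union, ← hF, ← hE0] at hg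
        rw [(hjc g (hE0le hg)).eq, mul_inv_cancel_right]
      rw [show g * h * u i * (g * h)⁻¹ = g * (h * u i * h⁻¹) * g⁻¹ by group]
      rcases eh i with e1' | e1' <;> rw [e1']
      · exact eg i
      · rw [show g * (u i * (a * b)) * g⁻¹ = g * u i * g⁻¹ * (g * (a * b) * g⁻¹) by group, hgj]
        rcases eg i with e2' | e2' <;> rw [e2']
        · exact Or.inr rfl
        · left; rw [mul_assoc, hj2, mul_one]
    | inv g hg eg =>
      intro i
      have hgj : g⁻¹ * (a * b) * g = a * b := by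
        rw [Subgroup.closure_union, ← hF, ← hE0] at hg
        rw [mul_assoc, ← (hjc g (hE0le hg)).eq, inv_mul_cancel_left]
      rcases eg i with e1' | e1'
      · left
        calc g⁻¹ * u i * g⁻¹⁻¹ = g⁻¹ * (g * u i * g⁻¹) * g := by rw [e1', inv_inv]
          _ = u i := by group
      · right
        calc g⁻¹ * u i * g⁻¹⁻¹ = g⁻¹ * (g * u i * g⁻¹ * (a * b)) * g := by
              rw [e1', mul_assoc (u i), hj2, mul_one, inv_inv]
          _ = u i * (g⁻¹ * (a * b) * g) := by group
          _ = _ := by rw [hgj]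
  set χ : E0 → (Fin 8 → Bool) := fun x i => decide ((x : G) * u i * (x : G)⁻¹ ≠ u i) with hχ
  have hne' : ∀ i, u i * (a * b) ≠ u i := fun i h => hjone (mul_eq_left.1 h)
  have hχmul : ∀ x y i, χ (x * y) i = xor (χ x i) (χ y i) := by
    intro x y i
    have hxj : (x : G) * (a * b) * (x : G)⁻¹ = a * b := by rw [(hjc _ (hE0le x.2)).eq, mul_inv_cancel_right]
    have hF0 : ∀ z : E0, (z : G) * u i * (z : G)⁻¹ = u i → χ z i = false := fun z hz =>
      decide_eq_false (not_not.2 hz)
    have hT0 : ∀ z : E0, (z : G) * u i * (z : G)⁻¹ = u i * (a * b) → χ z i = true := fun z hz =>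
      decide_eq_true (fun h => hne' i (hz.symm.trans h))
    have hco : ((x * y : E0) : G) * u i * ((x * y : E0) : G)⁻¹ = x * (y * u i * (y : G)⁻¹) * (x : G)⁻¹ := by
      rw [Subgroup.coe_mul]; group
    rcases hgood y y.2 i with e1' | e1' <;> rcases hgood x x.2 i with e2' | e2'
    · rw [hF0 _ e1', hF0 _ e2', hF0 _ (by rw [hco, e1', e2'])]; rfl
    · rw [hF0 _ e1', hT0 _ e2', hT0 _ (by rw [hco, e1', e2'])]; rfl
    · rw [hT0 _ e1', hF0 _ e2', hT0 _ (by
        rw [hco, e1', show (x : G) * (u i * (a * b)) * (x : G)⁻¹ = x * u i * (x : G)⁻¹ * (x * (a * b) * (x : G)⁻¹) by group, hxj, e2'])]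
      rfl
    · rw [hT0 _ e1', hT0 _ e2', hF0 _ (by
        rw [hco, e1', show (x : G) * (u i * (a * b)) * (x : G)⁻¹ = x * u i * (x : G)⁻¹ * (x * (a * b) * (x : G)⁻¹) by group, hxj, e2', mul_assoc, hj2, mul_one])]
      rfl
  let dual : Fin 8 → Fin 8 := fun i => ⟨if (i : ℕ) % 2 = 0 then (i : ℕ) + 1 else (i : ℕ) - 1, by
    have := i.2; split_ifs <;> omega⟩
  have hdual : ∀ i k : Fin 8, χ ⟨u (dual i), le_sup_left (α := Subgroup G) (hugen _)⟩ k = decide (k = i) := by
    intro i k
    simp only [hχ]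
    rw [hcomm k (dual i), (hpc k).2.2.2.2.2 (dual i) |>.1]
    have hkd : ∀ i k : Fin 8, (decide ((k : ℕ) / 2 = (if (i : ℕ) % 2 = 0 then (i : ℕ) + 1 else (i : ℕ) - 1) / 2) &&
        decide ((k : ℕ) ≠ if (i : ℕ) % 2 = 0 then (i : ℕ) + 1 else (i : ℕ) - 1)) = decide (k = i) := by decide
    rw [show (decide ((k : ℕ) / 2 = (dual i : ℕ) / 2) && decide ((k : ℕ) ≠ dual i)) = decide (k = i) from hkd i k]
    by_cases hki : k = i <;> simp [hki, hne']
  have hχsurj : Function.Surjective χ := by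
    intro f
    have : ∀ n ≤ 8, ∃ x : E0, ∀ i : Fin 8, χ x i = (decide ((i : ℕ) < n) && f i) := by
      intro n hn
      induction n with
      | zero => exact ⟨1, fun i => by simp [hχ]⟩
      | succ n ih =>
        obtain ⟨x, hx⟩ := ih (by omega)
        by_cases hfn : f ⟨n, by omega⟩ = true
        · refine ⟨⟨u (dual ⟨n, by omega⟩), le_sup_left (α := Subgroup G) (hugen _)⟩ * x, fun i => ?_⟩
          rw [hχmul, hdual, hx]
          by_cases hi : i = ⟨n, by omega⟩
          · subst hi; simp [hfn]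
          · have : (i : ℕ) ≠ n := fun h => hi (Fin.ext h)
            have e : decide ((i : ℕ) < n + 1) = decide ((i : ℕ) < n) := decide_eq_decide.2 (by omega)
            rw [e]
            simp [hi]
        · refine ⟨x, fun i => ?_⟩
          rw [hx]
          by_cases hi : i = ⟨n, by omega⟩
          · subst hi; simp [hfn]
          · have : (i : ℕ) ≠ n := fun h => hi (Fin.ext h)
            have e : decide ((i : ℕ) < n + 1) = decide ((i : ℕ) < n) := decide_eq_decide.2 (by omega)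
            rw [e]
    obtain ⟨x, hx⟩ := this 8 le_rfl
    exact ⟨x, funext fun i => by simp [hx i, i.2]⟩
  have h4 : ∀ x ∈ ({1, a, b, a * b} : Set G), x ∈ E0 ∧ ∀ i, x * u i * x⁻¹ = u i := by
    intro x hx
    simp only [Set.mem_insert_iff, Set.mem_singleton_iff] at hx
    have haE0 : a ∈ E0 := le_sup_right (α := Subgroup G) (Subgroup.subset_closure rfl)
    rcases hx with h | h | h | h <;> subst x
    · exact ⟨one_mem _, fun i => by group⟩
    · exact ⟨haE0, fun i => by rw [(hau i).eq, mul_inv_cancel_right]⟩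
    · refine ⟨?_, fun i => by rw [(hbu i).eq, mul_inv_cancel_right]⟩
      have := mul_mem haE0 (le_sup_left (α := Subgroup G) hjF)
      rwa [← mul_assoc, sq hD ha, one_mul] at this
    · exact ⟨le_sup_left (α := Subgroup G) hjF, fun i => by rw [((hau i).mul_left (hbu i)).eq, mul_inv_cancel_right]⟩
  have hfour : ({1, a, b, a * b} : Set G).ncard = 4 := by
    have h1 : a ≠ 1 := ne_one hD ha
    have h2 : b ≠ 1 := ne_one hD hbD
    have h3 : a * b ≠ a := fun h => h2 (mul_eq_left.1 h)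
    have h5 : a * b ≠ b := fun h => h1 (mul_eq_right.1 h)
    rw [Set.ncard_insert_of_notMem (by simp [h1.symm, h2.symm, Ne.symm hjone]) (Set.toFinite _),
      Set.ncard_insert_of_notMem (by simp [hba.symm, h3.symm]) (Set.toFinite _),
      Set.ncard_pair h5.symm]
  -- the fibre over zero is the four-group
  have hcount : ∀ x : E0, Nat.card {y : E0 // χ y = χ x} = Nat.card {y : E0 // χ y = χ 1} := fun x =>
    Nat.card_congr
      { toFun := fun y => ⟨x⁻¹ * y.1, funext fun i => by
          have h1 := congrFun y.2 i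
          have h2 := hχmul x⁻¹ y.1 i
          have h3 := hχmul x⁻¹ x i
          rw [inv_mul_cancel] at h3
          rw [h2, h1, ← h3]⟩
        invFun := fun y => ⟨x * y.1, funext fun i => by
          rw [hχmul, congrFun y.2 i, ← hχmul, mul_one]⟩
        left_inv := fun y => Subtype.ext (mul_inv_cancel_left x y.1)
        right_inv := fun y => Subtype.ext (inv_mul_cancel_left x y.1) }
  have hker4 : 4 ≤ Nat.card {y : E0 // χ y = χ 1} := by
    rw [← hfour, ← Nat.card_coe_set_eq]
    refine Nat.card_le_card_of_injective (fun x => ⟨⟨x.1, (h4 x.1 x.2).1⟩, funext fun i => ?_⟩) fun x y h => ?_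
    · simp [hχ, (h4 x.1 x.2).2 i]
    · exact Subtype.ext (congrArg (fun z => (z.1 : G)) h)
  have hmulcard : Nat.card E0 = 256 * Nat.card {y : E0 // χ y = χ 1} := by
    rw [Nat.card_congr (Equiv.sigmaFiberEquiv χ).symm, Nat.card_sigma, Finset.sum_congr rfl (g := fun _ => Nat.card {y : E0 // χ y = χ 1})
      (fun f _ => by obtain ⟨x, rfl⟩ := hχsurj f; exact hcount x), Finset.sum_const, Finset.card_univ,
      Fintype.card_fun, Fintype.card_bool, Fintype.card_fin, smul_eq_mul]
    norm_num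
  have hE0card := Subgroup.card_le_of_le hE0le
  rw [hEcard] at hE0card
  have hk4 : Nat.card {y : E0 // χ y = χ 1} = 4 := by omega
  have hEeq : E0 = E := Subgroup.eq_of_le_of_card_ge hE0le (by rw [hEcard]; omega)
  have hzero : ∀ x ∈ E, (∀ i, x * u i * x⁻¹ = u i) → x = 1 ∨ x = a ∨ x = b ∨ x = a * b := by
    intro x hx h
    have hx0 : x ∈ E0 := hEeq.symm ▸ hx
    have hmemker : χ ⟨x, hx0⟩ = χ 1 := funext fun i => by simp [hχ, h i]
    let S : Set G := {y | ∃ hy : y ∈ E0, χ ⟨y, hy⟩ = χ 1}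
    have hsub : ({1, a, b, a * b} : Set G) ⊆ S := fun y hy =>
      ⟨(h4 y hy).1, funext fun i => by simp [hχ, (h4 y hy).2 i]⟩
    have hS : S.ncard = 4 := by
      rw [← Nat.card_coe_set_eq, ← hk4]
      exact Nat.card_congr
        { toFun := fun y => ⟨⟨y.1, y.2.fst⟩, y.2.snd⟩
          invFun := fun y => ⟨y.1.1, y.1.2, y.2⟩
          left_inv := fun _ => rfl
          right_inv := fun _ => rfl }
    have := (Set.eq_of_subset_of_ncard_le hsub (by rw [hS, hfour]) (Set.toFinite _)).ge (show x ∈ S from ⟨hx0, hmemker⟩)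
    simpa using this
  -- quotient by the product is elementary
  set J := Subgroup.zpowers (a * b) with hJ
  have hJmem : ∀ {x}, x ∈ J ↔ x = 1 ∨ x = a * b := by
    intro x
    constructor
    · intro hx
      obtain ⟨n, rfl⟩ := Subgroup.mem_zpowers_iff.1 hx
      rcases Int.even_or_odd n with ⟨k, rfl⟩ | ⟨k, rfl⟩
      · left; rw [show k + k = 2 * k by ring, zpow_mul, zpow_two, hj2, one_zpow]
      · right; rw [zpow_add, zpow_mul, zpow_two, hj2, one_zpow, one_mul, zpow_one]
    · rintro (rfl | rfl)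
      · exact one_mem _
      · exact Subgroup.mem_zpowers _
  set J' := J.subgroupOf E with hJ'
  haveI hJn : J'.Normal := ⟨fun x hx g => by
    rw [hJ', Subgroup.mem_subgroupOf] at hx ⊢
    have hc : Commute (g : G) (x : G) := by
      rcases hJmem.1 hx with e | e <;> rw [e]
      · exact Commute.one_right _
      · exact hjc _ g.2
    simp only [Subgroup.coe_mul, Subgroup.coe_inv, hc.eq, mul_inv_cancel_right]
    exact hx⟩
  have hgen : ∀ q : E ⧸ J', q ∈ Subgroup.closure (Set.range (fun i => (QuotientGroup.mk ⟨u i, huE i⟩ : E ⧸ J')) ∪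
      {QuotientGroup.mk ⟨a, haE⟩}) := by
    intro q
    obtain ⟨⟨x, hx⟩, rfl⟩ := QuotientGroup.mk_surjective q
    have hx0 : x ∈ Subgroup.closure ((Set.range u ∪ {a * b}) ∪ {a}) := by
      rw [Subgroup.closure_union, ← hF, ← hE0, hEeq]; exact hx
    revert hx
    induction hx0 using Subgroup.closure_induction with
    | mem g hg =>
      intro hx
      rcases hg with (⟨i, rfl⟩ | rfl) | rfl
      · exact Subgroup.subset_closure (Or.inl ⟨i, rfl⟩)
      · rw [(QuotientGroup.eq_one_iff _).2 (show (⟨a * b, hx⟩ : E) ∈ J' from Subgroup.mem_zpowers _)]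
        exact one_mem _
      · exact Subgroup.subset_closure (Or.inr rfl)
    | one => intro _; exact one_mem _
    | mul g h hg hh eg eh =>
      intro hx
      rw [Subgroup.closure_union, ← hF, ← hE0, hEeq] at hg hh
      exact (QuotientGroup.mk_mul J' ⟨g, hg⟩ ⟨h, hh⟩).symm ▸ mul_mem (eg hg) (eh hh)
    | inv g hg eg =>
      intro hx
      rw [Subgroup.closure_union, ← hF, ← hE0, hEeq] at hg
      exact (QuotientGroup.mk_inv J' ⟨g, hg⟩).symm ▸ inv_mem (eg hg)
  set T : Set (E ⧸ J') := Set.range (fun i => (QuotientGroup.mk ⟨u i, huE i⟩ : E ⧸ J')) ∪ {QuotientGroup.mk ⟨a, haE⟩}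
  have hTc : ∀ s ∈ T, ∀ t ∈ T, Commute s t := by
    have hau' : ∀ i, Commute (QuotientGroup.mk ⟨a, haE⟩ : E ⧸ J') (QuotientGroup.mk ⟨u i, huE i⟩) := fun i => by
      refine (QuotientGroup.mk_mul J' _ _).symm.trans (Eq.trans ?_ (QuotientGroup.mk_mul J' _ _))
      exact congrArg _ (Subtype.ext (hau i).eq)
    have huu : ∀ i k, Commute (QuotientGroup.mk ⟨u i, huE i⟩ : E ⧸ J') (QuotientGroup.mk ⟨u k, huE k⟩) := by
      intro i k
      rw [Commute, SemiconjBy, ← QuotientGroup.mk_mul, ← QuotientGroup.mk_mul, QuotientGroup.eq, hJ',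
        Subgroup.mem_subgroupOf, hJmem]
      simp only [Subgroup.coe_mul, Subgroup.coe_inv]
      have h := hcomm i k
      have hk := inv_eq_of_mul_eq_one_right (husq k)
      have hi := inv_eq_of_mul_eq_one_right (husq i)
      rw [mul_inv_rev, hk, hi]
      rw [hk] at h
      rw [show u k * u i * (u k * u i) = u k * u i * u k * u i by group, h]
      split_ifs
      · right; rw [mul_assoc, ((hau i).mul_left (hbu i)).eq, ← mul_assoc, husq i, one_mul]
      · left; exact husq i
    rintro s (⟨i, rfl⟩ | rfl) t (⟨k, rfl⟩ | rfl)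
    · exact huu i k
    · exact (hau' i).symm
    · exact hau' k
    · exact Commute.refl _
  have hEl : El (⊤ : Subgroup (E ⧸ J')) := by
    have hc : ∀ p q : E ⧸ J', Commute p q := by
      intro p q
      have h1 : Subgroup.closure T ≤ Subgroup.centralizer T := by
        rw [Subgroup.closure_le]
        exact fun w hw => Subgroup.mem_centralizer_iff.2 fun x hx => hTc x hx w hw
      have h2 : q ∈ Subgroup.centralizer (Subgroup.closure T : Set (E ⧸ J')) := by
        rw [Subgroup.centralizer_closure]; exact h1 (hgen q)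
      exact Subgroup.mem_centralizer_iff.1 h2 p (hgen p)
    refine ⟨fun p _ q _ => hc p q, ?_⟩
    suffices hs2 : ∀ p : E ⧸ J', p * p = 1 from fun p _ => hs2 p
    intro p
    induction hgen p using Subgroup.closure_induction with
    | mem w hw =>
      rcases hw with ⟨i, rfl⟩ | rfl
      · show (QuotientGroup.mk _ : E ⧸ J') * QuotientGroup.mk _ = 1
        rw [← QuotientGroup.mk_mul, show (⟨u i, huE i⟩ : E) * ⟨u i, huE i⟩ = 1 from Subtype.ext (husq i)]; rfl
      · show (QuotientGroup.mk _ : E ⧸ J') * QuotientGroup.mk _ = 1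
        rw [← QuotientGroup.mk_mul, show (⟨a, haE⟩ : E) * ⟨a, haE⟩ = 1 from Subtype.ext (sq hD ha)]; rfl
    | one => exact one_mul 1
    | mul g h _ _ eg eh =>
      rw [show g * h * (g * h) = g * (h * g) * h by group, ← (hc g h).eq, show g * (g * h) * h = g * g * (h * h) by group,
        eg, eh, mul_one]
    | inv g _ eg => rw [← mul_inv_rev, eg, inv_one]
  have hcomE : ∀ x ∈ E, ∀ y ∈ E, x * y * x⁻¹ * y⁻¹ = 1 ∨ x * y * x⁻¹ * y⁻¹ = a * b := by
    intro x hx y hy
    rw [← hJmem]
    have h : (QuotientGroup.mk (⟨x, hx⟩ * ⟨y, hy⟩ * (⟨x, hx⟩ : E)⁻¹ * (⟨y, hy⟩ : E)⁻¹) : E ⧸ J') = 1 := by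
      rw [QuotientGroup.mk_mul, QuotientGroup.mk_mul, QuotientGroup.mk_mul, QuotientGroup.mk_inv, QuotientGroup.mk_inv,
        (hEl.1 (QuotientGroup.mk (⟨x, hx⟩ : E)) (Subgroup.mem_top _) (QuotientGroup.mk (⟨y, hy⟩ : E)) (Subgroup.mem_top _)).eq,
        mul_inv_cancel_right, mul_inv_cancel]
    have h' := (QuotientGroup.eq_one_iff _).1 h
    rwa [hJ', Subgroup.mem_subgroupOf] at h'
  have hsqE : ∀ x ∈ E, x * x = 1 ∨ x * x = a * b := by
    intro x hx
    rw [← hJmem]
    have h : (QuotientGroup.mk ((⟨x, hx⟩ : E) * ⟨x, hx⟩) : E ⧸ J') = 1 := by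
      rw [QuotientGroup.mk_mul]
      exact hEl.2 _ (Subgroup.mem_top _)
    have h' := (QuotientGroup.eq_one_iff _).1 h
    rwa [hJ', Subgroup.mem_subgroupOf] at h'
  -- F is a complement to a
  have haF : a ∉ F := by
    intro hmemF
    have hEF : E0 = F := le_antisymm (sup_le le_rfl ((Subgroup.closure_le _).2 (by simpa using hmemF))) le_sup_left
    have hq : Nat.card (E ⧸ J') = 512 := by
      have h := Subgroup.card_eq_card_quotient_mul_card_subgroup J'
      rw [hEcard, hJ', Nat.card_congr (Subgroup.subgroupOfEquivOfLe (Subgroup.zpowers_le.2 hjE)).toEquiv,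
        Nat.card_zpowers, orderOf_eq_prime (by rw [pow_two, hj2]) hjone] at h
      rw [hJ']
      omega
    set U : Fin 8 → E ⧸ J' := fun i => QuotientGroup.mk ⟨u i, huE i⟩ with hU
    have hs : ∀ s : Finset (Fin 8), Nat.card (Subgroup.closure (U '' ↑s)) ≤ 2 ^ s.card := by
      intro s
      induction s using Finset.induction with
      | empty => simp
      | @insert z s hz ih =>
        have hel : El (Subgroup.closure (U '' ↑s)) := hEl.mono le_top
        have hzz : U z * U z = 1 := hEl.2 _ (Subgroup.mem_top _)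
        have hcz : ∀ p ∈ Subgroup.closure (U '' ↑s), Commute p (U z) := fun p _ =>
          hEl.1 p (Subgroup.mem_top _) _ (Subgroup.mem_top _)
        have hle : Subgroup.closure (U '' ↑(insert z s)) ≤ adjoin _ hel (U z) hzz hcz := by
          rw [Subgroup.closure_le, Finset.coe_insert, Set.image_insert_eq, Set.insert_subset_iff]
          exact ⟨mem_adjoin_self hel hzz hcz, fun p hp => le_adjoin hel hzz hcz (Subgroup.subset_closure hp)⟩
        refine (Subgroup.card_le_of_le hle).trans ?_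
        by_cases hzm : U z ∈ Subgroup.closure (U '' ↑s)
        · have : adjoin _ hel (U z) hzz hcz ≤ Subgroup.closure (U '' ↑s) := by
            rintro y (hy | hy)
            · exact hy
            · exact (Subgroup.mul_mem_cancel_right _ hzm).1 hy
          refine (Subgroup.card_le_of_le this).trans (ih.trans (Nat.pow_le_pow_right two_pos ?_))
          rw [Finset.card_insert_of_notMem hz]; omega
        · rw [card_adjoin hel hzz hcz hzm, Finset.card_insert_of_notMem hz, pow_succ']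
          exact Nat.mul_le_mul_left 2 ih
    have htop : Subgroup.closure (U '' ↑(Finset.univ : Finset (Fin 8))) = ⊤ := by
      rw [Finset.coe_univ, Set.image_univ]
      refine (Subgroup.eq_top_iff' _).2 fun p => ?_
      obtain ⟨⟨x, hx⟩, rfl⟩ := QuotientGroup.mk_surjective p
      have hxF : x ∈ F := by rw [← hEF, hEeq]; exact hx
      revert hx
      induction hxF using Subgroup.closure_induction with
      | mem g hg =>
        intro hx
        rcases hg with ⟨i, rfl⟩ | rfl
        · exact Subgroup.subset_closure ⟨i, rfl⟩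
        · rw [(QuotientGroup.eq_one_iff _).2 (show (⟨a * b, hx⟩ : E) ∈ J' from Subgroup.mem_zpowers _)]
          exact one_mem _
      | one => intro _; exact one_mem _
      | mul g h hg hh eg eh =>
        intro hx
        exact (QuotientGroup.mk_mul J' ⟨g, hFE hg⟩ ⟨h, hFE hh⟩).symm ▸ mul_mem (eg (hFE hg)) (eh (hFE hh))
      | inv g hg eg =>
        intro hx
        exact (QuotientGroup.mk_inv J' ⟨g, hFE hg⟩).symm ▸ inv_mem (eg (hFE hg))
    have := hs Finset.univ
    rw [htop, Subgroup.card_top, hq, Finset.card_univ, Fintype.card_fin] at this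
    norm_num at this
  have hFcard : Nat.card F = 512 := by
    have haFc : ∀ x ∈ F, Commute x a := by
      intro x hx
      have : F ≤ Subgroup.centralizer {a} := by
        rw [hF, Subgroup.closure_le]
        rintro y (⟨i, rfl⟩ | rfl)
        · exact Subgroup.mem_centralizer_singleton_iff.2 (hau i).symm.eq
        · exact Subgroup.mem_centralizer_singleton_iff.2 ((Commute.refl a).mul_left hab.symm).eq
      exact Subgroup.mem_centralizer_singleton_iff.1 (this hx)
    have hset : (E : Set G) = (F : Set G) ∪ (fun x => x * a) '' (F : Set G) := by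
      ext x
      constructor
      · intro hx
        rw [SetLike.mem_coe, ← hEeq, hE0, ← Subgroup.zpowers_eq_closure] at hx
        have hn : Subgroup.zpowers a ≤ Subgroup.normalizer (F : Set G) := by
          rw [Subgroup.zpowers_le, Subgroup.mem_normalizer_iff]
          intro y
          refine ⟨fun hy => ?_, fun hy => ?_⟩
          · rwa [← (haFc y hy).eq, mul_inv_cancel_right]
          · have := haFc _ hy
            have e : a * y * a⁻¹ = y := by
              have h2 : a⁻¹ * (a * y * a⁻¹) * a = y := by group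
              rw [mul_assoc, this.eq, ← mul_assoc, inv_mul_cancel, one_mul] at h2
              exact h2
            rwa [e] at hy
        rw [← SetLike.mem_coe, Subgroup.coe_mul_of_right_le_normalizer_left F _ hn] at hx
        obtain ⟨y, hy, z, hz, rfl⟩ := hx
        obtain ⟨n, rfl⟩ := Subgroup.mem_zpowers_iff.1 hz
        rcases Int.even_or_odd n with ⟨k, rfl⟩ | ⟨k, rfl⟩
        · left
          simp only []
          rw [show k + k = 2 * k by ring, zpow_mul, zpow_two, sq hD ha, one_zpow, mul_one]; exact hy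
        · right
          refine ⟨y, hy, ?_⟩
          simp only []
          rw [zpow_add, zpow_mul, zpow_two, sq hD ha, one_zpow, one_mul, zpow_one]
      · rintro (h | ⟨y, hy, rfl⟩)
        · exact hFE h
        · exact mul_mem (hFE hy) haE
    have h := hEcard
    rw [← SetLike.coe_sort_coe, Nat.card_coe_set_eq, hset, Set.ncard_union_eq ?_ (Set.toFinite _) (Set.toFinite _),
      Set.ncard_image_of_injective _ (mul_left_injective a), ← Nat.card_coe_set_eq, SetLike.coe_sort_coe] at h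
    · omega
    rw [Set.disjoint_left]
    rintro y hy ⟨z, hz, rfl⟩
    exact haF ((F.mul_mem_cancel_left hz).1 hy)
  have hfixE : ∀ g ∈ E, g * a * g⁻¹ = a ∧ g * b * g⁻¹ = b := by
    intro g hg
    rw [← hEeq] at hg
    have hle : E0 ≤ Subgroup.centralizer {a, b} := by
      refine sup_le ?_ ?_
      · rw [hF, Subgroup.closure_le]
        rintro y (⟨i, rfl⟩ | rfl) <;> rw [SetLike.mem_coe, Subgroup.mem_centralizer_iff]
        · rintro z (rfl | rfl)
          · exact (hau i).eq
          · exact (hbu i).eq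
        · rintro z (rfl | rfl)
          · exact ((Commute.refl z).mul_right hab).eq
          · exact (hab.symm.mul_right (Commute.refl z)).eq
      · rw [Subgroup.closure_le]
        rintro y rfl
        rw [SetLike.mem_coe, Subgroup.mem_centralizer_iff]
        rintro z (rfl | rfl)
        · rfl
        · exact hab.symm.eq
    have h := Subgroup.mem_centralizer_iff.1 (hle hg)
    exact ⟨by rw [← h a (by simp), mul_inv_cancel_right], by rw [← h b (by simp), mul_inv_cancel_right]⟩
  refine ⟨⟨hEcard, ⟨haE, hbE⟩, hfixE, hcomE, hsqE, fun x hx hc => hzero x hx fun i => ?_,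
    ⟨u 0, huE 0, u 1, huE 1, fun hc => ?_⟩, F, hFE, haF, hjF, hFcard⟩, ?_⟩
  · rw [(hc _ (huE i)).eq, mul_inv_cancel_right]
  · have h := hcomm 1 0
    rw [((hpc 1).2.2.2.2.2 0).1] at h
    simp only [Fin.val_one, Fin.val_zero, hc.eq, mul_inv_cancel_right] at h
    norm_num at h
    exact hjone h
  -- centralising all of E forces a trivial action
  have hsymm : ∀ x y, isPt x = true → isPt y = true → orth x y = orth y x := fun x y hx hy => by
    rw [Bool.eq_iff_iff, ← hγ.comm x y hx hy, ← hγ.comm y x hy hx, Commute.symm_iff]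
  intro g hg
  refine Subtype.ext (Equiv.ext fun i => hkinj ?_)
  obtain ⟨hkk, hkk'⟩ := hkR i
  have hmf : kv i ∈ fibre (kv i) := by
    have := mem_fibre hkk
    rwa [hkk'] at this
  obtain ⟨y, z, w, hFib, n1, -, -, -, -, -, -⟩ := fibre_prod hC ha hγ hb hmf
  have hyF : y ∈ fibre (kv i) := by rw [hFib]; simp
  obtain ⟨hyR, hyk⟩ := fibre_spec hyF
  have hm1 := gen_mem hC ha hγ hb hkk
  have hm2 := gen_mem hC ha hγ hb hyR
  have hzE : γ (kv i) * γ y ∈ E := by
    refine ⟨⟨γ (kv i), hm1⟩ * ⟨γ y, hm2⟩, ?_, rfl⟩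
    show Ψ _ = 1
    rw [map_mul]
    have heq : Ψ ⟨γ (kv i), hm1⟩ = Ψ ⟨γ y, hm2⟩ := by
      refine Subtype.ext (Equiv.ext fun k => hkinj ?_)
      obtain ⟨p, hp, ep⟩ := pair_move hC ha hγ hb hm1 (hkR k).1
      obtain ⟨q, hq, eq'⟩ := pair_move hC ha hγ hb hm2 (hkR k).1
      rw [hspec _ k p hp ep, hspec _ k q hq eq', key_eq_iff hC ha hγ hb hp hq, ep, eq']
      intro t ht hta htb
      -- same action on a neighbour of the pair
      by_cases hna : t = a
      · subst hna
        exact ⟨fun _ => eq' ▸ (haR hq).1.symm, fun _ => ep ▸ (haR hp).1.symm⟩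
      by_cases hnb : t = b
      · subst hnb
        exact ⟨fun _ => eq' ▸ (haR hq).2.symm, fun _ => ep ▸ (haR hp).2.symm⟩
      obtain ⟨s, hs, rfl⟩ := exists_isR hC ha hγ hb ht hta htb hna hnb
      have hkey : ∀ x, isR x → key x = kv i → (Commute (γ s) (γ x * γ (kv k) * (γ x)⁻¹) ↔
          orth (tv x s) (kv k) = true) := by
        intro x hx _
        have e1 : (γ x)⁻¹ * γ s * (γ x)⁻¹⁻¹ = γ (tv x s) := by
          rw [inv_eq hD (hγ.mem x hx.1).1]
          exact hγ.conj x s hx.1 hs.1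
        rw [← Commute.conj_iff (γ x)⁻¹, e1, show (γ x)⁻¹ * (γ x * γ (kv k) * (γ x)⁻¹) * (γ x)⁻¹⁻¹ = γ (kv k) by group,
          hγ.comm _ _ (hγ.isPt_tv x s hx.1 hs.1) (hkR k).1.1]
      rw [hkey _ hkk hkk', hkey _ hyR hyk]
      obtain ⟨p', hp', ep'⟩ := pair_move hC ha hγ hb hm1 hs
      obtain ⟨q', hq', eq''⟩ := pair_move hC ha hγ hb hm2 hs
      have ep2 : p' = tv (kv i) s := hγ.inj _ _ hp'.1 (hγ.isPt_tv _ _ hkk.1 hs.1) (ep'.trans (hγ.conj _ _ hkk.1 hs.1))
      have eq2 : q' = tv y s := hγ.inj _ _ hq'.1 (hγ.isPt_tv _ _ hyR.1 hs.1) (eq''.trans (hγ.conj _ _ hyR.1 hs.1))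
      have hk' : key (tv (kv i) s) = key (tv y s) := tv_key_congr hkk hyR (hkk'.trans hyk.symm) hs
      rw [← ep2, ← eq2] at hk' ⊢
      rw [hsymm p' (kv k) hp'.1 (hkR k).1.1, hsymm q' (kv k) hq'.1 (hkR k).1.1,
        orth_key_right (hkR k).1.1 (hkR k).1.2.1 hp', orth_key_right (hkR k).1.1 (hkR k).1.2.1 hq', hk']
    rw [← heq, ← map_mul, show (⟨γ (kv i), hm1⟩ : pairStab a b) * ⟨γ (kv i), hm1⟩ = 1 from
      Subtype.ext (sq hD (hγ.mem _ hkk.1).1), map_one]
  have hgz := hg _ hzE
  obtain ⟨p, hp, ep⟩ := pair_move hC ha hγ hb g.2 hkk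
  have hpair : (g : G) * γ (kv i) * (g : G)⁻¹ * ((g : G) * γ y * (g : G)⁻¹) = γ (kv i) * γ y := by
    rw [← hgz]; group
  have cKY : Commute (γ (kv i)) (γ y) := (hγ.comm _ _ hkk.1 hyR.1).2 (fibre_orth hmf hyF)
  rcases pair_unique hD hC.tf (hγ.mem _ hkk.1).1 (hγ.mem _ hyR.1).1 (conj_mem hD _ (hγ.mem _ hkk.1).1)
    (conj_mem hD _ (hγ.mem _ hyR.1).1) (fun h => n1 (hγ.inj _ _ hkk.1 hyR.1 h)) cKY ((Commute.conj_iff _).2 cKY)
    hpair.symm with ⟨h, -⟩ | ⟨h, -⟩
  · rw [hspec g i p hp ep, hγ.inj _ _ hp.1 hkk.1 (ep.trans h)]; exact hkk'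
  · rw [hspec g i p hp ep, hγ.inj _ _ hp.1 hyR.1 (ep.trans h)]; exact hyk

end Cfsg.Agent.TT95
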