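import Cfsg.Agent.TT95.Basic

/-!
The quotient of the subgroup generated by the transpositions commuting with one of them by its
centre, with the images of the non-central generators; the criterion for one class and no twins.
-/

set_option autoImplicit false
set_option linter.unusedSectionVars false

namespace Cfsg.Agent.TT95

variable {G : Type*} [Group G] {D : Set G}

/-- A subgroup modulo its centre. -/
abbrev ModCenter (H : Subgroup G) : Type _ := ↥H ⧸ Subgroup.center ↥H

/-- The images of the non-central members of `S`. -/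
def imgOf (H : Subgroup G) (S : Set G) : Set (ModCenter H) :=
  {q | q ≠ 1 ∧ ∃ x : H, (x : G) ∈ S ∧ (QuotientGroup.mk x : ModCenter H) = q}

/-- The transpositions commuting with `a`, as a set of the projective local group. -/
abbrev locSet (D : Set G) (a : G) : Set (ModCenter (Subgroup.closure (nb D a))) :=
  imgOf (Subgroup.closure (nb D a)) (nb D a)

/-- The image of a neighbour in the local group. -/
def mkNb {a x : G} (hx : x ∈ nb D a) : ModCenter (Subgroup.closure (nb D a)) :=
  QuotientGroup.mk ⟨x, Subgroup.subset_closure hx⟩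

variable (hD : TTSet D)

include hD

theorem commute_closure_nb {a h : G} (hh : h ∈ Subgroup.closure (nb D a)) : Commute a h := by
  induction hh using Subgroup.closure_induction with
  | mem x hx => exact hx.2.2
  | one => exact Commute.one_right a
  | mul x y _ _ hx hy => exact hx.mul_right hy
  | inv x _ hx => exact hx.inv_right

theorem conj_fix_of_mem {a h : G} (hh : h ∈ Subgroup.closure (nb D a)) : h * a * h⁻¹ = a := by
  rw [← (commute_closure_nb hD hh).eq, mul_inv_cancel_right]

theorem conj_mem_nb {a h x : G} (hh : h ∈ Subgroup.closure (nb D a)) (hx : x ∈ nb D a) :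
    h * x * h⁻¹ ∈ nb D a := by
  have := (nb_conj hD h a x).2 hx
  rwa [conj_fix_of_mem hD hh] at this

theorem mkNb_eq_one_iff {a x : G} (hx : x ∈ nb D a) :
    mkNb hx = 1 ↔ ∀ y ∈ nb D a, Commute x y := by
  rw [mkNb, QuotientGroup.eq_one_iff, Subgroup.mem_center_iff]
  constructor
  · intro h y hy
    exact (congrArg Subtype.val (h ⟨y, Subgroup.subset_closure hy⟩)).symm
  · intro h g
    refine Subtype.ext ?_
    obtain ⟨g, hg⟩ := g
    change g * x = x * g
    induction hg using Subgroup.closure_induction with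
    | mem y hy => exact (h y hy).eq.symm
    | one => simp
    | mul y z _ _ hy hz => exact (Commute.mul_left hy hz : Commute (y * z) x)
    | inv y _ hy => exact (Commute.inv_left hy : Commute y⁻¹ x)

theorem mkNb_mem {a x : G} (hx : x ∈ nb D a) (h1 : mkNb hx ≠ 1) : mkNb hx ∈ locSet D a :=
  ⟨h1, ⟨x, Subgroup.subset_closure hx⟩, hx, rfl⟩

theorem exists_of_mem_locSet {a : G} {q : ModCenter (Subgroup.closure (nb D a))} (hq : q ∈ locSet D a) :
    ∃ (x : G) (hx : x ∈ nb D a), mkNb hx = q ∧ mkNb hx ≠ 1 := by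
  obtain ⟨h1, ⟨x, _⟩, hxS, rfl⟩ := hq
  exact ⟨x, hxS, rfl, h1⟩

theorem mkNb_mul_self {a x : G} (hx : x ∈ nb D a) : mkNb hx * mkNb hx = 1 := by
  rw [mkNb, ← QuotientGroup.mk_mul,
    show (⟨x, Subgroup.subset_closure hx⟩ : Subgroup.closure (nb D a)) * ⟨x, Subgroup.subset_closure hx⟩ = 1
      from Subtype.ext (sq hD hx.1)]
  rfl

theorem loc_threeTransp (a : G) : Cfsg.IsThreeTranspositionSet (locSet D a) := by
  refine ⟨fun q hq => ?_, fun q hq r hr => ?_⟩
  · obtain ⟨x, hx, rfl, h1⟩ := exists_of_mem_locSet hD hq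
    exact orderOf_eq_prime (by rw [pow_two, mkNb_mul_self hD hx]) h1
  · obtain ⟨x, hx, rfl, -⟩ := exists_of_mem_locSet hD hq
    obtain ⟨y, hy, rfl, -⟩ := exists_of_mem_locSet hD hr
    simp only [mkNb, ← QuotientGroup.mk_mul, ← QuotientGroup.mk_pow]
    rcases hD.1.2 x hx.1 y hy.1 with h | h
    · exact Or.inl ((QuotientGroup.eq_one_iff _).2 (by
        convert one_mem (Subgroup.center (Subgroup.closure (nb D a)))
        exact Subtype.ext (by simpa using h)))
    · exact Or.inr ((QuotientGroup.eq_one_iff _).2 (by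
        convert one_mem (Subgroup.center (Subgroup.closure (nb D a)))
        exact Subtype.ext (by simpa using h)))

theorem loc_invariant (a : G) : ∀ g, ∀ q ∈ locSet D a, g * q * g⁻¹ ∈ locSet D a := by
  intro g q hq
  obtain ⟨x, hx, rfl, h1⟩ := exists_of_mem_locSet hD hq
  obtain ⟨h, rfl⟩ := QuotientGroup.mk_surjective g
  refine ⟨fun e => h1 (conj_eq_one_iff.1 e), h * ⟨x, Subgroup.subset_closure hx⟩ * h⁻¹, ?_, rfl⟩
  exact conj_mem_nb hD h.2 hx

theorem loc_closure (a : G) : Subgroup.closure (locSet D a) = ⊤ := by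
  refine eq_top_iff.2 fun g hg' => ?_
  clear hg'
  obtain ⟨⟨h, hh⟩, rfl⟩ := QuotientGroup.mk_surjective g
  induction hh using Subgroup.closure_induction with
  | mem x hx =>
    by_cases h1 : mkNb hx = 1
    · exact (show mkNb hx ∈ _ by rw [h1]; exact one_mem _)
    · exact Subgroup.subset_closure (mkNb_mem hD hx h1)
  | one => exact one_mem _
  | mul x y _ _ hx hy => exact mul_mem hx hy
  | inv x _ hx => exact inv_mem hx

theorem loc_isGroup (a : G) : TTSet (locSet D a) := TTSet.of_group
  ⟨loc_threeTransp hD a, loc_invariant hD a, loc_closure hD a⟩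

theorem commute_of_mkNb {a x y : G} (hx : x ∈ nb D a) (hy : y ∈ nb D a)
    (h : Commute (mkNb hx) (mkNb hy)) : Commute x y := by
  by_contra hne
  apply hne
  set X : Subgroup.closure (nb D a) := ⟨x, Subgroup.subset_closure hx⟩
  set Y : Subgroup.closure (nb D a) := ⟨y, Subgroup.subset_closure hy⟩
  have h2 : (mkNb hx * mkNb hy) ^ 2 = 1 := by
    rw [h.mul_pow, pow_two, pow_two, mkNb_mul_self hD hx, mkNb_mul_self hD hy, one_mul]
  have h3 : (mkNb hx * mkNb hy) ^ 3 = 1 := by
    have := ThreeTransp.pow_three_of_not_commute hD.1 hx.1 hy.1 hne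
    have e : (X * Y) ^ 3 = 1 := Subtype.ext (by simpa [X, Y] using this)
    simp only [mkNb, ← QuotientGroup.mk_mul, ← QuotientGroup.mk_pow]
    exact (congrArg QuotientGroup.mk e).trans (QuotientGroup.mk_one _)
  have h1 : (QuotientGroup.mk (X * Y) : ModCenter (Subgroup.closure (nb D a))) = 1 := by
    have : mkNb hx * mkNb hy = 1 := by
      rw [pow_succ, h2, one_mul] at h3
      exact h3
    exact this
  have := congrArg Subtype.val (Subgroup.mem_center_iff.1 ((QuotientGroup.eq_one_iff _).1 h1) X)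
  simp only [X, Y, Subgroup.coe_mul] at this
  exact mul_left_cancel (this.trans (mul_assoc x y x))

theorem mkNb_commute {a x y : G} (hx : x ∈ nb D a) (hy : y ∈ nb D a) (h : Commute x y) :
    Commute (mkNb hx) (mkNb hy) := by
  show (QuotientGroup.mk _ : ModCenter _) * QuotientGroup.mk _ = _
  exact congrArg QuotientGroup.mk (Subtype.ext h.eq)

theorem eq_of_mkNb_eq {a x y : G} (hx : x ∈ nb D a) (hy : y ∈ nb D a) (h1 : mkNb hx ≠ 1)
    (h : mkNb hx = mkNb hy) : x = y := by
  by_contra hne
  apply h1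
  have hc : Commute x y := commute_of_mkNb hD hx hy (h ▸ Commute.refl _)
  rw [mkNb_eq_one_iff hD hx]
  intro z hz
  have hxy : mkNb hx * mkNb hy = 1 := by rw [← h, mkNb_mul_self hD hx]
  have hz' := congrArg Subtype.val (Subgroup.mem_center_iff.1 ((QuotientGroup.eq_one_iff _).1
    (show (QuotientGroup.mk (⟨x, Subgroup.subset_closure hx⟩ * ⟨y, Subgroup.subset_closure hy⟩ :
      Subgroup.closure (nb D a)) : ModCenter (Subgroup.closure (nb D a))) = 1 from hxy))
    ⟨z, Subgroup.subset_closure hz⟩)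
  exact ((ThreeTransp.centralize_two hD.1 hx.1 hy.1 hz.1 hne hc).1 hz').1.symm

theorem commute_of_mkNb_eq_one {a x : G} (hx : x ∈ nb D a) (h : mkNb hx = 1) {y : G} (hy : y ∈ nb D a) :
    Commute x y := (mkNb_eq_one_iff hD hx).1 h y hy

/-- One class: otherwise the other classes generate a subgroup of `L` mapping onto the local group. -/
theorem oneClass_of_local [Finite G] (hZ : Subgroup.center G = ⊥) {d c : G} (hd : d ∈ D) (hc : c ∈ D)
    (hdc : ¬ Commute d c) (hone : OneClass (locSet D d)) (p : ℕ)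
    (hdvd : p ∣ Nat.card (ModCenter (Subgroup.closure (nb D d))))
    (hndvd : ¬ p ∣ Nat.card (ModCenter (Subgroup.closure (nb D d ∩ nb D c)))) : OneClass D := by
  by_contra hnot
  obtain ⟨x0, hx0, hx0'⟩ : ∃ x ∈ D, ¬ IsConj d x := by
    by_contra h
    push Not at h
    exact hnot fun a ha b hb => isConj_iff.1 ((h a ha).symm.trans (h b hb))
  have hsep : ∀ x ∈ D, ∀ y ∈ D, IsConj d x → ¬ IsConj d y → Commute x y := by
    intro x hx y hy h1 h2
    by_contra hne
    exact h2 (h1.trans (isConj_iff.2 ⟨_, exists_conj_of_not_commute hD hx hy hne⟩))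
  have hcd : IsConj d c := isConj_iff.2 ⟨_, exists_conj_of_not_commute hD hd hc hdc⟩
  have hnb : ∀ y ∈ D, ¬ IsConj d y → y ∈ nb D d ∩ nb D c := fun y hy h =>
    ⟨⟨hy, fun e => h (e ▸ IsConj.refl d), hsep d hd y hy (IsConj.refl d) h⟩,
      ⟨hy, fun e => h (e ▸ hcd), hsep c hc y hy hcd h⟩⟩
  have hnc : ∀ (y : G) (hy : y ∈ D) (h : ¬ IsConj d y), mkNb (hnb y hy h).1 ≠ 1 := by
    intro y hy h e
    apply ne_one hD hy
    have : y ∈ Subgroup.center G := by
      rw [← centralizer_D_eq_center hD]
      refine Subgroup.mem_centralizer_iff.2 fun z hz => ?_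
      by_cases hz1 : IsConj d z
      · exact hsep z hz y hy hz1 h
      · exact (commute_of_mkNb_eq_one hD (hnb y hy h).1 e (hnb z hz hz1).1).eq.symm
    rwa [hZ, Subgroup.mem_bot] at this
  have htriv : ∀ (y : G) (hy : y ∈ nb D d), IsConj d y → mkNb hy = 1 := by
    intro y hy h
    by_contra h1
    obtain ⟨g, hg⟩ := hone _ (mkNb_mem hD (hnb x0 hx0 hx0').1 (hnc x0 hx0 hx0')) _ (mkNb_mem hD hy h1)
    obtain ⟨⟨h', hh'⟩, rfl⟩ := QuotientGroup.mk_surjective g
    have hx' := conj_mem_nb hD hh' (hnb x0 hx0 hx0').1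
    have e : mkNb hy = mkNb hx' := by rw [← hg]; rfl
    have := eq_of_mkNb_eq hD hy hx' h1 e
    exact hx0' (h.trans (isConj_iff.2 ⟨h'⁻¹, by rw [this]; group⟩))
  set M : Subgroup G := Subgroup.closure {y | y ∈ D ∧ ¬ IsConj d y} with hM
  have hMH : M ≤ Subgroup.closure (nb D d) := Subgroup.closure_mono fun y hy => (hnb y hy.1 hy.2).1
  have hML : M ≤ Subgroup.closure (nb D d ∩ nb D c) := Subgroup.closure_mono fun y hy => hnb y hy.1 hy.2
  have hsurj : Function.Surjective
      ((QuotientGroup.mk' (Subgroup.center (Subgroup.closure (nb D d)))).comp (Subgroup.inclusion hMH)) := by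
    rw [← MonoidHom.range_eq_top, eq_top_iff, ← loc_closure hD d, Subgroup.closure_le]
    intro q hq
    obtain ⟨y, hy, rfl, h1⟩ := exists_of_mem_locSet hD hq
    have h : ¬ IsConj d y := fun h => h1 (htriv y hy h)
    exact ⟨⟨y, Subgroup.subset_closure ⟨hy.1, h⟩⟩, rfl⟩
  have hinj : Function.Injective
      ((QuotientGroup.mk' (Subgroup.center (Subgroup.closure (nb D d ∩ nb D c)))).comp
        (Subgroup.inclusion hML)) := by
    rw [← MonoidHom.ker_eq_bot_iff, eq_bot_iff]
    rintro ⟨m, hm⟩ hk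
    rw [Subgroup.mem_bot]
    refine Subtype.ext ?_
    show m = 1
    have hk' : Subgroup.inclusion hML ⟨m, hm⟩ ∈ Subgroup.center _ := (QuotientGroup.eq_one_iff _).1 hk
    have : m ∈ Subgroup.center G := by
      rw [← centralizer_D_eq_center hD]
      refine Subgroup.mem_centralizer_iff.2 fun z hz => ?_
      by_cases hz1 : IsConj d z
      · have hle : M ≤ Subgroup.centralizer {z} := by
          rw [hM, Subgroup.closure_le]
          intro y hy
          exact Subgroup.mem_centralizer_singleton_iff.2 (hsep z hz y hy.1 hz1 hy.2).eq.symm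
        exact (Subgroup.mem_centralizer_singleton_iff.1 (hle hm)).symm
      · exact congrArg Subtype.val (Subgroup.mem_center_iff.1 hk' ⟨z, Subgroup.subset_closure (hnb z hz hz1)⟩)
    rwa [hZ, Subgroup.mem_bot] at this
  exact hndvd (hdvd.trans ((Subgroup.card_dvd_of_surjective _ hsurj).trans
    (Subgroup.card_dvd_of_injective _ hinj)))

/-- No twins, if the local group has none. -/
theorem twinFree_of_local (hone : OneClass D) {d : G} (hd : d ∈ D) (htf : TwinFree (locSet D d))
    (hne : (locSet D d).Nonempty) : TwinFree D := by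
  have hconj : ∀ (g p q : G), SamePerp D p q → SamePerp D (g * p * g⁻¹) (g * q * g⁻¹) := by
    intro g p q h z hz
    have hz' : g⁻¹ * z * g ∈ D := by simpa using conj_mem hD g⁻¹ hz
    have := h _ hz'
    rw [← Commute.conj_iff g, ← Commute.conj_iff g (a := q)] at this
    simpa [mul_assoc] using this
  intro a ha b hb hs hab
  by_contra hne'
  obtain ⟨g, hg⟩ := hone a ha d hd
  set y := g * b * g⁻¹
  have hyd : SamePerp D d y := hg ▸ hconj g a b hs
  have hcy : Commute d y := hg ▸ (Commute.conj_iff g).2 hab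
  have hyne : y ≠ d := fun e => hne' (mul_left_cancel (mul_right_cancel (hg.trans e.symm)))
  obtain ⟨q, hq⟩ := hne
  obtain ⟨x, hx, -, hx1⟩ := exists_of_mem_locSet hD hq
  obtain ⟨k, hk⟩ := hone d hd x hx.1
  set x' := k * y * k⁻¹
  have hxx : SamePerp D x x' := hk ▸ hconj k d y hyd
  have hcx : Commute x x' := hk ▸ (Commute.conj_iff k).2 hcy
  have hxne : x' ≠ x := fun e => hyne (mul_left_cancel (mul_right_cancel (e.trans hk.symm)))
  have hx'D : x' ∈ D := conj_mem hD k (conj_mem hD g hb)
  have hx'd : x' ≠ d := fun e => hx1 ((mkNb_eq_one_iff hD hx).2 fun z hz => by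
    refine (hxx z hz.1).2 ?_
    rw [e]; exact hz.2.2)
  have hx' : x' ∈ nb D d := ⟨hx'D, hx'd, ((hxx d hd).1 hx.2.2.symm).symm⟩
  by_cases h1 : mkNb hx' = 1
  · exact hx1 ((mkNb_eq_one_iff hD hx).2 fun z hz => (hxx z hz.1).2 (commute_of_mkNb_eq_one hD hx' h1 hz))
  refine hxne (eq_of_mkNb_eq hD hx hx' hx1 (htf _ (mkNb_mem hD hx hx1) _ (mkNb_mem hD hx' h1) ?_
    (mkNb_commute hD hx hx' hcx))).symm
  intro r hr
  obtain ⟨z, hz, rfl, -⟩ := exists_of_mem_locSet hD hr
  exact ⟨fun h => mkNb_commute hD hx' hz ((hxx z hz.1).1 (commute_of_mkNb hD hx hz h)),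
    fun h => mkNb_commute hD hx hz ((hxx z hz.1).2 (commute_of_mkNb hD hx' hz h))⟩

/-- In one class without twins every neighbour is non-central in the local group. -/
theorem mkNb_ne_one [Finite G] (hone : OneClass D) (htf : TwinFree D) {a x : G} (ha : a ∈ D)
    (hx : x ∈ nb D a) : mkNb hx ≠ 1 := by
  intro e
  have hc := (mkNb_eq_one_iff hD hx).1 e
  apply hx.2.1
  refine htf x hx.1 a ha ?_ hx.2.2.symm
  obtain ⟨g, hg⟩ := hone a ha x hx.1
  have hcard : (nb D x).ncard = (nb D a).ncard := by rw [← hg]; exact ncard_nb_conj hD g a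
  have hsub : insert a (nb D a \ {x}) ⊆ nb D x := by
    rintro z (rfl | ⟨hz, hzx⟩)
    · exact ⟨ha, hx.2.1.symm, hx.2.2.symm⟩
    · exact ⟨hz.1, hzx, hc z hz⟩
  have heq : insert a (nb D a \ {x}) = nb D x := by
    refine Set.eq_of_subset_of_ncard_le hsub ?_ (Set.toFinite _)
    rw [hcard, Set.ncard_insert_of_notMem (fun h => h.1.2.1 rfl) (Set.toFinite _),
      Set.ncard_sdiff_singleton_of_mem hx]
    omega
  intro z hz
  by_cases hzx : z = x
  · subst hzx
    exact ⟨fun _ => hx.2.2, fun _ => Commute.refl _⟩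
  by_cases hza : z = a
  · subst hza
    exact ⟨fun _ => Commute.refl _, fun _ => hx.2.2.symm⟩
  constructor
  · intro h
    have : z ∈ nb D x := ⟨hz, hzx, h⟩
    rw [← heq] at this
    rcases this with h' | h'
    · exact absurd h' hza
    · exact h'.1.2.2
  · intro h
    exact hc z ⟨hz, hza, h⟩

end Cfsg.Agent.TT95
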