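import Cfsg.Agent.TT95.LayStep
import Cfsg.Agent.TT95.LayBase
import Cfsg.Agent.TT95.Conn22

/-!
Type M(23): the graph properties with 31671, 3510, 693, 351, 126.
-/

set_option autoImplicit false
set_option linter.unusedSectionVars false

namespace Cfsg.Agent.TT95

theorem num23_mu : ∀ μ < 127, μ ≠ 0 → 10080 % μ = 0 → 9884160 % (127 + 10080 / μ) = 0 → μ = 45 := by
  decide +kernel

theorem num23 (r X μ F : ℕ) (h1 : 1 ≤ μ) (h2 : μ ≤ 126) (h3 : X * μ = 10080)
    (h4 : F * (r * (127 + X)) = 9884160) (h5 : r * (127 + X) ≤ 3510) (ho : Odd r) (h6 : r ≠ 5) :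
    r = 1 ∧ 127 + X = 351 := by
  have hX : 10080 / μ = X := by rw [← h3, Nat.mul_div_cancel _ (by omega)]
  obtain rfl : μ = 45 := num23_mu μ (by omega) (by omega) (by rw [← h3]; exact Nat.mul_mod_left X μ)
    (by rw [hX, ← h4, ← mul_assoc]; exact Nat.mul_mod_left _ _)
  obtain rfl : X = 224 := by omega
  obtain ⟨j, rfl⟩ := ho
  have : j ≤ 4 := by omega
  interval_cases j <;> omega

variable {G : Type*} [Group G] [Finite G] {D : Set G}

/-- A primitive class with some commuting pair has a connected commuting graph. -/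
theorem conn_of_primitive (hD : TTSet D) (hprim : Cfsg.IsPrimitiveUnderConj D) {a b : G} (ha : a ∈ D)
    (hb : b ∈ nb D a) : Conn D := by
  have hmap : ∀ (g x y : G), Path D x y → Path D (g * x * g⁻¹) (g * y * g⁻¹) := fun g _ _ h =>
    Path.conj hD g (fun z hz => conj_mem hD g hz) h
  set B : Set G := comp D a with hB
  have hblock : ∀ g : G, (fun x => g * x * g⁻¹) '' B = B ∨ Disjoint ((fun x => g * x * g⁻¹) '' B) B := by
    intro g
    by_cases hdis : Disjoint ((fun x => g * x * g⁻¹) '' B) B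
    · exact Or.inr hdis
    left
    obtain ⟨_, ⟨x, hx, rfl⟩, hx'⟩ := Set.not_disjoint_iff.1 hdis
    ext y
    constructor
    · rintro ⟨w, hw, rfl⟩
      exact ⟨conj_mem hD g hw.1, hx'.2.trans' (hmap g x w (hx.2.symm.trans' hw.2))⟩
    · intro hy
      refine ⟨g⁻¹ * y * g, ⟨by simpa using conj_mem hD g⁻¹ hy.1, ?_⟩, by group⟩
      have := hmap g⁻¹ _ _ (hx'.2.symm.trans' hy.2)
      rw [show g⁻¹ * (g * x * g⁻¹) * g⁻¹⁻¹ = x by group, inv_inv] at this
      exact hx.2.trans' this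
  rcases hprim.2.2 B (fun x hx => hx.1) hblock with hs | hs
  · exact absurd (hs ⟨hb.1, Path.single' ha hb.1 hb.2.2⟩ ⟨ha, .refl⟩) hb.2.1
  · intro x hx y hy
    rw [← hs] at hx hy
    exact hx.2.symm.trans' hy.2

theorem exists_edge_of_core23 (hD : TTSet D) (h : Core23 G D) : ∃ a ∈ D, ∃ b, b ∈ nb D a := by
  obtain ⟨-, d, hd, -, -, -, h22, -⟩ := h
  obtain ⟨-, q, hq, -⟩ := h22
  obtain ⟨x, hx, -⟩ := exists_of_mem_locSet hD hq
  exact ⟨d, hd, x, hx⟩

/-- The local group at a member and the hypotheses of the step to M(23). -/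
theorem stepHyp23 (hD : TTSet D) (h : Core23 G D) (hconn : Conn D) :
    ∃ d ∈ D, StepHyp D (locSet D d) 3510 693 180 126 45 ∧ Cfg22 (locSet D d) := by
  obtain ⟨h1, h2⟩ := oneClass_twinFree_of_core23 hD h
  obtain ⟨hZ, d, hd, c, hc, hdc, h22, hL⟩ := h
  haveI := loc_finite hD d
  have hC := cfg22_of_core22 (loc_isGroup hD d) h22
  obtain ⟨-, q, hq, -⟩ := h22
  obtain ⟨f, hf⟩ := exists_iso_loc hD h1 h2 hd
  exact ⟨d, hd, ⟨hD, hZ, h1, h2, hconn, lay22 hC hq, transQuads22 hC, iso_everywhere hD h1 hd hf,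
    by norm_num, by norm_num⟩, hC⟩

/-- The graph of type M(23). -/
theorem lay23 (hD : TTSet D) (h : Core23 G D) (hconn : Conn D) :
    Lay D 31671 3510 693 351 126 ∧ TransQuads D ∧ ∀ a ∈ D, ∀ d ∈ far D a, Conn (common D a d) := by
  obtain ⟨d, hd, hS, -⟩ := stepHyp23 hD h hconn
  haveI := loc_finite hD d
  obtain ⟨h1, h2⟩ := step_lay hS (R := 1) (C := 351) (N := 28160) ⟨d, hd⟩ (by norm_num) (by norm_num)
    (by norm_num) (fun r X μ F a1 a2 a3 a4 a5 a6 a7 => num23 r X μ F a1 a2 a3 a4 a5 a6 a7)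
  have hcc : ∀ a ∈ D, ∀ d ∈ far D a, Conn (common D a d) := fun a ha d hd =>
    conn_of_comps_one (h2 a ha d hd).1
  exact ⟨h1, step_quads hS hcc, hcc⟩

end Cfsg.Agent.TT95
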