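import Cfsg.Agent.TT95.Lay
import Cfsg.Agent.TT95.SwapBasic

/-!
A criterion for the centraliser of a transposition to be generated by its neighbours: the cosets of the
latter are followed along the action of the transpositions.
-/

set_option autoImplicit false
set_option linter.unusedSectionVars false

namespace Cfsg.Agent.TT95

variable {G : Type*} [Group G]

/-- `d` commutes with neither of `a`, `x` but with some common neighbour. -/
def Witness (D : Set G) (a x d : G) : Prop :=
  d ∈ far D a ∧ d ∈ far D x ∧ ∃ w ∈ common D a x, Commute w d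

/-- What the criterion needs at `a`. -/
structure TransHyp (D : Set G) (a : G) : Prop where
  tt : TTSet D
  mem : a ∈ D
  self : a ∈ Subgroup.closure (nb D a)
  cube : ∀ g : G, Commute g a → g * g * g = 1 → g ∈ Subgroup.closure (nb D a)
  wit : ∀ x ∈ nb D a, ∃ d, Witness D a x d
  swap : ∀ x ∈ nb D a, ∀ d d', Witness D a x d → Witness D a x d' →
    (swapEl a x d)⁻¹ * swapEl a x d' ∈ Subgroup.closure (nb D a)
  choice : ∀ x ∈ nb D a, ∀ y ∈ far D a, ∃ f, Witness D a x f ∧ f * y * f ∈ far D a

variable {D : Set G} {a : G} (h : TransHyp D a)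

include h

namespace TransHyp

/-- The transversal. -/
def Good (T : G → G ⧸ Subgroup.closure (nb D a)) : Prop :=
  T a = QuotientGroup.mk 1 ∧ (∀ x ∈ far D a, T x = QuotientGroup.mk (a * x)) ∧
    ∀ x d, x ∈ nb D a → Witness D a x d → T x = QuotientGroup.mk (swapEl a x d)

open scoped Classical in
theorem exists_good : ∃ T, Good (D := D) (a := a) T := by
  refine ⟨fun x => if x = a then QuotientGroup.mk 1 else if hx : x ∈ nb D a then
    QuotientGroup.mk (swapEl a x (h.wit x hx).choose) else QuotientGroup.mk (a * x), by simp, fun x hx => ?_,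
    fun x d hx hd => ?_⟩
  · have h1 : x ≠ a := fun e => hx.2 (e ▸ Commute.refl _)
    have h2 : x ∉ nb D a := fun e => hx.2 e.2.2
    simp only [if_neg h1, dif_neg h2]
  · simp only [if_neg hx.2.1, dif_pos hx]
    exact QuotientGroup.eq.2 (h.swap x hx _ d (h.wit x hx).choose_spec hd)

variable {T : G → G ⧸ Subgroup.closure (nb D a)} (hT : Good (D := D) (a := a) T)

include hT

theorem key {t t' : G} (e : (QuotientGroup.mk t : G ⧸ Subgroup.closure (nb D a)) = QuotientGroup.mk t') (u : G) :
    (QuotientGroup.mk (u * t) : G ⧸ Subgroup.closure (nb D a)) = QuotientGroup.mk (u * t') := by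
  rw [QuotientGroup.eq] at e ⊢
  rwa [show (u * t)⁻¹ * (u * t') = t⁻¹ * t' by group]

theorem close {t t' k : G} (hk : k ∈ Subgroup.closure (nb D a)) (e : t = t' * k) :
    (QuotientGroup.mk t : G ⧸ Subgroup.closure (nb D a)) = QuotientGroup.mk t' := by
  rw [e]
  exact (QuotientGroup.eq.2 (by rwa [show (t')⁻¹ * (t' * k) = k by group])).symm

theorem memH {u : G} (hu : u ∈ D) (hc : Commute a u) : u ∈ Subgroup.closure (nb D a) := by
  by_cases e : u = a
  · exact e ▸ h.self
  · exact Subgroup.subset_closure ⟨hu, e, hc⟩

theorem undo {e : G} (he : e ∈ D) {z : G} : e * (e * z * e) * e = z := by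
  rw [show e * (e * z * e) * e = (e * e) * z * (e * e) by group, sq h.tt he, one_mul, mul_one]

/-- Transpositions commuting with neither of a commuting pair conjugate the second away from the first. -/
theorem far_of_far {e x : G} (he : e ∈ far D a) (hx : x ∈ nb D a) (hex : ¬ Commute e x) :
    e * x * e ∈ far D a := by
  refine ⟨conj_mem' h.tt hx.1 he.1, fun hc => he.2 ?_⟩
  rw [braid h.tt he.1 hx.1 hex] at hc
  have := (hx.2.2.mul_right hc).mul_right hx.2.2
  rwa [undo h hT hx.1] at this

theorem at_self {e : G} (he : e ∈ D) {r : G} (hr : QuotientGroup.mk r = T a) :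
    (QuotientGroup.mk (e * r) : G ⧸ Subgroup.closure (nb D a)) = T (e * a * e) := by
  have hT1 := hT.1
  have hT2 := hT.2.1
  rw [hT1] at hr
  rw [key h hT hr e, mul_one]
  by_cases hea : Commute e a
  · rw [show e * a * e = a by rw [hea.eq, mul_assoc, sq h.tt he, mul_one], hT1]
    exact close h hT (memH h hT he hea.symm) (one_mul e).symm
  · have hy : e * a * e ∈ far D a := by
      refine ⟨conj_mem' h.tt h.mem he, fun hc => hea ?_⟩
      rw [braid h.tt he h.mem hea] at hc
      have := ((Commute.refl a).mul_right hc).mul_right (Commute.refl a)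
      rw [undo h hT h.mem] at this
      exact this.symm
    rw [hT2 _ hy]
    refine close h hT h.self ?_
    rw [braid h.tt he h.mem hea, show a * (a * e * a) * a = (a * a) * e * (a * a) by group, sq h.tt h.mem,
      one_mul, mul_one]

theorem at_nb_witness {e x : G} (hx : x ∈ nb D a) (he : Witness D a x e) {r : G}
    (hr : QuotientGroup.mk r = T x) :
    (QuotientGroup.mk (e * r) : G ⧸ Subgroup.closure (nb D a)) = T (e * x * e) := by
  have hex : ¬ Commute e x := fun c => he.2.1.2 c.symm
  have hea : ¬ Commute e a := fun c => he.1.2 c.symm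
  have hy := far_of_far h hT he.1 hx hex
  rw [hT.2.2 x e hx he] at hr
  rw [key h hT hr e, hT.2.1 _ hy]
  have se := sq h.tt he.1.1
  have sa := sq h.tt h.mem
  have sx := sq h.tt hx.1
  have hxe : x * e * x = e * x * e := braid h.tt hx.1 he.1.1 fun c => hex c.symm
  have haea : a * e * a = e * a * e := braid h.tt h.mem he.1.1 fun c => hea c.symm
  refine close h hT (memH h hT hx.1 hx.2.2) ?_
  rw [swapEl, hxe]
  calc e * (a * e * a * (e * x * e)) = e * (e * a * e) * (e * x * e) := by rw [← haea]; group
    _ = a * (e * (e * x * e)) := by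
      rw [show e * (e * a * e) = (e * e) * (a * e) by group, se, one_mul]; group
    _ = a * (e * x * e) * x := by
      rw [show a * (e * x * e) * x = a * ((e * x * e) * x) by group, ← hxe,
        show x * e * x * x = x * e * (x * x) by group, sx, mul_one,
        show e * (x * e * x) = (e * x * e) * x by group, ← hxe,
        show x * e * x * x = x * e * (x * x) by group, sx, mul_one]

/-- Between two members not commuting with `a`. -/
theorem at_far {e x : G} (he : e ∈ D) (hx : x ∈ far D a) (hy : e * x * e ∈ far D a) {r : G}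
    (hr : QuotientGroup.mk r = T x) :
    (QuotientGroup.mk (e * r) : G ⧸ Subgroup.closure (nb D a)) = T (e * x * e) := by
  have hD := h.tt
  have ha := h.mem
  have sa := sq hD ha
  have se := sq hD he
  have sx := sq hD hx.1
  rw [hT.2.1 x hx] at hr
  rw [key h hT hr e]
  have hxc : ¬ Commute x a := fun c => hx.2 c.symm
  have haxa : a * x * a = x * a * x := braid hD ha hx.1 hx.2
  by_cases hex : Commute e x
  · rw [show e * x * e = x by rw [hex.eq, mul_assoc, se, mul_one], hT.2.1 x hx]
    refine close h hT (k := (a * x)⁻¹ * e * (a * x)) (memH h hT ?_ ?_) (by group)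
    · have := conj_mem hD (a * x)⁻¹ he
      rwa [inv_inv] at this
    · have := (Commute.conj_iff (a * x)⁻¹).2 hex.symm
      rw [inv_inv] at this
      rwa [show (a * x)⁻¹ * x * (a * x) = a from ?_] at this
      rw [mul_inv_rev, inv_eq hD ha, inv_eq hD hx.1, show x * a * x * (a * x) = x * (a * x * a) * x by group,
        haxa, show x * (x * a * x) * x = (x * x) * a * (x * x) by group, sx, one_mul, mul_one]
  rw [hT.2.1 _ hy]
  have hyc : ¬ Commute (e * x * e) a := fun c => hy.2 c.symm
  by_cases hea : Commute e a
  · by_cases hea' : e = a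
    · subst hea'
      exact close h hT h.self (by rw [show e * (e * x * e) * e = (e * e) * x * (e * e) by group, mul_assoc (e * e), se,
        mul_one, one_mul, ← mul_assoc, se, one_mul])
    refine close h hT (k := e) (memH h hT he hea.symm) ?_
    rw [show a * (e * x * e) * e = (a * e) * x * (e * e) by group, se, mul_one, ← hea.eq, mul_assoc]
  have haea : a * e * a = e * a * e := braid hD ha he fun c => hea c.symm
  set q := e * x with hq
  have hq3 : q * q * q = 1 := by
    have h := ThreeTransp.pow_three_of_not_commute hD.1 he hx.1 hex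
    rw [← h, pow_succ, pow_two]
  set z := q * a * q with hz
  have hzform : (a * (e * x * e))⁻¹ * (e * (a * x)) = z := by
    rw [mul_inv_rev, inv_eq hD hy.1, inv_eq hD ha, hz, hq]
    calc e * x * e * a * (e * (a * x)) = e * x * (e * (a * e * a)) * x := by group
      _ = e * x * (e * (e * a * e)) * x := by rw [haea]
      _ = e * x * ((e * e) * a * e) * x := by group
      _ = e * x * a * (e * x) := by rw [se, one_mul]; group
  have hza : z * a * z⁻¹ = a := by
    have hax : (a * x) * a * (a * x)⁻¹ = x := exists_conj_of_not_commute hD ha hx.1 hx.2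
    have hay : (a * (e * x * e)) * a * (a * (e * x * e))⁻¹ = e * x * e :=
      exists_conj_of_not_commute hD ha hy.1 hy.2
    rw [← hzform]
    calc (a * (e * x * e))⁻¹ * (e * (a * x)) * a * ((a * (e * x * e))⁻¹ * (e * (a * x)))⁻¹
        = (a * (e * x * e))⁻¹ * (e * ((a * x) * a * (a * x)⁻¹) * e⁻¹) * (a * (e * x * e)) := by group
      _ = (a * (e * x * e))⁻¹ * (e * x * e) * (a * (e * x * e)) := by rw [hax, inv_eq hD he]
      _ = a := by
        conv_lhs => arg 1; arg 2; rw [← hay]
        group
  have hzc : z * a = a * z := mul_inv_eq_iff_eq_mul.1 hza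
  set p := a * q * a with hp
  have hp3 : p * p * p = 1 := by
    rw [hp, show a * q * a * (a * q * a) * (a * q * a) = a * q * (a * a) * q * (a * a) * q * a by group, sa,
      mul_one, mul_one, show a * q * q * q * a = a * (q * q * q) * a by group, hq3, mul_one, sa]
  have hqp : Commute q p := by
    show q * p = p * q
    rw [hp, show q * (a * q * a) = (q * a * q) * a by group, ← hz, hzc, hz]
    group
  have hqpc : Commute (q * p) a := by
    rw [hp, show q * (a * q * a) = z * a by rw [hz]; group]
    exact (show Commute z a from hzc).mul_left (Commute.refl a)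
  have hcube : q * p * (q * p) * (q * p) = 1 := by
    calc q * p * (q * p) * (q * p) = (q * p) ^ 3 := by rw [pow_succ, pow_two]
      _ = q ^ 3 * p ^ 3 := hqp.mul_pow 3
      _ = (q * q * q) * (p * p * p) := by rw [pow_succ, pow_two, pow_succ, pow_two]
      _ = 1 := by rw [hq3, hp3, mul_one]
  refine close h hT (k := z) ?_ ?_
  · have e1 : z = q * p * a := by rw [hz, hp, show q * (a * q * a) * a = q * a * q * (a * a) by group, sa, mul_one]
    rw [e1]
    exact mul_mem (h.cube _ hqpc hcube) h.self
  · rw [← hzform, hq]
    group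

theorem at_nb {e x : G} (he : e ∈ D) (hx : x ∈ nb D a) {r : G} (hr : QuotientGroup.mk r = T x) :
    (QuotientGroup.mk (e * r) : G ⧸ Subgroup.closure (nb D a)) = T (e * x * e) := by
  have hD := h.tt
  have ha := h.mem
  have se := sq hD he
  by_cases hex : Commute e x
  · obtain ⟨d, hd⟩ := h.wit x hx
    have hda : ¬ Commute d a := fun c => hd.1.2 c.symm
    have hdb : ¬ Commute d x := fun c => hd.2.1.2 c.symm
    set s := swapEl a x d with hs
    rw [hT.2.2 x d hx hd] at hr
    rw [key h hT hr e, show e * x * e = x by rw [hex.eq, mul_assoc, se, mul_one], hT.2.2 x d hx hd]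
    have f2 := swap_conj_snd hD ha hx.1 hd.1.1 hx.2.2 hx.2.1.symm hda hdb
    have hi := swap_inv hD ha hx.1 hd.1.1 hx.2.2 hx.2.1.symm hda hdb
    have hss := swap_sq hD ha hx.1 hd.1.1 hx.2.2 hx.2.1.symm hda hdb
    refine close h hT (k := s * e * s⁻¹) (memH h hT (conj_mem hD s he) ?_) ?_
    · have := (Commute.conj_iff s).2 hex.symm
      rwa [f2] at this
    · show e * s = s * (s * e * s⁻¹)
      rw [hi, show s * (s * e * s) = (s * s) * e * s by group, hss, one_mul]
  by_cases hea : Commute e a
  · obtain ⟨d, hd⟩ := h.wit x hx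
    rw [hT.2.2 x d hx hd] at hr
    rw [key h hT hr e]
    have hne : e ≠ a := fun c => hex (c ▸ hx.2.2)
    have efix : e * a * e = a := by rw [hea.eq, mul_assoc, se, mul_one]
    have hcj : ∀ {z : G}, z ∈ nb D a → e * z * e ∈ nb D a := fun {z} hz =>
      (nb_closed hD a).2 e ⟨he, hne, hea.symm⟩ z hz
    have hy := hcj hx
    have cflip : ∀ {u v : G}, Commute (e * u * e) (e * v * e) ↔ Commute u v := fun {u v} => by
      have := Commute.conj_iff (a := u) (b := v) e
      rwa [inv_eq hD he] at this
    have hd' : Witness D a (e * x * e) (e * d * e) := by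
      obtain ⟨w, hw, hwd⟩ := hd.2.2
      refine ⟨⟨conj_mem' hD hd.1.1 he, fun c => hd.1.2 ?_⟩, ⟨conj_mem' hD hd.1.1 he, fun c => hd.2.1.2 (cflip.1 c)⟩,
        e * w * e, ⟨hcj hw.1, conj_mem' hD hw.1.1 he, fun c => hw.2.2.1 ?_, cflip.2 hw.2.2.2⟩, cflip.2 hwd⟩
      · rw [← efix] at c
        exact cflip.1 c
      · simpa using c
    rw [hT.2.2 _ (e * d * e) hy hd']
    refine close h hT (k := e) (memH h hT he hea.symm) ?_
    have eae : e * a = a * e := hea.eq
    show e * (a * d * a * (x * d * x)) = a * (e * d * e) * a * (e * x * e * (e * d * e) * (e * x * e)) * e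
    calc e * (a * d * a * (x * d * x))
        = (e * a) * d * a * (x * d * x) := by group
      _ = a * e * d * a * (x * d * x) := by rw [eae]
      _ = a * e * d * (e * e) * a * (x * d * x) := by rw [se, mul_one]
      _ = a * (e * d * e) * (e * a) * (x * d * x) := by group
      _ = a * (e * d * e) * (a * e) * (x * (e * e) * d * (e * e) * x) * (e * e) := by
          rw [eae, se, mul_one, mul_one, mul_one]
      _ = a * (e * d * e) * a * (e * x * e * (e * d * e) * (e * x * e)) * e := by group
  -- a detour through a witness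
  have hef : e ∈ far D a := ⟨he, fun c => hea c.symm⟩
  have hy := far_of_far h hT hef hx hex
  obtain ⟨f, hf, hfy⟩ := h.choice x hx _ hy
  have hfx : ¬ Commute f x := fun c => hf.2.1.2 c.symm
  have hfD := hf.1.1
  have sf := sq hD hfD
  have h1 : (QuotientGroup.mk (f * r) : G ⧸ Subgroup.closure (nb D a)) = T (f * x * f) :=
    at_nb_witness h hT hx hf hr
  have e2 : f * e * f * (f * x * f) * (f * e * f) = f * (e * x * e) * f := by
    rw [show f * e * f * (f * x * f) * (f * e * f) = f * e * (f * f) * x * (f * f) * e * f by group, sf, mul_one,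
      mul_one]
    group
  have h2 := at_far h hT (conj_mem' hD he hfD) (far_of_far h hT hf.1 hx hfx) (e2.symm ▸ hfy) h1
  rw [e2] at h2
  have h3 := at_far h hT hfD hfy (e := f) (by rw [undo h hT hfD]; exact hy) h2
  rw [undo h hT hfD] at h3
  rw [← h3]
  congr 1
  rw [show f * (f * e * f * (f * r)) = (f * f) * e * (f * f) * r by group, sf, one_mul, mul_one]

/-- Each transposition maps the chosen cosets as it maps their labels. -/
theorem step {e x : G} (he : e ∈ D) (hx : x ∈ D) {r : G} (hr : QuotientGroup.mk r = T x) :
    (QuotientGroup.mk (e * r) : G ⧸ Subgroup.closure (nb D a)) = T (e * x * e) := by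
  have hD := h.tt
  have back : ∀ y, e * x * e = y → (∀ {r'}, QuotientGroup.mk r' = T y →
      (QuotientGroup.mk (e * r') : G ⧸ Subgroup.closure (nb D a)) = T (e * y * e)) →
      (QuotientGroup.mk (e * r) : G ⧸ Subgroup.closure (nb D a)) = T y := by
    intro y hy hstep
    obtain ⟨r', hr'⟩ := QuotientGroup.mk_surjective (T y)
    have := hstep hr'
    rw [← hy, undo h hT he, ← hr] at this
    rw [key h hT this.symm e, ← hr', show e * (e * r') = (e * e) * r' by group, sq hD he, one_mul]
  rcases mem_nb_or_far (a := a) hx with e1 | e1 | e1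
  · subst e1
    exact at_self h hT he hr
  · exact at_nb h hT he e1 hr
  · rcases mem_nb_or_far (a := a) (conj_mem' hD hx he) with e2 | e2 | e2
    · exact back _ rfl fun {r'} hr' => by
        rw [e2] at hr' ⊢
        exact at_self h hT he hr'
    · exact back _ rfl fun {r'} hr' => at_nb h hT he e2 hr'
    · exact at_far h hT he e1 e2 hr

omit hT in
/-- The centraliser is generated by the neighbours. -/
theorem centralizer [Gen D] : Subgroup.centralizer ({a} : Set G) = Subgroup.closure (nb D a) := by
  refine le_antisymm (fun g hg => ?_) fun g hg => ?_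
  · obtain ⟨T, hT⟩ := exists_good h
    have hall : ∀ u : G, ∀ x ∈ D, ∀ r, (QuotientGroup.mk r : G ⧸ Subgroup.closure (nb D a)) = T x →
        (QuotientGroup.mk (u * r) : G ⧸ Subgroup.closure (nb D a)) = T (u * x * u⁻¹) := by
      intro u
      have hu : u ∈ Subgroup.closure D := by rw [Gen.gen (D := D)]; trivial
      induction hu using Subgroup.closure_induction'' with
      | mem e he =>
        intro x hx r hr
        rw [inv_eq h.tt he]
        exact step h hT he hx hr
      | inv_mem e he =>
        intro x hx r hr
        rw [inv_inv, inv_eq h.tt he]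
        exact step h hT he hx hr
      | one => intro x _ r hr; simpa using hr
      | mul u v _ _ hu hv =>
        intro x hx r hr
        rw [mul_assoc, hu _ (conj_mem h.tt v hx) _ (hv x hx r hr)]
        congr 1
        group
    have h' := hall g a h.mem 1 hT.1.symm
    rw [mul_one, show g * a * g⁻¹ = a by
      rw [mul_inv_eq_iff_eq_mul]; exact Subgroup.mem_centralizer_singleton_iff.1 hg, hT.1, QuotientGroup.eq] at h'
    simpa using inv_mem h'
  · rw [Subgroup.mem_centralizer_singleton_iff]
    exact (commute_closure_nb h.tt hg).eq.symm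

end TransHyp

end Cfsg.Agent.TT95
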