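import Cfsg.Agent.TT95.Section
import Cfsg.Agent.TT95.U6Label
import Cfsg.Agent.Lib.LinearGroup.Card

/-!
Consequences of type M(22), M(23), M(24): one class, no twins, the point model on the neighbours of
each transposition, and no short relations among commuting transpositions.
-/

set_option autoImplicit false
set_option linter.unusedSectionVars false

namespace Cfsg.Agent.TT95

open Cfsg.Agent.TT95.U6

/-- The part of type M(22) that is used. -/
def Core22 (G : Type*) [Group G] (D : Set G) : Prop :=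
  Subgroup.center G = ⊥ ∧ ∃ d ∈ D, ∃ c ∈ D, ¬ Commute d c ∧
    IsU6 (ModCenter (Subgroup.closure (nb D d))) ∧
    ¬ 2 ^ 15 ∣ Nat.card (ModCenter (Subgroup.closure (nb D d ∩ nb D c)))

/-- The part of type M(23) that is used. -/
def Core23 (G : Type*) [Group G] (D : Set G) : Prop :=
  Subgroup.center G = ⊥ ∧ ∃ d ∈ D, ∃ c ∈ D, ¬ Commute d c ∧
    Core22 (ModCenter (Subgroup.closure (nb D d))) (locSet D d) ∧
    ¬ 2 ^ 15 ∣ Nat.card (ModCenter (Subgroup.closure (nb D d ∩ nb D c)))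

theorem card_proj_reflection_dvd {X : Type*} [Group X] {n : ℕ} {μ c : ZMod 3}
    (h : Cfsg.IsProjReflectionGroupModThree X n μ c) : Nat.card X ∣ Nat.card (GL (Fin n) (ZMod 3)) := by
  obtain ⟨Q, -, -, ⟨e⟩⟩ := h
  rw [Nat.card_congr e.toEquiv]
  exact ((Subgroup.card_quotient_dvd_card _).trans (Subgroup.card_subgroup_dvd_card _)).trans
    (Subgroup.card_subgroup_dvd_card _)

theorem not_dvd_card_proj_reflection {X : Type*} [Group X] {n : ℕ} (hn : n = 6 ∨ n = 7) {μ c : ZMod 3}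
    (h : Cfsg.IsProjReflectionGroupModThree X n μ c) : ¬ 2 ^ 15 ∣ Nat.card X := by
  intro hd
  have := hd.trans (card_proj_reflection_dvd h)
  rw [Cfsg.Agent.LinearGroup.card_GL_eq_pow_mul_prod] at this
  rcases hn with rfl | rfl <;>
    simp [Fin.sum_univ_succ, Finset.prod_range_succ, Nat.card_zmod] at this <;> norm_num at this

theorem dvd_card_of_isU6 {K : Type*} [Group K] (h : IsU6 K) : 2 ^ 15 ∣ Nat.card K := by
  obtain ⟨F, _, _, hF, ⟨f⟩⟩ := h
  rw [Nat.card_congr f.toEquiv]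
  have e := Cfsg.Agent.Unitary.card_PSU (F := F) (n := 6) (q := 2) hF (by norm_num)
  have hd : 2 ^ 15 ∣ Nat.gcd 6 (2 + 1) * (2 + 1) * Nat.card (Cfsg.PSU 6 F 2) := by
    rw [mul_assoc]
    exact ⟨_, e⟩
  exact Nat.Coprime.dvd_of_dvd_mul_left (by norm_num) hd

theorem closure_diff_one {G : Type*} [Group G] (S : Set G) :
    Subgroup.closure (S \ {1}) = Subgroup.closure S := by
  refine le_antisymm (Subgroup.closure_mono Set.diff_subset) ((Subgroup.closure_le _).2 fun x hx => ?_)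
  by_cases h : x = 1
  · rw [h]; exact one_mem _
  · exact Subgroup.subset_closure ⟨hx, h⟩

theorem nb_diff_one {G : Type*} [Group G] (D : Set G) (a : G) : nb (D \ {1}) a = nb D a \ {1} := by
  ext x
  simp only [nb, Set.mem_setOf_eq, Set.mem_diff]
  tauto

theorem imgOf_congr {G : Type*} [Group G] {H H' : Subgroup G} (e : H = H') {S S' : Set G}
    (hS : S \ {1} = S' \ {1}) {P : ∀ (K : Type _) [Group K], Set K → Prop}
    (h : P (ModCenter H) (imgOf H S)) : P (ModCenter H') (imgOf H' S') := by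
  subst e
  have : imgOf H S = imgOf H S' := by
    ext q
    simp only [imgOf, Set.mem_setOf_eq]
    refine and_congr_right fun hq => exists_congr fun x => and_congr_left fun hx => ?_
    have h1 : (x : G) ≠ 1 := fun e => hq (by
      rw [← hx, show x = 1 from Subtype.ext e]; rfl)
    constructor <;> intro hm
    · exact (hS.le ⟨hm, h1⟩).1
    · exact (hS.ge ⟨hm, h1⟩).1
  rwa [← this]

theorem card_modCenter_congr {G : Type*} [Group G] {H H' : Subgroup G} (e : H = H') :
    Nat.card (ModCenter H) = Nat.card (ModCenter H') := by subst e; rfl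

theorem isU6_congr {G : Type*} [Group G] {H H' : Subgroup G} (e : H = H') (h : IsU6 (ModCenter H)) :
    IsU6 (ModCenter H') := by subst e; exact h

theorem closure_L_diff_one {G : Type*} [Group G] (D : Set G) (d c : G) :
    Subgroup.closure (nb (D \ {1}) d ∩ nb (D \ {1}) c) = Subgroup.closure (nb D d ∩ nb D c) := by
  rw [← closure_diff_one (nb D d ∩ nb D c)]
  congr 1
  ext x
  simp only [nb, Set.mem_setOf_eq, Set.mem_diff, Set.mem_inter_iff]
  tauto

theorem ne_one_of_not_commute {G : Type*} [Group G] {d c : G} (h : ¬ Commute d c) :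
    d ≠ 1 ∧ c ≠ 1 := ⟨fun e => h (e ▸ Commute.one_left c), fun e => h (e ▸ Commute.one_right d)⟩

theorem Core22.diff_one {G : Type*} [Group G] {D : Set G} (h : Core22 G D) : Core22 G (D \ {1}) := by
  obtain ⟨hZ, d, hd, c, hc, hdc, h1, h2⟩ := h
  obtain ⟨hd1, hc1⟩ := ne_one_of_not_commute hdc
  refine ⟨hZ, d, ⟨hd, hd1⟩, c, ⟨hc, hc1⟩, hdc, isU6_congr ?_ h1, ?_⟩
  · rw [nb_diff_one, closure_diff_one]
  · rwa [card_modCenter_congr (closure_L_diff_one D d c)]

theorem Core23.diff_one {G : Type*} [Group G] {D : Set G} (h : Core23 G D) : Core23 G (D \ {1}) := by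
  obtain ⟨hZ, d, hd, c, hc, hdc, h1, h2⟩ := h
  obtain ⟨hd1, hc1⟩ := ne_one_of_not_commute hdc
  refine ⟨hZ, d, ⟨hd, hd1⟩, c, ⟨hc, hc1⟩, hdc, imgOf_congr ?_ ?_ (P := fun K _ E => Core22 K E) h1, ?_⟩
  · rw [nb_diff_one, closure_diff_one]
  · rw [nb_diff_one]
    ext x
    simp only [Set.mem_diff]
    tauto
  · rwa [card_modCenter_congr (closure_L_diff_one D d c)]

theorem core22_of_type {G : Type*} [Group G] {D : Set G} (h : Cfsg.IsOfTypeM22 G D) : Core22 G D := by
  obtain ⟨hZ, d, hd, c, hc, hdc, h1, c₃, -, h2⟩ := h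
  exact ⟨hZ, d, hd, c, hc, hdc, h1, not_dvd_card_proj_reflection (Or.inl rfl) h2⟩

theorem mk_image_diff_one {G : Type*} [Group G] (H : Subgroup G) (S : Set G) :
    ((QuotientGroup.mk : H → ModCenter H) '' {x : H | (x : G) ∈ S}) \ {1} = imgOf H S := by
  ext q
  simp only [imgOf, Set.mem_diff, Set.mem_image, Set.mem_setOf_eq, Set.mem_singleton_iff, and_comm, ne_eq]

theorem core23_of_type {G : Type*} [Group G] {D : Set G} (h : Cfsg.IsOfTypeM23 G D) : Core23 G D := by
  obtain ⟨hZ, d, hd, c, hc, hdc, h1, c₃, -, h2⟩ := h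
  refine ⟨hZ, d, hd, c, hc, hdc, ?_, not_dvd_card_proj_reflection (Or.inr rfl) h2⟩
  have := (core22_of_type h1).diff_one
  rw [mk_image_diff_one] at this
  exact this

theorem core_of_typeM24 {G : Type*} [Group G] {D : Set G} (h : Cfsg.IsOfTypeM24 G D) :
    Subgroup.center G = ⊥ ∧ ∃ d ∈ D, Core23 (ModCenter (Subgroup.closure (nb D d))) (locSet D d) := by
  obtain ⟨hZ, d, hd, c, hc, hdc, h1, -⟩ := h
  refine ⟨hZ, d, hd, ?_⟩
  have := (core23_of_type h1).diff_one
  rw [mk_image_diff_one] at this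
  exact this

/-! ### The point model on the neighbours -/

/-- `β` labels the neighbours of `a` by the point model. -/
structure IsLocal {G : Type*} [Group G] (D : Set G) (a : G) (β : ℕ → G) : Prop where
  mem : ∀ p, isPt p = true → β p ∈ nb D a
  surj : ∀ x ∈ nb D a, ∃ p, isPt p = true ∧ β p = x
  inj : ∀ p q, isPt p = true → isPt q = true → β p = β q → p = q
  comm : ∀ p q, isPt p = true → isPt q = true → (Commute (β p) (β q) ↔ orth p q = true)
  isPt_tv : ∀ e p, isPt e = true → isPt p = true → isPt (tv e p) = true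
  conj : ∀ e p, isPt e = true → isPt p = true → β e * β p * (β e)⁻¹ = β (tv e p)
  line : ∀ y ∈ nb D a, Commute (β 1 * β 4 * β 5 * β 9 * β 13) y

theorem U6.IsLabel.oneClass {K : Type*} [Group K] {E : Set K} {β : ℕ → K} (hβ : IsLabel E β)
    (hE : TTSet E) : OneClass E := by
  intro x hx y hy
  obtain ⟨p, hp, rfl⟩ := hβ.surj x hx
  obtain ⟨q, hq, rfl⟩ := hβ.surj y hy
  obtain ⟨-, g, -, hg⟩ := hβ.exists_conj base_isPt.1 (orbit_points (mem_pts.2 hp))
  obtain ⟨-, k, -, hk⟩ := hβ.exists_conj base_isPt.1 (orbit_points (mem_pts.2 hq))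
  exact ⟨k * g⁻¹, by rw [← hg, ← hk]; group⟩

theorem U6.IsLabel.twinFree {K : Type*} [Group K] {E : Set K} {β : ℕ → K} (hβ : IsLabel E β)
    (hE : TTSet E) : TwinFree E := by
  intro x hx y hy hs hxy
  obtain ⟨p, hp, hpx⟩ := hβ.surj x hx
  obtain ⟨-, g, -, hg⟩ := hβ.exists_conj base_isPt.1 (orbit_points (mem_pts.2 hp))
  have hβ' := hβ.conjugate hE.2.1 g
  obtain ⟨q, hq, hqy⟩ := hβ'.surj y hy
  have hx' : g * β e1 * g⁻¹ = x := hg.trans hpx
  have hall := allP_iff.1 twinFree_e1 q (mem_pts.2 hq)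
  rw [Bool.or_eq_true] at hall
  rcases hall with h | h
  · rw [← hx', ← hqy, Nat.eq_of_beq_eq_true h]
  · exfalso
    rw [Bool.not_eq_true', Bool.eq_false_iff] at h
    apply h
    rw [allP_iff]
    intro z hz
    have hz' := mem_pts.1 hz
    rw [beq_iff_eq, Bool.eq_iff_iff, ← hβ'.comm e1 z base_isPt.1 hz', ← hβ'.comm q z hq hz', hqy, hx']
    exact hs _ (hβ'.mem z hz')

variable {G : Type*} [Group G] {D : Set G} (hD : TTSet D)

include hD

theorem exists_label_loc {d : G} (hU : IsU6 (ModCenter (Subgroup.closure (nb D d)))) :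
    ∃ β, IsLabel (locSet D d) β := by
  refine exists_isLabel hU ?_ (loc_invariant hD d) (loc_threeTransp hD d)
  rw [Set.nonempty_iff_ne_empty]
  intro he
  have := loc_closure hD d
  rw [he, Subgroup.closure_empty] at this
  have h1 : Nat.card (ModCenter (Subgroup.closure (nb D d))) = 1 := by
    rw [← Subgroup.card_top, ← this, Subgroup.card_bot]
  have := dvd_card_of_isU6 hU
  rw [h1] at this
  norm_num at this

theorem oneClass_twinFree_of_core22 [Finite G] (h : Core22 G D) : OneClass D ∧ TwinFree D := by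
  obtain ⟨hZ, d, hd, c, hc, hdc, hU, hL⟩ := h
  obtain ⟨β, hβ⟩ := exists_label_loc hD hU
  have hE := loc_isGroup hD d
  have h1 := oneClass_of_local hD hZ hd hc hdc (hβ.oneClass hE) _ (dvd_card_of_isU6 hU) hL
  exact ⟨h1, twinFree_of_local hD h1 hd (hβ.twinFree hE) ⟨_, hβ.mem e1 base_isPt.1⟩⟩

theorem loc_finite [Finite G] (a : G) : Finite (ModCenter (Subgroup.closure (nb D a))) :=
  Finite.of_surjective _ QuotientGroup.mk_surjective

theorem dvd_card_of_core22 [Finite G] (h : Core22 G D) : 2 ^ 15 ∣ Nat.card G := by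
  obtain ⟨hZ, d, hd, c, hc, hdc, hU, hL⟩ := h
  exact (dvd_card_of_isU6 hU).trans ((Subgroup.card_quotient_dvd_card _).trans (Subgroup.card_subgroup_dvd_card _))

theorem oneClass_twinFree_of_core23 [Finite G] (h : Core23 G D) : OneClass D ∧ TwinFree D := by
  obtain ⟨hZ, d, hd, c, hc, hdc, h22, hL⟩ := h
  have hE := loc_isGroup hD d
  haveI := loc_finite hD d
  obtain ⟨g1, g2⟩ := oneClass_twinFree_of_core22 hE h22
  have h1 := oneClass_of_local hD hZ hd hc hdc g1 _ (dvd_card_of_core22 hE h22) hL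
  obtain ⟨-, q, hq, -⟩ := h22
  exact ⟨h1, twinFree_of_local hD h1 hd g2 ⟨q, hq⟩⟩

theorem exists_isLocal_of_label [Finite G] (hone : OneClass D) (htf : TwinFree D) {d : G} (hd : d ∈ D)
    {β : ℕ → ModCenter (Subgroup.closure (nb D d))} (hβ : IsLabel (locSet D d) β) :
    ∃ γ, IsLocal D d γ := by
  have hex : ∀ p, ∃ x : G, ∀ hp : isPt p = true, ∃ hx : x ∈ nb D d, mkNb hx = β p := by
    intro p
    by_cases hp : isPt p = true
    · obtain ⟨x, hx, h1, -⟩ := exists_of_mem_locSet hD (hβ.mem p hp)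
      exact ⟨x, fun _ => ⟨hx, h1⟩⟩
    · exact ⟨1, fun h => absurd h hp⟩
  choose γ hγ using hex
  have hm : ∀ p (hp : isPt p = true), γ p ∈ nb D d := fun p hp => (hγ p hp).1
  have he : ∀ p (hp : isPt p = true), mkNb (hm p hp) = β p := fun p hp => (hγ p hp).2
  have hcj : ∀ e p (he' : isPt e = true) (hp : isPt p = true),
      γ e * γ p * (γ e)⁻¹ = γ (tv e p) := by
    intro e p he' hp
    have hq := hβ.isPt_tv e p he' hp
    have hx := conj_mem_nb hD (Subgroup.subset_closure (hm e he')) (hm p hp)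
    refine eq_of_mkNb_eq hD hx (hm _ hq) (mkNb_ne_one hD hone htf hd hx) ?_
    rw [he _ hq, ← hβ.conj e p he' hp, ← he e he', ← he p hp]
    rfl
  have hp5 : isPt 1 = true ∧ isPt 4 = true ∧ isPt 5 = true ∧ isPt 9 = true ∧ isPt 13 = true := by
    decide +kernel
  refine ⟨γ, hm, ?_, ?_, ?_, hβ.isPt_tv, hcj, ?_⟩
  · intro x hx
    obtain ⟨p, hp, hpx⟩ := hβ.surj _ (mkNb_mem hD hx (mkNb_ne_one hD hone htf hd hx))
    exact ⟨p, hp, eq_of_mkNb_eq hD (hm p hp) hx (mkNb_ne_one hD hone htf hd _) (by rw [he p hp, hpx])⟩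
  · intro p q hp hq h
    apply hβ.inj p q hp hq
    rw [← he p hp, ← he q hq]
    simp only [h]
  · intro p q hp hq
    rw [← hβ.comm p q hp hq, ← he p hp, ← he q hq]
    exact ⟨mkNb_commute hD _ _, commute_of_mkNb hD _ _⟩
  · intro y hy
    obtain ⟨q1, q4, q5, q9, q13⟩ := hp5
    have e : mkNb (hm 1 q1) * mkNb (hm 4 q4) * mkNb (hm 5 q5) * mkNb (hm 9 q9) * mkNb (hm 13 q13) = 1 := by
      rw [he 1 q1, he 4 q4, he 5 q5, he 9 q9, he 13 q13]; exact hβ.line
    simp only [mkNb, ← QuotientGroup.mk_mul] at e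
    exact (congrArg Subtype.val (Subgroup.mem_center_iff.1 ((QuotientGroup.eq_one_iff _).1 e)
      ⟨y, Subgroup.subset_closure hy⟩)).symm

theorem IsLocal.conjugate {a : G} {γ : ℕ → G} (hγ : IsLocal D a γ) (g : G) :
    IsLocal D (g * a * g⁻¹) (fun p => g * γ p * g⁻¹) where
  mem p hp := (nb_conj hD g a _).2 (hγ.mem p hp)
  surj x hx := by
    rw [show x = g * (g⁻¹ * x * g) * g⁻¹ by group, nb_conj hD] at hx
    obtain ⟨p, hp, h⟩ := hγ.surj _ hx
    exact ⟨p, hp, by rw [h]; group⟩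
  inj p q hp hq h := hγ.inj p q hp hq (mul_left_cancel (mul_right_cancel h))
  comm p q hp hq := by rw [Commute.conj_iff g]; exact hγ.comm p q hp hq
  isPt_tv := hγ.isPt_tv
  conj e p he hp := by rw [← hγ.conj e p he hp]; group
  line y hy := by
    rw [show y = g * (g⁻¹ * y * g) * g⁻¹ by group, nb_conj hD] at hy
    have := (Commute.conj_iff g).2 (hγ.line _ hy)
    rw [show g * (g⁻¹ * y * g) * g⁻¹ = y by group] at this
    rwa [show g * (γ 1 * γ 4 * γ 5 * γ 9 * γ 13) * g⁻¹ = g * γ 1 * g⁻¹ * (g * γ 4 * g⁻¹) * (g * γ 5 * g⁻¹) *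
      (g * γ 9 * g⁻¹) * (g * γ 13 * g⁻¹) by group] at this

theorem exists_isLocal [Finite G] (h : Core22 G D) {a : G} (ha : a ∈ D) : ∃ γ, IsLocal D a γ := by
  obtain ⟨h1, h2⟩ := oneClass_twinFree_of_core22 hD h
  obtain ⟨hZ, d, hd, c, hc, hdc, hU, hL⟩ := h
  obtain ⟨β, hβ⟩ := exists_label_loc hD hU
  obtain ⟨γ, hγ⟩ := exists_isLocal_of_label hD h1 h2 hd hβ
  obtain ⟨g, hg⟩ := h1 d hd a ha
  exact ⟨_, hg ▸ hγ.conjugate hD g⟩

end Cfsg.Agent.TT95
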