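import Cfsg.Agent.TT95.U6Involution

/-!
Coordinates: numbers below 4096 as vectors of the six-dimensional unitary space over four elements.
-/

set_option autoImplicit false
set_option linter.unusedSectionVars false

namespace Cfsg.Agent.TT95.U6

/-- The `j`-th base four digit. -/
def dig (j x : ℕ) : ℕ := Nat.land (Nat.shiftRight x (Nat.mul 2 j)) 3

/-- Product in the field with four elements, on codes. -/
def fmul (a b : ℕ) : ℕ := sc a b

/-- The form computed from the digits. -/
def hDig (x y : ℕ) : ℕ :=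
  Nat.xor (Nat.xor (Nat.xor (fmul (dig 0 x) (fbar (dig 3 y))) (fmul (dig 1 x) (fbar (dig 4 y))))
    (Nat.xor (fmul (dig 2 x) (fbar (dig 5 y))) (fmul (dig 3 x) (fbar (dig 0 y)))))
    (Nat.xor (fmul (dig 4 x) (fbar (dig 1 y))) (fmul (dig 5 x) (fbar (dig 2 y))))

theorem unit_check :
    allP (fun x => Nat.beq x 0 || (List.range 12).any (fun i => Nat.blt (Nat.xor x (2 ^ i)) x))
      (List.range 4096) = true := by
  decide +kernel

theorem hDig_check :
    allP (fun i => allP (fun j => Nat.beq (h (2 ^ i) (2 ^ j)) (hDig (2 ^ i) (2 ^ j))) (List.range 12))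
      (List.range 12) = true := by
  decide +kernel

theorem dig_check :
    allP (fun x => Nat.beq (Nat.add (Nat.add (dig 0 x) (Nat.add (Nat.mul 4 (dig 1 x)) (Nat.mul 16 (dig 2 x))))
      (Nat.add (Nat.mul 64 (dig 3 x)) (Nat.add (Nat.mul 256 (dig 4 x)) (Nat.mul 1024 (dig 5 x))))) x)
      (List.range 4096) = true := by
  decide +kernel

theorem sc_check :
    allP (fun c => allP (fun x => Nat.blt (sc c x) 4096 &&
      allP (fun j => Nat.beq (dig j (sc c x)) (fmul c (dig j x))) (List.range 6)) (List.range 4096))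
      (List.range 4) = true := by
  decide +kernel

theorem nrm_check :
    allP (fun x => Nat.beq x 0 || !Nat.beq (h x x) 0 ||
      (isPt (nrm x) && Nat.blt (lead x) 4 && !Nat.beq (fbar (lead x)) 0)) (List.range 4096) = true := by
  decide +kernel

theorem nrm_sc_check :
    allP (fun p => allP (fun c => Nat.beq (nrm (sc c p)) p) [1, 2, 3]) pts = true := by
  decide +kernel

theorem swp_check :
    allP (fun y => Nat.beq (swp y) (Nat.xor (Nat.shiftLeft (Nat.land y 63) 6) (Nat.shiftRight y 6)))
      (List.range 4096) = true := by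
  decide +kernel

theorem dig_lt (j x : ℕ) : dig j x < 4 := Nat.lt_succ_of_le Nat.and_le_right

theorem fbar_lt {d : ℕ} (hd : d < 4) : fbar d < 4 := by interval_cases d <;> decide

theorem dig_zero (j : ℕ) : dig j 0 = 0 := by simp [dig]

theorem dig_xor (j x y : ℕ) : dig j (x ^^^ y) = dig j x ^^^ dig j y := by
  show ((x ^^^ y) >>> (2 * j)) &&& 3 = ((x >>> (2 * j)) &&& 3) ^^^ ((y >>> (2 * j)) &&& 3)
  rw [Nat.shiftRight_xor_distrib, Nat.and_xor_distrib_right]

theorem xor_lt {x y : ℕ} (hx : x < 4096) (hy : y < 4096) : x ^^^ y < 4096 :=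
  Nat.xor_lt_two_pow (n := 12) hx hy

theorem par_xor (v w : ℕ) : par (v ^^^ w) = par v ^^^ par w := by
  show ((((v ^^^ w) ^^^ (v ^^^ w) >>> 6) ^^^ ((v ^^^ w) ^^^ (v ^^^ w) >>> 6) >>> 2) ^^^
      ((v ^^^ w) ^^^ (v ^^^ w) >>> 6) >>> 4) &&& 1 =
    ((((v ^^^ v >>> 6) ^^^ (v ^^^ v >>> 6) >>> 2) ^^^ (v ^^^ v >>> 6) >>> 4) &&& 1) ^^^
      ((((w ^^^ w >>> 6) ^^^ (w ^^^ w >>> 6) >>> 2) ^^^ (w ^^^ w >>> 6) >>> 4) &&& 1)
  simp only [Nat.shiftRight_xor_distrib, Nat.and_xor_distrib_right]
  ac_rfl

theorem par_le (v : ℕ) : par v ≤ 1 := Nat.and_le_right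

theorem add_two_xor {p q p' q' : ℕ} (hp : p ≤ 1) (hq : q ≤ 1) (hp' : p' ≤ 1) (hq' : q' ≤ 1) :
    (p ^^^ p') + 2 * (q ^^^ q') = (p + 2 * q) ^^^ (p' + 2 * q') := by
  interval_cases p <;> interval_cases q <;> interval_cases p' <;> interval_cases q' <;> rfl

theorem lo_xor (x y : ℕ) : lo (x ^^^ y) = lo x ^^^ lo y := Nat.and_xor_distrib_right ..

theorem hi_xor (x y : ℕ) : hi (x ^^^ y) = hi x ^^^ hi y := by
  show ((x ^^^ y) >>> 1) &&& 1365 = ((x >>> 1) &&& 1365) ^^^ ((y >>> 1) &&& 1365)
  rw [Nat.shiftRight_xor_distrib, Nat.and_xor_distrib_right]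

theorem swp_xor {x y : ℕ} (hx : x < 4096) (hy : y < 4096) : swp (x ^^^ y) = swp x ^^^ swp y := by
  have hs : ∀ z < 4096, swp z = ((z &&& 63) <<< 6) ^^^ (z >>> 6) := fun z hz =>
    Nat.eq_of_beq_eq_true (allP_iff.1 swp_check z (List.mem_range.2 hz))
  rw [hs x hx, hs y hy, hs _ (xor_lt hx hy), Nat.and_xor_distrib_right, Nat.shiftLeft_xor_distrib,
    Nat.shiftRight_xor_distrib]
  ac_rfl

theorem h_lt (x y : ℕ) : h x y < 4 := by
  show par _ + 2 * par _ < 4
  have := par_le (Nat.xor (Nat.land (lo x) (Nat.xor (lo (swp y)) (hi (swp y))))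
    (Nat.land (hi x) (hi (swp y))))
  have := par_le (Nat.xor (Nat.land (lo x) (hi (swp y)))
    (Nat.land (hi x) (Nat.xor (Nat.xor (lo (swp y)) (hi (swp y))) (hi (swp y)))))
  omega

theorem h_eq (x y : ℕ) :
    h x y = par ((lo x &&& (lo (swp y) ^^^ hi (swp y))) ^^^ (hi x &&& hi (swp y))) +
      2 * par ((lo x &&& hi (swp y)) ^^^ (hi x &&& ((lo (swp y) ^^^ hi (swp y)) ^^^ hi (swp y)))) := rfl

theorem h_xor_left (x x' y : ℕ) : h (x ^^^ x') y = h x y ^^^ h x' y := by
  rw [h_eq, h_eq, h_eq, ← add_two_xor (par_le _) (par_le _) (par_le _) (par_le _), ← par_xor, ← par_xor,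
    lo_xor, hi_xor]
  simp only [Nat.and_xor_distrib_right]
  refine congrArg₂ (· + ·) (congrArg par ?_) (congrArg (fun t => 2 * par t) ?_) <;> ac_rfl

theorem h_xor_right (x : ℕ) {y y' : ℕ} (hy : y < 4096) (hy' : y' < 4096) :
    h x (y ^^^ y') = h x y ^^^ h x y' := by
  rw [h_eq, h_eq, h_eq, ← add_two_xor (par_le _) (par_le _) (par_le _) (par_le _), ← par_xor, ← par_xor,
    swp_xor hy hy', lo_xor, hi_xor]
  simp only [Nat.and_xor_distrib_left]
  refine congrArg₂ (· + ·) (congrArg par ?_) (congrArg (fun t => 2 * par t) ?_) <;> ac_rfl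

variable {F : Type} [Field F] [Fintype F] (hF : Fintype.card F = 4)

/-- The field element with a given code. -/
noncomputable def fe : ℕ → F
  | 0 => 0
  | 1 => 1
  | 2 => om hF
  | _ => om hF + 1

include hF

theorem fe_zero : fe hF 0 = 0 := rfl

theorem fe_one : fe hF 1 = 1 := rfl

theorem fe_xor {a b : ℕ} (ha : a < 4) (hb : b < 4) : fe hF (a ^^^ b) = fe hF a + fe hF b := by
  have h2 := char_two hF
  have hs := om_sq hF
  interval_cases a <;> interval_cases b <;> simp only [fe, Nat.reduceXor] <;>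
    first
      | (ring1)
      | (linear_combination ((om hF) * h2))
      | (linear_combination (-(om hF) * h2))
      | (linear_combination ((om hF) * h2))
      | (linear_combination (-(om hF) * h2))
      | (linear_combination (h2))
      | (linear_combination (h2) + ((om hF) * h2))
      | (linear_combination (h2) + (-(om hF) * h2))
      | (linear_combination (h2) + ((om hF) * h2))
      | (linear_combination (h2) + (-(om hF) * h2))
      | (linear_combination (-h2))
      | (linear_combination (-h2) + ((om hF) * h2))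
      | (linear_combination (-h2) + (-(om hF) * h2))
      | (linear_combination (-h2) + ((om hF) * h2))
      | (linear_combination (-h2) + (-(om hF) * h2))
      | (linear_combination (hs))
      | (linear_combination (hs) + ((om hF) * h2))
      | (linear_combination (hs) + (-(om hF) * h2))
      | (linear_combination (hs) + ((om hF) * h2))
      | (linear_combination (hs) + (-(om hF) * h2))
      | (linear_combination (hs) + (h2))
      | (linear_combination (hs) + (h2) + ((om hF) * h2))
      | (linear_combination (hs) + (h2) + (-(om hF) * h2))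
      | (linear_combination (hs) + (h2) + ((om hF) * h2))
      | (linear_combination (hs) + (h2) + (-(om hF) * h2))
      | (linear_combination (hs) + (-h2))
      | (linear_combination (hs) + (-h2) + ((om hF) * h2))
      | (linear_combination (hs) + (-h2) + (-(om hF) * h2))
      | (linear_combination (hs) + (-h2) + ((om hF) * h2))
      | (linear_combination (hs) + (-h2) + (-(om hF) * h2))
      | (linear_combination (-hs))
      | (linear_combination (-hs) + ((om hF) * h2))
      | (linear_combination (-hs) + (-(om hF) * h2))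
      | (linear_combination (-hs) + ((om hF) * h2))
      | (linear_combination (-hs) + (-(om hF) * h2))
      | (linear_combination (-hs) + (h2))
      | (linear_combination (-hs) + (h2) + ((om hF) * h2))
      | (linear_combination (-hs) + (h2) + (-(om hF) * h2))
      | (linear_combination (-hs) + (h2) + ((om hF) * h2))
      | (linear_combination (-hs) + (h2) + (-(om hF) * h2))
      | (linear_combination (-hs) + (-h2))
      | (linear_combination (-hs) + (-h2) + ((om hF) * h2))
      | (linear_combination (-hs) + (-h2) + (-(om hF) * h2))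
      | (linear_combination (-hs) + (-h2) + ((om hF) * h2))
      | (linear_combination (-hs) + (-h2) + (-(om hF) * h2))

theorem fe_fmul {a b : ℕ} (ha : a < 4) (hb : b < 4) : fe hF (fmul a b) = fe hF a * fe hF b := by
  have h2 := char_two hF
  have hs := om_sq hF
  interval_cases a <;> interval_cases b <;> simp [fmul, sc, lo, hi, fe] <;>
    first
      | (ring1)
      | (linear_combination ((om hF) * h2))
      | (linear_combination (-(om hF) * h2))
      | (linear_combination ((om hF) * h2))
      | (linear_combination (-(om hF) * h2))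
      | (linear_combination (h2))
      | (linear_combination (h2) + ((om hF) * h2))
      | (linear_combination (h2) + (-(om hF) * h2))
      | (linear_combination (h2) + ((om hF) * h2))
      | (linear_combination (h2) + (-(om hF) * h2))
      | (linear_combination (-h2))
      | (linear_combination (-h2) + ((om hF) * h2))
      | (linear_combination (-h2) + (-(om hF) * h2))
      | (linear_combination (-h2) + ((om hF) * h2))
      | (linear_combination (-h2) + (-(om hF) * h2))
      | (linear_combination (hs))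
      | (linear_combination (hs) + ((om hF) * h2))
      | (linear_combination (hs) + (-(om hF) * h2))
      | (linear_combination (hs) + ((om hF) * h2))
      | (linear_combination (hs) + (-(om hF) * h2))
      | (linear_combination (hs) + (h2))
      | (linear_combination (hs) + (h2) + ((om hF) * h2))
      | (linear_combination (hs) + (h2) + (-(om hF) * h2))
      | (linear_combination (hs) + (h2) + ((om hF) * h2))
      | (linear_combination (hs) + (h2) + (-(om hF) * h2))
      | (linear_combination (hs) + (-h2))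
      | (linear_combination (hs) + (-h2) + ((om hF) * h2))
      | (linear_combination (hs) + (-h2) + (-(om hF) * h2))
      | (linear_combination (hs) + (-h2) + ((om hF) * h2))
      | (linear_combination (hs) + (-h2) + (-(om hF) * h2))
      | (linear_combination (-hs))
      | (linear_combination (-hs) + ((om hF) * h2))
      | (linear_combination (-hs) + (-(om hF) * h2))
      | (linear_combination (-hs) + ((om hF) * h2))
      | (linear_combination (-hs) + (-(om hF) * h2))
      | (linear_combination (-hs) + (h2))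
      | (linear_combination (-hs) + (h2) + ((om hF) * h2))
      | (linear_combination (-hs) + (h2) + (-(om hF) * h2))
      | (linear_combination (-hs) + (h2) + ((om hF) * h2))
      | (linear_combination (-hs) + (h2) + (-(om hF) * h2))
      | (linear_combination (-hs) + (-h2))
      | (linear_combination (-hs) + (-h2) + ((om hF) * h2))
      | (linear_combination (-hs) + (-h2) + (-(om hF) * h2))
      | (linear_combination (-hs) + (-h2) + ((om hF) * h2))
      | (linear_combination (-hs) + (-h2) + (-(om hF) * h2))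

theorem fe_fbar {a : ℕ} (ha : a < 4) : fe hF (fbar a) = fe hF a ^ 2 := by
  have h2 := char_two hF
  have hs := om_sq hF
  interval_cases a <;> simp [fbar, fe] <;>
    first
      | (ring1)
      | (linear_combination ((om hF) * h2))
      | (linear_combination (-(om hF) * h2))
      | (linear_combination ((om hF) * h2))
      | (linear_combination (-(om hF) * h2))
      | (linear_combination (h2))
      | (linear_combination (h2) + ((om hF) * h2))
      | (linear_combination (h2) + (-(om hF) * h2))
      | (linear_combination (h2) + ((om hF) * h2))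
      | (linear_combination (h2) + (-(om hF) * h2))
      | (linear_combination (-h2))
      | (linear_combination (-h2) + ((om hF) * h2))
      | (linear_combination (-h2) + (-(om hF) * h2))
      | (linear_combination (-h2) + ((om hF) * h2))
      | (linear_combination (-h2) + (-(om hF) * h2))
      | (linear_combination (hs))
      | (linear_combination (hs) + ((om hF) * h2))
      | (linear_combination (hs) + (-(om hF) * h2))
      | (linear_combination (hs) + ((om hF) * h2))
      | (linear_combination (hs) + (-(om hF) * h2))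
      | (linear_combination (hs) + (h2))
      | (linear_combination (hs) + (h2) + ((om hF) * h2))
      | (linear_combination (hs) + (h2) + (-(om hF) * h2))
      | (linear_combination (hs) + (h2) + ((om hF) * h2))
      | (linear_combination (hs) + (h2) + (-(om hF) * h2))
      | (linear_combination (hs) + (-h2))
      | (linear_combination (hs) + (-h2) + ((om hF) * h2))
      | (linear_combination (hs) + (-h2) + (-(om hF) * h2))
      | (linear_combination (hs) + (-h2) + ((om hF) * h2))
      | (linear_combination (hs) + (-h2) + (-(om hF) * h2))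
      | (linear_combination (-hs))
      | (linear_combination (-hs) + ((om hF) * h2))
      | (linear_combination (-hs) + (-(om hF) * h2))
      | (linear_combination (-hs) + ((om hF) * h2))
      | (linear_combination (-hs) + (-(om hF) * h2))
      | (linear_combination (-hs) + (h2))
      | (linear_combination (-hs) + (h2) + ((om hF) * h2))
      | (linear_combination (-hs) + (h2) + (-(om hF) * h2))
      | (linear_combination (-hs) + (h2) + ((om hF) * h2))
      | (linear_combination (-hs) + (h2) + (-(om hF) * h2))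
      | (linear_combination (-hs) + (-h2))
      | (linear_combination (-hs) + (-h2) + ((om hF) * h2))
      | (linear_combination (-hs) + (-h2) + (-(om hF) * h2))
      | (linear_combination (-hs) + (-h2) + ((om hF) * h2))
      | (linear_combination (-hs) + (-h2) + (-(om hF) * h2))

theorem fe_inj {a b : ℕ} (ha : a < 4) (hb : b < 4) (h : fe hF a = fe hF b) : a = b := by
  have e0 := om_ne_zero hF
  have e1 := om_ne_one hF
  have h2 := char_two hF
  interval_cases a <;> interval_cases b <;> simp only [fe] at h <;> try rfl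
  all_goals exfalso
  all_goals first
    | exact zero_ne_one h
    | exact zero_ne_one h.symm
    | exact e0 h
    | exact e0 h.symm
    | exact e1 h
    | exact e1 h.symm
    | exact e1 (by linear_combination h - h2)
    | exact e1 (by linear_combination -h - h2)
    | exact e0 (by linear_combination h)
    | exact e0 (by linear_combination -h)
    | exact one_ne_zero (α := F) (by linear_combination h)
    | exact one_ne_zero (α := F) (by linear_combination -h)

theorem exists_fe_eq (c : F) : ∃ a < 4, fe hF a = c := by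
  have hinj : Function.Injective (fun a : Fin 4 => fe hF a.1) :=
    fun a b hab => Fin.ext (fe_inj hF a.2 b.2 hab)
  have hb := (Fintype.bijective_iff_injective_and_card _).2 ⟨hinj, by rw [Fintype.card_fin, hF]⟩
  obtain ⟨a, ha⟩ := hb.2 c
  exact ⟨a.1, a.2, ha⟩

/-- The vector with a given code: e = (1, 1) and f = (ω, ω²) on each coordinate pair. -/
noncomputable def vecOf (x : ℕ) : Fin 6 → F :=
  ![fe hF (dig 0 x) + om hF * fe hF (dig 3 x), fe hF (dig 0 x) + om hF ^ 2 * fe hF (dig 3 x),
    fe hF (dig 1 x) + om hF * fe hF (dig 4 x), fe hF (dig 1 x) + om hF ^ 2 * fe hF (dig 4 x),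
    fe hF (dig 2 x) + om hF * fe hF (dig 5 x), fe hF (dig 2 x) + om hF ^ 2 * fe hF (dig 5 x)]

theorem vecOf_zero : vecOf hF 0 = 0 := by
  funext i; fin_cases i <;> simp [vecOf, dig_zero, fe_zero hF]

theorem vecOf_xor (x y : ℕ) : vecOf hF (x ^^^ y) = vecOf hF x + vecOf hF y := by
  funext i
  fin_cases i <;> simp [vecOf, dig_xor, fe_xor hF (dig_lt _ _) (dig_lt _ _)] <;> ring

theorem vecOf_sc {c x : ℕ} (hc : c < 4) (hx : x < 4096) : vecOf hF (sc c x) = fe hF c • vecOf hF x := by
  have hd : ∀ j < 6, dig j (sc c x) = fmul c (dig j x) := fun j hj => by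
    have := allP_iff.1 (allP_iff.1 sc_check c (List.mem_range.2 hc)) x (List.mem_range.2 hx)
    rw [Bool.and_eq_true] at this
    exact Nat.eq_of_beq_eq_true (allP_iff.1 this.2 j (List.mem_range.2 hj))
  funext i
  fin_cases i <;> simp [vecOf, hd, fe_fmul hF hc (dig_lt _ _)] <;> ring

omit hF in
theorem sc_lt {c x : ℕ} (hc : c < 4) (hx : x < 4096) : sc c x < 4096 := by
  have := allP_iff.1 (allP_iff.1 sc_check c (List.mem_range.2 hc)) x (List.mem_range.2 hx)
  rw [Bool.and_eq_true] at this
  exact Nat.le_of_ble_eq_true this.1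

theorem vecOf_inj {x y : ℕ} (hx : x < 4096) (hy : y < 4096) (e : vecOf hF x = vecOf hF y) : x = y := by
  have key : ∀ a b a' b' : ℕ, a < 4 → b < 4 → a' < 4 → b' < 4 →
      fe hF a + om hF * fe hF b = fe hF a' + om hF * fe hF b' →
      fe hF a + om hF ^ 2 * fe hF b = fe hF a' + om hF ^ 2 * fe hF b' → a = a' ∧ b = b' := by
    intro a b a' b' ha hb ha' hb' e1 e2
    have e3 : fe hF b = fe hF b' := by
      linear_combination e1 + e2 + (fe hF b - fe hF b') * -(trace_omega hF) +
        (fe hF a' - fe hF a) * char_two hF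
    exact ⟨fe_inj hF ha ha' (by rw [e3] at e1; exact add_right_cancel e1), fe_inj hF hb hb' e3⟩
  have ev := fun i => congrFun e i
  obtain ⟨h0, h3⟩ := key _ _ _ _ (dig_lt 0 x) (dig_lt 3 x) (dig_lt 0 y) (dig_lt 3 y) (ev 0) (ev 1)
  obtain ⟨h1, h4⟩ := key _ _ _ _ (dig_lt 1 x) (dig_lt 4 x) (dig_lt 1 y) (dig_lt 4 y) (ev 2) (ev 3)
  obtain ⟨h2, h5⟩ := key _ _ _ _ (dig_lt 2 x) (dig_lt 5 x) (dig_lt 2 y) (dig_lt 5 y) (ev 4) (ev 5)
  have ex := Nat.eq_of_beq_eq_true (allP_iff.1 dig_check x (List.mem_range.2 hx))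
  have ey := Nat.eq_of_beq_eq_true (allP_iff.1 dig_check y (List.mem_range.2 hy))
  simp only [h0, h1, h2, h3, h4, h5] at ex
  exact ex.symm.trans ey

theorem vecOf_surj (v : Fin 6 → F) : ∃ x < 4096, vecOf hF x = v := by
  have hinj : Function.Injective (fun a : Fin 4096 => vecOf hF a.1) :=
    fun a b hab => Fin.ext (vecOf_inj hF a.2 b.2 hab)
  have hb := (Fintype.bijective_iff_injective_and_card _).2
    ⟨hinj, by simp [hF]⟩
  obtain ⟨a, ha⟩ := hb.2 v
  exact ⟨a.1, a.2, ha⟩

theorem vecOf_ne_zero {x : ℕ} (hx : x < 4096) (h0 : x ≠ 0) : vecOf hF x ≠ 0 := fun e =>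
  h0 (vecOf_inj hF hx (by norm_num) (e.trans (vecOf_zero hF).symm))

theorem hf_vecOf_dig (x y : ℕ) : hf (vecOf hF x) (vecOf hF y) = fe hF (hDig x y) := by
  have hm : ∀ a b, fmul (dig a x) (fbar (dig b y)) < 4 := fun a b => by
    have h1 := dig_lt a x
    have h2 := dig_lt b y
    interval_cases (dig a x) <;> interval_cases (dig b y) <;> decide
  have hx2 : ∀ {a b : ℕ}, a < 4 → b < 4 → a ^^^ b < 4 := fun {a b} ha hb => Nat.xor_lt_two_pow (n := 2) ha hb
  have e : fe hF (hDig x y) =
      (fe hF (fmul (dig 0 x) (fbar (dig 3 y))) + fe hF (fmul (dig 1 x) (fbar (dig 4 y))) +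
        (fe hF (fmul (dig 2 x) (fbar (dig 5 y))) + fe hF (fmul (dig 3 x) (fbar (dig 0 y))))) +
        (fe hF (fmul (dig 4 x) (fbar (dig 1 y))) + fe hF (fmul (dig 5 x) (fbar (dig 2 y)))) := by
    show fe hF (((_ ^^^ _) ^^^ (_ ^^^ _)) ^^^ (_ ^^^ _)) = _
    rw [fe_xor hF (hx2 (hx2 (hm _ _) (hm _ _)) (hx2 (hm _ _) (hm _ _))) (hx2 (hm _ _) (hm _ _)),
      fe_xor hF (hx2 (hm _ _) (hm _ _)) (hx2 (hm _ _) (hm _ _)), fe_xor hF (hm _ _) (hm _ _),
      fe_xor hF (hm _ _) (hm _ _), fe_xor hF (hm _ _) (hm _ _)]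
  rw [e]
  simp only [fe_fmul hF (dig_lt _ _) (fbar_lt (dig_lt _ _)), fe_fbar hF (dig_lt _ _)]
  simp only [hf_def, Fin.sum_univ_six, vecOf, Matrix.cons_val]
  generalize fe hF (dig 0 x) = a0, fe hF (dig 1 x) = a1, fe hF (dig 2 x) = a2, fe hF (dig 3 x) = b0,
    fe hF (dig 4 x) = b1, fe hF (dig 5 x) = b2, fe hF (dig 0 y) = c0, fe hF (dig 1 y) = c1,
    fe hF (dig 2 y) = c2, fe hF (dig 3 y) = d0, fe hF (dig 4 y) = d1, fe hF (dig 5 y) = d2
  have key : ∀ a b c d : F, (a + om hF * b) * (c + om hF * d) ^ 2 +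
      (a + om hF ^ 2 * b) * (c + om hF ^ 2 * d) ^ 2 = a * d ^ 2 + b * c ^ 2 := by
    intro a b c d
    linear_combination (a * d ^ 2 + b * c ^ 2) * trace_omega hF + (a * d ^ 2) * pow_four hF (om hF) +
      (b * d ^ 2 * (om hF ^ 3 + 2)) * cube_eq_one hF (om_ne_zero hF) +
      (a * c ^ 2 + b * d ^ 2 + c * d * (a * om hF + b * om hF ^ 2 + a * om hF ^ 2 + b * om hF ^ 4)) * char_two hF
  linear_combination key a0 b0 c0 d0 + key a1 b1 c1 d1 + key a2 b2 c2 d2

omit hF in
theorem eq_zero_of_additive {A : Type*} [AddMonoid A] {f : ℕ → A} (h0 : f 0 = 0)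
    (hadd : ∀ x y, x < 4096 → y < 4096 → f (x ^^^ y) = f x + f y) (hu : ∀ i < 12, f (2 ^ i) = 0) :
    ∀ x < 4096, f x = 0 := by
  intro x
  induction x using Nat.strong_induction_on with
  | _ x ih =>
    intro hx
    rcases Nat.eq_zero_or_pos x with rfl | hpos
    · exact h0
    have := allP_iff.1 unit_check x (List.mem_range.2 hx)
    rw [Bool.or_eq_true, List.any_eq_true] at this
    obtain ⟨i, hi, hlt⟩ := this.resolve_left (fun e => by
      have := Nat.eq_of_beq_eq_true e
      omega)
    rw [List.mem_range] at hi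
    have hlt' : x ^^^ 2 ^ i < x := Nat.le_of_ble_eq_true hlt
    have h2 : 2 ^ i < 4096 := Nat.pow_lt_pow_right (a := 2) (m := i) (n := 12) (by norm_num) hi
    have e : f x = f (x ^^^ 2 ^ i) + f (2 ^ i) := by
      rw [← hadd _ _ (hlt'.trans hx) h2, Nat.xor_assoc, Nat.xor_self, Nat.xor_zero]
    rw [e, hu i hi, ih _ hlt' (hlt'.trans hx), add_zero]

/-- The coded form is the form. -/
theorem hf_vecOf {x y : ℕ} (hx : x < 4096) (hy : y < 4096) :
    hf (vecOf hF x) (vecOf hF y) = fe hF (h x y) := by
  set f : ℕ → ℕ → F := fun a b => hf (vecOf hF a) (vecOf hF b) + fe hF (h a b) with hf'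
  suffices ∀ b < 4096, ∀ a < 4096, f a b = 0 by
    have e := this y hy x hx
    rw [hf'] at e
    exact (eq_neg_of_add_eq_zero_left e).trans (by
      linear_combination (-(fe hF (h x y))) * char_two hF)
  have hl : ∀ b a a', f (a ^^^ a') b = f a b + f a' b := fun b a a' => by
    simp only [hf', vecOf_xor hF, hf_add_left hF, h_xor_left, fe_xor hF (h_lt _ _) (h_lt _ _)]
    ring
  have hr : ∀ a b b', b < 4096 → b' < 4096 → f a (b ^^^ b') = f a b + f a b' := fun a b b' hb hb' => by
    simp only [hf', vecOf_xor hF, hf_add_right hF, h_xor_right a hb hb', fe_xor hF (h_lt _ _) (h_lt _ _)]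
    ring
  have h0l : ∀ b, f 0 b = 0 := fun b => by
    have e := hl b 0 0
    simp only [Nat.xor_self] at e
    linear_combination -e
  have h0r : ∀ a, f a 0 = 0 := fun a => by
    have e := hr a 0 0 (by norm_num) (by norm_num)
    simp only [Nat.xor_self] at e
    linear_combination -e
  intro b hb a ha
  refine eq_zero_of_additive (f := fun a => f a b) (h0l b) (fun a a' _ _ => hl b a a') (fun i hi => ?_) a ha
  refine eq_zero_of_additive (f := fun b => f (2 ^ i) b) (h0r _) (fun b b' => hr _ b b') (fun j hj => ?_) b hb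
  have e := Nat.eq_of_beq_eq_true
    (allP_iff.1 (allP_iff.1 hDig_check i (List.mem_range.2 hi)) j (List.mem_range.2 hj))
  simp only [hf', e, hf_vecOf_dig hF, add_self hF]

theorem hf_vecOf_eq_zero {x y : ℕ} (hx : x < 4096) (hy : y < 4096) :
    hf (vecOf hF x) (vecOf hF y) = 0 ↔ h x y = 0 := by
  rw [hf_vecOf hF hx hy, ← fe_zero hF]
  exact ⟨fe_inj hF (h_lt _ _) (by norm_num), congrArg _⟩

theorem vecOf_nrm {x : ℕ} (hx : x < 4096) (h0 : x ≠ 0) (hiso : h x x = 0) :
    isPt (nrm x) = true ∧ ∃ c : F, c ≠ 0 ∧ vecOf hF (nrm x) = c • vecOf hF x := by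
  have := allP_iff.1 nrm_check x (List.mem_range.2 hx)
  simp only [Bool.or_eq_true, Bool.and_eq_true, Bool.not_eq_true'] at this
  rcases this with (h1 | h1) | ⟨⟨h1, h2⟩, h3⟩
  · exact absurd (Nat.eq_of_beq_eq_true h1) h0
  · rw [hiso] at h1; simp at h1
  have hl : lead x < 4 := Nat.le_of_ble_eq_true h2
  refine ⟨h1, fe hF (fbar (lead x)), fun e => ?_, vecOf_sc hF (fbar_lt hl) hx⟩
  have := fe_inj hF (fbar_lt hl) (by norm_num) (e.trans (fe_zero hF).symm)
  rw [this] at h3
  simp at h3

omit hF in
theorem isPt_spec {p : ℕ} (hp : isPt p = true) : p < 4096 ∧ p ≠ 0 ∧ nrm p = p ∧ h p p = 0 := by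
  simp only [isPt, Bool.and_eq_true] at hp
  obtain ⟨⟨⟨h1, h2⟩, h3⟩, h4⟩ := hp
  exact ⟨Nat.le_of_ble_eq_true h2, Nat.pos_iff_ne_zero.1 (Nat.le_of_ble_eq_true h1), Nat.eq_of_beq_eq_true h3,
    Nat.eq_of_beq_eq_true h4⟩

theorem pt_iso {p : ℕ} (hp : isPt p = true) : hf (vecOf hF p) (vecOf hF p) = 0 :=
  (hf_vecOf_eq_zero hF (isPt_spec hp).1 (isPt_spec hp).1).2 (isPt_spec hp).2.2.2

theorem pt_ne_zero {p : ℕ} (hp : isPt p = true) : vecOf hF p ≠ 0 :=
  vecOf_ne_zero hF (isPt_spec hp).1 (isPt_spec hp).2.1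

/-- Points with proportional vectors are equal. -/
theorem pt_ext {p q : ℕ} (hp : isPt p = true) (hq : isPt q = true) {c : F}
    (e : vecOf hF p = c • vecOf hF q) : p = q := by
  obtain ⟨k, hk, rfl⟩ := exists_fe_eq hF c
  obtain ⟨hq1, -⟩ := isPt_spec hq
  rw [← vecOf_sc hF hk hq1] at e
  have e' := vecOf_inj hF (isPt_spec hp).1 (sc_lt hk hq1) e
  have hk0 : k ≠ 0 := by
    intro h0
    apply (isPt_spec hp).2.1
    rw [e', h0]
    simp [sc]
  have hm := allP_iff.1 (allP_iff.1 nrm_sc_check q (mem_pts.2 hq)) k (by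
    interval_cases k <;> simp_all)
  rw [← (isPt_spec hp).2.2.1, e']
  exact Nat.eq_of_beq_eq_true hm

/-- Every isotropic point is coded by a point. -/
theorem exists_pt {v : Fin 6 → F} (h0 : v ≠ 0) (hv : hf v v = 0) :
    ∃ p, isPt p = true ∧ ∃ c : F, c ≠ 0 ∧ v = c • vecOf hF p := by
  obtain ⟨x, hx, rfl⟩ := vecOf_surj hF v
  have hx0 : x ≠ 0 := fun e => h0 (e ▸ vecOf_zero hF)
  obtain ⟨h1, c, hc, e⟩ := vecOf_nrm hF hx hx0 ((hf_vecOf_eq_zero hF hx hx).1 hv)
  exact ⟨nrm x, h1, c⁻¹, inv_ne_zero hc, by rw [e, smul_smul, inv_mul_cancel₀ hc, one_smul]⟩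

/-- The coded transvection is the transvection. -/
theorem vecOf_tv {e x : ℕ} (he : isPt e = true) (hx : isPt x = true) :
    isPt (tv e x) = true ∧
      ∃ c : F, c ≠ 0 ∧ vecOf hF (tv e x) = c • act (tSU hF (vecOf hF e)) (vecOf hF x) := by
  obtain ⟨he1, -⟩ := isPt_spec he
  obtain ⟨hx1, -⟩ := isPt_spec hx
  set y := x ^^^ sc (h x e) e with hy
  have hy1 : y < 4096 := xor_lt hx1 (sc_lt (h_lt _ _) he1)
  have hv : vecOf hF y = act (tSU hF (vecOf hF e)) (vecOf hF x) := by
    rw [hy, vecOf_xor hF, vecOf_sc hF (h_lt _ _) he1, act_tSU hF (pt_iso hF he), hf_vecOf hF hx1 he1]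
  have hy0 : y ≠ 0 := fun e0 => pt_ne_zero hF hx (act_injective (tSU hF (vecOf hF e))
    (by rw [← hv, e0, vecOf_zero hF, act_zero]))
  have hyy : h y y = 0 := (hf_vecOf_eq_zero hF hy1 hy1).1 (by rw [hv, hf_act]; exact pt_iso hF hx)
  obtain ⟨h1, c, hc, e'⟩ := vecOf_nrm hF hy1 hy0 hyy
  exact ⟨h1, c, hc, by rw [← hv]; exact e'⟩

end Cfsg.Agent.TT95.U6
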