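import Cfsg.Agent.TT95.U6Residue

/-!
No involution of the points orthogonal to e₁ that respects orthogonality and transvections moves
every point to a different orthogonal one: an exhaustive search checked by the kernel.
-/

set_option autoImplicit false

namespace Cfsg.Agent.TT95.U6

/-- Boolean form of `isR`. -/
def inR (x : ℕ) : Bool := isPt x && orth x e1 && !Nat.beq x e1

theorem inR_iff {x : ℕ} : inR x = true ↔ isR x := by
  simp only [inR, isR, Bool.and_eq_true, Bool.not_eq_true', and_assoc]
  refine and_congr_right fun _ => and_congr_right fun _ => ⟨fun h e => by rw [e] at h; simp at h, fun h => ?_⟩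
  exact Bool.eq_false_iff.2 fun e => h (Nat.eq_of_beq_eq_true e)

/-- The points orthogonal to e₁ and different from it. -/
noncomputable def rPts : List ℕ := perp1.filter fun x => !Nat.beq x e1

/-- The recorded image of a point, zero if none is recorded. -/
noncomputable def img (asg : List (ℕ × ℕ)) (a : ℕ) : ℕ :=
  List.rec 0 (fun p _ ih => cond (Nat.beq p.1 a) p.2 ih) asg

theorem mem_of_img {asg : List (ℕ × ℕ)} {a : ℕ} (h : img asg a ≠ 0) : (a, img asg a) ∈ asg := by
  induction asg with
  | nil => exact absurd rfl h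
  | cons p l ih =>
    have he : img (p :: l) a = cond (Nat.beq p.1 a) p.2 (img l a) := rfl
    rw [he] at h ⊢
    cases e : Nat.beq p.1 a
    · rw [e] at h
      exact List.mem_cons_of_mem _ (ih h)
    · rw [← Nat.eq_of_beq_eq_true e]
      exact List.mem_cons_self

/-- The constraints on sending `x` to `y`. -/
noncomputable def good (asg : List (ℕ × ℕ)) (x y : ℕ) : Bool :=
  !Nat.beq y x && orth x y &&
    allP (fun p => (orth x p.1 == orth y p.2) && (orth x p.2 == orth y p.1) &&
      (!Nat.beq y p.2 || Nat.beq x p.1)) asg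

/-- No admissible extension along the search order. -/
noncomputable def refute (steps : List (ℕ × ℕ × ℕ)) : List (ℕ × ℕ) → Bool :=
  List.rec (motive := fun _ => List (ℕ × ℕ) → Bool) (fun _ => false)
    (fun s _ ih asg =>
      cond (Nat.beq s.2.1 0)
        (inR s.1 && allP (fun y => !good asg s.1 y || ih ((s.1, y) :: asg)) rPts)
        (Nat.beq (tv s.2.1 s.2.2) s.1 && !orth s.2.1 s.2.2 &&
          !Nat.beq (img asg s.2.1) 0 && !Nat.beq (img asg s.2.2) 0 &&
          (!good asg s.1 (tv (img asg s.2.1) (img asg s.2.2)) ||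
            ih ((s.1, tv (img asg s.2.1) (img asg s.2.2)) :: asg))))
    steps

/-- A search order for the image 5 of e₂. -/
def order5 : List (ℕ × ℕ × ℕ) :=
  [(784, 0, 0), (292, 784, 4), (1281, 0, 0), (1285, 1281, 4), (1553, 1281, 784), (1849, 1281, 292),
   (1845, 1285, 784), (1561, 1285, 292), (2569, 0, 0), (13, 2569, 1281), (3621, 2569, 1553), (2561,
   2569, 4), (289, 2569, 1845), (2861, 2569, 292), (1552, 2569, 1849), (569, 2569, 1561), (2329, 2569,
   784), (1844, 13, 1849), (3377, 13, 1561), (3381, 13, 1553), (797, 13, 784), (785, 13, 292), (3620,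
   13, 1845), (3629, 3621, 4), (3841, 3621, 292), (5, 3621, 1845), (561, 3621, 1561), (293, 2561, 1849),
   (2333, 2561, 292), (3380, 2561, 1845), (2849, 2561, 784), (1280, 1552, 784), (9, 1552, 1561), (1284,
   1844, 784)]

/-- A search order for the image 9 of e₂. -/
def order9 : List (ℕ × ℕ × ℕ) :=
  [(1588, 0, 0), (2836, 1588, 4), (3877, 0, 0), (3881, 3877, 4), (521, 3877, 1588), (2329, 3877, 2836),
   (2333, 3881, 1588), (513, 3881, 2836), (261, 0, 0), (13, 261, 513), (1341, 261, 2329), (1589, 261,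
   3877), (1849, 261, 2836), (2589, 261, 1588), (257, 261, 4), (1844, 261, 3881), (3369, 261, 2333),
   (2837, 13, 1588), (2841, 13, 2836), (2580, 13, 3877), (3876, 13, 3881), (3621, 13, 2329), (3629, 13,
   2333), (769, 1341, 2836), (9, 1341, 3877), (3373, 1341, 2333), (1337, 1341, 4), (3620, 1589, 3881),
   (1597, 1589, 4), (1845, 1849, 4), (2581, 1849, 1588), (5, 2589, 3881), (256, 2589, 2333), (260, 2837,
   2333)]

/-- A search order for the image 13 of e₂. -/
def order13 : List (ℕ × ℕ × ℕ) :=
  [(3328, 0, 0), (3332, 3328, 4), (545, 0, 0), (3877, 545, 3332), (2337, 545, 3328), (553, 545, 4),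
   (3881, 3877, 4), (2341, 3877, 3328), (272, 0, 0), (3876, 272, 3332), (9, 272, 553), (2817, 272,
   2337), (1808, 272, 3328), (276, 272, 4), (3641, 272, 3881), (3333, 272, 3877), (2581, 272, 2341),
   (2580, 3876, 4), (2340, 3876, 3328), (829, 3876, 2337), (1809, 3876, 553), (13, 3876, 3881), (1537,
   3876, 2341), (1545, 9, 3328), (1341, 9, 3877), (1821, 9, 2337), (1337, 9, 3881), (2829, 2817, 4),
   (2589, 2817, 2341), (5, 1808, 2341), (277, 1808, 3877), (3633, 276, 3877), (3329, 276, 3881), (817,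
   2580, 2341)]

/-- A search order for the image 16 of e₂. -/
def order16 : List (ℕ × ℕ × ℕ) :=
  [(3881, 0, 0), (3877, 3881, 4), (817, 0, 0), (1821, 817, 3881), (2829, 817, 3877), (829, 817, 4),
   (1809, 1821, 4), (2817, 1821, 3877), (553, 0, 0), (3328, 553, 3881), (3333, 553, 1821), (1341, 553,
   2817), (3876, 553, 1809), (2337, 553, 3877), (2340, 553, 2829), (5, 553, 817), (545, 553, 4), (3332,
   3328, 4), (2341, 3328, 3877), (3633, 3328, 817), (2589, 3328, 1821), (13, 3328, 2829), (273, 3328,
   1809), (3329, 3333, 4), (272, 3333, 3877), (2580, 3333, 1809)]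

theorem refute_check :
    refute order5 [(e2, 5)] = true ∧ refute order9 [(e2, 9)] = true ∧ refute order13 [(e2, 13)] = true ∧
      refute order16 [(e2, 16)] = true := by
  refine ⟨?_, ?_, ?_, ?_⟩ <;> decide +kernel

/-- A fixed-point-free involution of the residue, compatible with its structure. -/
structure IsResInvol (f : ℕ → ℕ) : Prop where
  mem : ∀ x, isR x → isR (f x)
  invol : ∀ x, isR x → f (f x) = x
  moves : ∀ x, isR x → f x ≠ x
  near : ∀ x, isR x → orth x (f x) = true
  orth_eq : ∀ x y, isR x → isR y → orth (f x) (f y) = orth x y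
  tv_eq : ∀ x y, isR x → isR y → orth x y = false → isR (tv x y) ∧ f (tv x y) = tv (f x) (f y)

theorem good_of_invol {f : ℕ → ℕ} (hf : IsResInvol f) {asg : List (ℕ × ℕ)}
    (hasg : ∀ p ∈ asg, isR p.1 ∧ f p.1 = p.2) {x : ℕ} (hx : isR x) : good asg x (f x) = true := by
  simp only [good, Bool.and_eq_true, Bool.not_eq_true', allP_iff]
  refine ⟨⟨Bool.eq_false_iff.2 fun e => hf.moves x hx (Nat.eq_of_beq_eq_true e), hf.near x hx⟩, fun p hp => ?_⟩
  obtain ⟨hu, e⟩ := hasg p hp
  rw [← e]
  refine ⟨⟨?_, ?_⟩, ?_⟩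
  · rw [hf.orth_eq x p.1 hx hu, beq_self_eq_true]
  · rw [← hf.orth_eq x (f p.1) hx (hf.mem _ hu), hf.invol _ hu, beq_self_eq_true]
  · rw [Bool.or_eq_true, Bool.not_eq_true']
    rcases eq_or_ne x p.1 with rfl | hne
    · exact Or.inr (Nat.beq_refl _)
    · refine Or.inl (Bool.eq_false_iff.2 fun h => hne ?_)
      rw [← hf.invol x hx, Nat.eq_of_beq_eq_true h, hf.invol _ hu]

theorem refute_sound {f : ℕ → ℕ} (hf : IsResInvol f) :
    ∀ {steps : List (ℕ × ℕ × ℕ)} {asg : List (ℕ × ℕ)}, refute steps asg = true →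
      (∀ p ∈ asg, isR p.1 ∧ f p.1 = p.2) → False := by
  intro steps
  induction steps with
  | nil => intro asg h _; exact Bool.false_ne_true h
  | cons s l ih =>
    intro asg h hasg
    have he : refute (s :: l) asg = cond (Nat.beq s.2.1 0)
        (inR s.1 && allP (fun y => !good asg s.1 y || refute l ((s.1, y) :: asg)) rPts)
        (Nat.beq (tv s.2.1 s.2.2) s.1 && !orth s.2.1 s.2.2 &&
          !Nat.beq (img asg s.2.1) 0 && !Nat.beq (img asg s.2.2) 0 &&
          (!good asg s.1 (tv (img asg s.2.1) (img asg s.2.2)) ||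
            refute l ((s.1, tv (img asg s.2.1) (img asg s.2.2)) :: asg))) := rfl
    rw [he] at h
    have next : ∀ y, isR s.1 → f s.1 = y → (!good asg s.1 y || refute l ((s.1, y) :: asg)) = true → False := by
      rintro y hx rfl h'
      rw [good_of_invol hf hasg hx, Bool.not_true, Bool.false_or] at h'
      refine ih h' fun p hp => ?_
      rcases List.mem_cons.1 hp with rfl | hp
      · exact ⟨hx, rfl⟩
      · exact hasg p hp
    cases e : Nat.beq s.2.1 0 <;> rw [e] at h <;> simp only [cond_true, cond_false, Bool.and_eq_true] at h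
    · obtain ⟨⟨⟨⟨h1, h2⟩, h3⟩, h4⟩, h5⟩ := h
      rw [Bool.not_eq_true'] at h2 h3 h4
      have m1 := hasg _ (mem_of_img (asg := asg) (a := s.2.1) fun z => by rw [z] at h3; simp at h3)
      have m2 := hasg _ (mem_of_img (asg := asg) (a := s.2.2) fun z => by rw [z] at h4; simp at h4)
      obtain ⟨hR, hft⟩ := hf.tv_eq _ _ m1.1 m2.1 h2
      rw [Nat.eq_of_beq_eq_true h1] at hR hft
      exact next _ hR (by rw [hft, m1.2, m2.2]) h5
    · obtain ⟨h1, h2⟩ := h
      have hx := inR_iff.1 h1
      refine next _ hx rfl (allP_iff.1 h2 _ ?_)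
      obtain ⟨-, hy2, hy3⟩ := hf.mem _ hx
      refine List.mem_filter.2 ⟨mem_perp1 (hf.mem _ hx), ?_⟩
      rw [Bool.not_eq_true']
      exact Bool.eq_false_iff.2 fun e => hy3 (Nat.eq_of_beq_eq_true e)

/-- No residue involution sends e₂ to one of four points. -/
theorem no_resInvol {f : ℕ → ℕ} (hf : IsResInvol f) {r : ℕ} (hr : r ∈ ([5, 9, 13, 16] : List ℕ))
    (h : f e2 = r) : False := by
  have he2 : isR e2 := inR_iff.1 (by decide +kernel)
  have hb : ∀ p ∈ [(e2, r)], isR p.1 ∧ f p.1 = p.2 := by
    intro p hp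
    rw [List.mem_singleton.1 hp]
    exact ⟨he2, h⟩
  simp only [List.mem_cons, List.not_mem_nil, or_false] at hr
  rcases hr with rfl | rfl | rfl | rfl
  · exact refute_sound hf refute_check.1 hb
  · exact refute_sound hf refute_check.2.1 hb
  · exact refute_sound hf refute_check.2.2.1 hb
  · exact refute_sound hf refute_check.2.2.2 hb

end Cfsg.Agent.TT95.U6
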