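import Cfsg.Prelude.Def_Classical
import Cfsg.Agent.TT95.U6Model

/-!
The unitary space of dimension six over a field with four elements: transvections, involutions, and
the coordinate bridge to the point model.
-/

set_option autoImplicit false

namespace Cfsg.Agent.TT95.U6

open Matrix

variable {F : Type} [Field F] [Fintype F]

/-- The form of `Cfsg.SU 6 F 2`. -/
def hf (x y : Fin 6 → F) : F := Cfsg.hermForm 6 F 2 x y

theorem hf_def (x y : Fin 6 → F) : hf x y = ∑ i, x i * y i ^ 2 := rfl

section Field4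

variable (hF : Fintype.card F = 4)

include hF

theorem char_two : (2 : F) = 0 := by
  have h : (4 : F) = 0 := by
    have := FiniteField.cast_card_eq_zero F
    rw [hF] at this
    exact_mod_cast this
  have : (2 : F) * 2 = 0 := by linear_combination h
  exact mul_self_eq_zero.1 this

theorem add_self (a : F) : a + a = 0 := by rw [← two_mul, char_two hF, zero_mul]

theorem pow_four (a : F) : a ^ 4 = a := by
  rw [← hF]; exact FiniteField.pow_card a

theorem cube_eq_one {a : F} (ha : a ≠ 0) : a ^ 3 = 1 :=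
  mul_right_cancel₀ ha (by rw [← pow_succ, pow_four hF, one_mul])

theorem exists_omega : ∃ w : F, w ^ 2 + w + 1 = 0 := by
  classical
  obtain ⟨w, hw⟩ : ∃ w : F, w ∉ ({0, 1} : Finset F) := by
    by_contra h
    push Not at h
    have : Fintype.card F ≤ 2 :=
      (Finset.card_le_card (fun x _ => h x)).trans (Finset.card_le_two)
    omega
  simp only [Finset.mem_insert, Finset.mem_singleton, not_or] at hw
  refine ⟨w, ?_⟩
  have h3 := cube_eq_one hF hw.1
  have : (w - 1) * (w ^ 2 + w + 1) = 0 := by linear_combination h3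
  exact (mul_eq_zero.1 this).resolve_left (sub_ne_zero.2 hw.2)

/-- A chosen primitive cube root of unity. -/
noncomputable def om : F := (exists_omega hF).choose

theorem om_spec : om hF ^ 2 + om hF + 1 = 0 := (exists_omega hF).choose_spec

theorem om_sq : om hF ^ 2 = om hF + 1 := by
  linear_combination om_spec hF - (om hF + 1) * char_two hF

theorem om_ne_zero : om hF ≠ 0 := by
  intro h
  have := om_spec hF
  rw [h] at this
  simp at this

theorem om_ne_one : om hF ≠ 1 := by
  intro h
  have := om_spec hF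
  rw [h] at this
  apply one_ne_zero (α := F)
  linear_combination this - char_two hF

theorem bar_add (a b : F) : (a + b) ^ 2 = a ^ 2 + b ^ 2 := by
  linear_combination (a * b) * char_two hF

theorem bar_bar (a : F) : (a ^ 2) ^ 2 = a := by rw [← pow_mul]; exact pow_four hF a

/-- The trace to the prime field takes the value one. -/
theorem trace_omega : om hF + om hF ^ 2 = 1 := by
  linear_combination om_spec hF - char_two hF

theorem hf_add_left (x y z : Fin 6 → F) : hf (x + y) z = hf x z + hf y z := by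
  simp only [hf_def, Pi.add_apply, add_mul, Finset.sum_add_distrib]

theorem hf_smul_left (c : F) (x z : Fin 6 → F) : hf (c • x) z = c * hf x z := by
  simp only [hf_def, Pi.smul_apply, smul_eq_mul, Finset.mul_sum, mul_assoc]

theorem hf_add_right (x y z : Fin 6 → F) : hf x (y + z) = hf x y + hf x z := by
  simp only [hf_def, Pi.add_apply, bar_add hF, mul_add, Finset.sum_add_distrib]

theorem hf_smul_right (c : F) (x z : Fin 6 → F) : hf x (c • z) = c ^ 2 * hf x z := by
  simp only [hf_def, Pi.smul_apply, smul_eq_mul, mul_pow, Finset.mul_sum]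
  exact Finset.sum_congr rfl fun i _ => by ring

theorem hf_zero_left (z : Fin 6 → F) : hf 0 z = 0 := by simp [hf_def]

theorem hf_zero_right (z : Fin 6 → F) : hf z 0 = 0 := by simp [hf_def]

theorem hf_swap (x y : Fin 6 → F) : hf y x = hf x y ^ 2 := by
  haveI : CharP F 2 := CharTwo.of_one_ne_zero_of_two_eq_zero one_ne_zero (char_two hF)
  simp only [hf_def, sum_pow_char, mul_pow, bar_bar hF]
  exact Finset.sum_congr rfl fun i _ => mul_comm _ _

theorem hf_eq_zero_comm {x y : Fin 6 → F} : hf x y = 0 ↔ hf y x = 0 := by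
  rw [hf_swap hF x y]; simp

theorem hf_self_cases (x : Fin 6 → F) : hf x x = 0 ∨ hf x x = 1 := by
  have h : hf x x = hf x x ^ 2 := hf_swap hF x x
  have : hf x x * (hf x x - 1) = 0 := by linear_combination -h
  exact (mul_eq_zero.1 this).imp id sub_eq_zero.1

theorem hf_nondeg {x : Fin 6 → F} (h : ∀ y, hf y x = 0) : x = 0 := by
  funext i
  have := h (Pi.single i 1)
  rw [hf_def, Finset.sum_eq_single i (fun j _ hj => by simp [hj]) (by simp)] at this
  simpa using this

theorem hf_nondeg_left {x : Fin 6 → F} (h : ∀ y, hf x y = 0) : x = 0 :=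
  hf_nondeg hF fun y => (hf_eq_zero_comm hF).1 (h y)

end Field4

/-! ### The special unitary group acting on vectors -/

variable (hF : Fintype.card F = 4)

/-- The action of an element of `SU` on column vectors. -/
def act (g : Cfsg.SU 6 F 2) (x : Fin 6 → F) : Fin 6 → F :=
  ((g : Matrix.SpecialLinearGroup (Fin 6) F) : Matrix (Fin 6) (Fin 6) F) *ᵥ x

theorem act_one (x : Fin 6 → F) : act (1 : Cfsg.SU 6 F 2) x = x := by simp [act]

theorem act_mul (g g' : Cfsg.SU 6 F 2) (x : Fin 6 → F) : act (g * g') x = act g (act g' x) := by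
  simp [act, Matrix.mulVec_mulVec]

theorem act_inv_act (g : Cfsg.SU 6 F 2) (x : Fin 6 → F) : act g (act g⁻¹ x) = x := by
  rw [← act_mul, mul_inv_cancel, act_one]

theorem act_add (g : Cfsg.SU 6 F 2) (x y : Fin 6 → F) : act g (x + y) = act g x + act g y :=
  Matrix.mulVec_add _ _ _

theorem act_smul (g : Cfsg.SU 6 F 2) (c : F) (x : Fin 6 → F) : act g (c • x) = c • act g x :=
  Matrix.mulVec_smul _ _ _

theorem act_zero (g : Cfsg.SU 6 F 2) : act g 0 = 0 := Matrix.mulVec_zero _

theorem act_injective (g : Cfsg.SU 6 F 2) : Function.Injective (act g) := by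
  intro x y h
  have := congrArg (act g⁻¹) h
  rwa [← act_mul, ← act_mul, inv_mul_cancel, act_one, act_one] at this

theorem act_ext {g g' : Cfsg.SU 6 F 2} (h : ∀ x, act g x = act g' x) : g = g' := by
  have hm : ((g : Matrix.SpecialLinearGroup (Fin 6) F) : Matrix (Fin 6) (Fin 6) F) =
      ((g' : Matrix.SpecialLinearGroup (Fin 6) F) : Matrix (Fin 6) (Fin 6) F) :=
    Matrix.ext_of_mulVec_single fun i => h _
  exact Subtype.ext (Subtype.ext hm)

theorem hf_act (g : Cfsg.SU 6 F 2) (x y : Fin 6 → F) : hf (act g x) (act g y) = hf x y := g.2 x y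

include hF

theorem hf_act_left (g : Cfsg.SU 6 F 2) (x y : Fin 6 → F) : hf (act g x) y = hf x (act g⁻¹ y) := by
  conv_lhs => rw [← act_inv_act g y]
  exact hf_act g _ _

/-- The transvection matrix with centre `u`. -/
def tvMat (u : Fin 6 → F) : Matrix (Fin 6) (Fin 6) F :=
  1 + Matrix.vecMulVec u (fun j => u j ^ 2)

omit hF in
theorem tvMat_mulVec (u x : Fin 6 → F) : tvMat u *ᵥ x = x + hf x u • u := by
  rw [tvMat, Matrix.add_mulVec, Matrix.one_mulVec]
  congr 1
  funext i
  simp only [Matrix.mulVec, dotProduct, Matrix.vecMulVec_apply, Pi.smul_apply, smul_eq_mul, hf_def,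
    Finset.sum_mul]
  exact Finset.sum_congr rfl fun j _ => by ring

omit hF in
theorem tvMat_det {u : Fin 6 → F} (hu : hf u u = 0) : (tvMat u).det = 1 := by
  rw [tvMat, Matrix.vecMulVec_eq Unit, Matrix.det_one_add_replicateCol_mul_replicateRow, dotProduct,
    show (∑ i, u i ^ 2 * u i) = hf u u by rw [hf_def]; exact Finset.sum_congr rfl fun i _ => mul_comm _ _,
    hu, add_zero]

theorem tvMat_preserves {u : Fin 6 → F} (hu : hf u u = 0) (x y : Fin 6 → F) :
    hf (tvMat u *ᵥ x) (tvMat u *ᵥ y) = hf x y := by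
  simp only [tvMat_mulVec, hf_add_left hF, hf_add_right hF, hf_smul_left hF, hf_smul_right hF, hu]
  rw [hf_swap hF y u]
  linear_combination (hf x u * hf y u ^ 2) * char_two hF

/-- The transvection with centre `u` (the identity when `u` is not isotropic). -/
noncomputable def tSU (u : Fin 6 → F) : Cfsg.SU 6 F 2 :=
  haveI := Classical.propDecidable
  if h : hf u u = 0 then ⟨⟨tvMat u, tvMat_det h⟩, fun x y => tvMat_preserves hF h x y⟩ else 1

theorem act_tSU {u : Fin 6 → F} (hu : hf u u = 0) (x : Fin 6 → F) :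
    act (tSU hF u) x = x + hf x u • u := by
  rw [tSU, dif_pos hu]
  exact tvMat_mulVec u x

theorem conj_tSU (g : Cfsg.SU 6 F 2) {u : Fin 6 → F} (hu : hf u u = 0) :
    g * tSU hF u * g⁻¹ = tSU hF (act g u) := by
  refine act_ext fun x => ?_
  rw [act_mul, act_mul, act_tSU hF hu, act_tSU hF (by rw [hf_act]; exact hu), act_add, act_smul,
    act_inv_act, hf_act_left hF g⁻¹, inv_inv]

theorem tSU_sq {u : Fin 6 → F} (hu : hf u u = 0) : tSU hF u * tSU hF u = 1 := by
  refine act_ext fun x => ?_
  rw [act_mul, act_tSU hF hu, act_tSU hF hu, act_one, hf_add_left hF, hf_smul_left hF, hu, mul_zero,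
    add_zero, add_assoc, ← add_smul, add_self hF, zero_smul, add_zero]

theorem tSU_inv {u : Fin 6 → F} (hu : hf u u = 0) : (tSU hF u)⁻¹ = tSU hF u :=
  inv_eq_of_mul_eq_one_right (tSU_sq hF hu)

theorem tSU_smul {u : Fin 6 → F} (hu : hf u u = 0) {c : F} (hc : c ≠ 0) :
    tSU hF (c • u) = tSU hF u := by
  refine act_ext fun x => ?_
  rw [act_tSU hF (by rw [hf_smul_left hF, hf_smul_right hF, hu, mul_zero, mul_zero]), act_tSU hF hu,
    hf_smul_right hF, smul_smul]
  congr 2
  linear_combination hf x u * cube_eq_one hF hc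

theorem exists_hf_eq_one {u : Fin 6 → F} (hu : u ≠ 0) : ∃ y, hf y u = 1 := by
  obtain ⟨y, hy⟩ : ∃ y, hf y u ≠ 0 := by
    by_contra h
    push Not at h
    exact hu (hf_nondeg hF h)
  exact ⟨(hf y u)⁻¹ • y, by rw [hf_smul_left hF, inv_mul_cancel₀ hy]⟩

theorem eq_smul_of_tSU_eq {u v : Fin 6 → F} (hu : hf u u = 0) (hv : hf v v = 0) (hu0 : u ≠ 0)
    (h : tSU hF u = tSU hF v) : ∃ c : F, u = c • v := by
  obtain ⟨y, hy⟩ := exists_hf_eq_one hF hu0
  refine ⟨hf y v, ?_⟩
  have := congrArg (fun g => act g y) h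
  simp only [act_tSU hF hu, act_tSU hF hv, hy, one_smul] at this
  exact add_left_cancel this

theorem commute_tSU_of_orth {u v : Fin 6 → F} (hu : hf u u = 0) (hv : hf v v = 0) (h : hf u v = 0) :
    Commute (tSU hF u) (tSU hF v) := by
  refine act_ext fun x => ?_
  rw [act_mul, act_mul, act_tSU hF hu, act_tSU hF hv, act_tSU hF hv, act_tSU hF hu, hf_add_left hF,
    hf_smul_left hF, hf_add_left hF, hf_smul_left hF, (hf_eq_zero_comm hF).1 h, h, mul_zero, mul_zero,
    add_zero, add_zero, add_right_comm]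

end Cfsg.Agent.TT95.U6
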