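import Cfsg.Agent.TT95.U6Form
import Cfsg.Agent.Lib.Unitary.Center

/-!
Involutions of the six-dimensional unitary group over four elements: products of transvections with
pairwise orthogonal centres, and only the transvections form a set of 3-transpositions.
-/

set_option autoImplicit false
set_option linter.unusedSectionVars false

namespace Cfsg.Agent.TT95.U6

variable {F : Type} [Field F] [Fintype F] (hF : Fintype.card F = 4)

/-- The projective group. -/
abbrev pr (g : Cfsg.SU 6 F 2) : Cfsg.PSU 6 F 2 := QuotientGroup.mk g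

include hF

theorem mem_center_iff_scalar {g : Cfsg.SU 6 F 2} :
    g ∈ Subgroup.center (Cfsg.SU 6 F 2) ↔ ∃ r : F, ∀ x, act g x = r • x :=
  Cfsg.Agent.Unitary.mem_center_iff (q := 2) hF (by norm_num)

theorem pr_eq_one_iff {g : Cfsg.SU 6 F 2} : pr g = 1 ↔ ∃ r : F, ∀ x, act g x = r • x :=
  (QuotientGroup.eq_one_iff g).trans (mem_center_iff_scalar hF)

theorem exists_involution_lift {x : Cfsg.PSU 6 F 2} (h1 : x ≠ 1) (h2 : x * x = 1) :
    ∃ g : Cfsg.SU 6 F 2, pr g = x ∧ g * g = 1 ∧ g ≠ 1 := by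
  obtain ⟨g, rfl⟩ := QuotientGroup.mk_surjective x
  obtain ⟨r, hr⟩ := (pr_eq_one_iff hF).1 (show pr (g * g) = 1 from h2)
  have hc : g * g ∈ Subgroup.center (Cfsg.SU 6 F 2) := (mem_center_iff_scalar hF).2 ⟨r, hr⟩
  have hr3 : r ^ 3 = 1 := by
    apply cube_eq_one hF
    intro h
    have := act_injective (g * g) (a₁ := Pi.single 0 1) (a₂ := 0) (by rw [act_zero, hr, h, zero_smul])
    simpa using congrFun this 0
  have hk : (g * g) * (g * g) * (g * g) = 1 := act_ext fun v => by
    simp only [act_mul] at hr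
    simp only [act_mul, act_one, hr, smul_smul]
    rw [show r * (r * r) = 1 by rw [← hr3]; ring, one_smul]
  refine ⟨g * (g * g), ?_, ?_, ?_⟩
  · show (QuotientGroup.mk (g * (g * g)) : Cfsg.PSU 6 F 2) = QuotientGroup.mk g
    rw [QuotientGroup.mk_mul, (QuotientGroup.eq_one_iff _).2 hc, mul_one]
  · rw [← hk]; group
  · intro h
    apply h1
    have : g = (g * g)⁻¹ := eq_inv_of_mul_eq_one_left h
    exact (QuotientGroup.eq_one_iff g).2 (this ▸ inv_mem hc)

/-- The displacement of a vector. -/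
def disp (g : Cfsg.SU 6 F 2) (x : Fin 6 → F) : Fin 6 → F := act g x + x

theorem add_self_vec (x : Fin 6 → F) : x + x = 0 := funext fun i => add_self hF (x i)

theorem act_eq_add_disp (g : Cfsg.SU 6 F 2) (x : Fin 6 → F) : act g x = x + disp g x := by
  rw [disp, add_comm (act g x), ← add_assoc, add_self_vec hF, zero_add]

theorem disp_eq_zero {g : Cfsg.SU 6 F 2} {x : Fin 6 → F} : disp g x = 0 ↔ act g x = x := by
  rw [act_eq_add_disp hF g x]
  constructor
  · intro h; rw [h, add_zero]
  · intro h; simpa using h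

omit hF in
theorem disp_add (g : Cfsg.SU 6 F 2) (x y : Fin 6 → F) : disp g (x + y) = disp g x + disp g y := by
  simp only [disp, act_add]; abel

omit hF in
theorem disp_smul (g : Cfsg.SU 6 F 2) (c : F) (x : Fin 6 → F) : disp g (c • x) = c • disp g x := by
  simp only [disp, act_smul, smul_add]

variable {g : Cfsg.SU 6 F 2} (hg : g * g = 1)

include hg

theorem act_disp (x : Fin 6 → F) : act g (disp g x) = disp g x := by
  rw [disp, act_add, ← act_mul, hg, act_one, add_comm]

theorem disp_disp (x : Fin 6 → F) : disp g (disp g x) = 0 :=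
  (disp_eq_zero hF).2 (act_disp hF hg x)

theorem disp_adjoint (x y : Fin 6 → F) : hf (disp g x) y = hf x (disp g y) := by
  rw [disp, disp, hf_add_left hF, hf_add_right hF, hf_act_left hF, inv_eq_of_mul_eq_one_right hg]

theorem disp_orth (x y : Fin 6 → F) : hf (disp g x) (disp g y) = 0 := by
  rw [disp_adjoint hF hg, disp_disp hF hg, hf_zero_right hF]

theorem exists_disp_norm_one (h1 : g ≠ 1) : ∃ y, hf (disp g y) y = 1 := by
  by_contra h
  push Not at h
  have hz : ∀ y, hf (disp g y) y = 0 := by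
    intro y
    by_contra hne
    apply h y
    have e : hf (disp g y) y = hf (disp g y) y ^ 2 := by
      conv_lhs => rw [disp_adjoint hF hg, hf_swap hF (disp g y) y]
    exact mul_left_cancel₀ hne (by rw [mul_one, ← pow_two, ← e])
  apply h1
  refine act_ext fun x => ?_
  rw [act_one]
  refine (disp_eq_zero hF).1 (hf_nondeg_left hF fun y => ?_)
  have e1 := hz (x + y)
  rw [disp_add, hf_add_left hF, hf_add_right hF, hf_add_right hF, hz, hz, zero_add, add_zero] at e1
  have e2 := hz (x + om hF • y)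
  rw [disp_add, disp_smul, hf_add_left hF, hf_add_right hF, hf_add_right hF, hf_smul_left hF,
    hf_smul_left hF, hf_smul_right hF, hf_smul_right hF, hz, hz] at e2
  have e3 : (om hF ^ 2 + om hF) * hf (disp g x) y = 0 := by
    linear_combination e2 - om hF * e1 + (om hF * hf (disp g x) y) * char_two hF
  rw [show om hF ^ 2 + om hF = 1 by rw [add_comm]; exact trace_omega hF, one_mul] at e3
  exact e3

/-- Splitting off a transvection. -/
theorem split_off {y : Fin 6 → F} (hy : hf (disp g y) y = 1) :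
    hf (disp g y) (disp g y) = 0 ∧
    (tSU hF (disp g y) * g) * (tSU hF (disp g y) * g) = 1 ∧
    (∀ x, disp (tSU hF (disp g y) * g) x = disp g x + hf x (disp g y) • disp g y) ∧
    Commute (tSU hF (disp g y)) g := by
  set u := disp g y with hu
  have huu : hf u u = 0 := disp_orth hF hg y y
  have hcomm : Commute (tSU hF u) g := by
    have := conj_tSU hF g huu
    rw [act_disp hF hg y] at this
    exact (mul_inv_eq_iff_eq_mul.1 this).symm
  refine ⟨huu, ?_, fun x => ?_, hcomm⟩
  · calc tSU hF u * g * (tSU hF u * g) = tSU hF u * (g * tSU hF u) * g := by group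
      _ = tSU hF u * (tSU hF u * g) * g := by rw [hcomm.eq]
      _ = (tSU hF u * tSU hF u) * (g * g) := by group
      _ = 1 := by rw [tSU_sq hF huu, hg, one_mul]
  · rw [disp, act_mul, act_tSU hF huu, act_eq_add_disp hF g x, hf_add_left hF,
      show hf (disp g x) u = 0 from disp_orth hF hg x y, add_zero,
      show x + disp g x + hf x u • u + x = disp g x + hf x u • u + (x + x) by abel,
      add_self_vec hF, add_zero]

omit hg

/-- An involution is a product of transvections with pairwise orthogonal centres. -/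
theorem involution_decomp (g : Cfsg.SU 6 F 2) (hg : g * g = 1) :
    ∃ l : List (Fin 6 → F), (∀ u ∈ l, u ≠ 0 ∧ hf u u = 0 ∧ ∃ y, disp g y = u) ∧
      l.Pairwise (fun u v => hf u v = 0) ∧ g = (l.map (tSU hF)).prod := by
  classical
  suffices h : ∀ k : ℕ, ∀ g : Cfsg.SU 6 F 2, g * g = 1 →
      Nat.card {x : Fin 6 → F // disp g x ≠ 0} ≤ k →
      ∃ l : List (Fin 6 → F), (∀ u ∈ l, u ≠ 0 ∧ hf u u = 0 ∧ ∃ y, disp g y = u) ∧
        l.Pairwise (fun u v => hf u v = 0) ∧ g = (l.map (tSU hF)).prod from h _ g hg le_rfl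
  intro k
  induction k with
  | zero =>
    intro g hg hk
    refine ⟨[], by simp, List.Pairwise.nil, ?_⟩
    refine act_ext fun x => ?_
    simp only [List.map_nil, List.prod_nil, act_one]
    by_contra hne
    haveI : Nonempty {x : Fin 6 → F // disp g x ≠ 0} := ⟨⟨x, fun h => hne ((disp_eq_zero hF).1 h)⟩⟩
    have := Nat.card_pos (α := {x : Fin 6 → F // disp g x ≠ 0})
    omega
  | succ k ih =>
    intro g hg hk
    by_cases h1 : g = 1
    · exact ⟨[], by simp, List.Pairwise.nil, by simp [h1]⟩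
    obtain ⟨y, hy⟩ := exists_disp_norm_one hF hg h1
    obtain ⟨huu, hg', hd, -⟩ := split_off hF hg hy
    set u := disp g y with hu
    have hu0 : u ≠ 0 := fun h => by
      rw [h, hf_zero_left hF] at hy
      exact zero_ne_one hy
    have hy' : disp (tSU hF u * g) y = 0 := by
      rw [hd, ← hu, hf_swap hF u y, hy, one_pow, one_smul, add_self_vec hF]
    have hsub : Nat.card {x : Fin 6 → F // disp (tSU hF u * g) x ≠ 0} <
        Nat.card {x : Fin 6 → F // disp g x ≠ 0} := by
      rw [Nat.card_eq_fintype_card, Nat.card_eq_fintype_card]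
      refine Fintype.card_lt_of_injective_of_notMem
        (fun x => ⟨x.1, fun h => x.2 ?_⟩) (fun a b hab => Subtype.ext (Subtype.mk.inj hab))
        (b := ⟨y, hu0⟩) ?_
      · have e : hf x.1 u = 0 := by
          show hf x.1 (disp g y) = 0
          rw [← disp_adjoint hF hg, h, hf_zero_left hF]
        rw [hd, h, zero_add, e, zero_smul]
      · rintro ⟨x, hx⟩
        exact x.2 ((congrArg Subtype.val hx : x.1 = y) ▸ hy')
    obtain ⟨l, hl, hp, hprod⟩ := ih _ hg' (by omega)
    have hmem : ∀ v ∈ l, v ≠ 0 ∧ hf v v = 0 ∧ ∃ z, disp g z = v := by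
      intro v hv
      obtain ⟨h1, h2, z, hz⟩ := hl v hv
      refine ⟨h1, h2, z + hf z u • y, ?_⟩
      rw [disp_add, disp_smul, ← hu, ← hd, hz]
    refine ⟨u :: l, ?_, List.pairwise_cons.2 ⟨?_, hp⟩, ?_⟩
    · intro v hv
      rcases List.mem_cons.1 hv with rfl | hv
      · exact ⟨hu0, huu, y, rfl⟩
      · exact hmem v hv
    · intro v hv
      obtain ⟨-, -, z, rfl⟩ := hmem v hv
      exact disp_orth hF hg y z
    · rw [List.map_cons, List.prod_cons, ← hprod, ← mul_assoc, tSU_sq hF huu, one_mul]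

theorem eval_aux {u1 u2 a b : Fin 6 → F} (h11 : hf u1 u1 = 0) (h22 : hf u2 u2 = 0) (haa : hf a a = 0)
    (hbb : hf b b = 0) (h12 : hf u1 u2 = 0) (ha1 : hf a u1 = 1) (ha2 : hf a u2 = 1) (hb1 : hf b u1 = 0)
    (hb2 : hf b u2 = 1) (hab : hf a b = 0) (k : ℕ) (hk : k = 4 ∨ k = 6) :
    pr ((tSU hF u1 * tSU hF u2 * (tSU hF a * tSU hF b)) ^ k) ≠ 1 := by
  set M := tSU hF u1 * tSU hF u2 * (tSU hF a * tSU hF b) with hM
  have h21 : hf u2 u1 = 0 := (hf_eq_zero_comm hF).1 h12
  have h1a : hf u1 a = 1 := by rw [hf_swap hF a u1, ha1, one_pow]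
  have h2a : hf u2 a = 1 := by rw [hf_swap hF a u2, ha2, one_pow]
  have h1b : hf u1 b = 0 := (hf_eq_zero_comm hF).1 hb1
  have h2b : hf u2 b = 1 := by rw [hf_swap hF b u2, hb2, one_pow]
  have hba : hf b a = 0 := (hf_eq_zero_comm hF).1 hab
  have step : ∀ w, act M w = act (tSU hF u1) (act (tSU hF u2) (act (tSU hF a) (act (tSU hF b) w))) :=
    fun w => by simp only [hM, act_mul]
  have z : ∀ w : Fin 6 → F, w + w = 0 := add_self_vec hF
  have m1 : act M u1 = a + u2 := by
    rw [step, act_tSU hF hbb, h1b, zero_smul, add_zero, act_tSU hF haa, h1a, one_smul, act_tSU hF h22,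
      hf_add_left hF, h12, ha2, zero_add, one_smul, act_tSU hF h11, hf_add_left hF, hf_add_left hF,
      h11, ha1, h21, zero_add, add_zero, one_smul,
      show u1 + a + u2 + u1 = a + u2 + (u1 + u1) by abel, z, add_zero]
  have ma : act M a = a + u1 + u2 := by
    rw [step, act_tSU hF hbb, hab, zero_smul, add_zero, act_tSU hF haa, haa, zero_smul, add_zero,
      act_tSU hF h22, ha2, one_smul, act_tSU hF h11, hf_add_left hF, ha1, h21, add_zero, one_smul]
    abel
  have m2 : act M u2 = a + b + u1 + u2 := by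
    rw [step, act_tSU hF hbb, h2b, one_smul, act_tSU hF haa, hf_add_left hF, h2a, hba, add_zero,
      one_smul, act_tSU hF h22, hf_add_left hF, hf_add_left hF, h22, hb2, ha2, zero_add, add_self hF,
      zero_smul, add_zero, act_tSU hF h11, hf_add_left hF, hf_add_left hF, h21, hb1, ha1, zero_add,
      zero_add, one_smul]
    abel
  have mb : act M b = b + u2 := by
    rw [step, act_tSU hF hbb, hbb, zero_smul, add_zero, act_tSU hF haa, hba, zero_smul, add_zero,
      act_tSU hF h22, hb2, one_smul, act_tSU hF h11, hf_add_left hF, hb1, h21, add_zero, zero_smul,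
      add_zero]
  have p2 : act M (a + u2) = b := by
    rw [act_add, ma, m2, show a + u1 + u2 + (a + b + u1 + u2) = (a + a) + b + (u1 + u1) + (u2 + u2) by abel,
      z, z, z, zero_add, add_zero, add_zero]
  have p4 : act M (b + u2) = a + u1 := by
    rw [act_add, mb, m2, show b + u2 + (a + b + u1 + u2) = (b + b) + (u2 + u2) + (a + u1) by abel, z, z,
      zero_add, zero_add]
  have p5 : act M (a + u1) = u1 := by
    rw [act_add, ma, m1, show a + u1 + u2 + (a + u2) = (a + a) + (u2 + u2) + u1 by abel, z, z,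
      zero_add, zero_add]
  intro h
  obtain ⟨r, hr⟩ := (pr_eq_one_iff hF).1 h
  have h4 : act (M ^ 4) u1 = a + u1 := by
    simp only [pow_succ', pow_zero, mul_one, act_mul, m1, p2, mb, p4]
  have h6 : act (M ^ 6) u1 = a + u2 := by
    simp only [pow_succ', pow_zero, mul_one, act_mul, m1, p2, mb, p4, p5]
  have e := congrArg (fun w => hf w u1) (hr u1)
  rcases hk with rfl | rfl
  · simp only [h4, hf_add_left hF, hf_smul_left hF, ha1, h11, mul_zero, add_zero] at e
    exact one_ne_zero e
  · simp only [h6, hf_add_left hF, hf_smul_left hF, ha1, h21, h11, mul_zero, add_zero] at e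
    exact one_ne_zero e

/-- Only transvections can lie in a set of 3-transpositions invariant under conjugation. -/
theorem transvection_of_threeTransp (g : Cfsg.SU 6 F 2) (hg : g * g = 1) (h1 : g ≠ 1)
    (h3 : ∀ k : Cfsg.SU 6 F 2, pr (g * (k * g * k⁻¹)) ^ 2 = 1 ∨ pr (g * (k * g * k⁻¹)) ^ 3 = 1) :
    ∃ u, u ≠ 0 ∧ hf u u = 0 ∧ g = tSU hF u := by
  obtain ⟨y1, hy1⟩ := exists_disp_norm_one hF hg h1
  obtain ⟨h11, hg1, hd1, -⟩ := split_off hF hg hy1
  set u1 := disp g y1 with hu1
  set g1 := tSU hF u1 * g with hg1def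
  by_cases hg1' : g1 = 1
  · refine ⟨u1, fun h => ?_, h11, ?_⟩
    · rw [h, hf_zero_left hF] at hy1; exact zero_ne_one hy1
    · rw [← tSU_inv hF h11]; exact eq_inv_of_mul_eq_one_right hg1'
  exfalso
  have hy1u : hf y1 u1 = 1 := by rw [hf_swap hF u1 y1, hy1, one_pow]
  have hg1y1 : disp g1 y1 = 0 := by rw [hd1, ← hu1, hy1u, one_smul, add_self_vec hF]
  obtain ⟨y2', hy2'⟩ := exists_disp_norm_one hF hg1 hg1'
  -- make the second vector orthogonal to u1
  obtain ⟨y2, hy2def⟩ : ∃ v, v = y2' + hf y2' u1 • y1 := ⟨_, rfl⟩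
  have hdy2 : disp g1 y2 = disp g1 y2' := by
    rw [hy2def, disp_add, disp_smul, hg1y1, smul_zero, add_zero]
  have hy2u1 : hf y2 u1 = 0 := by
    rw [hy2def, hf_add_left hF, hf_smul_left hF, hy1u, mul_one, add_self hF]
  have hy2 : hf (disp g1 y2) y2 = 1 := by
    rw [hdy2, hy2def, hf_add_right hF, hf_smul_right hF, hy2', disp_adjoint hF hg1 y2' y1, hg1y1, hf_zero_right hF,
      mul_zero, add_zero]
  obtain ⟨h22, hg2, hd2, hc2⟩ := split_off hF hg1 hy2
  set u2 := disp g1 y2 with hu2
  set R := tSU hF u2 * g1 with hR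
  have hy2u : hf y2 u2 = 1 := by rw [hf_swap hF u2 y2, hy2, one_pow]
  have hy1u2 : hf y1 u2 = 0 := by rw [hu2, ← disp_adjoint hF hg1, hg1y1, hf_zero_left hF]
  have h12 : hf u1 u2 = 0 := by
    rw [hu2, hd1]
    rw [hf_add_right hF, hf_smul_right hF, h11, mul_zero, add_zero]
    exact disp_orth hF hg _ _
  -- R fixes the centres and the two chosen vectors
  have Ry2 : disp R y2 = 0 := by rw [hd2, ← hu2, hy2u, one_smul, add_self_vec hF]
  have Ry1 : disp R y1 = 0 := by rw [hd2, hg1y1, hy1u2, zero_smul, zero_add]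
  have Ru2 : disp R u2 = 0 := by
    rw [hd2, show disp g1 u2 = 0 from disp_disp hF hg1 y2, h22, zero_smul, zero_add]
  have Ru1 : disp R u1 = 0 := by
    rw [hd2, hd1, show disp g u1 = 0 from disp_disp hF hg y1, h11, zero_smul, h12, zero_smul,
      add_zero, add_zero]
  have h21 : hf u2 u1 = 0 := (hf_eq_zero_comm hF).1 h12
  -- isotropic vectors a, b
  obtain ⟨μ, hμ⟩ : ∃ μ : F, μ ^ 2 + μ = hf y2 y2 := by
    rcases hf_self_cases hF y2 with h | h
    · exact ⟨0, by rw [h]; ring⟩
    · exact ⟨om hF, by rw [h, add_comm]; exact trace_omega hF⟩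
  obtain ⟨b, hb⟩ : ∃ v, v = y2 + μ • u2 := ⟨_, rfl⟩
  have hu2y2 : hf u2 y2 = 1 := hy2
  have hbb : hf b b = 0 := by
    rw [hb, hf_add_left hF, hf_add_right hF, hf_add_right hF, hf_smul_left hF, hf_smul_left hF,
      hf_smul_right hF, hf_smul_right hF, hy2u, hu2y2, h22]
    linear_combination hμ + hf y2 y2 * char_two hF
  have hb1 : hf b u1 = 0 := by rw [hb, hf_add_left hF, hf_smul_left hF, hy2u1, h21, mul_zero, add_zero]
  have hb2 : hf b u2 = 1 := by rw [hb, hf_add_left hF, hf_smul_left hF, hy2u, h22, mul_zero, add_zero]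
  have hu2b : hf u2 b = 1 := by rw [hf_swap hF b u2, hb2, one_pow]
  have hu1b : hf u1 b = 0 := (hf_eq_zero_comm hF).1 hb1
  obtain ⟨a1, ha1def⟩ : ∃ v, v = y1 + y2 + hf (y1 + y2) b • u2 := ⟨_, rfl⟩
  have ha1u1 : hf a1 u1 = 1 := by
    rw [ha1def, hf_add_left hF, hf_add_left hF, hf_smul_left hF, hy1u, hy2u1, h21, mul_zero, add_zero, add_zero]
  have ha1u2 : hf a1 u2 = 1 := by
    rw [ha1def, hf_add_left hF, hf_add_left hF, hf_smul_left hF, hy1u2, hy2u, h22, mul_zero, zero_add, add_zero]
  have ha1b : hf a1 b = 0 := by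
    rw [ha1def, hf_add_left hF, hf_smul_left hF, hu2b, mul_one, add_self hF]
  obtain ⟨ν, hν⟩ : ∃ ν : F, ν ^ 2 + ν = hf a1 a1 := by
    rcases hf_self_cases hF a1 with h | h
    · exact ⟨0, by rw [h]; ring⟩
    · exact ⟨om hF, by rw [h, add_comm]; exact trace_omega hF⟩
  obtain ⟨a, ha⟩ : ∃ v, v = a1 + ν • u1 := ⟨_, rfl⟩
  have hu1a1 : hf u1 a1 = 1 := by rw [hf_swap hF a1 u1, ha1u1, one_pow]
  have haa : hf a a = 0 := by
    rw [ha, hf_add_left hF, hf_add_right hF, hf_add_right hF, hf_smul_left hF, hf_smul_left hF,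
      hf_smul_right hF, hf_smul_right hF, ha1u1, hu1a1, h11]
    linear_combination hν + hf a1 a1 * char_two hF
  have ha1' : hf a u1 = 1 := by rw [ha, hf_add_left hF, hf_smul_left hF, ha1u1, h11, mul_zero, add_zero]
  have ha2' : hf a u2 = 1 := by rw [ha, hf_add_left hF, hf_smul_left hF, ha1u2, h12, mul_zero, add_zero]
  have hab : hf a b = 0 := by rw [ha, hf_add_left hF, hf_smul_left hF, ha1b, hu1b, mul_zero, add_zero]
  have Rb : disp R b = 0 := by rw [hb, disp_add, disp_smul, Ry2, Ru2, smul_zero, add_zero]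
  have Ra : disp R a = 0 := by
    rw [ha, disp_add, disp_smul, ha1def, disp_add, disp_add, disp_smul, Ry1, Ry2, Ru1, Ru2, smul_zero,
      smul_zero, add_zero, add_zero, add_zero]
  have comm : ∀ w, hf w w = 0 → disp R w = 0 → Commute (tSU hF w) R := by
    intro w hw hd
    have := conj_tSU hF R hw
    rw [(disp_eq_zero hF).1 hd] at this
    exact (mul_inv_eq_iff_eq_mul.1 this).symm
  set t := tSU hF a * tSU hF b with ht
  have hgR : g = tSU hF u1 * tSU hF u2 * R := by
    rw [hR, hg1def]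
    simp only [mul_assoc]
    rw [← mul_assoc (tSU hF u2) (tSU hF u2), tSU_sq hF h22, one_mul, ← mul_assoc, tSU_sq hF h11, one_mul]
  have htt : t * t = 1 := by
    rw [ht]
    have hc := commute_tSU_of_orth hF haa hbb hab
    calc tSU hF a * tSU hF b * (tSU hF a * tSU hF b)
        = tSU hF a * (tSU hF b * tSU hF a) * tSU hF b := by group
      _ = tSU hF a * (tSU hF a * tSU hF b) * tSU hF b := by rw [hc.eq]
      _ = (tSU hF a * tSU hF a) * (tSU hF b * tSU hF b) := by group
      _ = 1 := by rw [tSU_sq hF haa, tSU_sq hF hbb, one_mul]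
  have hRt : Commute t R := Commute.mul_left (comm a haa Ra) (comm b hbb Rb)
  have hR12 : Commute (tSU hF u1 * tSU hF u2) R :=
    Commute.mul_left (comm u1 h11 Ru1) (comm u2 h22 Ru2)
  set P := tSU hF u1 * tSU hF u2 with hP
  have key : g * (t * g * t⁻¹) = (P * t) ^ 2 := by
    rw [hgR, inv_eq_of_mul_eq_one_right htt, pow_two]
    calc P * R * (t * (P * R) * t) = P * (R * (t * P)) * R * t := by group
      _ = P * (t * P * R) * R * t := by rw [((hRt.mul_left hR12).symm).eq]
      _ = P * (t * P) * (R * R) * t := by group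
      _ = P * t * (P * t) := by rw [hg2]; group
  have := h3 t
  rw [key] at this
  rcases this with h | h
  · exact eval_aux hF h11 h22 haa hbb h12 ha1' ha2' hb1 hb2 hab 4 (Or.inl rfl) (by
      rw [show pr ((P * t) ^ 4) = pr ((P * t) ^ 2) ^ 2 by simp only [pr, ← QuotientGroup.mk_pow, ← pow_mul]]
      exact h)
  · exact eval_aux hF h11 h22 haa hbb h12 ha1' ha2' hb1 hb2 hab 6 (Or.inr rfl) (by
      rw [show pr ((P * t) ^ 6) = pr ((P * t) ^ 2) ^ 3 by simp only [pr, ← QuotientGroup.mk_pow, ← pow_mul]]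
      exact h)

end Cfsg.Agent.TT95.U6
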