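import Cfsg.Agent.TT95.U6Residue

/-!
Maps of the point model preserving orthogonality are determined by nine values.
-/

set_option autoImplicit false

namespace Cfsg.Agent.TT95.U6

/-- Scale the third hyperbolic pair by a primitive cube root of unity. -/
def scl (x : ℕ) : ℕ :=
  nrm (Nat.lor (Nat.land x 975)
    (Nat.lor (Nat.shiftLeft (sc 2 (Nat.land (Nat.shiftRight x 4) 3)) 4)
      (Nat.shiftLeft (sc 2 (Nat.shiftRight x 10)) 10)))

/-- The six reference maps. -/
def refMap : ℕ → ℕ → ℕ
  | 0, x => x
  | 1, x => scl x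
  | 2, x => scl (scl x)
  | 3, x => frob x
  | 4, x => scl (frob x)
  | _, x => scl (scl (frob x))

theorem refMap_check :
    allP (fun i => allP (fun x => isPt (refMap i x) &&
      allP (fun b => orth (refMap i x) (refMap i b) == orth x b) detBase) pts) (List.range 6) = true := by
  decide +kernel

theorem step_check :
    allP (fun i => Nat.beq
      (cntP (fun x => allP (fun k => orth x (detBase.getD k 0) == orth (detBase.getD (9 + i) 0) (detBase.getD k 0))
        (List.range (9 + i))) pts) 1) (List.range 12) = true := by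
  decide +kernel

theorem refMap_base :
    allP (fun x => Nat.beq (refMap 1 x) x && Nat.beq (refMap 2 x) x) [1, 64, 4, 256, 16, 1024, 5, 9, 13] &&
    allP (fun x => Nat.beq (refMap 3 x) x) [1, 64, 4, 256, 16, 1024, 5, 17] &&
    Nat.beq (refMap 1 17) 33 && Nat.beq (refMap 2 17) 49 && Nat.beq (frob 9) 13 = true := by
  decide +kernel

theorem refMap_keys :
    allP (fun i => Nat.beq (cntP (fun k => Nat.beq (key (refMap (i + 3) k)) (key (refMap i k))) keys) 15)
      [0, 1, 2] = true := by
  decide +kernel

theorem torus_cube : allP (fun x => Nat.beq (torus (torus (torus x))) x) pts = true := by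
  decide +kernel

theorem refMap_mem {i x : ℕ} (hi : i < 6) (hx : x ∈ pts) : refMap i x ∈ pts := by
  have := allP_iff.1 (allP_iff.1 refMap_check i (List.mem_range.2 hi)) x hx
  rw [Bool.and_eq_true] at this
  exact mem_pts.2 this.1

theorem refMap_orth {i x b : ℕ} (hi : i < 6) (hx : x ∈ pts) (hb : b ∈ detBase) :
    orth (refMap i x) (refMap i b) = orth x b := by
  have := allP_iff.1 (allP_iff.1 refMap_check i (List.mem_range.2 hi)) x hx
  rw [Bool.and_eq_true] at this
  exact beq_iff_eq.1 (allP_iff.1 this.2 b hb)

theorem detBase_mem {k : ℕ} (hk : k < 21) : detBase.getD k 0 ∈ pts ∧ detBase.getD k 0 ∈ detBase := by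
  have hlen : detBase.length = 21 := rfl
  have hm : detBase.getD k 0 ∈ detBase := by
    rw [List.getD_eq_getElem _ _ (by omega)]
    exact List.getElem_mem _
  exact ⟨mem_pts.2 (allP_iff.1 sigs_distinct.2 _ hm), hm⟩

theorem sigs_eq : pts.map (sig detBase) = sigs := by
  have key : ∀ (l : List ℕ) (m : List ℕ),
      zipAll (fun x v => Nat.beq (sig detBase x) v) l m = true → l.map (sig detBase) = m := by
    intro l
    induction l with
    | nil =>
      intro m h
      cases m with
      | nil => rfl
      | cons b t => exact absurd h Bool.false_ne_true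
    | cons a l ih =>
      intro m h
      cases m with
      | nil => exact absurd h Bool.false_ne_true
      | cons b t =>
        have he : zipAll (fun x v => Nat.beq (sig detBase x) v) (a :: l) (b :: t) =
            (Nat.beq (sig detBase a) b && zipAll (fun x v => Nat.beq (sig detBase x) v) l t) := rfl
        rw [he, Bool.and_eq_true] at h
        rw [List.map_cons, ih t h.2, Nat.eq_of_beq_eq_true h.1]
  exact key _ _ sigs_spec

theorem sig_congr : ∀ (B : List ℕ) {x y : ℕ}, (∀ b ∈ B, orth x b = orth y b) → sig B x = sig B y := by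
  intro B x y h
  suffices ∀ acc, List.rec (motive := fun _ => ℕ → ℕ) (fun acc => acc)
      (fun b _ ih acc => ih (Nat.add (Nat.mul 2 acc) (cond (orth x b) 1 0))) B acc =
    List.rec (motive := fun _ => ℕ → ℕ) (fun acc => acc)
      (fun b _ ih acc => ih (Nat.add (Nat.mul 2 acc) (cond (orth y b) 1 0))) B acc from this 0
  induction B with
  | nil => exact fun _ => rfl
  | cons b B ih =>
    intro acc
    show List.rec (motive := fun _ => ℕ → ℕ) _ _ B _ = List.rec (motive := fun _ => ℕ → ℕ) _ _ B _
    rw [h b List.mem_cons_self]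
    exact ih (fun c hc => h c (List.mem_cons_of_mem _ hc)) _

/-- Points with the same relations to the base are equal. -/
theorem eq_of_orth_base {x y : ℕ} (hx : x ∈ pts) (hy : y ∈ pts) (h : ∀ b ∈ detBase, orth x b = orth y b) :
    x = y :=
  List.inj_on_of_nodup_map (sigs_eq.symm ▸ (nodup_of_distinctOK sigs_distinct.1).1) hx hy (sig_congr detBase h)

/-- A reference map hits every point. -/
theorem refMap_surj {i y : ℕ} (hi : i < 6) (hy : y ∈ pts) : ∃ x ∈ pts, refMap i x = y := by
  have hinj : Set.InjOn (refMap i) (pts.toFinset : Set ℕ) := by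
    intro x hx z hz e
    simp only [Finset.mem_coe, List.mem_toFinset] at hx hz
    refine eq_of_orth_base hx hz fun b hb => ?_
    rw [← refMap_orth hi hx hb, e, refMap_orth hi hz hb]
  have heq : pts.toFinset.image (refMap i) = pts.toFinset := by
    refine Finset.eq_of_subset_of_card_le ?_ ?_
    · intro z hz
      obtain ⟨x, hx, rfl⟩ := Finset.mem_image.1 hz
      exact List.mem_toFinset.2 (refMap_mem hi (List.mem_toFinset.1 hx))
    · rw [Finset.card_image_of_injOn hinj]
  have hy' := List.mem_toFinset.2 hy
  rw [← heq] at hy'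
  obtain ⟨x, hx, e⟩ := Finset.mem_image.1 hy'
  exact ⟨x, List.mem_toFinset.1 hx, e⟩

/-- A map preserving orthogonality agreeing with reference maps on nine points agrees everywhere. -/
theorem rigid {i j : ℕ} (hi : i < 6) (hj : j < 6) (σ : ℕ → ℕ) (hσ : ∀ x ∈ pts, σ x ∈ pts)
    (hor : ∀ x ∈ pts, ∀ y ∈ pts, orth (σ x) (σ y) = orth x y)
    (h9 : ∀ k < 9, σ (refMap i (detBase.getD k 0)) = refMap j (detBase.getD k 0)) :
    ∀ x ∈ pts, σ (refMap i x) = refMap j x := by
  have step : ∀ n ≤ 21, ∀ k < n, σ (refMap i (detBase.getD k 0)) = refMap j (detBase.getD k 0) := by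
    intro n hn
    induction n with
    | zero => exact fun k hk => absurd hk (Nat.not_lt_zero k)
    | succ n ih =>
      intro k hk
      rcases Nat.lt_succ_iff_lt_or_eq.1 hk with hk' | rfl
      · exact ih (by omega) k hk'
      by_cases hk9 : k < 9
      · exact h9 k hk9
      obtain ⟨r, rfl⟩ : ∃ r, k = 9 + r := ⟨k - 9, by omega⟩
      obtain ⟨hB, hBd⟩ := detBase_mem (k := 9 + r) (by omega)
      obtain ⟨w, hw, ew⟩ := refMap_surj hj (hσ _ (refMap_mem hi hB))
      have h1 := Nat.eq_of_beq_eq_true (allP_iff.1 step_check r (List.mem_range.2 (by omega)))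
      rw [cntP_eq, List.countP_eq_length_filter, List.length_eq_one_iff] at h1
      obtain ⟨v, hv⟩ := h1
      have hmem : ∀ y ∈ pts, (∀ t < 9 + r, orth y (detBase.getD t 0) =
          orth (detBase.getD (9 + r) 0) (detBase.getD t 0)) → y = v := by
        intro y hy hyt
        have : y ∈ [v] := by
          rw [← hv, List.mem_filter]
          refine ⟨hy, allP_iff.2 fun t ht => ?_⟩
          rw [beq_iff_eq]
          exact hyt t (List.mem_range.1 ht)
        exact List.mem_singleton.1 this
      have hwv : w = v := by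
        refine hmem w hw fun t ht => ?_
        obtain ⟨htB, htd⟩ := detBase_mem (k := t) (by omega)
        rw [← refMap_orth hj hw htd, ew, ← ih (by omega) t ht, hor _ (refMap_mem hi hB) _ (refMap_mem hi htB),
          refMap_orth hi hB htd]
      rw [← ew, hwv, hmem _ hB fun t _ => rfl]
  intro x hx
  obtain ⟨w, hw, ew⟩ := refMap_surj hj (hσ _ (refMap_mem hi hx))
  rw [← ew, eq_of_orth_base hw hx fun b hb => ?_]
  obtain ⟨k, hk, rfl⟩ : ∃ k < 21, detBase.getD k 0 = b := by
    obtain ⟨k, hk, e⟩ := List.mem_iff_getElem.1 hb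
    exact ⟨k, hk, by rw [List.getD_eq_getElem _ _ hk, e]⟩
  obtain ⟨hkB, hkd⟩ := detBase_mem hk
  rw [← refMap_orth hj hw hkd, ew, ← step 21 le_rfl k hk, hor _ (refMap_mem hi hx) _ (refMap_mem hi hkB),
    refMap_orth hi hx hkd]

end Cfsg.Agent.TT95.U6
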